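import Mathlib
import Cfsg.Prelude.Def_GeometricClasses

/-!
Transvections `1 + a φ` as elements of GL(ι, F), and their action on subspaces.
-/

set_option autoImplicit false
set_option linter.unusedSimpArgs false

namespace CfsgLib.Maximal

open scoped Matrix

variable {ι : Type} [Fintype ι] [DecidableEq ι] {F : Type*} [Field F]

/-- The transvection `x ↦ x + (φ ⬝ x) a` for `φ ⬝ a = 0`. -/
def tv (a φ : ι → F) (h : φ ⬝ᵥ a = 0) : GL ι F where
  val := 1 + Matrix.vecMulVec a φ
  inv := 1 + Matrix.vecMulVec (-a) φ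
  val_inv := by
    simp [mul_add, add_mul, Matrix.vecMulVec_mul_vecMulVec, h, Matrix.neg_vecMulVec]
  inv_val := by
    simp [mul_add, add_mul, Matrix.vecMulVec_mul_vecMulVec, h, Matrix.neg_vecMulVec]

lemma tv_val (a φ : ι → F) (h : φ ⬝ᵥ a = 0) :
    (tv a φ h : Matrix ι ι F) = 1 + Matrix.vecMulVec a φ := rfl

lemma tv_mulVec (a φ : ι → F) (h : φ ⬝ᵥ a = 0) (x : ι → F) :
    (tv a φ h : Matrix ι ι F) *ᵥ x = x + (φ ⬝ᵥ x) • a := by
  rw [tv_val, Matrix.add_mulVec, Matrix.one_mulVec, Matrix.vecMulVec_mulVec, op_smul_eq_smul]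

lemma tv_det (a φ : ι → F) (h : φ ⬝ᵥ a = 0) : (tv a φ h : Matrix ι ι F).det = 1 := by
  rw [tv_val, Matrix.vecMulVec_eq Unit, Matrix.det_one_add_replicateCol_mul_replicateRow, h,
    add_zero]

lemma mem_specialLinear_iff (g : GL ι F) :
    g ∈ Cfsg.Geo.specialLinear ι F ↔ (g : Matrix ι ι F).det = 1 := by
  simp [Cfsg.Geo.specialLinear, MonoidHom.mem_ker, Units.ext_iff]

lemma tv_mem_specialLinear (a φ : ι → F) (h : φ ⬝ᵥ a = 0) :
    tv a φ h ∈ Cfsg.Geo.specialLinear ι F :=
  (mem_specialLinear_iff _).2 (tv_det a φ h)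

lemma mem_subspaceStabilizer_iff (W : Submodule F (ι → F)) (g : GL ι F) :
    g ∈ Cfsg.Geo.subspaceStabilizer W ↔ ∀ v, v ∈ W ↔ (g : Matrix ι ι F) *ᵥ v ∈ W := Iff.rfl

lemma tv_mem_stab_of_mem (W : Submodule F (ι → F)) (a φ : ι → F) (h : φ ⬝ᵥ a = 0) (ha : a ∈ W) :
    tv a φ h ∈ Cfsg.Geo.subspaceStabilizer W := by
  rw [mem_subspaceStabilizer_iff]
  intro v
  rw [tv_mulVec]
  exact (W.add_mem_iff_left (W.smul_mem _ ha)).symm

lemma tv_mem_stab_of_ann (W : Submodule F (ι → F)) (a φ : ι → F) (h : φ ⬝ᵥ a = 0)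
    (hW : ∀ w ∈ W, φ ⬝ᵥ w = 0) : tv a φ h ∈ Cfsg.Geo.subspaceStabilizer W := by
  rw [mem_subspaceStabilizer_iff]
  intro v
  rw [tv_mulVec]
  constructor
  · intro hv
    simpa [hW v hv] using hv
  · intro hv
    have h2 := hW _ hv
    rw [dotProduct_add, dotProduct_smul, h, smul_zero, add_zero] at h2
    simpa [h2] using hv

/-- A coordinate vector representing a functional that kills `W` and is one at `u`. -/
lemma exists_ann (W : Submodule F (ι → F)) (u : ι → F) (hu : u ∉ W) :
    ∃ φ : ι → F, (∀ w ∈ W, φ ⬝ᵥ w = 0) ∧ φ ⬝ᵥ u = 1 := by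
  obtain ⟨f, hfu, hfW⟩ := Submodule.exists_dual_map_eq_bot_of_notMem hu inferInstance
  obtain ⟨φ, rfl⟩ := (dotProductEquiv F ι).surjective f
  refine ⟨(φ ⬝ᵥ u)⁻¹ • φ, fun w hw => ?_, ?_⟩
  · have : φ ⬝ᵥ w ∈ W.map (dotProductEquiv F ι φ) := ⟨w, hw, rfl⟩
    rw [hfW, Submodule.mem_bot] at this
    rw [smul_dotProduct, this, smul_zero]
  · rw [smul_dotProduct, smul_eq_mul]
    exact inv_mul_cancel₀ hfu

/-- Conjugate of a transvection. -/
lemma conj_tv (g : GL ι F) (a φ : ι → F) (h : φ ⬝ᵥ a = 0) :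
    ∃ h', g * tv a φ h * g⁻¹ = tv ((g : Matrix ι ι F) *ᵥ a)
      (φ ᵥ* ((g⁻¹ : GL ι F) : Matrix ι ι F)) h' := by
  have h' : (φ ᵥ* ((g⁻¹ : GL ι F) : Matrix ι ι F)) ⬝ᵥ ((g : Matrix ι ι F) *ᵥ a) = 0 := by
    rw [← Matrix.dotProduct_mulVec, Matrix.mulVec_mulVec, ← Units.val_mul, inv_mul_cancel,
      Units.val_one, Matrix.one_mulVec, h]
  refine ⟨h', Units.ext ?_⟩
  rw [Units.val_mul, Units.val_mul, tv_val, tv_val, mul_add, add_mul, mul_one, ← Units.val_mul,
    mul_inv_cancel, Units.val_one, Matrix.mul_vecMulVec, Matrix.vecMulVec_mul]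

/-- Every transvection with centre `a` lies in `M`. -/
def TvCentre (M : Subgroup (GL ι F)) (a : ι → F) : Prop :=
  ∀ (φ : ι → F) (h : φ ⬝ᵥ a = 0), tv a φ h ∈ M

lemma TvCentre.smul {M : Subgroup (GL ι F)} {a : ι → F} (h : TvCentre M a) (c : F) :
    TvCentre M (c • a) := by
  intro φ hφ
  by_cases hc : c = 0
  · subst hc
    have : tv ((0 : F) • a) φ hφ = 1 := Units.ext (by simp [tv_val])
    rw [this]; exact one_mem M
  have h2 : (c • φ) ⬝ᵥ a = 0 := by
    rw [smul_dotProduct, ← dotProduct_smul, hφ]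
  have : tv (c • a) φ hφ = tv a (c • φ) h2 := by
    refine Units.ext ?_
    rw [tv_val, tv_val, Matrix.smul_vecMulVec, Matrix.vecMulVec_smul]
  rw [this]; exact h _ _

lemma TvCentre.map {M : Subgroup (GL ι F)} {a : ι → F} (h : TvCentre M a) {g : GL ι F}
    (hg : g ∈ M) : TvCentre M ((g : Matrix ι ι F) *ᵥ a) := by
  intro ψ hψ
  have h2 : (ψ ᵥ* (g : Matrix ι ι F)) ⬝ᵥ a = 0 := by rw [← Matrix.dotProduct_mulVec, hψ]
  obtain ⟨h', he⟩ := conj_tv g a (ψ ᵥ* (g : Matrix ι ι F)) h2
  have hh : g * tv a (ψ ᵥ* (g : Matrix ι ι F)) h2 * g⁻¹ ∈ M :=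
    mul_mem (mul_mem hg (h _ _)) (inv_mem hg)
  have : tv ((g : Matrix ι ι F) *ᵥ a) ψ hψ = g * tv a (ψ ᵥ* (g : Matrix ι ι F)) h2 * g⁻¹ := by
    rw [he]
    refine Units.ext ?_
    rw [tv_val, tv_val, Matrix.vecMul_vecMul, ← Units.val_mul, mul_inv_cancel, Units.val_one,
      Matrix.vecMul_one]
  rw [this]; exact hh

/-- A subgroup of GL with all elementary transvections contains the special linear group. -/
lemma specialLinear_le_of_elem (M : Subgroup (GL ι F))
    (hM : ∀ (i j : ι) (_ : i ≠ j) (c : F) (h : (Pi.single j c : ι → F) ⬝ᵥ Pi.single i 1 = 0),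
      tv (Pi.single i 1) (Pi.single j c) h ∈ M) :
    Cfsg.Geo.specialLinear ι F ≤ M := by
  rcases subsingleton_or_nontrivial ι with hι | hι
  · intro g hg
    rw [mem_specialLinear_iff] at hg
    have : g = 1 := by
      refine Units.ext ?_
      ext i j
      obtain rfl := Subsingleton.elim i j
      rw [Matrix.det_eq_elem_of_subsingleton _ i] at hg
      simpa using hg
    rw [this]; exact one_mem M
  have hT : ∀ (i j : ι) (hij : i ≠ j) (c : F),
      Matrix.SpecialLinearGroup.toGL (Matrix.SpecialLinearGroup.transvection hij c) ∈ M := by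
    intro i j hij c
    have h0 : (Pi.single j c : ι → F) ⬝ᵥ Pi.single i 1 = 0 := by simp [hij]
    convert hM i j hij c h0 using 1
    refine Units.ext ?_
    rw [tv_val]
    show Matrix.transvection i j c = _
    rw [Matrix.transvection]
    congr 1
    ext k l
    rcases eq_or_ne k i with rfl | hk <;> rcases eq_or_ne l j with rfl | hl <;>
      simp_all [Matrix.vecMulVec_apply, Matrix.single_apply, Pi.single_apply, eq_comm]
  intro g hg
  rw [mem_specialLinear_iff] at hg
  have key : ∀ s : Matrix.SpecialLinearGroup ι F, Matrix.SpecialLinearGroup.toGL s ∈ M := by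
    intro s
    refine Matrix.SpecialLinearGroup.diagonal_transvection_induction' (P := fun s => Matrix.SpecialLinearGroup.toGL s ∈ M) s
      (fun i j hij c hc => ?_) hT (fun A B hA hB => by simpa using mul_mem hA hB)
    have e : Matrix.SpecialLinearGroup.diag2n hij c hc =
        Matrix.SpecialLinearGroup.transvection hij c *
        Matrix.SpecialLinearGroup.transvection hij.symm (-c⁻¹) *
        Matrix.SpecialLinearGroup.transvection hij c *
        Matrix.SpecialLinearGroup.transvection hij (-1) *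
        Matrix.SpecialLinearGroup.transvection hij.symm 1 *
        Matrix.SpecialLinearGroup.transvection hij (-1) := by
      refine Subtype.ext (Matrix.ext_of_mulVec_single fun k => ?_)
      simp only [Matrix.SpecialLinearGroup.coe_mul, ← Matrix.mulVec_mulVec,
        Matrix.SpecialLinearGroup.transvection_coe, Matrix.SpecialLinearGroup.diag2n_coe,
        Matrix.add_mulVec, Matrix.one_mulVec]
      ext l
      rcases eq_or_ne k i with rfl | hki
      · rcases eq_or_ne l k with rfl | hlk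
        · simp [Matrix.mulVec_single, Matrix.single_mulVec_eq, hij, hij.symm, hc]
        · rcases eq_or_ne l j with rfl | hlj <;>
            simp_all [Matrix.mulVec_single, Matrix.single_mulVec_eq, Pi.single_apply, Matrix.diagonal_apply, eq_comm]
      · rcases eq_or_ne k j with rfl | hkj
        · rcases eq_or_ne l k with rfl | hlk
          · simp [Matrix.mulVec_single, Matrix.single_mulVec_eq, hij, hij.symm, hc, hki]
          · rcases eq_or_ne l i with rfl | hli <;>
              simp_all [Matrix.mulVec_single, Matrix.single_mulVec_eq, Pi.single_apply, Matrix.diagonal_apply, eq_comm]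
        · rcases eq_or_ne l k with rfl | hlk <;>
            simp_all [Matrix.mulVec_single, Matrix.single_mulVec_eq, Pi.single_apply, Matrix.diagonal_apply, eq_comm]
    rw [e]
    simp only [map_mul]
    refine mul_mem (mul_mem (mul_mem (mul_mem (mul_mem ?_ ?_) ?_) ?_) ?_) ?_ <;> exact hT _ _ _ _
  have := key ⟨(g : Matrix ι ι F), hg⟩
  convert this using 1
  exact Units.ext rfl

/-- A subgroup of GL with all transvections contains the special linear group. -/
lemma specialLinear_le_of_tv (M : Subgroup (GL ι F)) (hM : ∀ a, TvCentre M a) :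
    Cfsg.Geo.specialLinear ι F ≤ M :=
  specialLinear_le_of_elem M fun i _ _ _ h => hM (Pi.single i 1) _ h

/-- The stabiliser of a proper non-zero subspace is a maximal subgroup of the special linear group. -/
theorem subspaceStabilizer_maximal (W : Submodule F (ι → F)) (hW0 : W ≠ ⊥) (hW1 : W ≠ ⊤) :
    Cfsg.Geo.IsMaximalIn (Cfsg.Geo.specialLinear ι F)
      (Cfsg.Geo.subspaceStabilizer W ⊓ Cfsg.Geo.specialLinear ι F) := by
  obtain ⟨w, hwW, hw0⟩ := W.exists_mem_ne_zero_of_ne_bot hW0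
  obtain ⟨u, -, huW⟩ := SetLike.exists_of_lt hW1.lt_top
  constructor
  · refine lt_of_le_of_ne inf_le_right fun he => ?_
    have hwu : w ∉ Submodule.span F {u} := by
      intro hmem
      obtain ⟨c, rfl⟩ := Submodule.mem_span_singleton.1 hmem
      rcases eq_or_ne c 0 with rfl | hc
      · simp at hw0
      · exact huW ((W.smul_mem_iff hc).1 hwW)
    obtain ⟨φ, hφ, hφw⟩ := exists_ann _ w hwu
    have h0 : φ ⬝ᵥ u = 0 := hφ u (Submodule.mem_span_singleton_self u)
    have hmem : tv u φ h0 ∈ Cfsg.Geo.subspaceStabilizer W ⊓ Cfsg.Geo.specialLinear ι F := by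
      rw [he]; exact tv_mem_specialLinear _ _ _
    have := ((mem_subspaceStabilizer_iff W _).1 hmem.1 w).1 hwW
    rw [tv_mulVec, hφw, one_smul] at this
    exact huW ((W.add_mem_iff_right hwW).1 this)
  intro M hHM hMS
  refine or_iff_not_imp_left.2 fun hne => le_antisymm hMS (specialLinear_le_of_tv M ?_)
  have hWc : ∀ a ∈ W, TvCentre M a := fun a ha φ h =>
    hHM ⟨tv_mem_stab_of_mem W a φ h ha, tv_mem_specialLinear a φ h⟩
  -- some element of `M` moves a vector of `W` out of `W`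
  obtain ⟨v₀, hv₀W, hv₀⟩ : ∃ v, v ∉ W ∧ TvCentre M v := by
    by_contra hcon
    push Not at hcon
    apply hne
    refine le_antisymm (fun g hg => ⟨?_, hMS hg⟩) hHM
    show ∀ v, v ∈ W ↔ (g : Matrix ι ι F) *ᵥ v ∈ W
    intro v
    constructor
    · intro hv
      by_contra hn
      exact hcon _ hn ((hWc v hv).map hg)
    · intro hv
      by_contra hn
      have h2 := (hWc _ hv).map (inv_mem hg)
      rw [Matrix.mulVec_mulVec, ← Units.val_mul, inv_mul_cancel, Units.val_one,
        Matrix.one_mulVec] at h2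
      exact hcon _ hn h2
  intro v
  by_cases hvW : v ∈ W
  · exact hWc v hvW
  by_cases hv : v ∈ W ⊔ Submodule.span F {v₀}
  · obtain ⟨x, hx, y, hy, hxy⟩ := Submodule.mem_sup.1 hv
    obtain ⟨c, rfl⟩ := Submodule.mem_span_singleton.1 hy
    have hc : c ≠ 0 := by
      rintro rfl
      simp at hxy
      exact hvW (hxy ▸ hx)
    -- move v₀ to v₀ + c⁻¹ x
    have hv₀' : v₀ ∉ Submodule.span F {c⁻¹ • x} := fun hm =>
      hv₀W ((Submodule.span_singleton_le_iff_mem _ W).2 (W.smul_mem _ hx) hm)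
    obtain ⟨φ, hφ, hφv⟩ := exists_ann _ v₀ hv₀'
    have h0 := hφ _ (Submodule.mem_span_singleton_self (c⁻¹ • x))
    have hg : tv (c⁻¹ • x) φ h0 ∈ M := hWc _ (W.smul_mem _ hx) φ h0
    have := (hv₀.map hg).smul c
    rw [tv_mulVec, hφv, one_smul, smul_add, smul_smul, mul_inv_cancel₀ hc, one_smul] at this
    rw [← hxy, add_comm]; exact this
  · have hv' : v₀ ∉ W ⊔ Submodule.span F {v - v₀} := by
      intro hm
      obtain ⟨x, hx, y, hy, hxy⟩ := Submodule.mem_sup.1 hm
      obtain ⟨c, rfl⟩ := Submodule.mem_span_singleton.1 hy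
      rcases eq_or_ne c 0 with rfl | hc
      · simp at hxy
        exact hv₀W (hxy ▸ hx)
      · apply hv
        refine Submodule.mem_sup.2 ⟨-c⁻¹ • x, W.smul_mem _ hx, (1 + c⁻¹) • v₀,
          Submodule.smul_mem _ _ (Submodule.mem_span_singleton_self v₀), ?_⟩
        have : v = c⁻¹ • (c • v) := by rw [smul_smul, inv_mul_cancel₀ hc, one_smul]
        rw [this, show c • v = v₀ - x + c • v₀ by rw [eq_sub_of_add_eq' hxy |>.symm]; module]
        simp only [smul_add, smul_sub, smul_smul, inv_mul_cancel₀ hc]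
        module
    obtain ⟨φ, hφ, hφv⟩ := exists_ann _ v₀ hv'
    have h0 := hφ _ (Submodule.mem_sup_right (Submodule.mem_span_singleton_self (v - v₀)))
    have hg : tv (v - v₀) φ h0 ∈ M := hHM
      ⟨tv_mem_stab_of_ann W _ _ h0 (fun y hy => hφ y (Submodule.mem_sup_left hy)),
        tv_mem_specialLinear _ _ _⟩
    have := hv₀.map hg
    rwa [tv_mulVec, hφv, one_smul, add_sub_cancel] at this

end CfsgLib.Maximal
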