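import Mathlib
import Cfsg.Agent.Lib.Maximal.Transvec

/-!
Calculus of transvections inside a subgroup: conjugation, sums, commutators, and functionals given by forms.
-/

set_option autoImplicit false

namespace CfsgLib.Maximal

open scoped Matrix

variable {ι : Type} [Fintype ι] [DecidableEq ι] {F : Type*} [Field F]

/-- The transvection `x ↦ x + (φ ⬝ x) a` lies in `M`. -/
def Has (M : Subgroup (GL ι F)) (a φ : ι → F) : Prop :=
  ∃ h : φ ⬝ᵥ a = 0, tv a φ h ∈ M

lemma Has.dot {M : Subgroup (GL ι F)} {a φ : ι → F} (h : Has M a φ) : φ ⬝ᵥ a = 0 := h.1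

lemma Has.mono {M N : Subgroup (GL ι F)} {a φ : ι → F} (h : Has M a φ) (hle : M ≤ N) : Has N a φ :=
  ⟨h.1, hle h.2⟩

lemma has_of_zero {M : Subgroup (GL ι F)} {a φ : ι → F} (h : a = 0 ∨ φ = 0) : Has M a φ := by
  have hd : φ ⬝ᵥ a = 0 := by rcases h with rfl | rfl <;> simp
  refine ⟨hd, ?_⟩
  have : tv a φ hd = 1 := Units.ext (by rcases h with rfl | rfl <;> simp [tv_val])
  rw [this]; exact one_mem M

lemma Has.smul_iff {M : Subgroup (GL ι F)} {a φ : ι → F} (c : F) :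
    Has M (c • a) φ ↔ Has M a (c • φ) := by
  have hd : φ ⬝ᵥ (c • a) = 0 ↔ (c • φ) ⬝ᵥ a = 0 := by rw [smul_dotProduct, dotProduct_smul]
  constructor <;> rintro ⟨h, hm⟩
  · refine ⟨hd.1 h, ?_⟩
    convert hm using 1
    exact Units.ext (by rw [tv_val, tv_val, Matrix.smul_vecMulVec, Matrix.vecMulVec_smul])
  · refine ⟨hd.2 h, ?_⟩
    convert hm using 1
    exact Units.ext (by rw [tv_val, tv_val, Matrix.smul_vecMulVec, Matrix.vecMulVec_smul])

lemma Has.neg {M : Subgroup (GL ι F)} {a φ : ι → F} (h : Has M a φ) : Has M (-a) φ := by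
  obtain ⟨h, hm⟩ := h
  exact ⟨by rw [dotProduct_neg, h, neg_zero], by convert inv_mem hm using 1; exact Units.ext rfl⟩

lemma Has.neg' {M : Subgroup (GL ι F)} {a φ : ι → F} (h : Has M a φ) : Has M a (-φ) := by
  have := h.neg
  rwa [← neg_one_smul F a, Has.smul_iff, neg_one_smul] at this

lemma Has.add_right {M : Subgroup (GL ι F)} {a φ ψ : ι → F} (h : Has M a φ) (h' : Has M a ψ) :
    Has M a (φ + ψ) := by
  obtain ⟨h, hm⟩ := h; obtain ⟨h', hm'⟩ := h'
  refine ⟨by rw [add_dotProduct, h, h', add_zero], ?_⟩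
  convert mul_mem hm hm' using 1
  refine Units.ext ?_
  simp [tv_val, mul_add, add_mul, Matrix.vecMulVec_mul_vecMulVec, h, Matrix.vecMulVec_add]
  abel

lemma Has.add_left {M : Subgroup (GL ι F)} {a b φ : ι → F} (h : Has M a φ) (h' : Has M b φ) :
    Has M (a + b) φ := by
  obtain ⟨h, hm⟩ := h; obtain ⟨h', hm'⟩ := h'
  refine ⟨by rw [dotProduct_add, h, h', add_zero], ?_⟩
  convert mul_mem hm hm' using 1
  refine Units.ext ?_
  simp [tv_val, mul_add, add_mul, Matrix.vecMulVec_mul_vecMulVec, h', Matrix.add_vecMulVec]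
  abel

lemma dot_vecMul_inv (g : GL ι F) (φ x : ι → F) :
    (φ ᵥ* ((g⁻¹ : GL ι F) : Matrix ι ι F)) ⬝ᵥ ((g : Matrix ι ι F) *ᵥ x) = φ ⬝ᵥ x := by
  rw [← Matrix.dotProduct_mulVec, Matrix.mulVec_mulVec, ← Units.val_mul, inv_mul_cancel, Units.val_one,
    Matrix.one_mulVec]

lemma mulVec_inj (g : GL ι F) : Function.Injective ((g : Matrix ι ι F) *ᵥ ·) := fun x y h => by
  have := congrArg (((g⁻¹ : GL ι F) : Matrix ι ι F) *ᵥ ·) h
  simpa [Matrix.mulVec_mulVec, ← Units.val_mul] using this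

lemma mulVec_surj (g : GL ι F) : Function.Surjective ((g : Matrix ι ι F) *ᵥ ·) := fun y =>
  ⟨((g⁻¹ : GL ι F) : Matrix ι ι F) *ᵥ y, by simp [Matrix.mulVec_mulVec, ← Units.val_mul]⟩

lemma Has.conj {M : Subgroup (GL ι F)} {a φ : ι → F} (h : Has M a φ) {g : GL ι F} (hg : g ∈ M) :
    Has M ((g : Matrix ι ι F) *ᵥ a) (φ ᵥ* ((g⁻¹ : GL ι F) : Matrix ι ι F)) := by
  obtain ⟨h, hm⟩ := h
  obtain ⟨h', he⟩ := conj_tv g a φ h
  exact ⟨h', he ▸ mul_mem (mul_mem hg hm) (inv_mem hg)⟩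

/-- Conjugating one transvection by another. -/
lemma Has.conj_tv' {M : Subgroup (GL ι F)} {a φ c ψ : ι → F} (h : Has M a φ) (h' : Has M c ψ) :
    Has M (c + (φ ⬝ᵥ c) • a) (ψ - (ψ ⬝ᵥ a) • φ) := by
  obtain ⟨h, hm⟩ := h
  have := h'.conj hm
  rw [tv_mulVec] at this
  convert this using 1
  have hinv : (((tv a φ h)⁻¹ : GL ι F) : Matrix ι ι F) = 1 + Matrix.vecMulVec (-a) φ := rfl
  rw [hinv, Matrix.vecMul_add, Matrix.vecMul_one, Matrix.vecMul_vecMulVec, dotProduct_neg, neg_smul,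
    ← sub_eq_add_neg]

/-- Commutator of two transvections when the second axis contains the first centre. -/
lemma Has.comm_left {M : Subgroup (GL ι F)} {a φ c ψ : ι → F} (h : Has M a φ) (h' : Has M c ψ)
    (h0 : ψ ⬝ᵥ a = 0) : Has M ((φ ⬝ᵥ c) • a) ψ := by
  have := (h.conj_tv' h').add_left (b := -c) (by rw [h0, zero_smul, sub_zero]; exact h'.neg)
  rw [h0, zero_smul, sub_zero] at this
  simpa using this

/-- Commutator of two transvections when the first axis contains the second centre. -/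
lemma Has.comm_right {M : Subgroup (GL ι F)} {a φ c ψ : ι → F} (h : Has M a φ) (h' : Has M c ψ)
    (h0 : φ ⬝ᵥ c = 0) : Has M c ((ψ ⬝ᵥ a) • φ) := by
  have h1 := h.conj_tv' h'
  rw [h0, zero_smul, add_zero] at h1
  have := h'.add_right h1.neg'
  convert this using 1
  abel

lemma tvCentre_iff {M : Subgroup (GL ι F)} {a : ι → F} :
    TvCentre M a ↔ ∀ φ, φ ⬝ᵥ a = 0 → Has M a φ :=
  ⟨fun h φ hφ => ⟨hφ, h φ hφ⟩, fun h φ hφ => (h φ hφ).2⟩

section forms

variable (f : (ι → F) → (ι → F) → F)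

/-- The functional `x ↦ f x d` as a vector. -/
def fvec (d : ι → F) : ι → F := fun i => f (Pi.single i 1) d

variable {f}

lemma fvec_dot (hadd : ∀ x y v, f (x + y) v = f x v + f y v) (hsmul : ∀ (c : F) x v, f (c • x) v = c * f x v)
    (d x : ι → F) : fvec f d ⬝ᵥ x = f x d := by
  let L : (ι → F) →ₗ[F] F :=
    { toFun := fun z => f z d, map_add' := fun a b => hadd a b d, map_smul' := fun c a => hsmul c a d }
  have h : L x = ∑ i, x i * L (Pi.single i 1) := by
    conv_lhs => rw [pi_eq_sum_univ' x]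
    simp
  change fvec f d ⬝ᵥ x = L x
  rw [h, dotProduct]
  exact Finset.sum_congr rfl fun i _ => mul_comm _ _

lemma dot_ext {φ ψ : ι → F} (h : ∀ x, φ ⬝ᵥ x = ψ ⬝ᵥ x) : φ = ψ :=
  funext fun i => by simpa using h (Pi.single i 1)

end forms

end CfsgLib.Maximal
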