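import Mathlib
import Cfsg.Agent.Lib.Maximal.FormTv

/-!
Monomial matrices as elements of GL, and elementary root subgroups inside a subgroup.
-/

set_option autoImplicit false

namespace CfsgLib.Maximal

open scoped Matrix

variable {ι : Type} [Fintype ι] [DecidableEq ι] {F : Type*} [Field F]

/-- Every column has at most one non-zero entry. -/
def IsMono (g : GL ι F) : Prop := ∀ k, ∃ i, ∀ l, l ≠ i → (g : Matrix ι ι F) l k = 0

/-- The matrix sending the `k`-th unit vector to `d k` times the `σ k`-th one. -/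
def monoMat (σ : Equiv.Perm ι) (d : ι → F) : Matrix ι ι F :=
  Matrix.of fun l k => if l = σ k then d k else 0

lemma monoMat_mulVec (σ : Equiv.Perm ι) (d v : ι → F) (k : ι) :
    (monoMat σ d *ᵥ v) (σ k) = d k * v k := by
  rw [Matrix.mulVec, dotProduct, Finset.sum_eq_single k]
  · simp [monoMat]
  · intro b _ hb
    simp [monoMat, σ.injective.ne hb.symm]
  · simp

lemma monoMat_mulVec' (σ : Equiv.Perm ι) (d v : ι → F) (l : ι) :
    (monoMat σ d *ᵥ v) l = d (σ.symm l) * v (σ.symm l) := by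
  simpa using monoMat_mulVec σ d v (σ.symm l)

lemma monoMat_one_mulVec (d v : ι → F) (l : ι) : (monoMat 1 d *ᵥ v) l = d l * v l :=
  monoMat_mulVec 1 d v l

lemma vecMul_monoMat (σ : Equiv.Perm ι) (d φ : ι → F) (k : ι) :
    (φ ᵥ* monoMat σ d) k = φ (σ k) * d k := by
  rw [Matrix.vecMul, dotProduct, Finset.sum_eq_single (σ k)]
  · simp [monoMat]
  · intro b _ hb
    simp [monoMat, hb]
  · simp

lemma monoMat_mul (σ τ : Equiv.Perm ι) (d e : ι → F) :
    monoMat σ d * monoMat τ e = monoMat (σ * τ) (fun k => d (τ k) * e k) := by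
  refine Matrix.ext fun l k => ?_
  rw [Matrix.mul_apply, Finset.sum_eq_single (τ k)]
  · by_cases h : l = σ (τ k) <;> simp [monoMat, h]
  · intro b _ hb
    simp [monoMat, hb]
  · simp

lemma monoMat_one : monoMat (1 : Equiv.Perm ι) (fun _ => (1 : F)) = 1 := by
  refine Matrix.ext fun l k => ?_
  by_cases h : l = k <;> simp [monoMat, h, Matrix.one_apply]

/-- A monomial matrix with unit entries as an element of GL. -/
def monoGL (σ : Equiv.Perm ι) (d : ι → Fˣ) : GL ι F where
  val := monoMat σ (fun k => (d k : F))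
  inv := monoMat σ⁻¹ (fun k => ((d (σ⁻¹ k))⁻¹ : Fˣ))
  val_inv := by
    rw [monoMat_mul, mul_inv_cancel, ← monoMat_one]
    congr 1; funext k; simp
  inv_val := by
    rw [monoMat_mul, inv_mul_cancel, ← monoMat_one]
    congr 1; funext k; simp

lemma monoGL_val (σ : Equiv.Perm ι) (d : ι → Fˣ) :
    (monoGL σ d : Matrix ι ι F) = monoMat σ (fun k => (d k : F)) := rfl

lemma monoGL_inv_val (σ : Equiv.Perm ι) (d : ι → Fˣ) :
    (((monoGL σ d)⁻¹ : GL ι F) : Matrix ι ι F) = monoMat σ⁻¹ (fun k => (((d (σ⁻¹ k))⁻¹ : Fˣ) : F)) :=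
  rfl

lemma monoGL_mul (σ τ : Equiv.Perm ι) (d e : ι → Fˣ) :
    monoGL σ d * monoGL τ e = monoGL (σ * τ) (fun k => d (τ k) * e k) :=
  Units.ext (by rw [Units.val_mul, monoGL_val, monoGL_val, monoMat_mul, monoGL_val]; simp)

lemma monoGL_isMono (σ : Equiv.Perm ι) (d : ι → Fˣ) : IsMono (monoGL σ d) := fun k =>
  ⟨σ k, fun l hl => by simp [monoGL_val, monoMat, hl]⟩

lemma monoMat_det (σ : Equiv.Perm ι) (d : ι → F) :
    (monoMat σ d).det = (Equiv.Perm.sign σ : ℤ) * ∏ k, d k := by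
  have h : monoMat σ d = (σ⁻¹).permMatrix F * Matrix.diagonal d := by
    refine Matrix.ext fun l k => ?_
    rw [Matrix.mul_diagonal, Equiv.Perm.permMatrix, PEquiv.toMatrix_apply]
    simp [monoMat, Equiv.Perm.inv_def, Equiv.symm_apply_eq]
  rw [h, Matrix.det_mul, Matrix.det_permutation, Matrix.det_diagonal, Equiv.Perm.sign_inv]

lemma monoGL_one_mem_specialLinear (d : ι → Fˣ) (hd : ∏ k, d k = 1) :
    monoGL 1 d ∈ Cfsg.Geo.specialLinear ι F := by
  rw [mem_specialLinear_iff, monoGL_val, monoMat_det]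
  have : ∏ k, (d k : F) = 1 := by rw [← Units.coe_prod, hd, Units.val_one]
  simp [this]

/-- The units vector equal to `d` at `i` and `1` elsewhere. -/
def single₁ (i : ι) (d : Fˣ) : ι → Fˣ := Function.update (fun _ => 1) i d

lemma single₁_self (i : ι) (d : Fˣ) : single₁ i d i = d := Function.update_self ..

lemma single₁_of_ne {i k : ι} (h : k ≠ i) (d : Fˣ) : single₁ i d k = 1 :=
  Function.update_of_ne h ..

lemma prod_single₁ (i : ι) (d : Fˣ) : ∏ k, single₁ i d k = d := by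
  rw [Finset.prod_eq_single i (fun b _ hb => single₁_of_ne hb d) (by simp), single₁_self]

/-- Balanced diagonal with `d` at `i` and `d⁻¹` at `j`. -/
def pair₁ (i j : ι) (d : Fˣ) : ι → Fˣ := fun k => single₁ i d k * single₁ j d⁻¹ k

lemma prod_pair₁ (i j : ι) (d : Fˣ) : ∏ k, pair₁ i j d k = 1 := by
  simp [pair₁, Finset.prod_mul_distrib, prod_single₁]

lemma pair₁_left {i j : ι} (h : i ≠ j) (d : Fˣ) : pair₁ i j d i = d := by
  simp [pair₁, single₁_self, single₁_of_ne h]

lemma pair₁_right {i j : ι} (h : i ≠ j) (d : Fˣ) : pair₁ i j d j = d⁻¹ := by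
  simp [pair₁, single₁_self, single₁_of_ne h.symm]

lemma pair₁_of_ne {i j k : ι} (hi : k ≠ i) (hj : k ≠ j) (d : Fˣ) : pair₁ i j d k = 1 := by
  simp [pair₁, single₁_of_ne hi, single₁_of_ne hj]

lemma Has.conj_mono {M : Subgroup (GL ι F)} {a φ : ι → F} (h : Has M a φ) {σ : Equiv.Perm ι} {d : ι → Fˣ}
    (hg : monoGL σ d ∈ M) :
    Has M (fun l => (d (σ.symm l) : F) * a (σ.symm l)) (fun l => φ (σ.symm l) * ((d (σ.symm l))⁻¹ : Fˣ)) := by
  have h1 := h.conj hg
  convert h1 using 1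
  · funext l; rw [monoGL_val, monoMat_mulVec']
  · funext l; rw [monoGL_inv_val, vecMul_monoMat]; rfl

lemma Has.conj_diag {M : Subgroup (GL ι F)} {a φ : ι → F} (h : Has M a φ) {d : ι → Fˣ}
    (hg : monoGL 1 d ∈ M) :
    Has M (fun l => (d l : F) * a l) (fun l => φ l * ((d l)⁻¹ : Fˣ)) :=
  h.conj_mono hg

lemma Has.sub_right {M : Subgroup (GL ι F)} {a φ ψ : ι → F} (h : Has M a φ) (h' : Has M a ψ) :
    Has M a (φ - ψ) := by
  rw [sub_eq_add_neg]; exact h.add_right h'.neg'

lemma Has.sub_left {M : Subgroup (GL ι F)} {a b φ : ι → F} (h : Has M a φ) (h' : Has M b φ) :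
    Has M (a - b) φ := by
  rw [sub_eq_add_neg]; exact h.add_left h'.neg

lemma Has.congr {M : Subgroup (GL ι F)} {a φ b ψ : ι → F} (h : Has M a φ) (ha : a = b) (hφ : φ = ψ) :
    Has M b ψ := ha ▸ hφ ▸ h

/-- An elementary root subgroup lies in `M`. -/
def ElemAt (M : Subgroup (GL ι F)) (i j : ι) : Prop :=
  ∀ c : F, Has M (Pi.single i c) (Pi.single j 1)

lemma ElemAt.has {M : Subgroup (GL ι F)} {i j : ι} (h : ElemAt M i j) (c c' : F) :
    Has M (Pi.single i c) (Pi.single j c') := by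
  have h1 : (c' : F) • (Pi.single j 1 : ι → F) = Pi.single j c' := by
    rw [← Pi.single_smul', smul_eq_mul, mul_one]
  rw [← h1, ← Has.smul_iff, ← Pi.single_smul']
  exact h _

lemma specialLinear_le_of_elemAt (M : Subgroup (GL ι F)) (h : ∀ i j, i ≠ j → ElemAt M i j) :
    Cfsg.Geo.specialLinear ι F ≤ M :=
  specialLinear_le_of_elem M fun i j hij c _ => ((h i j hij).has 1 c).2

/-- All non-zero scalar multiples give an elementary root subgroup. -/
lemma elemAt_of_ne_zero {M : Subgroup (GL ι F)} {i j : ι}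
    (h : ∀ c : F, c ≠ 0 → Has M (Pi.single i c) (Pi.single j 1)) : ElemAt M i j := by
  intro c
  rcases eq_or_ne c 0 with rfl | hc
  · exact has_of_zero (Or.inl (Pi.single_zero i))
  · exact h c hc

end CfsgLib.Maximal
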