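import Mathlib
import Cfsg.Agent.Lib.Maximal.MonoBasic

/-!
A subgroup of GL containing every monomial matrix and one more element contains an elementary root
subgroup, over fields with at least five elements.
-/

set_option autoImplicit false
set_option linter.unusedSectionVars false
set_option linter.unusedSimpArgs false
set_option linter.style.haveILetI false

namespace CfsgLib.Maximal

open scoped Matrix

variable {ι : Type} [Fintype ι] [DecidableEq ι] {F : Type*} [Field F]

/-- All pseudo-reflections with centre `a` and axis functional `φ` lie in `K`. -/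
def Refl (K : Subgroup (GL ι F)) (a φ : ι → F) : Prop :=
  φ ⬝ᵥ a = 1 ∧ ∀ d : Fˣ, ∃ g ∈ K, (g : Matrix ι ι F) = 1 + ((d : F) - 1) • Matrix.vecMulVec a φ

lemma refl_prod (e f : F) (a φ b ψ : ι → F) :
    (1 + e • Matrix.vecMulVec a φ) * (1 + f • Matrix.vecMulVec b ψ) =
      1 + e • Matrix.vecMulVec a φ + f • Matrix.vecMulVec b ψ +
        (e * f * (φ ⬝ᵥ b)) • Matrix.vecMulVec a ψ := by
  simp only [mul_add, add_mul, one_mul, mul_one, smul_mul_assoc, mul_smul_comm,
    Matrix.vecMulVec_mul_vecMulVec, Matrix.vecMulVec_smul, smul_smul]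
  rw [smul_add, smul_smul, show f * (e * φ ⬝ᵥ b) = e * f * φ ⬝ᵥ b by ring, ← add_assoc]

lemma Refl.conj {K : Subgroup (GL ι F)} {a φ : ι → F} (h : Refl K a φ) {g : GL ι F} (hg : g ∈ K) :
    Refl K ((g : Matrix ι ι F) *ᵥ a) (φ ᵥ* ((g⁻¹ : GL ι F) : Matrix ι ι F)) := by
  refine ⟨by rw [dot_vecMul_inv, h.1], fun d => ?_⟩
  obtain ⟨r, hr, hv⟩ := h.2 d
  refine ⟨g * r * g⁻¹, mul_mem (mul_mem hg hr) (inv_mem hg), ?_⟩
  rw [Units.val_mul, Units.val_mul, hv, mul_add, add_mul, mul_one, ← Units.val_mul, mul_inv_cancel,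
    Units.val_one, mul_smul_comm, smul_mul_assoc, Matrix.mul_vecMulVec, Matrix.vecMulVec_mul]

/-- The inverse of a pseudo-reflection is the one with the inverse parameter. -/
lemma Refl.exists_inv {K : Subgroup (GL ι F)} {a φ : ι → F} (h : Refl K a φ) (d : Fˣ) :
    ∃ g ∈ K, (g : Matrix ι ι F) = 1 + ((d : F) - 1) • Matrix.vecMulVec a φ ∧
      ((g⁻¹ : GL ι F) : Matrix ι ι F) = 1 + ((d : F)⁻¹ - 1) • Matrix.vecMulVec a φ := by
  obtain ⟨g, hg, hv⟩ := h.2 d
  refine ⟨g, hg, hv, Units.inv_eq_of_mul_eq_one_right ?_⟩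
  rw [hv, refl_prod, h.1, mul_one, add_assoc, add_assoc, ← add_smul, ← add_smul]
  have : ((d : F) - 1) + (((d : F)⁻¹ - 1) + ((d : F) - 1) * ((d : F)⁻¹ - 1)) = 0 := by
    field_simp; ring
  rw [this, zero_smul, add_zero]

lemma refl_of_col {K : Subgroup (GL ι F)} (hK : ∀ σ (d : ι → Fˣ), monoGL σ d ∈ K) {A : GL ι F}
    (hA : A ∈ K) (k : ι) :
    Refl K (fun i => (A : Matrix ι ι F) i k) (fun i => ((A⁻¹ : GL ι F) : Matrix ι ι F) k i) := by
  have h0 : Refl K (Pi.single k (1 : F)) (Pi.single k (1 : F)) := by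
    refine ⟨by simp, fun d => ⟨monoGL 1 (single₁ k d), hK _ _, Matrix.ext fun l m => ?_⟩⟩
    rcases eq_or_ne l m with rfl | hlm
    · rcases eq_or_ne l k with rfl | hlk
      · simp [monoGL_val, monoMat, single₁_self, Matrix.vecMulVec_apply]
      · simp [monoGL_val, monoMat, single₁_of_ne hlk, Matrix.vecMulVec_apply, hlk]
    · rcases eq_or_ne l k with rfl | hlk <;>
        simp [monoGL_val, monoMat, Matrix.vecMulVec_apply, hlm, hlm.symm, *]
  have h1 := h0.conj hA
  rw [Matrix.mulVec_single_one, Matrix.single_one_vecMul] at h1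
  exact h1

section family

variable {K : Subgroup (GL ι F)}

lemma has_of_family {a φ : ι → F} (hq : ∃ s : F, s ≠ 0 ∧ s ≠ -1)
    (h : ∀ d : Fˣ, Has K (((d : F) - 1) • a) φ) (c : F) : Has K (c • a) φ := by
  have hgen : ∀ c : F, c ≠ -1 → Has K (c • a) φ := fun c hc => by
    have := h (Units.mk0 (c + 1) fun h => hc (eq_neg_of_add_eq_zero_left h))
    simpa using this
  rcases eq_or_ne c (-1) with rfl | hc
  · obtain ⟨s, hs0, hs1⟩ := hq
    have h2 := (hgen s hs1).add_left (hgen (-1 - s) fun h => hs0 (by linear_combination -h))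
    rwa [← add_smul, add_sub_cancel] at h2
  · exact hgen c hc

lemma Refl.has_axis {a φ φ' : ι → F} (h : Refl K a φ) (h' : Refl K a φ') (d : Fˣ) :
    Has K (((d : F) - 1) • a) (φ' - φ) := by
  obtain ⟨g, hg, hgv⟩ := h'.2 d
  obtain ⟨r, hr, hrv⟩ := h.2 d⁻¹
  have h0 : (φ' - φ) ⬝ᵥ (((d : F) - 1) • a) = 0 := by
    rw [dotProduct_smul, sub_dotProduct, h.1, h'.1, sub_self, smul_zero]
  refine ⟨h0, ?_⟩
  convert mul_mem hg hr using 1
  refine Units.ext ?_
  rw [tv_val, Units.val_mul, hgv, hrv, refl_prod, h'.1, Units.val_inv_eq_inv_val, mul_one]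
  rw [add_assoc _ (((d : F)⁻¹ - 1) • _), ← add_smul,
    show ((d : F)⁻¹ - 1) + ((d : F) - 1) * ((d : F)⁻¹ - 1) = -((d : F) - 1) by field_simp; ring,
    Matrix.smul_vecMulVec, Matrix.vecMulVec_sub]
  module

lemma Refl.has_centre {a a' φ : ι → F} (h : Refl K a φ) (h' : Refl K a' φ) (d : Fˣ) :
    Has K (((d : F) - 1) • (a' - a)) φ := by
  obtain ⟨r, hr, hrv⟩ := h.2 d⁻¹
  obtain ⟨g, hg, hgv⟩ := h'.2 d
  have h0 : φ ⬝ᵥ (((d : F) - 1) • (a' - a)) = 0 := by
    rw [dotProduct_smul, dotProduct_sub, h.1, h'.1, sub_self, smul_zero]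
  refine ⟨h0, ?_⟩
  convert mul_mem hr hg using 1
  refine Units.ext ?_
  rw [tv_val, Units.val_mul, hgv, hrv, refl_prod, h'.1, Units.val_inv_eq_inv_val, mul_one]
  rw [add_right_comm _ (((d : F) - 1) • _), add_assoc _ (((d : F)⁻¹ - 1) • _), ← add_smul,
    show ((d : F)⁻¹ - 1) + ((d : F)⁻¹ - 1) * ((d : F) - 1) = -((d : F) - 1) by field_simp; ring,
    Matrix.smul_vecMulVec, Matrix.sub_vecMulVec]
  module

end family

variable [Fintype F]

/-- A root subgroup in a group with all monomial matrices gives an elementary one. -/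
lemma elemAt_of_root {K : Subgroup (GL ι F)} (hK : ∀ σ (d : ι → Fˣ), monoGL σ d ∈ K)
    (hq : 3 ≤ Fintype.card F) {a φ : ι → F} (ha : a ≠ 0) (hφ : φ ≠ 0)
    (h : ∀ c : F, Has K (c • a) φ) : ∃ i j, i ≠ j ∧ ElemAt K i j := by
  classical
  obtain ⟨d, hd⟩ : ∃ d : Fˣ, (d : F) ≠ 1 := by
    have hu : 1 < Fintype.card Fˣ := by rw [Fintype.card_units]; omega
    obtain ⟨d, hd⟩ := Fintype.exists_ne_of_one_lt_card hu 1
    exact ⟨d, fun h => hd (Units.ext h)⟩
  obtain ⟨l, χ, hχ, hl⟩ : ∃ (l : ι) (χ : ι → F), χ ≠ 0 ∧ ∀ c, Has K (Pi.single l c) χ := by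
    by_cases hcase : ∃ l, a l * φ l ≠ 0
    · obtain ⟨l, hl⟩ := hcase
      obtain ⟨hal, hφl⟩ := mul_ne_zero_iff.1 hl
      set a' : ι → F := a + Pi.single l (((d : F) - 1) * a l) with ha'
      set φ' : ι → F := φ + Pi.single l (((d : F)⁻¹ - 1) * φ l) with hφ'
      have hd1 : (d : F) - 1 ≠ 0 := sub_ne_zero.2 hd
      have hK' : ∀ c, Has K (c • a') φ' := fun c => by
        refine ((h c).conj_diag (hK 1 (single₁ l d))).congr ?_ ?_ <;> funext m <;>
          rcases eq_or_ne m l with rfl | hm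
        · simp [ha', single₁_self]; ring
        · simp [ha', single₁_of_ne hm, hm]
        · simp [hφ', single₁_self]; ring
        · simp [hφ', single₁_of_ne hm, hm]
      have e0 : φ ⬝ᵥ a = 0 := by have := (h 1).dot; rwa [one_smul] at this
      have e1 : φ ⬝ᵥ a' = ((d : F) - 1) * (a l * φ l) := by
        rw [ha', dotProduct_add, e0, dotProduct_single]; ring
      have e2 : φ' ⬝ᵥ a = ((d : F)⁻¹ - 1) * (a l * φ l) := by
        rw [hφ', add_dotProduct, e0, single_dotProduct]; ring
      refine ⟨l, φ' - (d : F)⁻¹ • φ, fun h0 => ?_, fun c => ?_⟩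
      · have : ∃ m, m ≠ l ∧ φ m ≠ 0 := by
          by_contra hno
          push Not at hno
          have : φ = Pi.single l (φ l) := funext fun m => by
            rcases eq_or_ne m l with rfl | hm
            · simp
            · simp [hm, hno m hm]
          rw [this, single_dotProduct] at e0
          exact hl (by linear_combination e0)
        obtain ⟨m, hml, hm⟩ := this
        have h3 := congrFun h0 m
        simp only [hφ', Pi.sub_apply, Pi.add_apply, Pi.single_eq_of_ne hml, add_zero, Pi.smul_apply,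
          Pi.zero_apply, smul_eq_mul] at h3
        have : ((d : F)⁻¹ - 1) * φ m = 0 := by linear_combination -h3
        rcases mul_eq_zero.1 this with h4 | h4
        · exact hd (by rw [sub_eq_zero, inv_eq_one] at h4; exact h4)
        · exact hm h4
      · set μ := c / (((d : F) - 1) * a l)
        have h3 := (h (-1 / (((d : F) - 1) * (a l * φ l)))).conj_tv' (hK' μ)
        refine h3.congr ?_ ?_
        · rw [dotProduct_smul, e1, smul_smul, smul_eq_mul]
          funext m
          rcases eq_or_ne m l with rfl | hm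
          · simp [ha', μ]; field_simp; ring
          · simp [ha', hm]; field_simp; ring
        · rw [dotProduct_smul, e2, smul_eq_mul]
          congr 2
          field_simp; ring
    · push Not at hcase
      obtain ⟨l, hal⟩ := Function.ne_iff.1 ha
      have hφl : φ l = 0 := by simpa [show a l ≠ 0 from hal] using hcase l
      refine ⟨l, φ, hφ, fun c => ?_⟩
      set e := c / (((d : F) - 1) * a l)
      have h2 := (h e).conj_diag (hK 1 (single₁ l d))
      have h3 : Has K (fun m => (single₁ l d m : F) * (e • a) m) φ := by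
        refine h2.congr rfl (funext fun m => ?_)
        rcases eq_or_ne m l with rfl | hm
        · simp [hφl]
        · simp [single₁_of_ne hm]
      refine (h3.sub_left (h e)).congr (funext fun m => ?_) rfl
      rcases eq_or_ne m l with rfl | hm
      · have hd1 : (d : F) - 1 ≠ 0 := sub_ne_zero.2 hd
        have : a m ≠ 0 := hal
        simp [single₁_self, e]; field_simp
      · simp [single₁_of_ne hm, hm]
  obtain ⟨p, hp⟩ := Function.ne_iff.1 hχ
  have hpl : p ≠ l := by
    rintro rfl
    have := (hl 1).dot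
    rw [dotProduct_single, mul_one] at this
    exact hp this
  refine ⟨l, p, hpl.symm, fun c => ?_⟩
  set e := c / ((1 - (d : F)⁻¹) * χ p)
  have hd1 : (1 : F) - (d : F)⁻¹ ≠ 0 := by
    rw [sub_ne_zero]; intro h; exact hd (by rw [← inv_inv (d : F), ← h, inv_one])
  have h2 := (hl e).conj_diag (hK 1 (single₁ p d))
  have h3 : Has K (Pi.single l e) (fun m => χ m * (((single₁ p d m)⁻¹ : Fˣ) : F)) := by
    refine h2.congr (funext fun m => ?_) rfl
    rcases eq_or_ne m l with rfl | hm
    · simp [single₁_of_ne hpl.symm]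
    · simp [hm]
  have h4 := (hl e).sub_right h3
  have h5 : (χ - fun m => χ m * (((single₁ p d m)⁻¹ : Fˣ) : F)) =
      ((1 - (d : F)⁻¹) * χ p) • (Pi.single p 1 : ι → F) := funext fun m => by
    rcases eq_or_ne m p with rfl | hm
    · simp [single₁_self]; ring
    · simp [single₁_of_ne hm, hm]
  rw [h5, ← Has.smul_iff, ← Pi.single_smul', smul_eq_mul] at h4
  have hχp : χ p ≠ 0 := hp
  refine h4.congr (congrArg (Pi.single l) ?_) rfl
  rw [mul_comm]
  exact div_mul_cancel₀ c (mul_ne_zero hd1 hχp)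

lemma few_roots {b d₁ d₂ d₃ : F} (h1 : d₁ ^ 2 + b * d₁ + 1 = 0) (h2 : d₂ ^ 2 + b * d₂ + 1 = 0)
    (h3 : d₃ ^ 2 + b * d₃ + 1 = 0) (n12 : d₁ ≠ d₂) (n13 : d₁ ≠ d₃) : d₂ = d₃ := by
  have e2 : d₁ + d₂ + b = 0 := mul_left_cancel₀ (sub_ne_zero.2 n12) (by linear_combination h1 - h2)
  have e3 : d₁ + d₃ + b = 0 := mul_left_cancel₀ (sub_ne_zero.2 n13) (by linear_combination h1 - h3)
  linear_combination e2 - e3

/-- The main lemma. -/
theorem exists_elemAt_of_not_isMono {K : Subgroup (GL ι F)} (hK : ∀ σ (d : ι → Fˣ), monoGL σ d ∈ K)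
    (hq : 5 ≤ Fintype.card F) (hι : 3 ≤ Fintype.card ι) {A : GL ι F} (hA : A ∈ K) (hAm : ¬ IsMono A) :
    ∃ i j, i ≠ j ∧ ElemAt K i j := by
  classical
  by_contra hno
  have hroot : ∀ a φ : ι → F, (∀ d : Fˣ, Has K (((d : F) - 1) • a) φ) → a = 0 ∨ φ = 0 := by
    intro a φ h
    by_contra hne
    push Not at hne
    refine hno (elemAt_of_root hK (by omega) hne.1 hne.2 (has_of_family ?_ h))
    obtain ⟨s, -, hs⟩ : ∃ s ∈ (Finset.univ : Finset F), s ∉ ({0, -1} : Finset F) :=
      Finset.exists_mem_notMem_of_card_lt_card (by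
        rw [Finset.card_univ]; exact lt_of_le_of_lt Finset.card_le_two (by omega))
    simp at hs
    exact ⟨s, hs.1, hs.2⟩
  have hax : ∀ {a φ φ' : ι → F}, Refl K a φ → Refl K a φ' → φ' = φ := by
    intro a φ φ' h h'
    rcases hroot _ _ (h.has_axis h') with h0 | h0
    · exact absurd h.1 (by simp [h0])
    · exact sub_eq_zero.1 h0
  have hcen : ∀ {a a' φ : ι → F}, Refl K a φ → Refl K a' φ → a' = a := by
    intro a a' φ h h'
    rcases hroot _ _ (h.has_centre h') with h0 | h0
    · exact sub_eq_zero.1 h0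
    · exact absurd h.1 (by simp [h0])
  obtain ⟨d₀, hd₀⟩ : ∃ d : Fˣ, (d : F) ≠ 1 := by
    have hu : 1 < Fintype.card Fˣ := by rw [Fintype.card_units]; omega
    obtain ⟨d, hd⟩ := Fintype.exists_ne_of_one_lt_card hu 1
    exact ⟨d, fun h => hd (Units.ext h)⟩
  -- supports of centre and axis agree
  have hsupp : ∀ {a φ : ι → F}, Refl K a φ → ∀ l, a l = 0 ↔ φ l = 0 := by
    intro a φ h l
    have h2 := h.conj (hK 1 (single₁ l d₀))
    constructor
    · intro hl
      have e : ((monoGL 1 (single₁ l d₀) : GL ι F) : Matrix ι ι F) *ᵥ a = a := funext fun m => by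
        rw [monoGL_val, monoMat_one_mulVec]
        rcases eq_or_ne m l with rfl | hm
        · simp [hl]
        · simp [single₁_of_ne hm]
      rw [e] at h2
      have h3 := congrFun (hax h h2) l
      rw [monoGL_inv_val, vecMul_monoMat] at h3
      simp [single₁_self] at h3
      by_contra hne
      have : (d₀ : F)⁻¹ = 1 := mul_left_cancel₀ hne (by rw [mul_one]; exact h3)
      exact hd₀ (by rwa [inv_eq_one] at this)
    · intro hl
      have e : φ ᵥ* (((monoGL 1 (single₁ l d₀))⁻¹ : GL ι F) : Matrix ι ι F) = φ := funext fun m => by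
        rw [monoGL_inv_val, vecMul_monoMat]
        rcases eq_or_ne m l with rfl | hm
        · simp [hl]
        · simp [single₁_of_ne hm]
      rw [e] at h2
      have h3 := congrFun (hcen h h2) l
      rw [monoGL_val, monoMat_one_mulVec] at h3
      simp [single₁_self] at h3
      by_contra hne
      exact hd₀ (mul_right_cancel₀ hne (by rw [one_mul]; exact h3))
  -- products are constant on the support
  have hprod : ∀ {a φ : ι → F}, Refl K a φ → ∀ l p, a l ≠ 0 → a p ≠ 0 → a l * φ l = a p * φ p := by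
    intro a φ h l p hl hp
    rcases eq_or_ne l p with rfl | hlp
    · rfl
    let u : ι → Fˣ := fun m => if m = l then Units.mk0 (a p / a l) (div_ne_zero hp hl) else
      if m = p then Units.mk0 (a l / a p) (div_ne_zero hl hp) else 1
    have h2 := h.conj (hK (Equiv.swap l p) u)
    have e : ((monoGL (Equiv.swap l p) u : GL ι F) : Matrix ι ι F) *ᵥ a = a := funext fun m => by
      rw [monoGL_val, monoMat_mulVec', Equiv.symm_swap]
      rcases eq_or_ne m l with rfl | hml
      · simp [u, hlp.symm]; field_simp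
      · rcases eq_or_ne m p with rfl | hmp
        · simp [u]; field_simp
        · simp [u, Equiv.swap_apply_of_ne_of_ne hml hmp, hml, hmp]
    rw [e] at h2
    have h3 := congrFun (hax h h2) l
    rw [monoGL_inv_val, vecMul_monoMat] at h3
    simp [u, hlp.symm, Equiv.Perm.inv_def] at h3
    field_simp at h3
    linear_combination -h3
  -- a centre with two entries
  obtain ⟨k, hk⟩ : ∃ k, ∀ i, ∃ l, l ≠ i ∧ (A : Matrix ι ι F) l k ≠ 0 := by
    simp only [IsMono] at hAm; push Not at hAm; exact hAm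
  obtain ⟨a, φ, i, j, hR, hij, hai, haj⟩ :
      ∃ (a φ : ι → F) (i j : ι), Refl K a φ ∧ i ≠ j ∧ a i ≠ 0 ∧ a j ≠ 0 := by
    obtain ⟨i, -, hi⟩ := hk k
    obtain ⟨j, hji, hj⟩ := hk i
    exact ⟨_, _, i, j, refl_of_col hK hA k, hji.symm, hi, hj⟩
  set c := a i * φ i with hc
  have hφi : φ i ≠ 0 := fun h => hai ((hsupp hR i).2 h)
  have hφj : φ j ≠ 0 := fun h => haj ((hsupp hR j).2 h)
  have hc0 : c ≠ 0 := mul_ne_zero hai hφi
  have hcj : a j * φ j = c := hprod hR j i haj hai
  have key : ∀ d : Fˣ, (d : F) ≠ 1 →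
      ((d : F) ^ 2 + (c⁻¹ - 2) * (d : F) + 1 = 0) ∨ ((d : F) = -1 ∧ 2 * c = 1) := by
    intro d hd
    obtain ⟨g, hg, hgv, hgi⟩ := hR.exists_inv d
    have h2 := refl_of_col hK hg i
    set e : F := (d : F) - 1
    set f : F := (d : F)⁻¹ - 1
    have hd0 : (d : F) ≠ 0 := d.ne_zero
    have hf : f ≠ 0 := sub_ne_zero.2 fun h => hd (by rwa [inv_eq_one] at h)
    have he : e ≠ 0 := sub_ne_zero.2 hd
    have ci : (g : Matrix ι ι F) i i = 1 + e * c := by
      rw [hgv, hc]; simp [Matrix.vecMulVec_apply, e]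
    have ri : ((g⁻¹ : GL ι F) : Matrix ι ι F) i i = 1 + f * c := by
      rw [hgi, hc]; simp [Matrix.vecMulVec_apply, f]
    have cj : (g : Matrix ι ι F) j i = e * (a j * φ i) := by
      rw [hgv]; simp [Matrix.vecMulVec_apply, e, hij.symm]
    have rj : ((g⁻¹ : GL ι F) : Matrix ι ι F) i j = f * (a i * φ j) := by
      rw [hgi]; simp [Matrix.vecMulVec_apply, f, hij]
    have hjn : (g : Matrix ι ι F) j i ≠ 0 := by
      rw [cj]; exact mul_ne_zero he (mul_ne_zero haj hφi)
    by_cases hin : (g : Matrix ι ι F) i i = 0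
    · have hr : ((g⁻¹ : GL ι F) : Matrix ι ι F) i i = 0 := (hsupp h2 i).1 hin
      rw [ci] at hin; rw [ri] at hr
      have h3 : e = f := mul_right_cancel₀ hc0 (by linear_combination hin - hr)
      have h4 : ((d : F) - 1) * ((d : F) + 1) = 0 := by
        simp only [e, f] at h3; field_simp at h3; linear_combination h3
      have hdm : (d : F) = -1 := eq_neg_of_add_eq_zero_left ((mul_eq_zero.1 h4).resolve_left he)
      refine Or.inr ⟨hdm, ?_⟩
      simp only [e, hdm] at hin
      linear_combination -hin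
    · left
      have h3 := hprod h2 i j hin hjn
      simp only [ci, ri, cj, rj] at h3
      have h4 : 1 + (e + f) * c = 0 := by linear_combination h3 + e * f * c * hcj
      simp only [e, f] at h4
      field_simp at h4 ⊢
      linear_combination h4
  -- the parameters force five elements
  have h5 : Fintype.card F = 5 := by
    by_contra h5
    have hs : 4 ≤ ((Finset.univ : Finset F) \ {0, 1}).card := by
      rw [Finset.card_sdiff_of_subset (Finset.subset_univ _), Finset.card_univ, Finset.card_pair zero_ne_one]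
      omega
    have hs' : 3 ≤ (((Finset.univ : Finset F) \ {0, 1}).erase (-1)).card :=
      le_trans (by omega) Finset.pred_card_le_card_erase
    obtain ⟨x, y, z, hx, hy, hz, hxy, hxz, hyz⟩ := Finset.two_lt_card_iff.1 hs'
    have hroot' : ∀ w ∈ ((Finset.univ : Finset F) \ {0, 1}).erase (-1),
        w ^ 2 + (c⁻¹ - 2) * w + 1 = 0 := by
      intro w hw
      simp at hw
      rcases key (Units.mk0 w hw.2.1) hw.2.2 with h | ⟨h, -⟩
      · exact h
      · exact absurd h hw.1
    exact hyz (few_roots (hroot' x hx) (hroot' y hy) (hroot' z hz) hxy hxz)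
  haveI : Fact (Nat.Prime 5) := ⟨by norm_num⟩
  haveI : CharP F 5 := charP_of_card_eq_prime h5
  have f5 : (5 : F) = 0 := by exact_mod_cast CharP.cast_eq_zero F 5
  have f2 : (2 : F) ≠ 0 := fun h => one_ne_zero (α := F) (by linear_combination f5 - 2 * h)
  have h2c : 2 * c = 1 := by
    rcases key (Units.mk0 2 f2) (fun h => one_ne_zero (α := F) (by simp at h; linear_combination h)) with h | ⟨-, h⟩
    · simp at h
      field_simp at h
      have h' : c + 2 = 0 := by linear_combination h
      linear_combination 2 * h' - f5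
    · exact h
  have h1c : 1 + c ≠ 0 := fun h => f2 (by linear_combination -2 * h + h2c + f5)
  have hcne : (1 + c) * (1 - c / 2) * c ≠ c := fun h => by
    have : (1 + c) * (1 - c / 2) = 1 := mul_right_cancel₀ hc0 (by linear_combination h)
    field_simp at this
    have h' : c * (1 - c) = 0 := by linear_combination this
    exact one_ne_zero (α := F) (by
      have := (mul_eq_zero.1 h').resolve_left hc0
      linear_combination h2c + 2 * this)
  obtain ⟨g₂, hg₂, hg₂v, hg₂i⟩ : ∃ g ∈ K, (g : Matrix ι ι F) = 1 + ((2 : F) - 1) • Matrix.vecMulVec a φ ∧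
      ((g⁻¹ : GL ι F) : Matrix ι ι F) = 1 + ((2 : F)⁻¹ - 1) • Matrix.vecMulVec a φ :=
    hR.exists_inv (Units.mk0 2 f2)
  have hconj : ∀ h : GL ι F, h ∈ K → Refl K
      (a + (φ ᵥ* ((h⁻¹ : GL ι F) : Matrix ι ι F) ⬝ᵥ a) • ((h : Matrix ι ι F) *ᵥ a))
      (φ - (2⁻¹ * (φ ⬝ᵥ ((h : Matrix ι ι F) *ᵥ a))) • (φ ᵥ* ((h⁻¹ : GL ι F) : Matrix ι ι F))) := by
    intro h hh'
    have h3 := hR.conj hh'
    obtain ⟨r, hr, hrv, hri⟩ := h3.exists_inv (Units.mk0 2 f2)
    have h4 := hR.conj hr
    rw [hrv, hri] at h4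
    simp only [Units.val_mk0, Matrix.add_mulVec, Matrix.one_mulVec, Matrix.smul_mulVec,
      Matrix.vecMulVec_mulVec, op_smul_eq_smul, Matrix.vecMul_add, Matrix.vecMul_one, Matrix.vecMul_smul,
      Matrix.vecMul_vecMulVec, smul_smul] at h4
    rw [show (2 : F) - 1 = 1 by ring, one_mul] at h4
    convert h4 using 1
    rw [show ((2 : F)⁻¹ - 1) = -2⁻¹ by field_simp; ring, neg_mul, neg_smul, ← sub_eq_add_neg]
  by_cases hfull : ∃ o, a o = 0
  · obtain ⟨o, ho⟩ := hfull
    have hφo : φ o = 0 := (hsupp hR o).1 ho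
    have hoj : o ≠ j := fun h => haj (h ▸ ho)
    have hoi : i ≠ o := fun h => hai (h ▸ ho)
    set m : GL ι F := monoGL (Equiv.swap j o) (fun _ => 1)
    have e1 : (m : Matrix ι ι F) *ᵥ a = a - Pi.single j (a j) + Pi.single o (a j) := funext fun l => by
      rw [monoGL_val, monoMat_mulVec', Equiv.symm_swap]
      rcases eq_or_ne l j with rfl | hlj
      · simp [ho, hoj.symm]
      · rcases eq_or_ne l o with rfl | hlo
        · simp [ho, hlj]
        · simp [Equiv.swap_apply_of_ne_of_ne hlj hlo, hlj, hlo]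
    have e2 : φ ᵥ* ((m⁻¹ : GL ι F) : Matrix ι ι F) = φ - Pi.single j (φ j) + Pi.single o (φ j) :=
      funext fun l => by
      rw [monoGL_inv_val, vecMul_monoMat]
      rcases eq_or_ne l j with rfl | hlj
      · simp [hφo, hoj.symm]
      · rcases eq_or_ne l o with rfl | hlo
        · simp [hφo, hlj]
        · simp [Equiv.swap_apply_of_ne_of_ne hlj hlo, hlj, hlo]
    have h5 := hconj m (hK _ _)
    rw [e1, e2] at h5
    have d1 : (φ - Pi.single j (φ j) + Pi.single o (φ j)) ⬝ᵥ a = c := by
      rw [add_dotProduct, sub_dotProduct, hR.1, single_dotProduct, single_dotProduct, ho]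
      linear_combination -h2c - hcj
    have d2 : φ ⬝ᵥ (a - Pi.single j (a j) + Pi.single o (a j)) = c := by
      rw [dotProduct_add, dotProduct_sub, hR.1, dotProduct_single, dotProduct_single, hφo]
      linear_combination -h2c - hcj
    rw [d1, d2] at h5
    have h6 := hprod h5 i j
    simp [hij, hoi, hoj.symm] at h6
    have h7 := h6 (by
      rw [show a i + c * a i = (1 + c) * a i by ring]; exact mul_ne_zero h1c hai) haj
    exact hcne (by rw [div_eq_inv_mul]; linear_combination h7 + hcj + ((1 + c) * (1 - 2⁻¹ * c)) * hc)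
  · push Not at hfull
    obtain ⟨w, hwi, hwj⟩ : ∃ w, w ≠ i ∧ w ≠ j := by
      obtain ⟨w, -, hw⟩ : ∃ w ∈ (Finset.univ : Finset ι), w ∉ ({i, j} : Finset ι) :=
        Finset.exists_mem_notMem_of_card_lt_card (by
          rw [Finset.card_univ]; exact lt_of_le_of_lt Finset.card_le_two (by omega))
      simp at hw
      exact ⟨w, hw⟩
    set m : GL ι F := monoGL 1 (fun l => if l = i ∨ l = j then Units.mk0 2 f2 else 1)
    have e1 : (m : Matrix ι ι F) *ᵥ a = a + Pi.single i (a i) + Pi.single j (a j) := funext fun l => by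
      rw [monoGL_val, monoMat_one_mulVec]
      rcases eq_or_ne l j with rfl | hlj
      · simp [hij.symm]; ring
      · rcases eq_or_ne l i with rfl | hli
        · simp [hlj]; ring
        · simp [hlj, hli]
    have e2 : φ ᵥ* ((m⁻¹ : GL ι F) : Matrix ι ι F) =
        φ - Pi.single i (2⁻¹ * φ i) - Pi.single j (2⁻¹ * φ j) := funext fun l => by
      rw [monoGL_inv_val, vecMul_monoMat]
      rcases eq_or_ne l j with rfl | hlj
      · simp [hij.symm]; field_simp; ring
      · rcases eq_or_ne l i with rfl | hli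
        · simp [hlj]; field_simp; ring
        · simp [hlj, hli]
    have h5 := hconj m (hK _ _)
    rw [e1, e2] at h5
    have d1 : (φ - Pi.single i (2⁻¹ * φ i) - Pi.single j (2⁻¹ * φ j)) ⬝ᵥ a = c := by
      rw [sub_dotProduct, sub_dotProduct, hR.1, single_dotProduct, single_dotProduct]
      field_simp
      linear_combination -2 * h2c - hcj + hc
    have d2 : φ ⬝ᵥ (a + Pi.single i (a i) + Pi.single j (a j)) = 2 := by
      rw [dotProduct_add, dotProduct_add, hR.1, dotProduct_single, dotProduct_single]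
      linear_combination h2c + hcj - hc
    rw [d1, d2] at h5
    have h6 := (hsupp h5 w).2
    simp [hwi, hwj, inv_mul_cancel₀ f2] at h6
    rw [show a w + c * a w = (1 + c) * a w by ring] at h6
    exact mul_ne_zero h1c (hfull w) h6

end CfsgLib.Maximal
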