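import Mathlib
import Cfsg.Agent.Lib.Maximal.MonoGL

/-!
A subgroup of SL strictly above the monomial subgroup contains an elementary root subgroup, over
fields with at least five elements.
-/

set_option autoImplicit false
set_option linter.unusedSectionVars false
set_option linter.unusedSimpArgs false

namespace CfsgLib.Maximal

open scoped Matrix

variable {ι : Type} [Fintype ι] [DecidableEq ι] {F : Type*} [Field F]

lemma col_mulVec (g : GL ι F) (k : ι) :
    (g : Matrix ι ι F) *ᵥ Pi.single k 1 = fun l => (g : Matrix ι ι F) l k := Matrix.mulVec_single_one _ k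

lemma mulVec_single' (g : GL ι F) (k : ι) (c : F) :
    (g : Matrix ι ι F) *ᵥ Pi.single k c = fun l => c * (g : Matrix ι ι F) l k := by
  funext l
  rw [Matrix.mulVec, dotProduct_single, mul_comm]

lemma exists_col_ne_zero (g : GL ι F) (k : ι) : ∃ l, (g : Matrix ι ι F) l k ≠ 0 := by
  by_contra h
  push Not at h
  have : (Pi.single k 1 : ι → F) = 0 := mulVec_inj g (by
    show (g : Matrix ι ι F) *ᵥ Pi.single k 1 = (g : Matrix ι ι F) *ᵥ 0
    rw [col_mulVec, Matrix.mulVec_zero]; exact funext h)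
  simpa using congrFun this k

lemma exists_row_ne_zero (g : GL ι F) (l : ι) : ∃ k, (g : Matrix ι ι F) l k ≠ 0 := by
  by_contra h
  push Not at h
  have h2 := congrFun (congrFun (Units.mul_inv g) l) l
  rw [Matrix.mul_apply, Matrix.one_apply_eq] at h2
  simp [h] at h2

lemma col_not_prop (g : GL ι F) {j k : ι} (hjk : j ≠ k) (c : F) :
    (fun l => (g : Matrix ι ι F) l j) ≠ fun l => c * (g : Matrix ι ι F) l k := by
  intro h
  have : (Pi.single j 1 : ι → F) = Pi.single k c := mulVec_inj g (by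
    show (g : Matrix ι ι F) *ᵥ Pi.single j 1 = (g : Matrix ι ι F) *ᵥ Pi.single k c
    rw [col_mulVec, mulVec_single', h])
  simpa [hjk] using congrFun this j

/-- If a vector is sent to a multiple of a unit vector, it is a multiple of a column of the inverse. -/
lemma isMono_mono_mul {σ : Equiv.Perm ι} {d : ι → Fˣ} {g : GL ι F} (hg : IsMono g) :
    IsMono (monoGL σ d * g) := by
  intro k
  obtain ⟨i, hi⟩ := hg k
  refine ⟨σ i, fun l hl => ?_⟩
  have : ((monoGL σ d * g : GL ι F) : Matrix ι ι F) l k =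
      (monoMat σ (fun k => (d k : F)) *ᵥ fun m => (g : Matrix ι ι F) m k) l := rfl
  rw [this, monoMat_mulVec', hi _ (fun h => hl (by rw [← h, Equiv.apply_symm_apply])), mul_zero]

lemma monoGL_inv (σ : Equiv.Perm ι) (d : ι → Fˣ) :
    (monoGL σ d)⁻¹ = monoGL σ⁻¹ (fun k => (d (σ⁻¹ k))⁻¹) := Units.ext rfl

lemma monoGL_mem_specialLinear_iff (σ : Equiv.Perm ι) (d : ι → Fˣ) :
    monoGL σ d ∈ Cfsg.Geo.specialLinear ι F ↔
      ((Equiv.Perm.sign σ : ℤ) : F) * ∏ k, (d k : F) = 1 := by
  rw [mem_specialLinear_iff, monoGL_val, monoMat_det]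

/-- The hypotheses: a subgroup of SL containing the monomial subgroup and no elementary root subgroup. -/
structure MonoOver (H : Subgroup (GL ι F)) : Prop where
  le : H ≤ Cfsg.Geo.specialLinear ι F
  mono : ∀ σ (d : ι → Fˣ), monoGL σ d ∈ Cfsg.Geo.specialLinear ι F → monoGL σ d ∈ H
  noElem : ∀ i j, i ≠ j → ¬ ElemAt H i j

variable {H : Subgroup (GL ι F)}

lemma MonoOver.pair_mem (hH : MonoOver H) (i j : ι) (d : Fˣ) : monoGL 1 (pair₁ i j d) ∈ H :=
  hH.mono _ _ (monoGL_one_mem_specialLinear _ (prod_pair₁ i j d))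

lemma exists_three_ne [Fintype ι] (hι : 4 ≤ Fintype.card ι) (a b c : ι) :
    ∃ q, q ≠ a ∧ q ≠ b ∧ q ≠ c := by
  obtain ⟨q, -, hq⟩ : ∃ q ∈ (Finset.univ : Finset ι), q ∉ ({a, b, c} : Finset ι) :=
    Finset.exists_mem_notMem_of_card_lt_card (by
      rw [Finset.card_univ]; exact lt_of_le_of_lt Finset.card_le_three (by omega))
  simp at hq
  exact ⟨q, hq⟩

variable [Fintype F]

/-- No transvection with a coordinate centre. -/
lemma MonoOver.single_centre (hH : MonoOver H) (hq : 4 ≤ Fintype.card F) (hι : 4 ≤ Fintype.card ι)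
    {k : ι} {χ : ι → F} (h : Has H (Pi.single k 1) χ) : χ = 0 := by
  classical
  by_contra hne
  obtain ⟨p, hp⟩ := Function.ne_iff.1 hne
  have hχp : χ p ≠ 0 := hp
  have hk : χ k = 0 := by have := h.dot; rwa [dotProduct_single, mul_one] at this
  have hpk : p ≠ k := fun h => hχp (h ▸ hk)
  obtain ⟨q, hqp, hqk, -⟩ := exists_three_ne hι p k k
  obtain ⟨r, hrp, hrk, hrq⟩ := exists_three_ne hι p k q
  obtain ⟨d, hd⟩ : ∃ d : Fˣ, (d : F) ≠ 1 := by
    have hu : 1 < Fintype.card Fˣ := by rw [Fintype.card_units]; omega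
    obtain ⟨d, hd⟩ := Fintype.exists_ne_of_one_lt_card hu 1
    exact ⟨d, fun h => hd (Units.ext h)⟩
  have step : ∀ {χ : ι → F}, Has H (Pi.single k 1) χ → ∀ (u v : ι), u ≠ k → v ≠ k →
      Has H (Pi.single k 1) (fun m => χ m - χ m * (((pair₁ u v d m)⁻¹ : Fˣ) : F)) := by
    intro χ h u v hu hv
    refine h.sub_right ((h.conj_diag (hH.pair_mem u v d)).congr (funext fun m => ?_) rfl)
    rcases eq_or_ne m k with rfl | hm
    · simp [pair₁_of_ne hu.symm hv.symm]
    · simp [hm]
  have h1 := step h p q hpk hqk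
  have h2 := step h1 p r hpk hrk
  set e : F := 1 - (d : F)⁻¹
  have he : e ≠ 0 := by
    simp only [e, ne_eq, sub_eq_zero]; intro h; exact hd (by rw [← inv_inv (d : F), ← h, inv_one])
  set c₀ := e * e * χ p
  have hc₀ : c₀ ≠ 0 := mul_ne_zero (mul_ne_zero he he) hχp
  have h3 : Has H (Pi.single k 1) (c₀ • (Pi.single p 1 : ι → F)) := by
    refine h2.congr rfl (funext fun m => ?_)
    rcases eq_or_ne m p with rfl | hmp
    · simp [pair₁_left hqp.symm, pair₁_left hrp.symm, c₀, e]; ring
    · rcases eq_or_ne m q with rfl | hmq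
      · simp [pair₁_of_ne hmp hrq.symm, hmp]
      · simp [pair₁_of_ne hmp hmq, hmp]
  refine hH.noElem k p hpk.symm (elemAt_of_ne_zero fun c hc => ?_)
  have hu : c / c₀ ≠ 0 := div_ne_zero hc hc₀
  have h4 := h3.conj_diag (hH.pair_mem k q (Units.mk0 _ hu))
  have h5 : Has H (Pi.single k (c / c₀)) (c₀ • (Pi.single p 1 : ι → F)) := by
    refine h4.congr (funext fun m => ?_) (funext fun m => ?_)
    · rcases eq_or_ne m k with rfl | hm
      · simp [pair₁_left hqk.symm]
      · simp [hm]
    · rcases eq_or_ne m p with rfl | hm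
      · simp [pair₁_of_ne hpk hqp.symm]
      · simp [hm]
  rw [← Has.smul_iff, ← Pi.single_smul', smul_eq_mul, mul_div_cancel₀ _ hc₀] at h5
  exact h5

/-- An element of `H` fixing a coordinate line is monomial. -/
lemma MonoOver.mono_of_fix (hH : MonoOver H) (hq : 5 ≤ Fintype.card F) (hι : 5 ≤ Fintype.card ι)
    {u : GL ι F} (hu : u ∈ H) {k : ι} (hk : ∀ l, l ≠ k → (u : Matrix ι ι F) l k = 0) : IsMono u := by
  classical
  let J := {l : ι // l ≠ k}
  have inv_col : ∀ v : GL ι F, (∀ l, l ≠ k → (v : Matrix ι ι F) l k = 0) →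
      ∀ l, l ≠ k → ((v⁻¹ : GL ι F) : Matrix ι ι F) l k = 0 := by
    intro v hv l hl
    have h1 := congrFun (congrFun (Units.inv_mul v) l) k
    rw [Matrix.mul_apply, Finset.sum_eq_single k (fun b _ hb => by rw [hv b hb, mul_zero]) (by simp),
      Matrix.one_apply_ne hl] at h1
    refine (mul_eq_zero.1 h1).resolve_right fun h0 => ?_
    obtain ⟨l', hl'⟩ := exists_col_ne_zero v k
    exact hl' (if hlk : l' = k then hlk ▸ h0 else hv l' hlk)
  have block_mul : ∀ v w : GL ι F, (∀ l, l ≠ k → (v : Matrix ι ι F) l k = 0) → ∀ i j : J,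
      ((v * w : GL ι F) : Matrix ι ι F) i j =
        ∑ m : J, (v : Matrix ι ι F) i m * (w : Matrix ι ι F) m j := by
    intro v w hv i j
    rw [Units.val_mul, Matrix.mul_apply, ← Finset.sum_erase_add _ _ (Finset.mem_univ k),
      hv i.1 i.2, zero_mul, add_zero]
    exact Finset.sum_subtype (Finset.univ.erase k) (by simp)
      (fun m => (v : Matrix ι ι F) i m * (w : Matrix ι ι F) m j)
  let K : Subgroup (GL J F) :=
    { carrier := {A | ∃ v ∈ H, (∀ l, l ≠ k → (v : Matrix ι ι F) l k = 0) ∧
        ∀ i j : J, (v : Matrix ι ι F) i j = (A : Matrix J J F) i j}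
      one_mem' := ⟨1, one_mem _, fun l hl => by simp [hl], fun i j => by
        simp [Matrix.one_apply, Subtype.coe_inj]⟩
      mul_mem' := by
        rintro A B ⟨v, hv, hvk, hvA⟩ ⟨w, hw, hwk, hwB⟩
        refine ⟨v * w, mul_mem hv hw, fun l hl => ?_, fun i j => ?_⟩
        · rw [Units.val_mul, Matrix.mul_apply]
          refine Finset.sum_eq_zero fun m _ => ?_
          rcases eq_or_ne m k with rfl | hm
          · rw [hvk l hl, zero_mul]
          · rw [hwk m hm, mul_zero]
        · rw [block_mul v w hvk, Units.val_mul, Matrix.mul_apply]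
          simp [hvA, hwB]
      inv_mem' := by
        rintro A ⟨v, hv, hvk, hvA⟩
        refine ⟨v⁻¹, inv_mem hv, inv_col v hvk, fun i j => ?_⟩
        have h1 : (A : Matrix J J F) * Matrix.of (fun i j : J => ((v⁻¹ : GL ι F) : Matrix ι ι F) i j) = 1 := by
          refine Matrix.ext fun i j => ?_
          have h2 := block_mul v v⁻¹ hvk i j
          rw [mul_inv_cancel] at h2
          rw [Matrix.mul_apply]
          simp only [← hvA, Matrix.of_apply]
          rw [← h2]; simp [Matrix.one_apply, Subtype.coe_inj]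
        rw [Units.inv_eq_of_mul_eq_one_right h1]; rfl }
  have hK' : ∀ σ (d : J → Fˣ), ∃ σ' d', monoGL σ' d' ∈ H ∧
      (∀ l, l ≠ k → (monoGL σ' d' : Matrix ι ι F) l k = 0) ∧
      ∀ i j : J, (monoGL σ' d' : Matrix ι ι F) i j = (monoGL σ d : Matrix J J F) i j := by
    intro σ d
    let dd : Fˣ := (Units.map (Int.castRingHom F).toMonoidHom (Equiv.Perm.sign σ) * ∏ i, d i)⁻¹
    let d' : ι → Fˣ := fun l => if h : l = k then dd else d ⟨l, h⟩
    have hprod : ∏ l, d' l = (∏ i, d i) * dd := by
      rw [← Finset.prod_erase_mul _ _ (Finset.mem_univ k),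
        Finset.prod_subtype (Finset.univ.erase k) (p := fun l => l ≠ k) (by simp)]
      congr 1
      · exact Finset.prod_congr rfl fun i _ => by simp [d', i.2]
      · simp [d']
    refine ⟨Equiv.Perm.ofSubtype σ, d', hH.mono _ _ ?_, fun l hl => ?_, fun i j => ?_⟩
    · rw [monoGL_mem_specialLinear_iff, ← Units.coe_prod, hprod, Equiv.Perm.sign_ofSubtype]
      have : ((Units.map (Int.castRingHom F).toMonoidHom (Equiv.Perm.sign σ) * ∏ i, d i) * dd : Fˣ) = 1 :=
        mul_inv_cancel _
      have := congrArg (fun x : Fˣ => (x : F)) this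
      simp at this ⊢
      linear_combination this
    · simp [monoGL_val, monoMat, Equiv.Perm.ofSubtype_apply_of_not_mem σ (show ¬ k ≠ k by simp), hl]
    · simp [monoGL_val, monoMat, Equiv.Perm.ofSubtype_apply_coe, d', j.2, Subtype.coe_inj]
  have hK : ∀ σ (d : J → Fˣ), monoGL σ d ∈ K := fun σ d => by
    obtain ⟨σ', d', h⟩ := hK' σ d
    exact ⟨_, h⟩
  by_contra hmono
  obtain ⟨A, hAv, hA⟩ : ∃ A : GL J F, (∀ i j : J, (u : Matrix ι ι F) i j = (A : Matrix J J F) i j) ∧ A ∈ K := by
    let A : GL J F :=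
      ⟨Matrix.of fun i j : J => (u : Matrix ι ι F) i j,
        Matrix.of fun i j : J => ((u⁻¹ : GL ι F) : Matrix ι ι F) i j,
        Matrix.ext fun i j => by
          rw [Matrix.mul_apply]; simp only [Matrix.of_apply]; rw [← block_mul u u⁻¹ hk, mul_inv_cancel]
          simp [Matrix.one_apply, Subtype.coe_inj],
        Matrix.ext fun i j => by
          rw [Matrix.mul_apply]; simp only [Matrix.of_apply]
          rw [← block_mul u⁻¹ u (inv_col u hk), inv_mul_cancel]
          simp [Matrix.one_apply, Subtype.coe_inj]⟩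
    exact ⟨A, fun i j => rfl, u, hu, hk, fun i j => rfl⟩
  -- a transvection with coordinate centre is trivial
  obtain ⟨d, hd1, hd2⟩ : ∃ d : Fˣ, (d : F) ≠ 1 ∧ (d : F) * d ≠ 1 := by
    obtain ⟨x, -, hx⟩ : ∃ x ∈ (Finset.univ : Finset F), x ∉ ({0, 1, -1} : Finset F) :=
      Finset.exists_mem_notMem_of_card_lt_card (by
        rw [Finset.card_univ]; exact lt_of_le_of_lt Finset.card_le_three (by omega))
    simp at hx
    refine ⟨Units.mk0 x hx.1, hx.2.1, fun h => ?_⟩
    rcases mul_self_eq_one_iff.1 h with h | h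
    · exact hx.2.1 h
    · exact hx.2.2 h
  -- elements whose block is trivial
  have hUni : ∀ w ∈ H, ∀ (i₁ j₁ : ι) (c : F), i₁ ≠ k → j₁ ≠ k → i₁ ≠ j₁ →
      (∀ l, l ≠ k → (w : Matrix ι ι F) l k = 0) →
      (∀ i j : J, (w : Matrix ι ι F) i j = (if i.1 = j.1 then 1 else 0) + if i.1 = i₁ ∧ j.1 = j₁ then c else 0) →
      ∃ h0, w = tv (Pi.single i₁ c) (Pi.single j₁ 1) h0 := by
    intro w hw i₁ j₁ c hi hj hij hwk hblock
    set α := (w : Matrix ι ι F) k k with hα
    have hα0 : α ≠ 0 := by
      obtain ⟨l', hl'⟩ := exists_col_ne_zero w k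
      intro h0
      by_cases hlk : l' = k
      · subst hlk; exact hl' h0
      · exact hl' (hwk l' hlk)
    set ρ : ι → F := fun m => if m = k then 0 else (w : Matrix ι ι F) k m / α with hρ
    have h0 : (Pi.single j₁ 1 : ι → F) ⬝ᵥ Pi.single i₁ c = 0 := by simp [hij.symm]
    have h0' : ρ ⬝ᵥ Pi.single k 1 = 0 := by simp [hρ]
    set E := tv (Pi.single i₁ c) (Pi.single j₁ 1) h0
    set R := tv (Pi.single k 1) ρ h0'
    have hER : ((E * R : GL ι F) : Matrix ι ι F) =
        1 + Matrix.vecMulVec (Pi.single i₁ c) (Pi.single j₁ 1) + Matrix.vecMulVec (Pi.single k 1) ρ := by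
      rw [Units.val_mul, tv_val, tv_val, add_mul, one_mul, mul_add, mul_one,
        Matrix.vecMulVec_mul_vecMulVec]
      simp [hj.symm, hj]; abel
    have hw' : w = monoGL 1 (single₁ k (Units.mk0 α hα0)) * (E * R) := by
      refine Units.ext (Matrix.ext fun l m => ?_)
      show _ = (monoMat 1 (fun i => (single₁ k (Units.mk0 α hα0) i : F)) *ᵥ
        fun x => ((E * R : GL ι F) : Matrix ι ι F) x m) l
      rw [monoMat_one_mulVec, hER]
      simp only [Matrix.add_apply, Matrix.vecMulVec_apply, Matrix.one_apply]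
      rcases eq_or_ne l k with rfl | hl
      · rcases eq_or_ne m l with rfl | hm
        · simp [hρ, single₁_self, hi.symm, ← hα]
        · simp [hρ, single₁_self, hi.symm, hm, hm.symm]; field_simp
      · rcases eq_or_ne m k with rfl | hm
        · simp [hwk l hl, hl, hj.symm, single₁_of_ne hl]
        · rw [hblock ⟨l, hl⟩ ⟨m, hm⟩, single₁_of_ne hl]
          rcases eq_or_ne l i₁ with rfl | h1 <;> rcases eq_or_ne m j₁ with rfl | h2 <;>
            simp [hl, *]
    have hα1 : α = 1 := by
      have h1 : (w : Matrix ι ι F).det = 1 := (mem_specialLinear_iff _).1 (hH.le hw)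
      rw [hw', Units.val_mul, Units.val_mul, Matrix.det_mul, Matrix.det_mul, tv_det, tv_det,
        monoGL_val, monoMat_det, ← Units.coe_prod, prod_single₁] at h1
      simpa using h1
    have hw2 : w = E * R := by
      rw [hw']
      have : monoGL 1 (single₁ k (Units.mk0 α hα0)) = (1 : GL ι F) := by
        refine Units.ext ?_
        rw [monoGL_val, Units.val_one, ← monoMat_one]
        congr 1; funext l
        rcases eq_or_ne l k with rfl | hl
        · simp [single₁_self, hα1]
        · simp [single₁_of_ne hl]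
      rw [this, one_mul]
    obtain ⟨q, hqi, hqj, hqk⟩ := exists_three_ne (by omega) i₁ j₁ k
    set t := monoGL 1 (pair₁ q k d)
    obtain ⟨hE', heE⟩ := conj_tv t (Pi.single i₁ c) (Pi.single j₁ 1) h0
    obtain ⟨hR', heR⟩ := conj_tv t (Pi.single k 1) ρ h0'
    have hEfix : t * E * t⁻¹ = E := by
      rw [heE]
      refine Units.ext ?_
      rw [tv_val, tv_val]
      congr 2 <;> funext l
      · rw [monoGL_val, monoMat_one_mulVec]
        rcases eq_or_ne l i₁ with rfl | hl
        · simp [pair₁_of_ne hqi.symm hi]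
        · simp [hl]
      · rw [monoGL_inv_val, vecMul_monoMat]
        simp only [show ((1 : Equiv.Perm ι)⁻¹) l = l from rfl, show (Equiv.symm (1 : Equiv.Perm ι)) l = l from rfl]
        rcases eq_or_ne l j₁ with rfl | hl
        · simp [pair₁_of_ne hqj.symm hj]
        · simp [hl]
    have hmem : R⁻¹ * (t * R * t⁻¹) ∈ H := by
      have : R⁻¹ * (t * R * t⁻¹) = w⁻¹ * (t * w * t⁻¹) := by
        rw [hw2, show t * (E * R) * t⁻¹ = (t * E * t⁻¹) * (t * R * t⁻¹) by group, hEfix]
        group
      rw [this]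
      exact mul_mem (inv_mem hw) (mul_mem (mul_mem (hH.pair_mem q k d) hw) (inv_mem (hH.pair_mem q k d)))
    set χ : ι → F := fun l => ρ l * (((pair₁ q k d l)⁻¹ : Fˣ) : F) * (d : F)⁻¹ - ρ l with hχ
    have hk0 : ρ k = 0 := by simp [hρ]
    have hχ0 : χ ⬝ᵥ Pi.single k 1 = 0 := by simp [hχ, hk0]
    have hχH : Has H (Pi.single k 1) χ := by
      refine ⟨hχ0, ?_⟩
      convert hmem using 1
      rw [heR]
      refine Units.ext ?_
      rw [tv_val, Units.val_mul, tv_val,
        show ((R⁻¹ : GL ι F) : Matrix ι ι F) = 1 + Matrix.vecMulVec (-Pi.single k 1) ρ from rfl]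
      have e1 : (t : Matrix ι ι F) *ᵥ Pi.single k 1 = (d : F)⁻¹ • (Pi.single k 1 : ι → F) := by
        funext l; rw [monoGL_val, monoMat_one_mulVec]
        rcases eq_or_ne l k with rfl | hl
        · simp [pair₁_right hqk]
        · simp [hl]
      have e2 : ρ ᵥ* ((t⁻¹ : GL ι F) : Matrix ι ι F) = fun l => ρ l * (((pair₁ q k d l)⁻¹ : Fˣ) : F) := by
        funext l; rw [monoGL_inv_val, vecMul_monoMat]; simp
      rw [e1, e2, add_mul, one_mul, mul_add, mul_one, Matrix.vecMulVec_mul_vecMulVec,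
        dotProduct_smul, dotProduct_single, hk0]
      refine Matrix.ext fun l m => ?_
      simp only [Matrix.add_apply, Matrix.vecMulVec_apply, Pi.neg_apply, Pi.smul_apply, hχ, zero_mul,
        smul_zero, Pi.zero_apply, smul_eq_mul, mul_zero]
      ring
    have hz := hH.single_centre (by omega) (by omega) hχH
    have hρ0 : ρ = 0 := funext fun l => by
      have h2 := congrFun hz l
      simp only [hχ, Pi.zero_apply] at h2
      rcases eq_or_ne l k with rfl | hl
      · exact hk0
      rcases eq_or_ne l q with rfl | hlq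
      · rw [pair₁_left hqk, Units.val_inv_eq_inv_val] at h2
        have h3 : ρ l * (1 - (d : F) * d) = 0 := by field_simp at h2; linear_combination h2
        exact (mul_eq_zero.1 h3).resolve_right (sub_ne_zero.2 (Ne.symm hd2))
      · rw [pair₁_of_ne hlq hl, inv_one, Units.val_one, mul_one] at h2
        have h3 : ρ l * (1 - (d : F)) = 0 := by field_simp at h2; linear_combination h2
        exact (mul_eq_zero.1 h3).resolve_right (sub_ne_zero.2 (Ne.symm hd1))
    have hR1 : R = 1 := Units.ext (by simp [R, tv_val, hρ0])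
    exact ⟨h0, by rw [hw2, hR1, mul_one]⟩
  by_cases hAm : IsMono A
  · -- then the element differs from a monomial one by a transvection with coordinate centre
    choose τ hτ using hAm
    have hτinj : Function.Injective τ := by
      intro a b hab
      by_contra hne
      have hτa : (A : Matrix J J F) (τ a) a ≠ 0 := by
        obtain ⟨l, hl⟩ := exists_col_ne_zero A a
        exact fun h => hl (if h' : l = τ a then h' ▸ h else hτ a l h')
      have hτb : (A : Matrix J J F) (τ b) b ≠ 0 := by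
        obtain ⟨l, hl⟩ := exists_col_ne_zero A b
        exact fun h => hl (if h' : l = τ b then h' ▸ h else hτ b l h')
      refine col_not_prop A hne ((A : Matrix J J F) (τ a) a / (A : Matrix J J F) (τ b) b) (funext fun l => ?_)
      by_cases hl : l = τ a
      · subst hl; rw [hab] at hτa ⊢; field_simp
      · rw [hτ a l hl, hτ b l (hab ▸ hl), mul_zero]
    let σ : Equiv.Perm J := Equiv.ofBijective τ (Finite.injective_iff_bijective.1 hτinj)
    have hd' : ∀ a, (A : Matrix J J F) (τ a) a ≠ 0 := fun a => by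
      obtain ⟨l, hl⟩ := exists_col_ne_zero A a
      exact fun h => hl (if h' : l = τ a then h' ▸ h else hτ a l h')
    have hAeq : A = monoGL σ (fun a => Units.mk0 _ (hd' a)) := Units.ext (Matrix.ext fun l a => by
      simp only [monoGL_val, monoMat, Matrix.of_apply, Units.val_mk0, σ, Equiv.ofBijective_apply]
      split_ifs with h
      · rw [h]
      · exact hτ a l h)
    obtain ⟨σ', d', hv, hvk, hvA⟩ := hK' σ⁻¹ (fun a => (Units.mk0 _ (hd' (σ⁻¹ a)))⁻¹)
    rw [← monoGL_inv σ (fun a => Units.mk0 _ (hd' a)), ← hAeq] at hvA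
    set v := monoGL σ' d'
    have hwk : ∀ l, l ≠ k → ((v * u : GL ι F) : Matrix ι ι F) l k = 0 := fun l hl => by
      rw [Units.val_mul, Matrix.mul_apply]
      refine Finset.sum_eq_zero fun m _ => ?_
      rcases eq_or_ne m k with rfl | hm
      · rw [hvk l hl, zero_mul]
      · rw [hk m hm, mul_zero]
    have hblock : ∀ i j : J, ((v * u : GL ι F) : Matrix ι ι F) i j = if i.1 = j.1 then 1 else 0 := by
      intro i j
      rw [block_mul v u hvk]
      simp only [hvA, hAv]
      rw [← Matrix.mul_apply, ← Units.val_mul, inv_mul_cancel]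
      simp [Matrix.one_apply, Subtype.coe_inj]
    obtain ⟨i₁, hi₁, -, -⟩ := exists_three_ne (by omega) k k k
    obtain ⟨j₁, hj₁, hij₁, -⟩ := exists_three_ne (by omega) k i₁ k
    obtain ⟨h0, hw1⟩ := hUni _ (mul_mem hv hu) i₁ j₁ 0 hi₁ hj₁ hij₁.symm hwk (fun i j => by simp [hblock])
    have hw2 : v * u = 1 := by rw [hw1]; exact Units.ext (by simp [tv_val])
    apply hmono
    rw [eq_inv_of_mul_eq_one_right hw2, monoGL_inv]
    exact monoGL_isMono _ _
  · have hJ : 3 ≤ Fintype.card J := by
      rw [Fintype.card_subtype_compl, Fintype.card_subtype_eq]; omega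
    obtain ⟨i, j, hij, hE⟩ := exists_elemAt_of_not_isMono hK hq hJ hA hAm
    refine hH.noElem i.1 j.1 (fun h => hij (Subtype.ext h)) fun c => ?_
    obtain ⟨h0, v, hv, hvk, hvA⟩ := hE c
    refine (fun ⟨h', e⟩ => ⟨h', e ▸ hv⟩) (hUni v hv i.1 j.1 c i.2 j.2 (fun h => hij (Subtype.ext h)) hvk fun a b => ?_)
    rw [hvA, tv_val]
    simp [Matrix.vecMulVec_apply, Matrix.one_apply, Pi.single_apply, Subtype.coe_inj, ite_and]
    split_ifs <;> simp_all

end CfsgLib.Maximal
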