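import Mathlib
import Cfsg.Agent.Lib.Maximal.MonoMax

/-!
Column analysis: a subgroup of SL above the monomial subgroup without elementary root subgroups is
monomial, over fields with at least five elements.
-/

set_option autoImplicit false
set_option linter.unusedSectionVars false
set_option linter.unusedSimpArgs false
set_option linter.style.haveILetI false

namespace CfsgLib.Maximal

open scoped Matrix

variable {ι : Type} [Fintype ι] [DecidableEq ι] {F : Type*} [Field F] [Fintype F]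
variable {H : Subgroup (GL ι F)}

lemma exists_notMem_of_card_le {α : Type*} [Fintype α] (S : Finset α) (n : ℕ) (h : S.card ≤ n)
    (hn : n < Fintype.card α) : ∃ a, a ∉ S := by
  obtain ⟨a, -, ha⟩ := Finset.exists_mem_notMem_of_card_lt_card (s := S) (t := Finset.univ)
    (by rw [Finset.card_univ]; omega)
  exact ⟨a, ha⟩

/-- An element of `H` fixing the `k`-th column line permutes all the column lines. -/
lemma MonoOver.col_perm (hH : MonoOver H) (hq : 5 ≤ Fintype.card F) (hι : 5 ≤ Fintype.card ι)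
    {g : GL ι F} (hg : g ∈ H) {m : GL ι F} (hm : m ∈ H) {k : ι} {c : F}
    (hfix : (m : Matrix ι ι F) *ᵥ (fun l => (g : Matrix ι ι F) l k) = fun l => c * (g : Matrix ι ι F) l k)
    (j : ι) : ∃ i c', (m : Matrix ι ι F) *ᵥ (fun l => (g : Matrix ι ι F) l j) =
      fun l => c' * (g : Matrix ι ι F) l i := by
  set u := g⁻¹ * m * g
  have hu : ∀ j, (u : Matrix ι ι F) *ᵥ Pi.single j 1 =
      ((g⁻¹ : GL ι F) : Matrix ι ι F) *ᵥ ((m : Matrix ι ι F) *ᵥ fun l => (g : Matrix ι ι F) l j) := by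
    intro j
    rw [show u = g⁻¹ * m * g from rfl, Units.val_mul, Units.val_mul, ← Matrix.mulVec_mulVec,
      ← Matrix.mulVec_mulVec, col_mulVec]
  have hk : ∀ l, l ≠ k → (u : Matrix ι ι F) l k = 0 := by
    intro l hl
    have h1 := hu k
    rw [hfix, ← mulVec_single', Matrix.mulVec_mulVec, ← Units.val_mul, inv_mul_cancel, Units.val_one,
      Matrix.one_mulVec, col_mulVec] at h1
    have := congrFun h1 l
    simpa [hl] using this
  obtain ⟨i, hi⟩ := hH.mono_of_fix hq hι (mul_mem (mul_mem (inv_mem hg) hm) hg) hk j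
  refine ⟨i, (u : Matrix ι ι F) i j, ?_⟩
  have h2 : (u : Matrix ι ι F) *ᵥ Pi.single j 1 = Pi.single i ((u : Matrix ι ι F) i j) := by
    rw [col_mulVec]; funext l
    rcases eq_or_ne l i with rfl | hl
    · simp
    · rw [Pi.single_eq_of_ne hl]; exact hi l hl
  have h3 := (hu j).symm.trans h2
  apply_fun ((g : Matrix ι ι F) *ᵥ ·) at h3
  rw [Matrix.mulVec_mulVec, ← Units.val_mul, mul_inv_cancel, Units.val_one, Matrix.one_mulVec,
    mulVec_single'] at h3
  exact h3

/-- Every column of a non-monomial element has two non-zero entries. -/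
lemma MonoOver.two_ne (hH : MonoOver H) (hq : 5 ≤ Fintype.card F) (hι : 5 ≤ Fintype.card ι)
    {g : GL ι F} (hg : g ∈ H) (hgm : ¬ IsMono g) (k : ι) (i : ι) :
    ∃ l, l ≠ i ∧ (g : Matrix ι ι F) l k ≠ 0 := by
  by_contra hcon
  push Not at hcon
  apply hgm
  by_cases hik : i = k
  · subst hik; exact hH.mono_of_fix hq hι hg hcon
  set d : ι → Fˣ := single₁ k (-1)
  have hm : monoGL (Equiv.swap i k) d ∈ H := hH.mono _ _ <| by
    rw [monoGL_mem_specialLinear_iff, Equiv.Perm.sign_swap hik, ← Units.coe_prod, prod_single₁]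
    simp
  have hu : IsMono (monoGL (Equiv.swap i k) d * g) := by
    refine hH.mono_of_fix hq hι (mul_mem hm hg) (k := k) fun l hl => ?_
    have : ((monoGL (Equiv.swap i k) d * g : GL ι F) : Matrix ι ι F) l k =
        (monoMat (Equiv.swap i k) (fun x => (d x : F)) *ᵥ fun x => (g : Matrix ι ι F) x k) l := rfl
    rw [this, monoMat_mulVec', Equiv.symm_swap]
    refine mul_eq_zero_of_right _ (hcon _ fun h => hl ?_)
    rw [Equiv.swap_apply_eq_iff, Equiv.swap_apply_left] at h
    exact h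
  have h2 := isMono_mono_mul (σ := (Equiv.swap i k)⁻¹) (d := fun x => (d ((Equiv.swap i k)⁻¹ x))⁻¹) hu
  rwa [← monoGL_inv, inv_mul_cancel_left] at h2

/-- A column with two zeros meets other columns only inside its support. -/
lemma MonoOver.support_sub (hH : MonoOver H) (hq : 5 ≤ Fintype.card F) (hι : 5 ≤ Fintype.card ι)
    {g : GL ι F} (hg : g ∈ H) {k j l l' s : ι} (hll : l ≠ l') (hl : (g : Matrix ι ι F) l k = 0)
    (hl' : (g : Matrix ι ι F) l' k = 0) (hs : (g : Matrix ι ι F) s k ≠ 0)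
    (hsj : (g : Matrix ι ι F) s j ≠ 0) : (g : Matrix ι ι F) l j = 0 := by
  classical
  by_contra hlj
  set y : ι → F := fun x => (g : Matrix ι ι F) x j
  have hsl : s ≠ l := fun h => hs (h ▸ hl)
  have hsl' : s ≠ l' := fun h => hs (h ▸ hl')
  let z : Fˣ → (ι → F) := fun d => (monoGL 1 (pair₁ l l' d) : Matrix ι ι F) *ᵥ y
  have hz : ∀ d, ∃ i c, z d = fun x => c * (g : Matrix ι ι F) x i := fun d =>
    hH.col_perm hq hι hg (hH.pair_mem l l' d) (k := k) (c := 1) (funext fun x => by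
      rw [monoGL_val, monoMat_one_mulVec, one_mul]
      rcases eq_or_ne x l with rfl | hx
      · simp [hl]
      · rcases eq_or_ne x l' with rfl | hx'
        · simp [hl']
        · simp [pair₁_of_ne hx hx']) j
  choose i c hc using hz
  have hzs : ∀ d, z d s = y s := fun d => by
    show (monoMat 1 _ *ᵥ y) s = _
    rw [monoMat_one_mulVec, pair₁_of_ne hsl hsl']; simp
  have hzl : ∀ d, z d l = (d : F) * y l := fun d => by
    show (monoMat 1 _ *ᵥ y) l = _
    rw [monoMat_one_mulVec, pair₁_left hll]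
  have hc0 : ∀ d, c d ≠ 0 := fun d h => hsj (by
    have := hzs d; rw [hc d, h] at this; simpa [y] using this.symm)
  have hinj : Function.Injective i := by
    intro d e hde
    have hs1 := hzs d; rw [hc d] at hs1; have hs2 := hzs e; rw [hc e, ← hde] at hs2
    have hgs : (g : Matrix ι ι F) s (i d) ≠ 0 := fun h => hsj (by
      simp only [h, mul_zero] at hs1; simpa [y] using hs1.symm)
    have hce : c d = c e := mul_right_cancel₀ hgs (hs1.trans hs2.symm)
    have h1 := hzl d; rw [hc d] at h1; have h2 := hzl e; rw [hc e, ← hde, ← hce] at h2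
    exact Units.ext (mul_right_cancel₀ (show y l ≠ 0 from hlj) (h1.symm.trans h2))
  set W : Submodule F (ι → F) := Submodule.span F
    (({fun x => if x = l ∨ x = l' then 0 else y x, Pi.single l 1, Pi.single l' 1} : Finset (ι → F)) :
      Set (ι → F)) with hW
  have hmemz : ∀ d, z d ∈ W := fun d => by
    have : z d = (fun x => if x = l ∨ x = l' then 0 else y x) + ((d : F) * y l) • (Pi.single l 1 : ι → F) +
        ((d : F)⁻¹ * y l') • (Pi.single l' 1 : ι → F) := funext fun x => by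
      show (monoMat 1 _ *ᵥ y) x = _
      rw [monoMat_one_mulVec]
      rcases eq_or_ne x l with rfl | hx
      · simp [pair₁_left hll, hll]
      · rcases eq_or_ne x l' with rfl | hx'
        · simp [pair₁_right hll, hll.symm]
        · simp [pair₁_of_ne hx hx', hx, hx']
    rw [this]
    refine add_mem (add_mem ?_ (Submodule.smul_mem _ _ ?_)) (Submodule.smul_mem _ _ ?_) <;>
      exact Submodule.subset_span (by simp)
  have hcol : ∀ d, (g : Matrix ι ι F) *ᵥ Pi.single (i d) 1 ∈ W := fun d => by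
    have h1 : (g : Matrix ι ι F) *ᵥ Pi.single (i d) 1 = (c d)⁻¹ • z d := by
      rw [col_mulVec, hc d]; funext x
      simp [hc0 d]
    rw [h1]; exact Submodule.smul_mem _ _ (hmemz d)
  have hli : LinearIndependent F (fun d => (⟨_, hcol d⟩ : W)) := by
    refine LinearIndependent.of_comp W.subtype ?_
    have := ((Pi.basisFun F ι).linearIndependent.map' (Matrix.mulVecLin (g : Matrix ι ι F))
      (LinearMap.ker_eq_bot.2 (mulVec_inj g))).comp i hinj
    convert this using 1 <;> first | rfl | (funext d; simp [Function.comp_def])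
  have h3 := hli.fintype_card_le_finrank
  have hW3 : Module.finrank F W ≤ 3 :=
    le_trans (finrank_span_finset_le_card _) Finset.card_le_three
  rw [Fintype.card_units] at h3
  omega

/-- Parameters avoiding one value. -/
lemma exists_unit_ne (hq : 5 ≤ Fintype.card F) (a b : F) :
    ∃ d : Fˣ, (d : F) ≠ 1 ∧ (d : F) ≠ a ∧ (d : F) ≠ b := by
  classical
  obtain ⟨x, hx⟩ := exists_notMem_of_card_le ({0, 1, a, b} : Finset F) 4 Finset.card_le_four (by omega)
  simp at hx
  exact ⟨Units.mk0 x hx.1, hx.2.1, hx.2.2.1, hx.2.2.2⟩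

lemma conj_pair_apply (g : GL ι F) {k₁ k₂ : ι} (hk : k₁ ≠ k₂) (d : Fˣ) (x z : ι) :
    ((g * monoGL 1 (pair₁ k₁ k₂ d) * g⁻¹ : GL ι F) : Matrix ι ι F) x z =
      (if x = z then 1 else 0) +
        ((d : F) - 1) * (g : Matrix ι ι F) x k₁ * ((g⁻¹ : GL ι F) : Matrix ι ι F) k₁ z +
        ((d : F)⁻¹ - 1) * (g : Matrix ι ι F) x k₂ * ((g⁻¹ : GL ι F) : Matrix ι ι F) k₂ z := by
  have h1 : ((monoGL 1 (pair₁ k₁ k₂ d) : GL ι F) : Matrix ι ι F) =
      1 + ((d : F) - 1) • Matrix.vecMulVec (Pi.single k₁ 1) (Pi.single k₁ 1) +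
        ((d : F)⁻¹ - 1) • Matrix.vecMulVec (Pi.single k₂ 1) (Pi.single k₂ 1) := by
    refine Matrix.ext fun a b => ?_
    rcases eq_or_ne a b with rfl | hab
    · rcases eq_or_ne a k₁ with rfl | h₁
      · simp [monoGL_val, monoMat, pair₁_left hk, Matrix.vecMulVec_apply, hk]
      · rcases eq_or_ne a k₂ with rfl | h₂
        · simp [monoGL_val, monoMat, pair₁_right hk, Matrix.vecMulVec_apply, h₁]
        · simp [monoGL_val, monoMat, pair₁_of_ne h₁ h₂, Matrix.vecMulVec_apply, h₁, h₂]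
    · rcases eq_or_ne a k₁ with rfl | h₁ <;> rcases eq_or_ne a k₂ with rfl | h₂ <;>
        simp_all [monoGL_val, monoMat, Matrix.vecMulVec_apply, hab.symm]
  rw [Units.val_mul, Units.val_mul, h1]
  simp only [mul_add, add_mul, mul_one, ← Units.val_mul, mul_inv_cancel, Units.val_one, mul_smul_comm,
    smul_mul_assoc, Matrix.mul_vecMulVec, Matrix.vecMulVec_mul, Matrix.mulVec_single_one,
    Matrix.single_one_vecMul, Matrix.add_apply, Matrix.smul_apply, Matrix.vecMulVec_apply,
    Matrix.one_apply, smul_eq_mul]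
  simp only [Matrix.col_apply, Matrix.row_apply, mul_assoc]

/-- In a non-monomial element no column has two zeros. -/
lemma MonoOver.not_two_zeros (hH : MonoOver H) (hq : 5 ≤ Fintype.card F) (hι : 6 ≤ Fintype.card ι)
    {g : GL ι F} (hg : g ∈ H) (hgm : ¬ IsMono g) (k l l' : ι) (hll : l ≠ l')
    (hl : (g : Matrix ι ι F) l k = 0) : (g : Matrix ι ι F) l' k ≠ 0 := by
  classical
  intro hl'
  set G : Matrix ι ι F := (g : Matrix ι ι F)
  set Gi : Matrix ι ι F := ((g⁻¹ : GL ι F) : Matrix ι ι F)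
  have hall : ∀ j, ∃ a b, a ≠ b ∧ G a j = 0 ∧ G b j = 0 := by
    intro j
    by_cases hmeet : ∃ s, G s k ≠ 0 ∧ G s j ≠ 0
    · obtain ⟨s, hsk, hsj⟩ := hmeet
      exact ⟨l, l', hll, hH.support_sub hq (by omega) hg hll hl hl' hsk hsj,
        hH.support_sub hq (by omega) hg hll.symm hl' hl hsk hsj⟩
    · push Not at hmeet
      obtain ⟨a, -, ha⟩ := hH.two_ne hq (by omega) hg hgm k k
      obtain ⟨b, hba, hb⟩ := hH.two_ne hq (by omega) hg hgm k a
      exact ⟨a, b, hba.symm, hmeet a ha, hmeet b hb⟩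
  -- columns have equal or disjoint supports
  have heq : ∀ {i j s}, G s i ≠ 0 → G s j ≠ 0 → ∀ x, G x i ≠ 0 → G x j ≠ 0 := by
    intro i j s hsi hsj x hxi hxj
    obtain ⟨a, b, hab, ha, hb⟩ := hall j
    rcases eq_or_ne x a with rfl | hxa
    · exact hxi (hH.support_sub hq (by omega) hg hab ha hb hsj hsi)
    · exact hxi (hH.support_sub hq (by omega) hg hxa hxj ha hsj hsi)
  have hphi : ∀ i z, Gi i z ≠ 0 → G z i ≠ 0 := by
    intro i z hne hz
    let v : ι → F := fun j => if ∃ s, G s i ≠ 0 ∧ G s j ≠ 0 then Gi j z else 0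
    have hv : G *ᵥ v = 0 := funext fun r => by
      rw [Pi.zero_apply, Matrix.mulVec, dotProduct]
      by_cases hr : G r i = 0
      · refine Finset.sum_eq_zero fun j _ => ?_
        simp only [v]
        split_ifs with hj
        · obtain ⟨s, hsi, hsj⟩ := hj
          rw [by_contra fun h => heq hsj hsi r h hr, zero_mul]
        · rw [mul_zero]
      · have h1 := congrFun (congrFun (Units.mul_inv g) r) z
        rw [Matrix.mul_apply, Matrix.one_apply_ne (fun h : r = z => hr (h ▸ hz))] at h1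
        refine Eq.trans (Finset.sum_congr rfl fun j _ => ?_) h1
        simp only [v]
        split_ifs with hj
        · rfl
        · push Not at hj
          show G r j * 0 = G r j * Gi j z
          rw [hj r hr, zero_mul, zero_mul]
    have hv0 : v = 0 := mulVec_inj g (by
      show (g : Matrix ι ι F) *ᵥ v = (g : Matrix ι ι F) *ᵥ 0
      rw [Matrix.mulVec_zero]; exact hv)
    obtain ⟨s, hs⟩ := exists_col_ne_zero g i
    have := congrFun hv0 i
    simp only [v, if_pos (⟨s, hs, hs⟩ : ∃ s, G s i ≠ 0 ∧ G s i ≠ 0)] at this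
    exact hne this
  have hzex : ∀ i, ∃ z, Gi i z ≠ 0 := exists_row_ne_zero g⁻¹
  let S : ι → Finset ι := fun j => Finset.univ.filter fun s => G s j ≠ 0
  by_cases hbig : ∃ k₁, 3 ≤ (S k₁).card
  · obtain ⟨k₁, hk₁⟩ := hbig
    obtain ⟨a₀, b₀, -, ha₀, -⟩ := hall k₁
    -- a second column with the same support
    obtain ⟨k₂, hk12, hmeet⟩ : ∃ k₂, k₂ ≠ k₁ ∧ ∃ s, G s k₁ ≠ 0 ∧ G s k₂ ≠ 0 := by
      by_contra hcon
      push Not at hcon
      obtain ⟨s, -, hs⟩ := hH.two_ne hq (by omega) hg hgm k₁ k₁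
      obtain ⟨s', hss, hs'⟩ := hH.two_ne hq (by omega) hg hgm k₁ s
      have e : ∀ r, G r k₁ ≠ 0 → G r k₁ * Gi k₁ s = if r = s then 1 else 0 := by
        intro r hr
        have h1 := congrFun (congrFun (Units.mul_inv g) r) s
        rw [Matrix.mul_apply, Finset.sum_eq_single k₁ (fun b _ hb => by
          show G r b * Gi b s = 0
          rw [hcon b hb r hr, zero_mul]) (by simp), Matrix.one_apply] at h1
        exact h1
      have e1 := e s hs
      have e2 := e s' hs'
      rw [if_pos rfl] at e1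
      rw [if_neg hss] at e2
      rcases mul_eq_zero.1 e2 with h | h
      · exact hs' h
      · rw [h, mul_zero] at e1; exact zero_ne_one e1
    obtain ⟨s, hs1, hs2⟩ := hmeet
    have hzero : G a₀ k₂ = 0 := by_contra fun h => heq hs2 hs1 a₀ h ha₀
    obtain ⟨z, hz⟩ := hzex k₁
    have hGz : G z k₁ ≠ 0 := hphi _ _ hz
    -- the conjugated torus element is monomial
    have hmono : ∀ d : Fˣ, IsMono (g * monoGL 1 (pair₁ k₁ k₂ d) * g⁻¹) := fun d =>
      hH.mono_of_fix hq (by omega) (mul_mem (mul_mem hg (hH.pair_mem k₁ k₂ d)) (inv_mem hg)) (k := a₀)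
        fun x hx => by
          rw [conj_pair_apply g hk12.symm, if_neg hx,
            show ((g⁻¹ : GL ι F) : Matrix ι ι F) k₁ a₀ = 0 from by_contra fun h => hphi _ _ h ha₀,
            show ((g⁻¹ : GL ι F) : Matrix ι ι F) k₂ a₀ = 0 from by_contra fun h => hphi _ _ h hzero]
          ring
    -- for each parameter at most one entry of column `z` survives
    have key : ∀ d d' : Fˣ, (d : F) ≠ 1 → (d' : F) ≠ 1 → (d' : F) ≠ d → ∀ x, x ≠ z → G x k₁ ≠ 0 →
        ((g * monoGL 1 (pair₁ k₁ k₂ d) * g⁻¹ : GL ι F) : Matrix ι ι F) x z = 0 →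
        ((g * monoGL 1 (pair₁ k₁ k₂ d') * g⁻¹ : GL ι F) : Matrix ι ι F) x z = 0 → False := by
      intro d d' hd hd' hdd x hxz hGx e1 e2
      rw [conj_pair_apply g hk12.symm, if_neg hxz, zero_add] at e1 e2
      have h1 : G x k₁ * Gi k₁ z * (((d : F) - 1) * ((d' : F)⁻¹ - 1) - ((d' : F) - 1) * ((d : F)⁻¹ - 1)) = 0 := by
        linear_combination ((d' : F)⁻¹ - 1) * e1 - ((d : F)⁻¹ - 1) * e2
      have h2 : ((d : F) - 1) * ((d' : F)⁻¹ - 1) - ((d' : F) - 1) * ((d : F)⁻¹ - 1) =
          ((d : F) - 1) * ((d' : F) - 1) * ((d' : F) - d) / ((d : F) * d') := by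
        field_simp; ring
      rw [h2] at h1
      rcases mul_eq_zero.1 h1 with h | h
      · exact mul_ne_zero hGx hz h
      · exact div_ne_zero (mul_ne_zero (mul_ne_zero (sub_ne_zero.2 hd) (sub_ne_zero.2 hd')) (sub_ne_zero.2 hdd))
          (mul_ne_zero d.ne_zero d'.ne_zero) h
    obtain ⟨x, hxS, hx⟩ : ∃ x ∈ S k₁, x ∉ ({z} : Finset ι) :=
      Finset.exists_mem_notMem_of_card_lt_card (by rw [Finset.card_singleton]; omega)
    obtain ⟨y, hyS, hy⟩ : ∃ y ∈ S k₁, y ∉ ({z, x} : Finset ι) :=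
      Finset.exists_mem_notMem_of_card_lt_card (lt_of_le_of_lt Finset.card_le_two (by omega))
    simp at hx hy
    have hGx : G x k₁ ≠ 0 := (Finset.mem_filter.1 hxS).2
    have hGy : G y k₁ ≠ 0 := (Finset.mem_filter.1 hyS).2
    have vanish : ∀ d : Fˣ, ((g * monoGL 1 (pair₁ k₁ k₂ d) * g⁻¹ : GL ι F) : Matrix ι ι F) x z = 0 ∨
        ((g * monoGL 1 (pair₁ k₁ k₂ d) * g⁻¹ : GL ι F) : Matrix ι ι F) y z = 0 := fun d => by
      obtain ⟨i, hi⟩ := hmono d z
      by_cases hxi : x = i
      · exact Or.inr (hi y (hxi ▸ hy.2))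
      · exact Or.inl (hi x hxi)
    obtain ⟨d, hd, -, -⟩ := exists_unit_ne hq 1 1
    obtain ⟨d', hd', hdd, -⟩ := exists_unit_ne hq (d : F) 1
    obtain ⟨d'', hd'', hdd', hdd''⟩ := exists_unit_ne hq (d : F) (d' : F)
    rcases vanish d with h1 | h1 <;> rcases vanish d' with h2 | h2 <;> rcases vanish d'' with h3 | h3 <;>
      first
      | exact key d d' hd hd' hdd x hx hGx h1 h2
      | exact key d d'' hd hd'' hdd' x hx hGx h1 h3
      | exact key d' d'' hd' hd'' hdd'' x hx hGx h2 h3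
      | exact key d d' hd hd' hdd y hy.1 hGy h1 h2
      | exact key d d'' hd hd'' hdd' y hy.1 hGy h1 h3
      | exact key d' d'' hd' hd'' hdd'' y hy.1 hGy h2 h3
  · push Not at hbig
    set k₁ := k
    obtain ⟨w, hw⟩ := exists_notMem_of_card_le (S k₁) 2 (by have := hbig k₁; omega) (by omega)
    obtain ⟨k₂, hk₂⟩ := exists_row_ne_zero g w
    have hwk : G w k₁ = 0 := by simpa [S] using hw
    have hk12 : k₁ ≠ k₂ := fun h => hk₂ (h ▸ hwk)
    obtain ⟨z₀, hz₀⟩ := exists_notMem_of_card_le (S k₁ ∪ S k₂) 4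
      (le_trans (Finset.card_union_le _ _) (by have := hbig k₁; have := hbig k₂; omega)) (by omega)
    simp [S] at hz₀
    obtain ⟨z, hz⟩ := hzex k₁
    have hGz : G z k₁ ≠ 0 := hphi _ _ hz
    have hb : ∀ x, G x k₁ ≠ 0 → G x k₂ = 0 := fun x hx => by_contra fun h => heq h hx w hk₂ hwk
    obtain ⟨x, hxz, hx⟩ := hH.two_ne hq (by omega) hg hgm k₁ z
    obtain ⟨d, hd, hdne, -⟩ := exists_unit_ne hq (1 - (G z k₁ * Gi k₁ z)⁻¹) 1
    obtain ⟨i, hi⟩ := hH.mono_of_fix hq (by omega)
      (mul_mem (mul_mem hg (hH.pair_mem k₁ k₂ d)) (inv_mem hg)) (k := z₀)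
      (fun y hy => by
        rw [conj_pair_apply g hk12, if_neg hy,
          show ((g⁻¹ : GL ι F) : Matrix ι ι F) k₁ z₀ = 0 from by_contra fun h => hphi _ _ h hz₀.1,
          show ((g⁻¹ : GL ι F) : Matrix ι ι F) k₂ z₀ = 0 from by_contra fun h => hphi _ _ h hz₀.2]
        ring) z
    have cx : ((g * monoGL 1 (pair₁ k₁ k₂ d) * g⁻¹ : GL ι F) : Matrix ι ι F) x z =
        ((d : F) - 1) * G x k₁ * Gi k₁ z := by
      rw [conj_pair_apply g hk12, if_neg hxz, show (g : Matrix ι ι F) x k₂ = 0 from hb x hx]; ring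
    have hix : x = i := by_contra fun h => mul_ne_zero (mul_ne_zero (sub_ne_zero.2 hd) hx) hz
      (cx ▸ hi x h)
    have cz := hi z (hix ▸ hxz.symm)
    rw [conj_pair_apply g hk12, if_pos rfl, show (g : Matrix ι ι F) z k₂ = 0 from hb z hGz] at cz
    apply hdne
    have : (G z k₁ * Gi k₁ z) ≠ 0 := mul_ne_zero hGz hz
    field_simp
    linear_combination cz

open Classical in
/-- Monomial lifts of even permutations of a support fix every column in a small invariant set. -/
lemma MonoOver.alt_fix (hH : MonoOver H) (hq : 5 ≤ Fintype.card F) (hι : 5 ≤ Fintype.card ι)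
    {g : GL ι F} (hg : g ∈ H) (k : ι) (Y : Finset ι) (hk : k ∉ Y)
    (hY : ∀ j, (∀ x, (g : Matrix ι ι F) x k = 0 → (g : Matrix ι ι F) x j = 0) → j ≠ k → j ∈ Y)
    (hY' : ∀ j ∈ Y, ∀ x, (g : Matrix ι ι F) x k = 0 → (g : Matrix ι ι F) x j = 0)
    (hcard : Y.card < Nat.card {x // (g : Matrix ι ι F) x k ≠ 0})
    (h5 : 5 ≤ Nat.card {x // (g : Matrix ι ι F) x k ≠ 0})
    {j : ι} (hj : j ∈ Y) (σ : Equiv.Perm {x // (g : Matrix ι ι F) x k ≠ 0})
    (hσ : σ ∈ alternatingGroup {x // (g : Matrix ι ι F) x k ≠ 0}) :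
    ∃ c : F, ∀ x : ι, (g : Matrix ι ι F) x k *
        (if h : (g : Matrix ι ι F) x k ≠ 0 then
          (g : Matrix ι ι F) (σ.symm ⟨x, h⟩) j / (g : Matrix ι ι F) (σ.symm ⟨x, h⟩) k else 0) =
      c * (g : Matrix ι ι F) x j := by
  classical
  revert σ
  set G : Matrix ι ι F := (g : Matrix ι ι F)
  intro σ hσ
  let P := {x // G x k ≠ 0}
  let dd : Equiv.Perm P → ι → Fˣ := fun s x =>
    if h : G x k ≠ 0 then Units.mk0 (G (s ⟨x, h⟩) k / G x k) (div_ne_zero (s ⟨x, h⟩).2 h) else 1
  have hprod : ∀ s : Equiv.Perm P, ∏ x, (dd s x : F) = 1 := by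
    intro s
    rw [← Finset.prod_subset (Finset.subset_univ (Finset.univ.filter fun x => G x k ≠ 0))
        (fun x _ hx => by simp only [dd]; rw [dif_neg (by simpa using hx)]; simp),
      Finset.prod_subtype (Finset.univ.filter fun x => G x k ≠ 0) (p := fun x => G x k ≠ 0) (by simp)]
    have : ∀ x : P, (dd s x.1 : F) = G (s x) k / G x k := fun x => by simp [dd, x.2]
    simp only [this, Finset.prod_div_distrib]
    rw [Equiv.prod_comp s (fun x : P => G x k), div_self]
    exact Finset.prod_ne_zero_iff.2 fun x _ => x.2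
  let m : Equiv.Perm P → GL ι F := fun s => monoGL (Equiv.Perm.ofSubtype s) (dd s)
  have hmem : ∀ s ∈ alternatingGroup P, m s ∈ H := fun s hs => hH.mono _ _ <| by
    rw [monoGL_mem_specialLinear_iff, Equiv.Perm.sign_ofSubtype, hprod,
      Equiv.Perm.mem_alternatingGroup.1 hs]
    simp
  have hact : ∀ (s : Equiv.Perm P) (v : ι → F) (x : ι) (h : G x k ≠ 0),
      ((m s : Matrix ι ι F) *ᵥ v) x = G x k * (v (s.symm ⟨x, h⟩) / G (s.symm ⟨x, h⟩) k) := by
    intro s v x h
    have e1 : (Equiv.Perm.ofSubtype s).symm x = (s.symm ⟨x, h⟩ : P) := by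
      rw [Equiv.symm_apply_eq, Equiv.Perm.ofSubtype_apply_coe, Equiv.apply_symm_apply]
    simp only [m, monoGL_val]
    rw [monoMat_mulVec', e1]
    simp [dd, (s.symm ⟨x, h⟩).2]
    field_simp
  have hact0 : ∀ (s : Equiv.Perm P) (v : ι → F) (x : ι), G x k = 0 → ((m s : Matrix ι ι F) *ᵥ v) x = v x := by
    intro s v x h
    have e1 : (Equiv.Perm.ofSubtype s).symm x = x := by
      rw [Equiv.symm_apply_eq, Equiv.Perm.ofSubtype_apply_of_not_mem s (show ¬ G x k ≠ 0 by simp [h])]
    simp only [m, monoGL_val]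
    rw [monoMat_mulVec', e1]
    simp [dd, h]
  have hfixk : ∀ s, (m s : Matrix ι ι F) *ᵥ (fun x => G x k) = fun x => (1 : F) * G x k := by
    intro s; funext x
    rw [one_mul]
    by_cases h : G x k = 0
    · rw [hact0 s _ x h]
    · rw [hact s _ x h, div_self (s.symm ⟨x, h⟩).2, mul_one]
  have hex : ∀ s : alternatingGroup P, ∀ y : Y, ∃ i : Y, ∃ c : F, c ≠ 0 ∧
      (m s.1 : Matrix ι ι F) *ᵥ (fun x => G x y) = fun x => c * G x i := by
    intro s y
    obtain ⟨i, c, hc⟩ := hH.col_perm hq hι hg (hmem _ s.2) (hfixk _) y.1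
    have hc0 : c ≠ 0 := by
      intro h0
      have h1 : (fun x => G x y) = 0 := mulVec_inj (m s.1) (by
        show (m s.1 : Matrix ι ι F) *ᵥ _ = (m s.1 : Matrix ι ι F) *ᵥ 0
        rw [hc, h0, Matrix.mulVec_zero]; funext x; simp)
      obtain ⟨x, hx⟩ := exists_col_ne_zero g y.1
      exact hx (congrFun h1 x)
    have hi : ∀ x, G x k = 0 → G x i = 0 := fun x hx => by
      have h1 := congrFun hc x
      rw [hact0 _ _ x hx] at h1
      exact (mul_eq_zero.1 (h1.symm.trans (hY' y.1 y.2 x hx))).resolve_left hc0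
    refine ⟨⟨i, hY i hi fun hik => ?_⟩, c, hc0, hc⟩
    have h1 : (fun x => G x y) = fun x => c * G x k := mulVec_inj (m s.1) (by
      show (m s.1 : Matrix ι ι F) *ᵥ (fun x => G x y) = (m s.1 : Matrix ι ι F) *ᵥ fun x => c * G x k
      rw [hc, hik, show (fun x => c * G x k) = c • (fun x => G x k) from rfl, Matrix.mulVec_smul, hfixk]
      funext x; simp)
    exact col_not_prop g (fun h : y.1 = k => hk (h ▸ y.2)) c h1
  choose f cf hcf0 hcf using hex
  have huniq : ∀ (v : ι → F) (i i' : Y) (c c' : F), c ≠ 0 → v = (fun x => c * G x i) →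
      v = (fun x => c' * G x i') → i = i' := by
    intro v i i' c c' hc0 h1 h2
    by_contra hne
    refine col_not_prop g (fun h : i.1 = i'.1 => hne (Subtype.ext h)) (c⁻¹ * c') (funext fun x => ?_)
    have h3 := congrFun (h1.symm.trans h2) x
    show G x i = _
    rw [mul_assoc, ← h3, inv_mul_cancel_left₀ hc0]
  have finj : ∀ s, Function.Injective (f s) := by
    intro s y y' h
    by_contra hne
    refine col_not_prop g (fun h' : y.1 = y'.1 => hne (Subtype.ext h')) (cf s y / cf s y') ?_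
    refine mulVec_inj (m s.1) ?_
    show (m s.1 : Matrix ι ι F) *ᵥ (fun x => G x y) =
      (m s.1 : Matrix ι ι F) *ᵥ fun x => cf s y / cf s y' * G x y'
    rw [show (fun x => cf s y / cf s y' * G x y') = (cf s y / cf s y') • (fun x => G x y') from rfl,
      Matrix.mulVec_smul, hcf, hcf, h]
    funext x
    simp [← mul_assoc, div_mul_cancel₀ _ (hcf0 s y')]
  have hmul : ∀ s t : alternatingGroup P, m (s * t).1 = m s.1 * m t.1 := by
    intro s t
    simp only [m, monoGL_mul, Subgroup.coe_mul, map_mul]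
    congr 1
    funext x
    apply Units.ext
    by_cases h : G x k = 0
    · simp [dd, h, Equiv.Perm.ofSubtype_apply_of_not_mem t.1 (show ¬ G x k ≠ 0 by simp [h])]
    · simp [dd, h, Equiv.Perm.ofSubtype_apply_of_mem t.1 (show G x k ≠ 0 from h), (t.1 ⟨x, h⟩).2]
      field_simp
      rw [mul_div_cancel_right₀ _ (t.1 ⟨x, h⟩).2]
  let toPerm : alternatingGroup P → Equiv.Perm Y := fun s =>
    Equiv.ofBijective (f s) (Finite.injective_iff_bijective.1 (finj s))
  let φ : alternatingGroup P →* Equiv.Perm Y := MonoidHom.mk' toPerm (fun s t => Equiv.ext fun y => by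
    show f (s * t) y = f s (f t y)
    refine huniq _ _ _ (cf (s * t) y) (cf t y * cf s (f t y)) (hcf0 _ _) (hcf (s * t) y) ?_
    rw [hmul, Units.val_mul, ← Matrix.mulVec_mulVec, hcf,
      show (fun x => cf t y * G x (f t y)) = cf t y • (fun x => G x (f t y)) from rfl, Matrix.mulVec_smul, hcf]
    funext x; simp; ring)
  have h5' : 5 ≤ Nat.card P := h5
  have hcard' : Y.card < Nat.card P := hcard
  haveI : IsSimpleGroup (alternatingGroup P) := alternatingGroup.isSimpleGroup h5'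
  have hker : φ.ker = ⊤ := by
    refine (φ.normal_ker.eq_bot_or_eq_top).resolve_left fun hb => ?_
    have hle := Nat.card_le_card_of_injective φ ((MonoidHom.ker_eq_bot_iff _).1 hb)
    rw [Nat.card_perm, Nat.card_eq_fintype_card (α := Y), Fintype.card_coe] at hle
    haveI : Nontrivial P := Finite.one_lt_card_iff_nontrivial.1 (by omega)
    have h2 := two_mul_nat_card_alternatingGroup (α := P)
    rw [Nat.card_perm] at h2
    obtain ⟨n, hn⟩ : ∃ n, Nat.card P = n + 1 := ⟨Nat.card P - 1, by omega⟩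
    have h3 : Y.card.factorial ≤ n.factorial := Nat.factorial_le (by omega)
    rw [hn, Nat.factorial_succ] at h2
    have := Nat.factorial_pos n
    nlinarith
  have hfy : f ⟨σ, hσ⟩ ⟨j, hj⟩ = ⟨j, hj⟩ := by
    have h1 : (⟨σ, hσ⟩ : alternatingGroup P) ∈ φ.ker := by rw [hker]; trivial
    exact Equiv.ext_iff.1 (MonoidHom.mem_ker.1 h1) ⟨j, hj⟩
  refine ⟨cf ⟨σ, hσ⟩ ⟨j, hj⟩, fun x => ?_⟩
  have h1 := congrFun (hcf ⟨σ, hσ⟩ ⟨j, hj⟩) x
  rw [hfy] at h1
  rw [← h1]
  by_cases h : G x k = 0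
  · rw [hact0 _ _ x h, dif_neg (by simp [h]), mul_zero, hY' j hj x h]
  · rw [hact _ _ x h, dif_pos h]

end CfsgLib.Maximal
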