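import Mathlib
import Cfsg.Agent.Lib.Maximal.MonoCols

/-!
The monomial subgroup of SL is maximal over fields with at least five elements: final step.
-/

set_option autoImplicit false
set_option linter.unusedSectionVars false
set_option linter.unusedSimpArgs false

namespace CfsgLib.Maximal

open scoped Matrix

variable {ι : Type} [Fintype ι] [DecidableEq ι] {F : Type*} [Field F]

/-- A monomial element of GL is one of the standard monomial elements. -/
lemma IsMono.exists_eq {g : GL ι F} (h : IsMono g) : ∃ σ d, g = monoGL σ d := by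
  classical
  choose τ hτ using h
  have hd : ∀ a, (g : Matrix ι ι F) (τ a) a ≠ 0 := fun a => by
    obtain ⟨l, hl⟩ := exists_col_ne_zero g a
    exact fun h => hl (if h' : l = τ a then h' ▸ h else hτ a l h')
  have hinj : Function.Injective τ := by
    intro a b hab
    by_contra hne
    refine col_not_prop g hne ((g : Matrix ι ι F) (τ a) a / (g : Matrix ι ι F) (τ b) b) (funext fun l => ?_)
    by_cases hl : l = τ a
    · subst hl; have := hd b; rw [← hab] at this ⊢; field_simp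
    · rw [hτ a l hl, hτ b l (hab ▸ hl), mul_zero]
  refine ⟨Equiv.ofBijective τ (Finite.injective_iff_bijective.1 hinj), fun a => Units.mk0 _ (hd a),
    Units.ext (Matrix.ext fun l a => ?_)⟩
  simp only [monoGL_val, monoMat, Matrix.of_apply, Units.val_mk0, Equiv.ofBijective_apply]
  split_ifs with h
  · rw [h]
  · exact hτ a l h

variable [Fintype F] {H : Subgroup (GL ι F)}

open Classical in
/-- No column has its zeros among those of another column. -/
lemma MonoOver.exists_zero (hH : MonoOver H) (hq : 5 ≤ Fintype.card F) (hι : 6 ≤ Fintype.card ι)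
    {g : GL ι F} (hg : g ∈ H) (hgm : ¬ IsMono g) {k j : ι} (hjk : j ≠ k) :
    ∃ x, (g : Matrix ι ι F) x k = 0 ∧ (g : Matrix ι ι F) x j ≠ 0 := by
  by_contra hcon
  push Not at hcon
  set Y : Finset ι := Finset.univ.filter
    (fun i => i ≠ k ∧ ∀ x, (g : Matrix ι ι F) x k = 0 → (g : Matrix ι ι F) x i = 0) with hYdef
  have hjY : j ∈ Y := by simp only [hYdef, Finset.mem_filter]; exact ⟨Finset.mem_univ _, hjk, hcon⟩
  -- at most one zero in each column
  have h1 : ∀ i a b, (g : Matrix ι ι F) a i = 0 → (g : Matrix ι ι F) b i = 0 → a = b := fun i a b ha hb =>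
    by_contra fun h => hH.not_two_zeros hq hι hg hgm i a b h ha hb
  have hS : (Finset.univ.filter fun x => (g : Matrix ι ι F) x k ≠ 0).card =
      Nat.card {x // (g : Matrix ι ι F) x k ≠ 0} := by
    rw [Nat.card_eq_fintype_card, Fintype.card_subtype]
  have hYle : Y ⊆ Finset.univ.erase k := fun i hi => by
    simp only [hYdef, Finset.mem_filter] at hi
    simp [hi.2.1]
  have hc1 : Y.card + 1 ≤ Fintype.card ι := by
    have := Finset.card_le_card hYle
    rw [Finset.card_erase_of_mem (Finset.mem_univ k), Finset.card_univ] at this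
    omega
  have hcard : Y.card < Nat.card {x // (g : Matrix ι ι F) x k ≠ 0} ∧
      5 ≤ Nat.card {x // (g : Matrix ι ι F) x k ≠ 0} := by
    rw [← hS]
    by_cases ho : ∃ o, (g : Matrix ι ι F) o k = 0
    · obtain ⟨o, ho⟩ := ho
      have e : (Finset.univ.filter fun x => (g : Matrix ι ι F) x k ≠ 0) = Finset.univ.erase o := by
        ext x; simp only [Finset.mem_filter, Finset.mem_univ, true_and, Finset.mem_erase, and_true]
        exact ⟨fun h h' => h (h' ▸ ho), fun h h' => h (h1 k x o h' ho)⟩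
      rw [e, Finset.card_erase_of_mem (Finset.mem_univ o), Finset.card_univ]
      obtain ⟨j₁, hj₁⟩ := exists_row_ne_zero g o
      have hj₁k : j₁ ≠ k := fun h => hj₁ (h ▸ ho)
      have hlt : Y.card < (Finset.univ.erase k).card := Finset.card_lt_card
        ⟨hYle, fun h => by
          have := h (Finset.mem_erase.2 ⟨hj₁k, Finset.mem_univ _⟩)
          simp only [hYdef, Finset.mem_filter] at this
          exact hj₁ (this.2.2 o ho)⟩
      rw [Finset.card_erase_of_mem (Finset.mem_univ k), Finset.card_univ] at hlt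
      omega
    · push Not at ho
      rw [Finset.filter_true_of_mem (fun x _ => ho x), Finset.card_univ]
      omega
  have hfix := fun σ hσ => hH.alt_fix hq (by omega) hg k Y (fun h => (Finset.mem_erase.1 (hYle h)).1 rfl)
    (fun i hi hik => by simp only [hYdef, Finset.mem_filter]; exact ⟨Finset.mem_univ _, hik, hi⟩)
    (fun i hi => by simp only [hYdef, Finset.mem_filter] at hi; exact hi.2.2)
    hcard.1 hcard.2 hjY σ hσ
  obtain ⟨a, -, ha⟩ := hH.two_ne hq (by omega) hg hgm k k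
  refine col_not_prop g hjk ((g : Matrix ι ι F) a j / (g : Matrix ι ι F) a k) (funext fun b => ?_)
  by_cases hb : (g : Matrix ι ι F) b k = 0
  · rw [hb, mul_zero, hcon b hb]
  by_cases hab : b = a
  · subst hab; field_simp
  -- a three cycle inside the support, and a witness outside it
  obtain ⟨c, hc⟩ := exists_notMem_of_card_le
    (Finset.univ.filter (fun x => (g : Matrix ι ι F) x k = 0) ∪ {a, b}) 3
    (le_trans (Finset.card_union_le _ _) (Nat.add_le_add (Finset.card_le_one.2 fun x hx y hy =>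
      h1 k x y (Finset.mem_filter.1 hx).2 (Finset.mem_filter.1 hy).2) Finset.card_le_two)) (by omega)
  simp at hc
  obtain ⟨w, hw⟩ := exists_notMem_of_card_le
    (Finset.univ.filter (fun x => (g : Matrix ι ι F) x j = 0) ∪ {a, b, c}) 4
    (le_trans (Finset.card_union_le _ _) (Nat.add_le_add (Finset.card_le_one.2 fun x hx y hy =>
      h1 j x y (Finset.mem_filter.1 hx).2 (Finset.mem_filter.1 hy).2) Finset.card_le_three)) (by omega)
  simp at hw
  have hwk : (g : Matrix ι ι F) w k ≠ 0 := fun h => hw.2.2.2 (hcon w h)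
  let A : {x // (g : Matrix ι ι F) x k ≠ 0} := ⟨a, ha⟩
  let B : {x // (g : Matrix ι ι F) x k ≠ 0} := ⟨b, hb⟩
  let C : {x // (g : Matrix ι ι F) x k ≠ 0} := ⟨c, hc.2.2⟩
  have hAB : A ≠ B := fun h => hab (congrArg Subtype.val h).symm
  have hBC : B ≠ C := fun h => hc.2.1 (congrArg Subtype.val h).symm
  have hAC : A ≠ C := fun h => hc.1 (congrArg Subtype.val h).symm
  set σ := Equiv.swap A B * Equiv.swap B C
  have hσ : σ ∈ alternatingGroup _ := by
    rw [Equiv.Perm.mem_alternatingGroup, Equiv.Perm.sign_mul, Equiv.Perm.sign_swap hAB,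
      Equiv.Perm.sign_swap hBC]; simp
  have e1 : σ.symm B = A := by
    rw [Equiv.symm_apply_eq]
    simp [σ, Equiv.Perm.mul_apply, Equiv.swap_apply_of_ne_of_ne hAB hAC]
  have e2 : σ.symm ⟨w, hwk⟩ = ⟨w, hwk⟩ := by
    rw [Equiv.symm_apply_eq]
    have n1 : (⟨w, hwk⟩ : {x // (g : Matrix ι ι F) x k ≠ 0}) ≠ A := fun h => hw.1 (congrArg Subtype.val h)
    have n2 : (⟨w, hwk⟩ : {x // (g : Matrix ι ι F) x k ≠ 0}) ≠ B := fun h => hw.2.1 (congrArg Subtype.val h)
    have n3 : (⟨w, hwk⟩ : {x // (g : Matrix ι ι F) x k ≠ 0}) ≠ C := fun h => hw.2.2.1 (congrArg Subtype.val h)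
    simp [σ, Equiv.Perm.mul_apply, Equiv.swap_apply_of_ne_of_ne n2 n3, Equiv.swap_apply_of_ne_of_ne n1 n2]
  obtain ⟨c', hc'⟩ := hfix σ hσ
  have hcw := hc' w
  rw [dif_pos hwk, e2] at hcw
  field_simp at hcw
  have hc1' : c' = 1 := mul_left_cancel₀ hw.2.2.2 (by rw [mul_one]; exact hcw.symm)
  have hcb := hc' b
  rw [dif_pos hb, show σ.symm ⟨b, hb⟩ = A from e1, hc1', one_mul] at hcb
  rw [← hcb]; ring

/-- The monomial subgroup is maximal: any element of `H` is monomial. -/
theorem MonoOver.isMono (hH : MonoOver H) (hq : 5 ≤ Fintype.card F) (hι : 6 ≤ Fintype.card ι)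
    {g : GL ι F} (hg : g ∈ H) : IsMono g := by
  classical
  by_contra hgm
  have hgim : ¬ IsMono g⁻¹ := fun h => by
    obtain ⟨σ, d, e⟩ := h.exists_eq
    exact hgm (by rw [← inv_inv g, e, monoGL_inv]; exact monoGL_isMono _ _)
  have zeros : ∀ {g : GL ι F}, g ∈ H → ¬ IsMono g → ∃ o : ι → ι, Function.Bijective o ∧
      ∀ x k, (g : Matrix ι ι F) x k = 0 ↔ x = o k := by
    intro g hg hgm
    have h0 : ∀ k, ∃ x, (g : Matrix ι ι F) x k = 0 := fun k => by
      obtain ⟨j, hj⟩ := Fintype.exists_ne_of_one_lt_card (by omega) k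
      obtain ⟨x, hx, -⟩ := hH.exists_zero hq hι hg hgm hj
      exact ⟨x, hx⟩
    choose o ho using h0
    have huniq : ∀ x k, (g : Matrix ι ι F) x k = 0 → x = o k := fun x k hx =>
      by_contra fun h => hH.not_two_zeros hq hι hg hgm k x (o k) h hx (ho k)
    refine ⟨o, Finite.injective_iff_bijective.1 fun k j hkj => ?_, fun x k => ⟨huniq x k, fun h => h ▸ ho k⟩⟩
    by_contra hne
    obtain ⟨x, hx, hx'⟩ := hH.exists_zero hq hι hg hgm (k := k) (j := j) (Ne.symm hne)
    exact hx' (by rw [huniq x k hx, hkj]; exact ho j)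
  obtain ⟨o, hob, ho⟩ := zeros hg hgm
  obtain ⟨p, hpb, hp⟩ := zeros (inv_mem hg) hgim
  have ratio : ∀ {j k a b : ι}, j ≠ k → a ≠ o k → a ≠ o j → b ≠ o k → b ≠ o j → a ≠ b →
      (g : Matrix ι ι F) b j * (g : Matrix ι ι F) a k = (g : Matrix ι ι F) a j * (g : Matrix ι ι F) b k := by
    intro j k a b hjk hak haj hbk hbj hab
    obtain ⟨c, hc⟩ := exists_notMem_of_card_le ({o k, o j, a, b} : Finset ι) 4 Finset.card_le_four (by omega)
    simp at hc
    have nz : ∀ x, x ≠ o k → (g : Matrix ι ι F) x k ≠ 0 := fun x hx h => hx ((ho x k).1 h)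
    let τ : Equiv.Perm ι := Equiv.swap a b * Equiv.swap b c
    have τa : τ a = b := by
      simp [τ, Equiv.Perm.mul_apply, Equiv.swap_apply_of_ne_of_ne hab (Ne.symm hc.2.2.1)]
    have τb : τ b = c := by simp [τ, Equiv.Perm.mul_apply, Equiv.swap_apply_of_ne_of_ne hc.2.2.1 hc.2.2.2]
    have τc : τ c = a := by simp [τ, Equiv.Perm.mul_apply]
    have τx : ∀ x, x ≠ a → x ≠ b → x ≠ c → τ x = x := fun x h1 h2 h3 => by
      simp [τ, Equiv.Perm.mul_apply, Equiv.swap_apply_of_ne_of_ne h2 h3, Equiv.swap_apply_of_ne_of_ne h1 h2]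
    let u : ι → Fˣ := fun x =>
      if x = a then Units.mk0 ((g : Matrix ι ι F) b k / (g : Matrix ι ι F) a k) (div_ne_zero (nz b hbk) (nz a hak))
      else if x = b then Units.mk0 ((g : Matrix ι ι F) c k / (g : Matrix ι ι F) b k) (div_ne_zero (nz c hc.1) (nz b hbk))
      else if x = c then Units.mk0 ((g : Matrix ι ι F) a k / (g : Matrix ι ι F) c k) (div_ne_zero (nz a hak) (nz c hc.1))
      else 1
    have hu : ∀ x, x ≠ a → x ≠ b → x ≠ c → u x = 1 := fun x h1 h2 h3 => by simp [u, h1, h2, h3]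
    have hm : monoGL τ u ∈ H := hH.mono _ _ <| by
      rw [monoGL_mem_specialLinear_iff, show Equiv.Perm.sign τ = 1 by
        simp [τ, Equiv.Perm.sign_swap hab, Equiv.Perm.sign_swap (Ne.symm hc.2.2.2)]]
      rw [← Finset.prod_subset (Finset.subset_univ ({a, b, c} : Finset ι)) (fun x _ hx => by
        simp at hx; simp [hu x hx.1 hx.2.1 hx.2.2])]
      rw [Finset.prod_insert (by simp [hab, Ne.symm hc.2.2.1]), Finset.prod_insert (by simp [Ne.symm hc.2.2.2]),
        Finset.prod_singleton]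
      simp [u, hab.symm, hc.2.2.1, hc.2.2.2]
      field_simp [nz a hak, nz b hbk, nz c hc.1]
    have hfixed : ∀ v : ι → F, ∀ x, x ≠ a → x ≠ b → x ≠ c → ((monoGL τ u : Matrix ι ι F) *ᵥ v) x = v x := by
      intro v x h1 h2 h3
      have e : τ.symm x = x := by rw [Equiv.symm_apply_eq, τx x h1 h2 h3]
      rw [monoGL_val, monoMat_mulVec', e, hu x h1 h2 h3]; simp
    have hmoved : ∀ v : ι → F, ((monoGL τ u : Matrix ι ι F) *ᵥ v) (τ a) = (u a : F) * v a ∧
        ((monoGL τ u : Matrix ι ι F) *ᵥ v) (τ b) = (u b : F) * v b ∧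
        ((monoGL τ u : Matrix ι ι F) *ᵥ v) (τ c) = (u c : F) * v c := fun v =>
      ⟨monoMat_mulVec _ _ _ _, monoMat_mulVec _ _ _ _, monoMat_mulVec _ _ _ _⟩
    have hfix : (monoGL τ u : Matrix ι ι F) *ᵥ (fun x => (g : Matrix ι ι F) x k) =
        fun x => (1 : F) * (g : Matrix ι ι F) x k := funext fun x => by
      rw [one_mul]
      rcases eq_or_ne x b with rfl | h2
      · have := (hmoved fun x => (g : Matrix ι ι F) x k).1
        rw [τa] at this
        rw [this]; simp [u, nz a hak]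
      · rcases eq_or_ne x c with rfl | h3
        · have := (hmoved fun x => (g : Matrix ι ι F) x k).2.1
          rw [τb] at this
          rw [this]; simp [u, hab.symm, nz b hbk]
        · rcases eq_or_ne x a with rfl | h1
          · have := (hmoved fun x => (g : Matrix ι ι F) x k).2.2
            rw [τc] at this
            rw [this]; simp [u, hc.2.2.1, hc.2.2.2, nz c hc.1]
          · exact hfixed _ x h1 h2 h3
    obtain ⟨i, c', hc'⟩ := hH.col_perm hq (by omega) hg hm hfix j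
    have hojk : o k ≠ o j := fun h => hjk (hob.1 h).symm
    have h1 := congrFun hc' (o j)
    rw [hfixed _ (o j) (Ne.symm haj) (Ne.symm hbj) (Ne.symm hc.2.1)] at h1
    have h2 := congrFun hc' (o k)
    rw [hfixed _ (o k) (Ne.symm hak) (Ne.symm hbk) (Ne.symm hc.1)] at h2
    have hok : (g : Matrix ι ι F) (o k) j ≠ 0 := fun h => hojk ((ho _ _).1 h)
    have hc0 : c' ≠ 0 := fun h => hok (h2.trans (by rw [h, zero_mul]))
    have hz : (g : Matrix ι ι F) (o j) i = 0 :=
      (mul_eq_zero.1 (h1.symm.trans ((ho _ _).2 rfl))).resolve_left hc0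
    have hij : i = j := hob.1 ((ho _ _).1 hz).symm
    rw [hij] at h2 hc'
    have hc1 : c' = 1 := mul_right_cancel₀ hok (by rw [one_mul]; exact h2.symm)
    have h3 := congrFun hc' b
    have h4 := (hmoved fun x => (g : Matrix ι ι F) x j).1
    rw [τa] at h4
    rw [h4, hc1, one_mul] at h3
    simp [u] at h3
    have := nz a hak
    field_simp at h3
    linear_combination -h3
  obtain ⟨k₁⟩ := (Fintype.card_pos_iff.1 (by omega) : Nonempty ι)
  obtain ⟨k₂, hk⟩ := Fintype.exists_ne_of_one_lt_card (by omega) k₁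
  obtain ⟨q₁, hq₁⟩ := hpb.2 k₁
  obtain ⟨q₂, hq₂⟩ := hpb.2 k₂
  obtain ⟨z, hz⟩ := exists_notMem_of_card_le ({o k₁, o k₂, q₁, q₂} : Finset ι) 4 Finset.card_le_four (by omega)
  simp at hz
  set G : Matrix ι ι F := (g : Matrix ι ι F)
  set Gi : Matrix ι ι F := ((g⁻¹ : GL ι F) : Matrix ι ι F)
  have hφ : Gi k₁ z ≠ 0 := fun h => hz.2.2.1 (hpb.1 (((hp _ _).1 h).symm.trans hq₁.symm))
  have hψ : Gi k₂ z ≠ 0 := fun h => hz.2.2.2 (hpb.1 (((hp _ _).1 h).symm.trans hq₂.symm))
  have hA : G z k₁ * Gi k₁ z ≠ 0 := mul_ne_zero (fun h => hz.1 ((ho _ _).1 h)) hφ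
  -- choose the parameter so that the diagonal entry survives
  obtain ⟨d, hd, hdiag⟩ : ∃ d : Fˣ, (d : F) ≠ 1 ∧
      1 + ((d : F) - 1) * (G z k₁ * Gi k₁ z) + ((d : F)⁻¹ - 1) * (G z k₂ * Gi k₂ z) ≠ 0 := by
    by_contra hcon
    push Not at hcon
    obtain ⟨x, hx, -, -⟩ := exists_unit_ne hq 1 1
    obtain ⟨y, hy, hyx, -⟩ := exists_unit_ne hq (x : F) 1
    obtain ⟨w, hw, hwx, hwy⟩ := exists_unit_ne hq (x : F) y
    have ex := hcon x hx
    have ey := hcon y hy
    have ew := hcon w hw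
    set P := G z k₁ * Gi k₁ z
    set Q := G z k₂ * Gi k₂ z
    field_simp at ex ey ew
    have e1 : P * ((x : F) + y) + (1 - P - Q) = 0 :=
      mul_left_cancel₀ (sub_ne_zero.2 hyx) (by linear_combination ey - ex)
    have e2 : P * ((x : F) + w) + (1 - P - Q) = 0 :=
      mul_left_cancel₀ (sub_ne_zero.2 hwx) (by linear_combination ew - ex)
    exact hA (mul_right_cancel₀ (sub_ne_zero.2 hwy) (by linear_combination e2 - e1) : P = 0)
  set g1 := g * monoGL 1 (pair₁ k₁ k₂ d) * g⁻¹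
  have hg1 : g1 ∈ H := mul_mem (mul_mem hg (hH.pair_mem k₁ k₂ d)) (inv_mem hg)
  have hd' : (d : F)⁻¹ - 1 ≠ 0 := sub_ne_zero.2 fun h => hd (inv_eq_one.1 h)
  have hd'' : (d : F) - 1 ≠ 0 := sub_ne_zero.2 hd
  have hoo : o k₁ ≠ o k₂ := fun h => hk (hob.1 h).symm
  have entry := fun x => conj_pair_apply g (Ne.symm hk) d x z
  have n1 : (g1 : Matrix ι ι F) (o k₁) z ≠ 0 := by
    rw [entry, if_neg (Ne.symm hz.1), show (g : Matrix ι ι F) (o k₁) k₁ = 0 from (ho _ _).2 rfl]
    simp only [mul_zero, zero_mul, add_zero, zero_add]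
    exact mul_ne_zero (mul_ne_zero hd' fun h => hoo ((ho _ _).1 h)) hψ
  have n2 : (g1 : Matrix ι ι F) (o k₂) z ≠ 0 := by
    rw [entry, if_neg (Ne.symm hz.2.1), show (g : Matrix ι ι F) (o k₂) k₂ = 0 from (ho _ _).2 rfl]
    simp only [mul_zero, zero_mul, add_zero, zero_add]
    exact mul_ne_zero (mul_ne_zero hd'' fun h => hoo ((ho _ _).1 h).symm) hφ
  have n3 : (g1 : Matrix ι ι F) z z ≠ 0 := by
    rw [entry, if_pos rfl]
    intro h; exact hdiag (by linear_combination h)
  have hg1m : ¬ IsMono g1 := fun h => by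
    obtain ⟨i, hi⟩ := h z
    by_cases h1 : o k₁ = i
    · exact n2 (hi _ fun h2 => hoo (h1.trans h2.symm))
    · exact n1 (hi _ h1)
  obtain ⟨j, hj⟩ := Fintype.exists_ne_of_one_lt_card (by omega) z
  obtain ⟨x₀, hx₀, -⟩ := hH.exists_zero hq hι hg1 hg1m hj
  have hx1 : x₀ ≠ z := fun h => n3 (h ▸ hx₀)
  have hx2 : x₀ ≠ o k₁ := fun h => n1 (h ▸ hx₀)
  have hx3 : x₀ ≠ o k₂ := fun h => n2 (h ▸ hx₀)
  obtain ⟨x₁, hx₁⟩ := exists_notMem_of_card_le ({z, o k₁, o k₂, x₀} : Finset ι) 4 Finset.card_le_four (by omega)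
  simp at hx₁
  refine hH.not_two_zeros hq hι hg1 hg1m z x₀ x₁ (Ne.symm hx₁.2.2.2) hx₀ ?_
  have e0 := hx₀
  rw [entry, if_neg hx1] at e0
  rw [entry, if_neg hx₁.1]
  have hr := ratio (Ne.symm hk) hx3 hx2 hx₁.2.2.1 hx₁.2.1 (Ne.symm hx₁.2.2.2)
  have hne : G x₀ k₂ ≠ 0 := fun h => hx3 ((ho _ _).1 h)
  apply mul_left_cancel₀ hne
  linear_combination (G x₁ k₂) * e0 + ((d : F) - 1) * Gi k₁ z * hr

end CfsgLib.Maximal
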