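import Mathlib
import Cfsg.Agent.Lib.Maximal.MonoFinal

/-!
Maximality of the stabiliser of a decomposition into equal blocks inside SL, in standard coordinates.
-/

set_option autoImplicit false
set_option linter.unusedSectionVars false
set_option linter.unusedSimpArgs false

namespace CfsgLib.Maximal

open scoped Matrix

variable {ι : Type} [Fintype ι] [DecidableEq ι] {F : Type*} [Field F] {t m : ℕ}

/-- `g` permutes the coordinate blocks. -/
def IsBlock (blk : ι → Fin t) (g : GL ι F) : Prop :=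
  ∃ σ : Equiv.Perm (Fin t), ∀ y x, (g : Matrix ι ι F) y x ≠ 0 → blk y = σ (blk x)

/-- Subgroups of SL above the block stabiliser. -/
structure BlockOver (ee : ι ≃ Fin t × Fin m) (H : Subgroup (GL ι F)) : Prop where
  le : H ≤ Cfsg.Geo.specialLinear ι F
  block : ∀ g : GL ι F, IsBlock (fun x => (ee x).1) g → g ∈ Cfsg.Geo.specialLinear ι F → g ∈ H

/-- A pseudo-reflection. -/
def reflGL (w ψ : ι → F) (d : Fˣ) (h : ψ ⬝ᵥ w = 1) : GL ι F where
  val := 1 + ((d : F) - 1) • Matrix.vecMulVec w ψ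
  inv := 1 + ((d : F)⁻¹ - 1) • Matrix.vecMulVec w ψ
  val_inv := by
    rw [refl_prod, h, mul_one, add_assoc, add_assoc, ← add_smul, ← add_smul]
    have : ((d : F) - 1) + (((d : F)⁻¹ - 1) + ((d : F) - 1) * ((d : F)⁻¹ - 1)) = 0 := by field_simp; ring
    rw [this, zero_smul, add_zero]
  inv_val := by
    rw [refl_prod, h, mul_one, add_assoc, add_assoc, ← add_smul, ← add_smul]
    have : ((d : F)⁻¹ - 1) + (((d : F) - 1) + ((d : F)⁻¹ - 1) * ((d : F) - 1)) = 0 := by field_simp; ring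
    rw [this, zero_smul, add_zero]

lemma reflGL_det (w ψ : ι → F) (d : Fˣ) (h : ψ ⬝ᵥ w = 1) :
    (reflGL w ψ d h : Matrix ι ι F).det = d := by
  show (1 + ((d : F) - 1) • Matrix.vecMulVec w ψ).det = _
  rw [← Matrix.smul_vecMulVec, Matrix.vecMulVec_eq Unit,
    Matrix.det_one_add_replicateCol_mul_replicateRow, dotProduct_smul, h, smul_eq_mul, mul_one,
    add_sub_cancel]

lemma reflGL_mulVec (w ψ : ι → F) (d : Fˣ) (h : ψ ⬝ᵥ w = 1) (v : ι → F) :
    (reflGL w ψ d h : Matrix ι ι F) *ᵥ v = v + (((d : F) - 1) * (ψ ⬝ᵥ v)) • w := by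
  show (1 + ((d : F) - 1) • Matrix.vecMulVec w ψ) *ᵥ v = _
  rw [Matrix.add_mulVec, Matrix.one_mulVec, Matrix.smul_mulVec, Matrix.vecMulVec_mulVec, op_smul_eq_smul,
    smul_smul]

lemma reflGL_vecMul_inv (w ψ : ι → F) (d : Fˣ) (h : ψ ⬝ᵥ w = 1) (v : ι → F) :
    v ᵥ* (((reflGL w ψ d h)⁻¹ : GL ι F) : Matrix ι ι F) = v + (((d : F)⁻¹ - 1) * (v ⬝ᵥ w)) • ψ := by
  show v ᵥ* (1 + ((d : F)⁻¹ - 1) • Matrix.vecMulVec w ψ) = _
  rw [Matrix.vecMul_add, Matrix.vecMul_one, Matrix.vecMul_smul, Matrix.vecMul_vecMulVec, smul_smul]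

/-- The restriction of a vector to a block. -/
def resBlock (blk : ι → Fin t) (j : Fin t) (v : ι → F) : ι → F := fun x => if blk x = j then v x else 0

variable {ee : ι ≃ Fin t × Fin m} {H : Subgroup (GL ι F)}

lemma BlockOver.inBlock (hH : BlockOver ee H) {a φ : ι → F} (j : Fin t) (h : φ ⬝ᵥ a = 0)
    (ha : ∀ x, (ee x).1 ≠ j → a x = 0) (hφ : ∀ x, (ee x).1 ≠ j → φ x = 0) : Has H a φ := by
  refine ⟨h, hH.block _ ⟨1, fun y x hyx => ?_⟩ (tv_mem_specialLinear _ _ _)⟩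
  show (ee y).1 = (ee x).1
  rw [tv_val, Matrix.add_apply, Matrix.one_apply, Matrix.vecMulVec_apply] at hyx
  by_contra hne
  rw [if_neg (fun e : y = x => hne (by rw [e])), zero_add] at hyx
  obtain ⟨h1, h2⟩ := mul_ne_zero_iff.1 hyx
  exact hne ((not_not.1 fun e => h1 (ha y e)).trans (not_not.1 fun e => h2 (hφ x e)).symm)

lemma BlockOver.elem_inBlock (hH : BlockOver ee H) {x y : ι} (hxy : x ≠ y) (hb : (ee x).1 = (ee y).1)
    (c : F) : Has H (Pi.single x c) (Pi.single y 1) :=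
  hH.inBlock (ee x).1 (by simp [hxy.symm])
    (fun z hz => by
      have : z ≠ x := fun h => hz (by rw [h])
      simp [this])
    (fun z hz => by
      have : z ≠ y := fun h => hz (by rw [h, hb])
      simp [this])

lemma exists_mate (ee : ι ≃ Fin t × Fin m) (hm : 2 ≤ m) (x : ι) :
    ∃ y, y ≠ x ∧ (ee y).1 = (ee x).1 := by
  haveI : Nontrivial (Fin m) := Fin.nontrivial_iff_two_le.2 hm
  obtain ⟨l, hl⟩ := exists_ne (ee x).2
  refine ⟨ee.symm ((ee x).1, l), fun h => hl ?_, by simp⟩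
  have := congrArg (fun z => (ee z).2) h
  simpa using this

/-- A transvection whose centre lies in one block and whose axis leaves it gives a crossing root group. -/
lemma BlockOver.finish (hH : BlockOver ee H) (hm : 2 ≤ m) {c χ : ι → F} (h : Has H c χ) (hc0 : c ≠ 0)
    (j : Fin t) (hc : ∀ x, (ee x).1 ≠ j → c x = 0) {y : ι} (hy : (ee y).1 ≠ j) (hχ : χ y ≠ 0) :
    ∃ x y, (ee x).1 ≠ (ee y).1 ∧ ElemAt H x y := by
  obtain ⟨y', hy', hyb⟩ := exists_mate ee hm y
  obtain ⟨x, hx⟩ := Function.ne_iff.1 hc0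
  have hxj : (ee x).1 = j := by_contra fun h' => hx (hc x h')
  obtain ⟨x', hx', hxb⟩ := exists_mate ee hm x
  have hy'j : (ee y').1 ≠ j := hyb ▸ hy
  have h1 : ∀ s : F, Has H ((χ y * s) • c) (Pi.single y' 1) := fun s => by
    have := h.comm_left (hH.elem_inBlock hy'.symm hyb.symm s) (by
      rw [single_dotProduct, one_mul]; exact hc y' hy'j)
    rwa [dotProduct_single] at this
  refine ⟨x', y', (hxb.trans hxj) ▸ hy'j.symm, fun s => ?_⟩
  have hcx : c x ≠ 0 := hx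
  have h2 := (hH.elem_inBlock hx' hxb 1).comm_left (h1 (s / (χ y * c x))) (by
    have : y' ≠ x' := fun e => hy'j (by rw [e, hxb, hxj])
    simp [this])
  convert h2 using 1
  rw [dotProduct_smul, single_dotProduct, one_mul, smul_eq_mul, ← Pi.single_smul', smul_eq_mul, mul_one]
  congr 1
  field_simp

/-- The generic case of the crossing argument. -/
lemma BlockOver.cross_or_degenerate (hH : BlockOver ee H) (hm : 2 ≤ m) {a φ : ι → F} (h : Has H a φ)
    {x y : ι} (hx : a x ≠ 0) (hy : φ y ≠ 0) (hxy : (ee y).1 ≠ (ee x).1) :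
    (∃ x y, (ee x).1 ≠ (ee y).1 ∧ ElemAt H x y) ∨
      (m = 2 ∧ (∃ z, (ee z).1 = (ee x).1 ∧ φ z ≠ 0) ∧ resBlock (fun z => (ee z).1) (ee x).1 φ ⬝ᵥ a = 0) := by
  classical
  set j := (ee x).1
  set ψ := resBlock (fun z => (ee z).1) j φ with hψ
  -- the commutator with a transvection inside the block
  have step : ∀ (c ψ' : ι → F), c ≠ 0 → (∀ z, (ee z).1 ≠ j → c z = 0) → (∀ z, (ee z).1 ≠ j → ψ' z = 0) →
      φ ⬝ᵥ c = 0 → ψ' ⬝ᵥ c = 0 → ψ' ⬝ᵥ a ≠ 0 → ∃ x y, (ee x).1 ≠ (ee y).1 ∧ ElemAt H x y := by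
    intro c ψ' hc0 hc hψ' h1 h2 h3
    have h4 := h.comm_right (hH.inBlock j h2 hc hψ') h1
    exact hH.finish hm h4 hc0 j hc hxy (by simpa using mul_ne_zero h3 hy)
  obtain ⟨x', hx', hxb⟩ := exists_mate ee hm x
  have single_supp : ∀ (z : ι) (c : F), (ee z).1 = j → ∀ w, (ee w).1 ≠ j → (Pi.single z c : ι → F) w = 0 :=
    fun z c hz w hw => by
      have : w ≠ z := fun e => hw (e ▸ hz)
      simp [this]
  by_cases hψa : ψ ⬝ᵥ a = 0
  swap
  · left
    obtain ⟨z, hz⟩ : ∃ z, ψ z ≠ 0 := by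
      by_contra hcon
      push Not at hcon
      exact hψa (by rw [show ψ = 0 from funext hcon, zero_dotProduct])
    obtain ⟨z', hz', hzb⟩ := exists_mate ee hm z
    have hzj : (ee z).1 = j := by
      by_contra h'
      simp [hψ, resBlock, h'] at hz
    have hφz : φ z = ψ z := by simp [hψ, resBlock, hzj]
    have hφz' : φ z' = ψ z' := by simp [hψ, resBlock, hzb.trans hzj]
    refine step (Pi.single z (φ z') - Pi.single z' (φ z)) ψ ?_ ?_ (fun w hw => by simp [hψ, resBlock, hw]) ?_ ?_ hψa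
    · intro h0
      have := congrFun h0 z'
      simp [hz', hφz] at this
      exact hz this
    · intro w hw
      simp [single_supp z _ hzj w hw, single_supp z' _ (hzb.trans hzj) w hw]
    · simp [dotProduct_sub, mul_comm]
    · simp [dotProduct_sub, ← hφz, ← hφz', mul_comm]
  by_cases h0 : φ x' = 0
  · left
    refine step (Pi.single x' 1) (Pi.single x 1) (by simp) (single_supp x' 1 hxb) (single_supp x 1 rfl) (by simp [h0]) (by simp [hx']) (by simpa using hx)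
  by_cases hm3 : 3 ≤ m
  · left
    obtain ⟨l, hl⟩ := exists_notMem_of_card_le ({(ee x).2, (ee x').2} : Finset (Fin m)) 2 Finset.card_le_two
      (by simp; omega)
    simp at hl
    set z := ee.symm (j, l)
    have hzx : z ≠ x := fun e => hl.1 (by rw [← e]; simp [z])
    have hzx' : z ≠ x' := fun e => hl.2 (by rw [← e]; simp [z])
    have hzj : (ee z).1 = j := by simp [z]
    refine step (Pi.single x' (φ z) - Pi.single z (φ x')) (Pi.single x 1) ?_ ?_ (single_supp x 1 rfl) ?_ ?_ (by simpa using hx)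
    · intro e
      have := congrFun e z
      simp [hzx'] at this
      exact h0 this
    · intro w hw
      simp [single_supp x' _ hxb w hw, single_supp z _ hzj w hw]
    · simp [dotProduct_sub, mul_comm]
    · simp [dotProduct_sub, hzx, hx']
  exact Or.inr ⟨by omega, ⟨x', hxb, h0⟩, hψa⟩

lemma BlockOver.refl_pair_mem (hH : BlockOver ee H) {w₁ ψ₁ w₂ ψ₂ : ι → F} (d : Fˣ) (h₁ : ψ₁ ⬝ᵥ w₁ = 1)
    (h₂ : ψ₂ ⬝ᵥ w₂ = 1) (j₁ j₂ : Fin t) (hw₁ : ∀ x, (ee x).1 ≠ j₁ → w₁ x = 0)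
    (hψ₁ : ∀ x, (ee x).1 ≠ j₁ → ψ₁ x = 0) (hw₂ : ∀ x, (ee x).1 ≠ j₂ → w₂ x = 0)
    (hψ₂ : ∀ x, (ee x).1 ≠ j₂ → ψ₂ x = 0) : reflGL w₁ ψ₁ d h₁ * reflGL w₂ ψ₂ d⁻¹ h₂ ∈ H := by
  have key : ∀ (w ψ : ι → F) (d : Fˣ) (h : ψ ⬝ᵥ w = 1) (j : Fin t), (∀ x, (ee x).1 ≠ j → w x = 0) →
      (∀ x, (ee x).1 ≠ j → ψ x = 0) → ∀ y x, (reflGL w ψ d h : Matrix ι ι F) y x ≠ 0 → (ee y).1 = (ee x).1 := by
    intro w ψ d h j hw hψ y x hyx
    by_contra hne
    apply hyx
    show ((1 : Matrix ι ι F) + ((d : F) - 1) • Matrix.vecMulVec w ψ) y x = 0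
    have hxy : y ≠ x := fun e => hne (by rw [e])
    by_cases hy : (ee y).1 = j
    · simp [hxy, Matrix.vecMulVec_apply, hψ x fun e => hne (hy.trans e.symm)]
    · simp [hxy, Matrix.vecMulVec_apply, hw y hy]
  refine hH.block _ ⟨1, fun y x hyx => ?_⟩ ?_
  · rw [Units.val_mul, Matrix.mul_apply] at hyx
    obtain ⟨z, -, hz⟩ := Finset.exists_ne_zero_of_sum_ne_zero hyx
    obtain ⟨h3, h4⟩ := mul_ne_zero_iff.1 hz
    exact (key _ _ _ _ j₁ hw₁ hψ₁ y z h3).trans (key _ _ _ _ j₂ hw₂ hψ₂ z x h4)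
  · rw [mem_specialLinear_iff, Units.val_mul, Matrix.det_mul, reflGL_det, reflGL_det, Units.val_inv_eq_inv_val,
      mul_inv_cancel₀ d.ne_zero]

/-- An element moving the blocks yields a crossing root group. -/
lemma BlockOver.exists_cross (hH : BlockOver ee H) [Fintype F] (hm : 2 ≤ m) (ht : m = 2 → 3 ≤ t)
    (hq : m = 2 → 3 ≤ Fintype.card F) {g : GL ι F} (hg : g ∈ H) (hgb : ¬ IsBlock (fun x => (ee x).1) g) :
    ∃ x y, (ee x).1 ≠ (ee y).1 ∧ ElemAt H x y := by
  classical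
  by_contra hno
  set G : Matrix ι ι F := (g : Matrix ι ι F)
  set Gi : Matrix ι ι F := ((g⁻¹ : GL ι F) : Matrix ι ι F)
  -- a transvection in `H` whose centre and axis meet different blocks
  obtain ⟨a, φ, x, y, h, hx, hy, hxy⟩ : ∃ (a φ : ι → F) (x y : ι), Has H a φ ∧ a x ≠ 0 ∧ φ y ≠ 0 ∧
      (ee y).1 ≠ (ee x).1 := by
    by_contra hcon
    push Not at hcon
    have img : ∀ (a φ : ι → F) (j : Fin t), φ ⬝ᵥ a = 0 → (∀ x, (ee x).1 ≠ j → a x = 0) →
        (∀ x, (ee x).1 ≠ j → φ x = 0) → ∀ u v, (G *ᵥ a) u ≠ 0 → (φ ᵥ* Gi) v ≠ 0 → (ee v).1 = (ee u).1 :=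
      fun a φ j h ha hφ u v hu hv => hcon _ _ u v ((hH.inBlock j h ha hφ).conj hg) hu hv
    have single_supp : ∀ (z : ι) (c : F), ∀ w, (ee w).1 ≠ (ee z).1 → (Pi.single z c : ι → F) w = 0 :=
      fun z c w hw => by
        have : w ≠ z := fun e => hw (by rw [e])
        simp [this]
    have same : ∀ x x', (ee x).1 = (ee x').1 → ∀ u u', G u x ≠ 0 → G u' x' ≠ 0 → (ee u).1 = (ee u').1 := by
      have core : ∀ x x', x ≠ x' → (ee x).1 = (ee x').1 → ∀ u u', G u x ≠ 0 → G u' x' ≠ 0 →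
          (ee u).1 = (ee u').1 := by
        intro x x' hne hb u u' hu hu'
        have hrow : ∀ z, ∃ v, Gi z v ≠ 0 := exists_row_ne_zero g⁻¹
        obtain ⟨v, hv⟩ := hrow x'
        obtain ⟨v', hv'⟩ := hrow x
        -- supports of single columns
        have h1 : ∀ w, G w x ≠ 0 → (ee v).1 = (ee w).1 := fun w hw => img (Pi.single x 1) (Pi.single x' 1) (ee x).1
          (by simp [hne.symm]) (single_supp x 1) (hb ▸ single_supp x' 1) w v (by simpa using hw) (by simpa using hv)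
        have h2 : ∀ w, G w x' ≠ 0 → (ee v').1 = (ee w).1 := fun w hw => img (Pi.single x' 1) (Pi.single x 1) (ee x).1
          (by simp [hne]) (hb ▸ single_supp x' 1) (single_supp x 1) w v' (by simpa using hw) (by simpa using hv')
        by_contra hd
        have hu0 : G u x' = 0 := by_contra fun h => hd ((h2 u h).symm.trans (h2 u' hu'))
        have hu'0 : G u' x = 0 := by_contra fun h => hd ((h1 u hu).symm.trans (h1 u' h))
        obtain ⟨v'', hv''⟩ : ∃ v, ((Pi.single x 1 - Pi.single x' 1 : ι → F) ᵥ* Gi) v ≠ 0 := by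
          by_contra hz
          push Not at hz
          have h3 := congrArg (fun w => w ᵥ* G) (funext hz : (Pi.single x 1 - Pi.single x' 1 : ι → F) ᵥ* Gi = 0)
          simp only [Matrix.vecMul_vecMul, Matrix.zero_vecMul] at h3
          rw [show Gi * G = 1 from Units.inv_mul g, Matrix.vecMul_one] at h3
          have := congrFun h3 x
          simp [hne] at this
        have i1 := img (Pi.single x 1 + Pi.single x' 1) (Pi.single x 1 - Pi.single x' 1) (ee x).1
          (by simp [hne, hne.symm]) (fun w hw => by simp [single_supp x 1 w hw, single_supp x' 1 w (hb ▸ hw)])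
          (fun w hw => by simp [single_supp x 1 w hw, single_supp x' 1 w (hb ▸ hw)])
        have a1 := i1 u v'' (by simp [Matrix.mulVec_add, hu0, hu]) hv''
        have a2 := i1 u' v'' (by simp [Matrix.mulVec_add, hu'0, hu']) hv''
        exact hd (a1.symm.trans a2)
      intro x x' hb u u' hu hu'
      rcases eq_or_ne x x' with rfl | hne
      · obtain ⟨z, hz, hzb⟩ := exists_mate ee hm x
        obtain ⟨w, hw⟩ := exists_col_ne_zero g z
        exact (core x z hz.symm hzb.symm u w hu hw).trans (core x z hz.symm hzb.symm u' w hu' hw).symm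
      · exact core x x' hne hb u u' hu hu'
    have hm0 : 0 < m := by omega
    have hcol : ∀ i : Fin t, ∃ u, G u (ee.symm (i, ⟨0, hm0⟩)) ≠ 0 := fun i => exists_col_ne_zero g _
    choose u hu using hcol
    let σ : Fin t → Fin t := fun i => (ee (u i)).1
    have hσ : ∀ w x, G w x ≠ 0 → (ee w).1 = σ (ee x).1 := fun w x hw =>
      same x _ (by simp) w _ hw (hu (ee x).1)
    have hsurj : Function.Surjective σ := fun i => by
      obtain ⟨x, hx⟩ := exists_row_ne_zero g (ee.symm (i, ⟨0, hm0⟩))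
      exact ⟨(ee x).1, by rw [← hσ _ x hx]; simp⟩
    exact hgb ⟨Equiv.ofBijective σ (Finite.surjective_iff_bijective.1 hsurj), hσ⟩
  by_cases hsingle : ∀ z, a z ≠ 0 → (ee z).1 = (ee x).1
  · exact hno (hH.finish hm h (fun e => hx (by rw [e]; rfl)) (ee x).1
      (fun z hz => by_contra fun e => hz (hsingle z e)) hxy hy)
  push Not at hsingle
  obtain ⟨x₂, hx₂, hx₂b⟩ := hsingle
  obtain ⟨hm2, ⟨z₁, hz₁b, hz₁⟩, hdot₁⟩ := (hH.cross_or_degenerate hm h hx hy hxy).resolve_left hno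
  obtain ⟨-, ⟨z₂, hz₂b, hz₂⟩, hdot₂⟩ := (hH.cross_or_degenerate hm h hx₂ hz₁ (hz₁b ▸ Ne.symm hx₂b)).resolve_left hno
  obtain ⟨d, hd⟩ : ∃ d : Fˣ, (d : F) ≠ 1 := by
    have hu : 1 < Fintype.card Fˣ := by rw [Fintype.card_units]; have := hq hm2; omega
    obtain ⟨d, hd⟩ := Fintype.exists_ne_of_one_lt_card hu 1
    exact ⟨d, fun h => hd (Units.ext h)⟩
  -- the witness block and the compensating block
  have main : ∀ (w₂ ψ₂ : ι → F) (_h₂ : ψ₂ ⬝ᵥ w₂ = 1) (b : Fin t) (xw : ι), (∀ z, (ee z).1 ≠ b → w₂ z = 0) →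
      (∀ z, (ee z).1 ≠ b → ψ₂ z = 0) → b ≠ (ee x).1 → ψ₂ ⬝ᵥ a = 0 → a xw ≠ 0 → (ee xw).1 ≠ (ee x).1 →
      (ee xw).1 ≠ b → False := by
    intro w₂ ψ₂ h₂ b xw hw₂ hψ₂ hbj hψ₂a hxw hxwj hxwb
    set ψ₁ := resBlock (fun z => (ee z).1) (ee x).1 φ with hψ₁
    set w₁ : ι → F := Pi.single z₁ (φ z₁)⁻¹
    have h₁ : ψ₁ ⬝ᵥ w₁ = 1 := by simp [hψ₁, w₁, resBlock, hz₁b, hz₁]
    have s₁ : ∀ z, (ee z).1 ≠ (ee x).1 → w₁ z = 0 := fun z hz => by
      have : z ≠ z₁ := fun e => hz (e ▸ hz₁b)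
      simp [w₁, this]
    have s₁' : ∀ z, (ee z).1 ≠ (ee x).1 → ψ₁ z = 0 := fun z hz => by simp [hψ₁, resBlock, hz]
    have h3 := h.conj (hH.refl_pair_mem d h₁ h₂ (ee x).1 b s₁ s₁' hw₂ hψ₂)
    have e1 : ((reflGL w₁ ψ₁ d h₁ * reflGL w₂ ψ₂ d⁻¹ h₂ : GL ι F) : Matrix ι ι F) *ᵥ a = a := by
      rw [Units.val_mul, ← Matrix.mulVec_mulVec, reflGL_mulVec _ _ _ h₂, hψ₂a, mul_zero, zero_smul, add_zero,
        reflGL_mulVec, hdot₁, mul_zero, zero_smul, add_zero]
    have h21 : ψ₂ ⬝ᵥ w₁ = 0 := Finset.sum_eq_zero fun z _ => by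
      by_cases hz : (ee z).1 = b
      · rw [s₁ z (hz ▸ hbj), mul_zero]
      · rw [hψ₂ z hz, zero_mul]
    have hφw : φ ⬝ᵥ w₁ = 1 := by simp [w₁, hz₁]
    have e2 : φ ᵥ* (((reflGL w₁ ψ₁ d h₁ * reflGL w₂ ψ₂ d⁻¹ h₂)⁻¹ : GL ι F) : Matrix ι ι F) =
        φ + (((d : F) - 1) * (φ ⬝ᵥ w₂)) • ψ₂ + ((d : F)⁻¹ - 1) • ψ₁ := by
      rw [mul_inv_rev, Units.val_mul, ← Matrix.vecMul_vecMul, reflGL_vecMul_inv _ _ _ h₂,
        reflGL_vecMul_inv, add_dotProduct, smul_dotProduct, h21, hφw, smul_zero, add_zero, mul_one,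
        Units.val_inv_eq_inv_val, inv_inv]
    rw [e1, e2] at h3
    have h4 := h.sub_right h3
    rcases hH.cross_or_degenerate hm h4 hxw (y := z₁) (by
      simp [hψ₁, resBlock, hz₁b, hψ₂ z₁ (hz₁b ▸ hbj.symm)]
      exact ⟨fun e => hd (inv_eq_one.1 (sub_eq_zero.1 e)), hz₁⟩) (hz₁b ▸ hxwj.symm) with h5 | ⟨-, ⟨z, hzb, hz⟩, -⟩
    · exact hno h5
    · apply hz
      simp [hψ₁, resBlock, hψ₂ z (hzb ▸ hxwb), hzb ▸ hxwj]
  by_cases hthird : ∃ x₃, a x₃ ≠ 0 ∧ (ee x₃).1 ≠ (ee x).1 ∧ (ee x₃).1 ≠ (ee x₂).1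
  · obtain ⟨x₃, hx₃, h31, h32⟩ := hthird
    refine main (Pi.single z₂ (φ z₂)⁻¹) (resBlock (fun z => (ee z).1) (ee x₂).1 φ) ?_ (ee x₂).1 x₃ ?_ ?_
      hx₂b hdot₂ hx₃ h31 h32
    · simp [resBlock, hz₂b, hz₂]
    · intro z hz
      have : z ≠ z₂ := fun e => hz (e ▸ hz₂b)
      simp [this]
    · intro z hz; simp [resBlock, hz]
  · push Not at hthird
    obtain ⟨b, hb⟩ := exists_notMem_of_card_le ({(ee x).1, (ee x₂).1} : Finset (Fin t)) 2 Finset.card_le_two
      (by simp; exact ht hm2)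
    simp at hb
    set z := ee.symm (b, (ee x).2)
    have hzb : (ee z).1 = b := by simp [z]
    have haz : a z = 0 := by_contra fun e => hb.2 (hzb ▸ hthird z e (hzb ▸ hb.1))
    refine main (Pi.single z 1) (Pi.single z 1) (by simp) b x₂ ?_ ?_ hb.1 (by simp [haz]) hx₂ hx₂b (Ne.symm hb.2) <;>
    · intro w hw
      have : w ≠ z := fun e => hw (e ▸ hzb)
      simp [this]

/-- One crossing root group gives all of SL. -/
lemma BlockOver.sl_le_of_cross (hH : BlockOver ee H) {x y : ι} (hxy : (ee x).1 ≠ (ee y).1)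
    (h : ElemAt H x y) : Cfsg.Geo.specialLinear ι F ≤ H := by
  classical
  refine specialLinear_le_of_elemAt H fun x' y' hne => ?_
  by_cases hb : (ee x').1 = (ee y').1
  · exact fun c => hH.elem_inBlock hne hb c
  -- permute the blocks
  obtain ⟨τ, hτx, hτy⟩ : ∃ τ : Equiv.Perm (Fin t), τ (ee x).1 = (ee x').1 ∧ τ (ee y).1 = (ee y').1 := by
    let τ₁ := Equiv.swap (ee x).1 (ee x').1
    refine ⟨Equiv.swap (τ₁ (ee y).1) (ee y').1 * τ₁, ?_, by simp⟩
    rw [Equiv.Perm.mul_apply, show τ₁ (ee x).1 = (ee x').1 from Equiv.swap_apply_left _ _]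
    refine Equiv.swap_apply_of_ne_of_ne (fun e => hxy ?_) hb
    exact τ₁.injective ((Equiv.swap_apply_left _ _).trans e)
  let σ : Equiv.Perm ι := (ee.trans (τ.prodCongr (Equiv.refl (Fin m)))).trans ee.symm
  have hσb : ∀ z, (ee (σ z)).1 = τ (ee z).1 := fun z => by simp [σ]
  let s : Fˣ := Units.map (Int.castRingHom F).toMonoidHom (Equiv.Perm.sign σ)
  let d : ι → Fˣ := single₁ x s
  have hmem : monoGL σ d ∈ H := by
    refine hH.block _ ⟨τ, fun b a hba => ?_⟩ ?_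
    · simp only [monoGL_val, monoMat, Matrix.of_apply, ne_eq, ite_eq_right_iff, Classical.not_imp] at hba
      rw [hba.1]; exact hσb a
    · rw [monoGL_mem_specialLinear_iff, ← Units.coe_prod, prod_single₁]
      simp only [s, Units.coe_map]
      rcases Int.units_eq_one_or (Equiv.Perm.sign σ) with e | e <;> simp [e]
  have h1 : ElemAt H (σ x) (σ y) := fun c => by
    have h2 := (h.has (c / (d x : F)) (d y : F)).conj_mono hmem
    refine h2.congr (funext fun l => ?_) (funext fun l => ?_)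
    · rcases eq_or_ne l (σ x) with rfl | hl
      · simp [mul_div_cancel₀]
      · have : σ.symm l ≠ x := fun e => hl (by rw [← e, Equiv.apply_symm_apply])
        simp [hl, this]
    · rcases eq_or_ne l (σ y) with rfl | hl
      · simp
      · have : σ.symm l ≠ y := fun e => hl (by rw [← e, Equiv.apply_symm_apply])
        simp [hl, this]
  have hbx : (ee (σ x)).1 = (ee x').1 := (hσb x).trans hτx
  have hby : (ee (σ y)).1 = (ee y').1 := (hσb y).trans hτy
  -- move inside the blocks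
  have h2 : ElemAt H x' (σ y) := by
    rcases eq_or_ne x' (σ x) with rfl | hne1
    · exact h1
    intro c
    have := (hH.elem_inBlock hne1 hbx.symm 1).comm_left (h1 c) (by
      have : σ y ≠ x' := fun e => hb (by rw [← hby, e])
      simp [this])
    refine this.congr ?_ rfl
    rw [single_dotProduct, Pi.single_eq_same, one_mul, ← Pi.single_smul', smul_eq_mul, mul_one]
  intro c
  rcases eq_or_ne y' (σ y) with rfl | hne2
  · exact h2 c
  have := (h2 c).comm_left (hH.elem_inBlock hne2.symm hby 1) (by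
    have : y' ≠ x' := fun e => hb (by rw [e])
    simp [this])
  refine this.congr ?_ rfl
  rw [single_dotProduct, Pi.single_eq_same, one_mul, one_smul]

/-- The block stabiliser is maximal in SL. -/
theorem BlockOver.eq_or (hH : BlockOver ee H) [Fintype F] (hm : 0 < m) (hι : 6 ≤ Fintype.card ι)
    (ht : 2 ≤ t) (h1 : m = 1 → 5 ≤ Fintype.card F) (h2 : m = 2 → 3 ≤ Fintype.card F) :
    (∀ g ∈ H, IsBlock (fun x => (ee x).1) g) ∨ Cfsg.Geo.specialLinear ι F ≤ H := by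
  classical
  by_cases hcross : ∃ x y, (ee x).1 ≠ (ee y).1 ∧ ElemAt H x y
  · obtain ⟨x, y, hxy, h⟩ := hcross
    exact Or.inr (hH.sl_le_of_cross hxy h)
  left
  intro g hg
  have hcard : Fintype.card ι = t * m := by rw [Fintype.card_congr ee]; simp
  rcases (by omega : m = 1 ∨ 2 ≤ m) with hm1 | hm2
  · haveI : Subsingleton (Fin m) := hm1 ▸ inferInstance
    have hinj : Function.Injective fun x => (ee x).1 := fun a b hab =>
      ee.injective (Prod.ext hab (Subsingleton.elim _ _))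
    have hM : MonoOver H :=
      { le := hH.le
        noElem := fun i j hij he => hcross ⟨i, j, fun e => hij (hinj e), he⟩
        mono := fun σ d hsl => hH.block _ ⟨(Equiv.ofBijective _ ⟨hinj, fun i => ⟨ee.symm (i, ⟨0, hm⟩), by simp⟩⟩).symm.trans
            (σ.trans (Equiv.ofBijective _ ⟨hinj, fun i => ⟨ee.symm (i, ⟨0, hm⟩), by simp⟩⟩)), fun b a hba => by
          simp only [monoGL_val, monoMat, Matrix.of_apply, ne_eq, ite_eq_right_iff, Classical.not_imp] at hba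
          rw [hba.1, Equiv.trans_apply, Equiv.trans_apply]
          exact congrArg (fun z => (ee (σ z)).1) ((Equiv.ofBijective _ _).symm_apply_apply a).symm⟩ hsl }
    obtain ⟨σ, d, rfl⟩ := (hM.isMono (h1 hm1) hι hg).exists_eq
    refine ⟨(Equiv.ofBijective _ ⟨hinj, fun i => ⟨ee.symm (i, ⟨0, hm⟩), by simp⟩⟩).symm.trans
      (σ.trans (Equiv.ofBijective _ ⟨hinj, fun i => ⟨ee.symm (i, ⟨0, hm⟩), by simp⟩⟩)), fun b a hba => ?_⟩
    simp only [monoGL_val, monoMat, Matrix.of_apply, ne_eq, ite_eq_right_iff, Classical.not_imp] at hba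
    rw [hba.1, Equiv.trans_apply, Equiv.trans_apply]
    exact congrArg (fun z => (ee (σ z)).1) ((Equiv.ofBijective _ _).symm_apply_apply a).symm
  · by_contra hgb
    exact hcross (hH.exists_cross hm2 (fun e => by rw [e] at hcard; omega) h2 hg hgb)

end CfsgLib.Maximal
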