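import Mathlib
import Cfsg.Agent.Lib.Maximal.Transvec

/-!
Stabilisers of decompositions into small pieces preserve the parity-like count of non-zero components.
-/

set_option autoImplicit false
set_option linter.style.haveILetI false

namespace CfsgLib.Maximal

open scoped Matrix

variable {F : Type*} [Field F] {ι : Type} [Fintype ι] [DecidableEq ι]

section coords

variable {t m : ℕ} (D : Fin t → Submodule F (ι → F))

open DirectSum in
/-- Coordinates adapted to a decomposition. -/
lemma exists_coords (hD : Cfsg.Geo.IsMDecomposition m D) :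
    ∃ e : (ι → F) ≃ₗ[F] (Fin t → Fin m → F), ∀ i v, v ∈ D i ↔ ∀ j, j ≠ i → e v j = 0 := by
  classical
  have hint : DirectSum.IsInternal D :=
    DirectSum.isInternal_submodule_of_iSupIndep_of_iSup_eq_top hD.indep hD.iSup_eq_top
  let b : ∀ i, D i ≃ₗ[F] (Fin m → F) := fun i => (Module.finBasisOfFinrankEq F (D i) (hD.finrank_eq i)).equivFun
  have hbij : Function.Bijective (DirectSum.coeLinearMap D) := hint
  let e0 : (ι → F) ≃ₗ[F] ((i : Fin t) → D i) :=
    (LinearEquiv.ofBijective (DirectSum.coeLinearMap D) hbij).symm.trans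
      (DirectSum.linearEquivFunOnFintype F (Fin t) (fun i => D i))
  have he0 : ∀ i (x : D i), e0 (x : ι → F) = Pi.single i x := by
    intro i x
    have : (LinearEquiv.ofBijective (DirectSum.coeLinearMap D) hbij).symm (x : ι → F) =
        DirectSum.lof F (Fin t) (fun i => D i) i x := by
      rw [LinearEquiv.symm_apply_eq, LinearEquiv.ofBijective_apply, DirectSum.lof_eq_of,
        DirectSum.coeLinearMap_of]
    simp only [e0, LinearEquiv.trans_apply, this, DirectSum.linearEquivFunOnFintype_lof]
  refine ⟨e0.trans (LinearEquiv.piCongrRight b), fun i v => ⟨fun hv j hj => ?_, fun h => ?_⟩⟩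
  · show b j (e0 ((⟨v, hv⟩ : D i) : ι → F) j) = 0
    rw [he0 i ⟨v, hv⟩, Pi.single_eq_of_ne hj, map_zero]
  · have hv : e0 v = Pi.single i (e0 v i) := by
      funext j
      by_cases hj : j = i
      · subst hj; simp
      · rw [Pi.single_eq_of_ne hj]
        exact (b j).map_eq_zero_iff.1 (h j hj)
    have h2 : v = ((e0 v i : D i) : ι → F) := e0.injective (by rw [he0]; exact hv)
    rw [h2]; exact (e0 v i).2

end coords

variable {t m : ℕ}

/-- The number of non-zero components, in the field. -/
noncomputable def nzCount (x : Fin t → Fin m → F) : F :=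
  open Classical in ∑ i, if x i = 0 then 0 else 1

/-- The isometry group of the component count in the coordinates `e`. -/
noncomputable def countGroup (e : (ι → F) ≃ₗ[F] (Fin t → Fin m → F)) : Subgroup (GL ι F) where
  carrier := {g | ∀ v, nzCount (e ((g : Matrix ι ι F) *ᵥ v)) = nzCount (e v)}
  one_mem' := fun v => by simp
  mul_mem' := fun {a b} ha hb v => by rw [Units.val_mul, ← Matrix.mulVec_mulVec, ha, hb]
  inv_mem' := fun {a} ha v => by
    have h := ha (((a⁻¹ : GL ι F) : Matrix ι ι F) *ᵥ v)
    rw [Matrix.mulVec_mulVec, ← Units.val_mul, mul_inv_cancel, Units.val_one, Matrix.one_mulVec] at h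
    exact h.symm

lemma decomposition_le_countGroup (D : Fin t → Submodule F (ι → F)) (e : (ι → F) ≃ₗ[F] (Fin t → Fin m → F))
    (he : ∀ i v, v ∈ D i ↔ ∀ j, j ≠ i → e v j = 0) :
    Cfsg.Geo.decompositionStabilizer D ≤ countGroup e := by
  classical
  rintro g ⟨σ, hσ⟩ v
  -- components move along σ
  let c : Fin t → (ι → F) := fun i => e.symm (Pi.single i (e v i))
  have hcmem : ∀ i, c i ∈ D i := fun i => (he i _).2 fun j hj => by simp [c, Pi.single_eq_of_ne hj]
  have hsum : ∑ i, c i = v := by
    apply e.injective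
    simp [c, Finset.univ_sum_single]
  have hgc : ∀ i, (g : Matrix ι ι F) *ᵥ c i ∈ D (σ i) := fun i => by
    rw [← hσ i]
    exact ⟨c i, hcmem i, Matrix.toLin'_apply _ _⟩
  have hcomp : ∀ i, e ((g : Matrix ι ι F) *ᵥ v) (σ i) = e ((g : Matrix ι ι F) *ᵥ c i) (σ i) := by
    intro i
    conv_lhs => rw [← hsum, Matrix.mulVec_sum, map_sum, Finset.sum_apply]
    refine Finset.sum_eq_single i (fun j _ hj => ?_) (fun h => absurd (Finset.mem_univ i) h)
    exact (he (σ j) _).1 (hgc j) (σ i) (fun h => hj (σ.injective h).symm)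
  show nzCount _ = nzCount _
  unfold nzCount
  rw [← Equiv.sum_comp σ]
  refine Finset.sum_congr rfl fun i _ => ?_
  have hiff : e ((g : Matrix ι ι F) *ᵥ v) (σ i) = 0 ↔ e v i = 0 := by
    rw [hcomp]
    constructor
    · intro h
      have h0 : (g : Matrix ι ι F) *ᵥ c i = 0 := by
        apply e.injective
        funext j
        rw [map_zero]
        by_cases hj : j = σ i
        · subst hj; exact h
        · exact (he (σ i) _).1 (hgc i) j hj
      have h1 := congrArg (((g⁻¹ : GL ι F) : Matrix ι ι F) *ᵥ ·) h0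
      simp only [Matrix.mulVec_mulVec, ← Units.val_mul, inv_mul_cancel, Units.val_one, Matrix.one_mulVec,
        Matrix.mulVec_zero] at h1
      have h2 := congrArg (fun w => e w i) h1
      simpa [c] using h2
    · intro h
      have : c i = 0 := by simp [c, h]
      rw [this, Matrix.mulVec_zero, map_zero]; rfl
  simp only [hiff]

/-- Identity behind the four-component witness. -/
lemma four_count [Fintype F] (h : (m = 1 ∧ Fintype.card F ≤ 4) ∨ (m = 2 ∧ Fintype.card F = 2))
    (c : F) (hc : (Fintype.card F = 3 → c = 2) ∧ (Fintype.card F ≠ 3 → c = 1)) (a : Fin 4 → Fin m → F) :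
    nzCount (fun i => (∑ k, a k) - c • a i) = nzCount a := by
  classical
  rcases h with ⟨rfl, hq⟩ | ⟨rfl, hq⟩
  · have hq2 : 2 ≤ Fintype.card F := Fintype.one_lt_card
    by_cases h3 : Fintype.card F = 3
    · haveI : CharP F 3 := charP_of_card_eq_prime h3
      have hind : ∀ x : Fin 1 → F, (if x = 0 then (0 : F) else 1) = x 0 ^ 2 := by
        intro x
        split_ifs with hx
        · simp [hx]
        · have h0 : x 0 ≠ 0 := fun h => hx (funext fun i => by fin_cases i; exact h)
          have := FiniteField.pow_card_sub_one_eq_one (x 0) h0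
          rw [h3] at this; exact this.symm
      have h30 : (3 : F) = 0 := by exact_mod_cast CharP.cast_eq_zero F 3
      simp only [nzCount, hind, Fin.sum_univ_four, Pi.sub_apply, Pi.add_apply, Pi.smul_apply, smul_eq_mul, hc.1 h3]
      linear_combination (a 0 0 ^ 2 + a 1 0 ^ 2 + a 2 0 ^ 2 + a 3 0 ^ 2) * h30
    · have hind : ∀ x : Fin 1 → F, (if x = 0 then (0 : F) else 1) = x 0 ^ 3 := by
        intro x
        split_ifs with hx
        · simp [hx]
        · have h0 : x 0 ≠ 0 := fun h => hx (funext fun i => by fin_cases i; exact h)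
          have := FiniteField.pow_card_sub_one_eq_one (x 0) h0
          rcases (by omega : Fintype.card F = 2 ∨ Fintype.card F = 4) with h | h
          · rw [h, pow_one] at this; rw [this, one_pow]
          · rw [h] at this; exact this.symm
      have h20 : (2 : F) = 0 := by
        rcases (by omega : Fintype.card F = 2 ∨ Fintype.card F = 4) with h | h
        · haveI : CharP F 2 := charP_of_card_eq_prime h; exact_mod_cast CharP.cast_eq_zero F 2
        · haveI : CharP F 2 := charP_of_card_eq_prime_pow (p := 2) (f := 2) (by rw [h]; norm_num)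
          exact_mod_cast CharP.cast_eq_zero F 2
      haveI : CharP F 2 := CharTwo.of_one_ne_zero_of_two_eq_zero one_ne_zero h20
      simp only [nzCount, hind, Fin.sum_univ_four, Pi.sub_apply, Pi.add_apply, Pi.smul_apply, smul_eq_mul,
        hc.2 h3, one_mul]
      ring_nf
      simp [CharTwo.two_eq_zero, show (3 : F) = 1 by linear_combination h20,
        show (4 : F) = 0 by linear_combination 2 * h20, show (5 : F) = 1 by linear_combination 2 * h20,
        show (6 : F) = 0 by linear_combination 3 * h20, show (12 : F) = 0 by linear_combination 6 * h20]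
  · haveI : CharP F 2 := charP_of_card_eq_prime hq
    have h01 : ∀ y : F, y = 0 ∨ y = 1 := fun y => by
      by_cases hy : y = 0
      · exact Or.inl hy
      · have := FiniteField.pow_card_sub_one_eq_one y hy
        rw [hq, pow_one] at this; exact Or.inr this
    have hind : ∀ x : Fin 2 → F, (if x = 0 then (0 : F) else 1) = x 0 ^ 2 + x 0 * x 1 + x 1 ^ 2 := by
      intro x
      have hx0 : x = 0 ↔ x 0 = 0 ∧ x 1 = 0 := by simp [funext_iff, Fin.forall_fin_two]
      simp only [hx0]
      rcases h01 (x 0) with h | h <;> rcases h01 (x 1) with h' | h' <;>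
        simp [h, h', CharTwo.add_self_eq_zero]
    simp only [nzCount, hind, Fin.sum_univ_four, Pi.sub_apply, Pi.add_apply, Pi.smul_apply, smul_eq_mul,
      hc.2 (by omega), one_mul]
    linear_combination ((a 0 0 + a 1 0 + a 2 0 + a 3 0) ^ 2 +
      (a 0 0 + a 1 0 + a 2 0 + a 3 0) * (a 0 1 + a 1 1 + a 2 1 + a 3 1) +
      (a 0 1 + a 1 1 + a 2 1 + a 3 1) ^ 2) * (CharTwo.two_eq_zero : (2 : F) = 0)

/-- An involution preserving the component count that does not permute the pieces. -/
lemma exists_count_witness [Fintype F] (D : Fin t → Submodule F (ι → F)) (e : (ι → F) ≃ₗ[F] (Fin t → Fin m → F))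
    (he : ∀ i v, v ∈ D i ↔ ∀ j, j ≠ i → e v j = 0) (ht : 4 ≤ t) (hm : 0 < m)
    (h : (m = 1 ∧ Fintype.card F ≤ 4) ∨ (m = 2 ∧ Fintype.card F = 2)) :
    ∃ g : GL ι F, g ∈ countGroup e ∧ g ∉ Cfsg.Geo.decompositionStabilizer D ∧
      (g : Matrix ι ι F) * (g : Matrix ι ι F) = 1 := by
  classical
  set c : F := if Fintype.card F = 3 then 2 else 1 with hc
  have hc' : (Fintype.card F = 3 → c = 2) ∧ (Fintype.card F ≠ 3 → c = 1) :=
    ⟨fun h => by simp [hc, h], fun h => by simp [hc, h]⟩
  have hc2 : (4 : F) - 2 * c = 0 ∧ c * c = 1 := by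
    by_cases h3 : Fintype.card F = 3
    · haveI : CharP F 3 := charP_of_card_eq_prime h3
      have h30 : (3 : F) = 0 := by exact_mod_cast CharP.cast_eq_zero F 3
      rw [hc'.1 h3]
      exact ⟨by ring, by linear_combination h30⟩
    · have hq2 : 2 ≤ Fintype.card F := Fintype.one_lt_card
      have h20 : (2 : F) = 0 := by
        rcases (by omega : Fintype.card F = 2 ∨ Fintype.card F = 4) with h | h
        · haveI : CharP F 2 := charP_of_card_eq_prime h; exact_mod_cast CharP.cast_eq_zero F 2
        · haveI : CharP F 2 := charP_of_card_eq_prime_pow (p := 2) (f := 2) (by rw [h]; norm_num)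
          exact_mod_cast CharP.cast_eq_zero F 2
      rw [hc'.2 h3]
      exact ⟨by linear_combination h20, by ring⟩
  let ix : Fin 4 → Fin t := Fin.castLE ht
  have hix : Function.Injective ix := Fin.castLE_injective ht
  let M : (Fin t → Fin m → F) →ₗ[F] (Fin t → Fin m → F) :=
    LinearMap.pi fun i => if i ∈ Set.range ix then (∑ k, LinearMap.proj (ix k)) - c • LinearMap.proj i
      else LinearMap.proj i
  have hMin : ∀ f k, M f (ix k) = (∑ l, f (ix l)) - c • f (ix k) := fun f k => by
    simp [M, Set.mem_range_self]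
  have hMout : ∀ f i, i ∉ Set.range ix → M f i = f i := fun f i hi => by
    simp only [M, LinearMap.pi_apply, if_neg hi, LinearMap.proj_apply]
  have hMM : ∀ f, M (M f) = f := by
    intro f
    funext i
    by_cases hi : i ∈ Set.range ix
    · obtain ⟨k, rfl⟩ := hi
      rw [hMin]
      simp only [hMin, Finset.sum_sub_distrib, Finset.sum_const, Finset.card_fin, ← Finset.smul_sum]
      funext j
      simp only [Pi.sub_apply, Pi.smul_apply, smul_eq_mul, nsmul_eq_mul, Finset.sum_apply, Pi.mul_apply,
        Pi.natCast_apply]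
      push_cast
      linear_combination (∑ l, f (ix l) j) * hc2.1 + f (ix k) j * hc2.2
    · rw [hMout _ _ hi, hMout _ _ hi]
  let A : Matrix ι ι F := LinearMap.toMatrix' (e.symm.toLinearMap ∘ₗ M ∘ₗ e.toLinearMap)
  have hA : ∀ v, A *ᵥ v = e.symm (M (e v)) := fun v => by
    simp [A, LinearMap.toMatrix'_mulVec]
  have hAA : A * A = 1 := Matrix.ext_of_mulVec_single fun i => by
    rw [← Matrix.mulVec_mulVec, hA, hA, LinearEquiv.apply_symm_apply, hMM, LinearEquiv.symm_apply_apply,
      Matrix.one_mulVec]
  let g : GL ι F := ⟨A, A, hAA, hAA⟩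
  have hgC : g ∈ countGroup e := by
    intro v
    show nzCount (e (A *ᵥ v)) = _
    rw [hA, LinearEquiv.apply_symm_apply]
    have hsplit : ∀ f : Fin t → Fin m → F,
        nzCount f = nzCount (fun k => f (ix k)) + ∑ i ∈ (Finset.univ.image ix)ᶜ, (if f i = 0 then 0 else 1) := by
      intro f
      simp only [nzCount]
      rw [← Finset.sum_image (f := fun i => if f i = 0 then (0 : F) else 1) (s := Finset.univ) (g := ix) (fun a _ b _ h => hix h), Finset.sum_add_sum_compl]
    rw [hsplit, hsplit (e v)]
    congr 1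
    · simp only [hMin]
      exact four_count h c hc' _
    · refine Finset.sum_congr rfl fun i hi => ?_
      rw [hMout _ _ (fun ⟨k, hk⟩ => by simp at hi; exact hi k hk)]
  have hgD : g ∉ Cfsg.Geo.decompositionStabilizer D := by
    rintro ⟨σ, hσ⟩
    let f : Fin t → Fin m → F := Pi.single (ix 0) (fun _ => 1)
    have hmem : e.symm f ∈ D (ix 0) := (he _ _).2 fun j hj => by simp [f, Pi.single_eq_of_ne hj]
    have him : A *ᵥ e.symm f ∈ D (σ (ix 0)) := by
      rw [← hσ]; exact ⟨_, hmem, Matrix.toLin'_apply _ _⟩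
    have h1 := fun k => (he _ _).1 him (ix k)
    simp only [hA, LinearEquiv.apply_symm_apply, hMin] at h1
    have hsum : ∑ l, f (ix l) = (fun _ => 1) := by
      rw [Finset.sum_eq_single (0 : Fin 4) (fun b _ hb => Pi.single_eq_of_ne (hix.ne hb) _) (by simp)]
      simp [f]
    obtain ⟨k, hk0, hk⟩ : ∃ k : Fin 4, k ≠ 0 ∧ ix k ≠ σ (ix 0) := by
      by_cases h : ix 1 = σ (ix 0)
      · exact ⟨2, by decide, fun h' => absurd (hix (h.trans h'.symm)) (by decide)⟩
      · exact ⟨1, by decide, h⟩
    have h2 := congrFun (h1 k hk) ⟨0, hm⟩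
    simp [hsum, f, Pi.single_eq_of_ne (hix.ne hk0)] at h2
  exact ⟨g, hgC, hgD, hAA⟩

theorem small_decomposition_not_maximal [Fintype F] (hι : 8 ≤ Fintype.card ι) {t : ℕ} (m : ℕ)
    (D : Fin t → Submodule F (ι → F)) (hD : Cfsg.Geo.IsMDecomposition m D)
    (h : (m = 1 ∧ Fintype.card F ≤ 4) ∨ (m = 2 ∧ Fintype.card F = 2)) :
    ∃ K : Subgroup (GL ι F), Cfsg.Geo.decompositionStabilizer D ⊓ Cfsg.Geo.specialLinear ι F < K ∧
      K < Cfsg.Geo.specialLinear ι F := by
  classical
  obtain ⟨e, he⟩ := exists_coords D hD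
  have ht : 4 ≤ t := by
    have hn : Module.finrank F (ι → F) = t * m := by
      rw [e.finrank_eq, Module.finrank_pi_fintype]; simp
    rw [Module.finrank_pi] at hn
    rcases h with ⟨rfl, -⟩ | ⟨rfl, -⟩ <;> omega
  have hm : 0 < m := hD.pos
  refine ⟨countGroup e ⊓ Cfsg.Geo.specialLinear ι F,
    lt_of_le_of_ne (inf_le_inf_right _ (decomposition_le_countGroup D e he)) ?_,
    lt_of_le_of_ne inf_le_right ?_⟩
  · intro heq
    let ix : Fin 4 → Fin t := Fin.castLE ht
    obtain ⟨g, hgC, hgD, hAA⟩ := exists_count_witness D e he ht hm h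
    set A : Matrix ι ι F := (g : Matrix ι ι F)
    -- adjust the determinant inside the stabiliser
    obtain ⟨d, hd, hdet⟩ : ∃ d ∈ Cfsg.Geo.decompositionStabilizer D, (d : Matrix ι ι F).det = A.det := by
      have hdd : A.det * A.det = 1 := by rw [← Matrix.det_mul, hAA, Matrix.det_one]
      rcases mul_self_eq_one_iff.1 hdd with h1 | h1
      · exact ⟨1, one_mem _, by rw [Units.val_one, Matrix.det_one, h1]⟩
      · rcases h with ⟨rfl, -⟩ | ⟨rfl, hq⟩
        · let N : (Fin t → Fin 1 → F) →ₗ[F] (Fin t → Fin 1 → F) :=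
            LinearMap.pi fun i => if i = ix 0 then -LinearMap.proj i else LinearMap.proj i
          have hNdet : LinearMap.det N = -1 := by
            let b : Module.Basis (Fin t) F (Fin t → Fin 1 → F) :=
              Module.Basis.ofEquivFun (LinearEquiv.piCongrRight fun _ => LinearEquiv.funUnique (Fin 1) F F)
            have : LinearMap.toMatrix b b N = Matrix.diagonal (fun i => if i = ix 0 then -1 else 1) := by
              ext i j
              rw [LinearMap.toMatrix_apply]
              by_cases hij : i = j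
              · subst hij
                by_cases h0 : i = ix 0 <;> simp [b, N, h0]
              · by_cases h0 : i = ix 0 <;> simp_all [b, N, Matrix.diagonal_apply]
            rw [← LinearMap.det_toMatrix b, this, Matrix.det_diagonal, Finset.prod_ite_eq' Finset.univ (ix 0) (fun _ => (-1 : F))]
            simp
          have hNN : ∀ f, N (N f) = f := fun f => by
            funext i; by_cases h0 : i = ix 0 <;> simp [N, h0]
          let B : Matrix ι ι F := LinearMap.toMatrix' (e.symm.toLinearMap ∘ₗ N ∘ₗ e.toLinearMap)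
          have hB : ∀ v, B *ᵥ v = e.symm (N (e v)) := fun v => by simp [B, LinearMap.toMatrix'_mulVec]
          have hBB : B * B = 1 := Matrix.ext_of_mulVec_single fun i => by
            rw [← Matrix.mulVec_mulVec, hB, hB, LinearEquiv.apply_symm_apply, hNN, LinearEquiv.symm_apply_apply,
              Matrix.one_mulVec]
          refine ⟨⟨B, B, hBB, hBB⟩, ⟨1, fun i => ?_⟩, ?_⟩
          · show (D i).map (Matrix.toLin' B) = D i
            have hmem : ∀ v ∈ D i, B *ᵥ v ∈ D i := fun v hv => (he i _).2 fun j hj => by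
              rw [hB, LinearEquiv.apply_symm_apply]
              by_cases h0 : j = ix 0 <;> simp [N, h0] <;> simpa [h0] using (he i v).1 hv j hj
            refine le_antisymm ?_ fun v hv => ⟨B *ᵥ v, hmem v hv, ?_⟩
            · rintro _ ⟨v, hv, rfl⟩
              rw [Matrix.toLin'_apply]; exact hmem v hv
            · rw [Matrix.toLin'_apply, Matrix.mulVec_mulVec, hBB, Matrix.one_mulVec]
          · show B.det = A.det
            rw [h1, ← hNdet, LinearMap.det_toMatrix']
            exact LinearMap.det_conj N e.symm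
        · haveI : CharP F 2 := charP_of_card_eq_prime hq
          exact ⟨1, one_mem _, by rw [Units.val_one, Matrix.det_one, h1, CharTwo.neg_eq]⟩
    have hmem : g * d⁻¹ ∈ countGroup e ⊓ Cfsg.Geo.specialLinear ι F := by
      refine Subgroup.mem_inf.2 ⟨mul_mem hgC (inv_mem (decomposition_le_countGroup D e he hd)), ?_⟩
      rw [mem_specialLinear_iff, Units.val_mul, Matrix.det_mul, Matrix.coe_units_inv, Matrix.det_nonsing_inv,
        Ring.inverse_eq_inv', hdet]
      exact mul_inv_cancel₀ (Matrix.det_ne_zero_of_left_inverse hAA)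
    rw [← heq] at hmem
    exact hgD (by simpa using mul_mem hmem.1 hd)
  · intro heq
    let i0 : Fin t := ⟨0, by omega⟩
    let i1 : Fin t := ⟨1, by omega⟩
    let f0 : Fin t → Fin m → F := Pi.single i0 (fun _ => 1)
    let f1 : Fin t → Fin m → F := Pi.single i1 (fun _ => 1)
    have hne : i0 ≠ i1 := by simp [i0, i1, Fin.ext_iff]
    have hv : e.symm f0 ∉ Submodule.span F {e.symm f1} := by
      intro hm'
      obtain ⟨k, hk⟩ := Submodule.mem_span_singleton.1 hm'
      have h2 := congrFun (congrFun (congrArg e hk) i0) ⟨0, hm⟩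
      simp [f0, f1, hne] at h2
    obtain ⟨φ, hφ, hφv⟩ := exists_ann _ _ hv
    have h0 := hφ _ (Submodule.mem_span_singleton_self _)
    have hmem : tv (e.symm f1) φ h0 ∈ countGroup e ⊓ Cfsg.Geo.specialLinear ι F := by
      rw [heq]; exact tv_mem_specialLinear _ _ _
    have h2 := hmem.1 (e.symm f0)
    rw [tv_mulVec, hφv, one_smul, map_add, LinearEquiv.apply_symm_apply, LinearEquiv.apply_symm_apply] at h2
    have hone : (fun _ => 1 : Fin m → F) ≠ 0 := fun h => one_ne_zero (congrFun h ⟨0, hm⟩)
    have c0 : nzCount f0 = 1 := by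
      unfold nzCount
      rw [Finset.sum_eq_single i0 (fun b _ hb => by simp [f0, hb]) (by simp)]
      simp [f0, hone]
    have c1 : nzCount (f0 + f1) = 2 := by
      unfold nzCount
      rw [Finset.sum_eq_add i0 i1 hne (fun b _ hb => by simp [f0, f1, hb.1, hb.2]) (by simp) (by simp)]
      simp [f0, f1, hne, hne.symm, hone]; norm_num
    rw [c0, c1] at h2
    exact one_ne_zero (by linear_combination h2 : (1 : F) = 0)

end CfsgLib.Maximal
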