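import Mathlib
import Cfsg.Agent.Lib.Maximal.SmallMonomial
import Cfsg.Agent.Lib.Maximal.BlockMax

/-!
A coordinate frame for a decomposition into equal pieces, and maximality of its stabiliser in SL.
-/

set_option autoImplicit false
set_option linter.unusedSectionVars false

namespace CfsgLib.Maximal

open scoped Matrix

variable {ι : Type} [Fintype ι] [DecidableEq ι] {F : Type*} [Field F] {t m : ℕ}

lemma exists_frame (D : Fin t → Submodule F (ι → F)) (hD : Cfsg.Geo.IsMDecomposition m D) :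
    ∃ (ee : ι ≃ Fin t × Fin m) (P : GL ι F), ∀ i w,
      (P : Matrix ι ι F) *ᵥ w ∈ D i ↔ ∀ x, (ee x).1 ≠ i → w x = 0 := by
  obtain ⟨e, he⟩ := exists_coords D hD
  have hcard : Fintype.card ι = Fintype.card (Fin t × Fin m) := by
    have h := e.finrank_eq
    rw [Module.finrank_pi, Module.finrank_pi_fintype] at h
    simpa using h
  let ee : ι ≃ Fin t × Fin m := Fintype.equivOfCardEq hcard
  let u : (ι → F) ≃ₗ[F] (Fin t → Fin m → F) :=
    (LinearEquiv.funCongrLeft F F ee.symm).trans (LinearEquiv.curry F F (Fin t) (Fin m))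
  let E : (ι → F) ≃ₗ[F] (ι → F) := u.trans e.symm
  let P : GL ι F :=
    ⟨LinearMap.toMatrix' E.toLinearMap, LinearMap.toMatrix' E.symm.toLinearMap,
      by rw [← LinearMap.toMatrix'_comp]; simp, by rw [← LinearMap.toMatrix'_comp]; simp⟩
  refine ⟨ee, P, fun i w => ?_⟩
  have hP : (P : Matrix ι ι F) *ᵥ w = e.symm (u w) := LinearMap.toMatrix'_mulVec _ _
  have hu : ∀ j l, u w j l = w (ee.symm (j, l)) := fun j l => rfl
  rw [hP, he]
  simp only [LinearEquiv.apply_symm_apply]
  constructor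
  · intro h x hx
    have := congrFun (h (ee x).1 hx) (ee x).2
    simpa [hu] using this
  · intro h j hj
    funext l
    rw [hu]
    exact h _ (by simpa using hj)

lemma mem_stab_iff_isBlock (D : Fin t → Submodule F (ι → F)) (ee : ι ≃ Fin t × Fin m) (P : GL ι F)
    (hP : ∀ i w, (P : Matrix ι ι F) *ᵥ w ∈ D i ↔ ∀ x, (ee x).1 ≠ i → w x = 0)
    (hfr : ∀ i, Module.finrank F (D i) = m) (g : GL ι F) :
    g ∈ Cfsg.Geo.decompositionStabilizer D ↔ IsBlock (fun x => (ee x).1) (P⁻¹ * g * P) := by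
  have hgP : ∀ v, (g : Matrix ι ι F) *ᵥ ((P : Matrix ι ι F) *ᵥ v) =
      (P : Matrix ι ι F) *ᵥ (((P⁻¹ * g * P : GL ι F) : Matrix ι ι F) *ᵥ v) := by
    intro v
    rw [Matrix.mulVec_mulVec, Matrix.mulVec_mulVec, ← Units.val_mul, ← Units.val_mul]
    congr 2; group
  constructor
  · rintro ⟨σ, hσ⟩
    refine ⟨σ, fun y x hyx => ?_⟩
    by_contra hne
    have hx : (P : Matrix ι ι F) *ᵥ Pi.single x 1 ∈ D (ee x).1 := (hP _ _).2 fun z hz => by
      have : z ≠ x := fun e => hz (by rw [e])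
      simp [this]
    have h2 : (g : Matrix ι ι F) *ᵥ ((P : Matrix ι ι F) *ᵥ Pi.single x 1) ∈ D (σ (ee x).1) := by
      rw [← hσ]; exact ⟨_, hx, Matrix.toLin'_apply _ _⟩
    rw [hgP] at h2
    have h3 := (hP _ _).1 h2 y hne
    rw [col_mulVec] at h3
    exact hyx h3
  · rintro ⟨σ, hσ⟩
    refine ⟨σ, fun i => ?_⟩
    apply Submodule.eq_of_le_of_finrank_eq
    · rintro _ ⟨v, hv, rfl⟩
      obtain ⟨w, rfl⟩ := mulVec_surj P v
      rw [Matrix.toLin'_apply, hgP, hP]
      intro y hy
      rw [Matrix.mulVec, dotProduct]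
      refine Finset.sum_eq_zero fun x _ => ?_
      by_cases hx : (ee x).1 = i
      · rw [show ((P⁻¹ * g * P : GL ι F) : Matrix ι ι F) y x = 0 from
          by_contra fun h => hy ((hσ y x h).trans (congrArg σ hx)), zero_mul]
      · rw [(hP _ _).1 hv x hx, mul_zero]
    · have hinj : Function.Injective (Matrix.toLin' (g : Matrix ι ι F)) := mulVec_inj g
      rw [← LinearEquiv.finrank_eq (Submodule.equivMapOfInjective _ hinj (D i)), hfr, hfr]

/-- Maximality in SL of the stabiliser of a decomposition. -/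
theorem decomposition_maximal [Fintype F] (hι : 6 ≤ Fintype.card ι) (D : Fin t → Submodule F (ι → F))
    (hD : Cfsg.Geo.IsMDecomposition m D) (h1 : m = 1 → 5 ≤ Fintype.card F)
    (h2 : m = 2 → 3 ≤ Fintype.card F) :
    Cfsg.Geo.IsMaximalIn (Cfsg.Geo.specialLinear ι F)
      (Cfsg.Geo.decompositionStabilizer D ⊓ Cfsg.Geo.specialLinear ι F) := by
  obtain ⟨ee, P, hP⟩ := exists_frame D hD
  have hstab := mem_stab_iff_isBlock D ee P hP hD.finrank_eq
  have hsl : ∀ g : GL ι F, P⁻¹ * g * P ∈ Cfsg.Geo.specialLinear ι F ↔ g ∈ Cfsg.Geo.specialLinear ι F :=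
    fun g => by simp [Cfsg.Geo.specialLinear, MonoidHom.mem_ker, mul_comm]
  constructor
  · refine lt_of_le_of_ne inf_le_right fun he => ?_
    haveI : Nontrivial (Fin t) := Fin.nontrivial_iff_two_le.2 hD.two_le
    obtain ⟨i, j, hij⟩ := exists_pair_ne (Fin t)
    let x := ee.symm (i, ⟨0, hD.pos⟩)
    let y := ee.symm (j, ⟨0, hD.pos⟩)
    have hxy : x ≠ y := fun e => hij (by simpa [x, y] using congrArg (fun z => (ee z).1) e)
    have h0 : (Pi.single y 1 : ι → F) ⬝ᵥ Pi.single x 1 = 0 := by simp [hxy.symm]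
    have hg : P * tv (Pi.single x 1) (Pi.single y 1) h0 * P⁻¹ ∈ Cfsg.Geo.specialLinear ι F := by
      rw [← hsl]; simpa [mul_assoc] using tv_mem_specialLinear _ _ _
    rw [← he] at hg
    have h3 := (hstab _).1 hg.1
    simp only [← mul_assoc, inv_mul_cancel, one_mul] at h3
    rw [inv_mul_cancel_right] at h3
    obtain ⟨σ, hσ⟩ := h3
    have a1 := hσ x y (by simp [tv_val, Matrix.vecMulVec_apply, hxy])
    have a2 := hσ y y (by simp [tv_val, Matrix.vecMulVec_apply, hxy.symm])
    simp [x, y] at a1 a2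
    exact hij (a1.trans a2.symm)
  intro M hHM hMS
  set H := M.map (MulAut.conj P⁻¹).toMonoidHom with hH
  have hmem : ∀ g : GL ι F, g ∈ H ↔ P * g * P⁻¹ ∈ M := by
    intro g
    rw [hH, Subgroup.mem_map_equiv]
    simp
  have hover : BlockOver ee H :=
    { le := fun g hg => by
        have := hMS ((hmem g).1 hg)
        rw [← hsl] at this
        simpa [mul_assoc] using this
      block := fun g hgb hgs => (hmem g).2 (hHM ⟨(hstab _).2 (by simpa [mul_assoc] using hgb),
        (hsl _).1 (by simpa [mul_assoc] using hgs)⟩) }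
  rcases hover.eq_or hD.pos hι hD.two_le h1 h2 with h | h
  · refine Or.inl (le_antisymm (fun g hg => ⟨(hstab g).2 (h _ ((hmem _).2 (by simpa [mul_assoc] using hg))), hMS hg⟩) hHM)
  · refine Or.inr (le_antisymm hMS fun g hg => ?_)
    have h3 := (hmem _).1 (h ((hsl g).2 hg))
    simpa [mul_assoc] using h3

end CfsgLib.Maximal
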