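import Mathlib
import Cfsg.Agent.Lib.Maximal.MonoBasic

/-!
Vectors and matrices with entries in a subfield, and the dihedral trick for two involutions.
-/

set_option autoImplicit false
set_option linter.unusedSectionVars false
set_option linter.unusedSimpArgs false

namespace CfsgLib.Maximal

open scoped Matrix

variable {ι : Type} [Fintype ι] [DecidableEq ι] {F : Type*} [Field F] (F₀ : Subfield F)

/-- All entries lie in the subfield. -/
def RatV (v : ι → F) : Prop := ∀ i, v i ∈ F₀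

/-- All entries of the matrix lie in the subfield. -/
def RatM (A : Matrix ι ι F) : Prop := ∀ i j, A i j ∈ F₀

/-- Some non-zero multiple of the vector has all entries in the subfield. -/
def RatLine (v : ι → F) : Prop := ∃ c : F, c ≠ 0 ∧ RatV F₀ (c • v)

/-- Some non-zero multiple of the matrix has all entries in the subfield. -/
def RatUpToScalar (g : GL ι F) : Prop := ∃ c : F, c ≠ 0 ∧ RatM F₀ (c • (g : Matrix ι ι F))

variable {F₀}

lemma ratV_single (i : ι) {c : F} (hc : c ∈ F₀) : RatV F₀ (Pi.single i c : ι → F) := fun j => by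
  rcases eq_or_ne j i with rfl | h
  · simpa using hc
  · simp [h, F₀.zero_mem]

lemma RatV.sub {v w : ι → F} (hv : RatV F₀ v) (hw : RatV F₀ w) : RatV F₀ (v - w) :=
  fun i => F₀.sub_mem (hv i) (hw i)

lemma RatV.smul {v : ι → F} (hv : RatV F₀ v) {c : F} (hc : c ∈ F₀) : RatV F₀ (c • v) :=
  fun i => F₀.mul_mem hc (hv i)

lemma RatV.dot {v w : ι → F} (hv : RatV F₀ v) (hw : RatV F₀ w) : v ⬝ᵥ w ∈ F₀ :=
  sum_mem fun i _ => F₀.mul_mem (hv i) (hw i)

lemma RatM.mulVec {A : Matrix ι ι F} (hA : RatM F₀ A) {v : ι → F} (hv : RatV F₀ v) : RatV F₀ (A *ᵥ v) :=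
  fun i => RatV.dot (hA i) hv

lemma ratM_one : RatM F₀ (1 : Matrix ι ι F) := fun i j => by
  rcases eq_or_ne i j with rfl | h
  · simp [F₀.one_mem]
  · simp [h, F₀.zero_mem]

lemma RatM.add {A B : Matrix ι ι F} (hA : RatM F₀ A) (hB : RatM F₀ B) : RatM F₀ (A + B) :=
  fun i j => F₀.add_mem (hA i j) (hB i j)

lemma RatM.sub {A B : Matrix ι ι F} (hA : RatM F₀ A) (hB : RatM F₀ B) : RatM F₀ (A - B) :=
  fun i j => F₀.sub_mem (hA i j) (hB i j)

lemma RatM.smul {A : Matrix ι ι F} (hA : RatM F₀ A) {c : F} (hc : c ∈ F₀) : RatM F₀ (c • A) :=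
  fun i j => F₀.mul_mem hc (hA i j)

lemma RatM.transpose {A : Matrix ι ι F} (hA : RatM F₀ A) : RatM F₀ Aᵀ := fun i j => hA j i

lemma RatM.mul {A B : Matrix ι ι F} (hA : RatM F₀ A) (hB : RatM F₀ B) : RatM F₀ (A * B) :=
  fun i j => RatV.dot (hA i) fun k => hB k j

lemma ratM_vecMulVec {a φ : ι → F} (ha : RatV F₀ a) (hφ : RatV F₀ φ) : RatM F₀ (Matrix.vecMulVec a φ) :=
  fun i j => F₀.mul_mem (ha i) (hφ j)

lemma ratM_monoMat (σ : Equiv.Perm ι) {d : ι → F} (hd : RatV F₀ d) : RatM F₀ (monoMat σ d) := fun i j => by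
  simp only [monoMat, Matrix.of_apply]
  split_ifs
  exacts [hd j, F₀.zero_mem]

lemma RatM.lift {A : Matrix ι ι F} (hA : RatM F₀ A) :
    ∃ A₀ : Matrix ι ι F₀, A₀.map F₀.subtype = A :=
  ⟨Matrix.of fun i j => ⟨A i j, hA i j⟩, rfl⟩

/-- An invertible rational matrix has a rational inverse. -/
lemma RatM.inv {g : GL ι F} (hg : RatM F₀ (g : Matrix ι ι F)) :
    RatM F₀ ((g⁻¹ : GL ι F) : Matrix ι ι F) := by
  obtain ⟨A₀, hA₀⟩ := hg.lift
  have hdet : A₀.det ≠ 0 := fun h => by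
    have h2 := (RingHom.map_det F₀.subtype A₀).symm
    rw [h, map_zero, show F₀.subtype.mapMatrix A₀ = A₀.map F₀.subtype from rfl, hA₀] at h2
    have := (Matrix.isUnit_iff_isUnit_det (g : Matrix ι ι F)).1 ⟨g, rfl⟩
    rw [h2] at this
    exact not_isUnit_zero this
  have h3 : (g : Matrix ι ι F) * (A₀⁻¹).map F₀.subtype = 1 := by
    rw [← hA₀, ← Matrix.map_mul, Matrix.mul_nonsing_inv _ (isUnit_iff_ne_zero.2 hdet)]
    exact Matrix.map_one _ (map_zero _) (map_one _)
  rw [Units.inv_eq_of_mul_eq_one_right h3]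
  exact fun i j => (A₀⁻¹ i j).2

/-- A singular rational matrix has a rational vector in its left kernel. -/
lemma RatM.exists_left_null {A : Matrix ι ι F} (hA : RatM F₀ A) (hdet : A.det = 0) :
    ∃ ψ : ι → F, RatV F₀ ψ ∧ ψ ≠ 0 ∧ ψ ᵥ* A = 0 := by
  obtain ⟨A₀, rfl⟩ := hA.lift
  have h0 : A₀.det = 0 := F₀.subtype.injective (by
    rw [RingHom.map_det, map_zero]; exact hdet)
  obtain ⟨v, hv, hv0⟩ := Matrix.exists_vecMul_eq_zero_iff.2 h0
  refine ⟨fun i => (v i : F), fun i => (v i).2, fun h => hv (funext fun i => Subtype.ext (congrFun h i)), ?_⟩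
  funext j
  have h2 := congrArg (fun x : F₀ => (x : F)) (congrFun hv0 j)
  simpa [Matrix.vecMul, dotProduct] using h2

variable (F₀) in
/-- Coordinates in fewer dimensions than the space are dependent over the subfield. -/
lemma exists_rat_dot_eq_zero [Fintype F] {r : ℕ} (hcard : Fintype.card F = Nat.card F₀ ^ r)
    (hr : r < Fintype.card ι) (a : ι → F) : ∃ ψ : ι → F, RatV F₀ ψ ∧ ψ ≠ 0 ∧ ψ ⬝ᵥ a = 0 := by
  classical
  let f : (ι → F₀) → F := fun v => (fun i => (v i : F)) ⬝ᵥ a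
  have hlt : Fintype.card F < Fintype.card (ι → F₀) := by
    rw [Fintype.card_fun, hcard, ← Nat.card_eq_fintype_card (α := F₀)]
    have h1 : 1 < Nat.card F₀ := Finite.one_lt_card
    exact Nat.pow_lt_pow_right h1 hr
  obtain ⟨v, w, hvw, he⟩ := Fintype.exists_ne_map_eq_of_card_lt f hlt
  refine ⟨fun i => (v i : F) - (w i : F), fun i => F₀.sub_mem (v i).2 (w i).2, fun h => hvw ?_, ?_⟩
  · funext i; exact Subtype.ext (sub_eq_zero.1 (congrFun h i))
  · exact (sub_dotProduct _ _ a).trans (sub_eq_zero.2 he)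

/-- Dihedral trick: two involutions and the central element of the group they generate. -/
lemma exists_central_or_pow_conj {G : Type*} [Group G] [Finite G] {x t : G} (hx : x * x = 1) (ht : t * t = 1) :
    (∃ i : ℕ, (x * t) ^ i * x * ((x * t) ^ i)⁻¹ = t) ∨ ∃ (z w : G) (k : ℕ), z * z = 1 ∧ z ≠ 1 ∧ x * z = z * x ∧ t * z = z * t ∧
      w = x * t ∧ z = w ^ k ∧ orderOf w = 2 * k := by
  set w := x * t with hw
  have hxinv : x⁻¹ = x := inv_eq_of_mul_eq_one_right hx
  have htinv : t⁻¹ = t := inv_eq_of_mul_eq_one_right ht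
  have hwinv : x * w * x⁻¹ = w⁻¹ := by
    rw [hw, mul_inv_rev, hxinv, htinv, ← mul_assoc, hx, one_mul]
  have hxp : ∀ i : ℕ, x * w ^ i * x⁻¹ = (w ^ i)⁻¹ := fun i => by rw [← conj_pow, hwinv, inv_pow]
  have hconj : ∀ i : ℕ, w ^ i * x * (w ^ i)⁻¹ = w ^ (i + i) * x := by
    intro i
    rw [pow_add, ← hxp i, hxinv, mul_assoc, mul_assoc, mul_assoc]
    congr 1
    rw [← mul_assoc x (w ^ i) x, ← mul_assoc x _ _, ← mul_assoc, hx, one_mul]
  rcases Nat.even_or_odd (orderOf w) with ⟨k, hk⟩ | ⟨i, hi⟩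
  · right
    have hk' : orderOf w = 2 * k := by omega
    have hk0 : 0 < k := by have := orderOf_pos w; omega
    have hz2 : w ^ k * w ^ k = 1 := by rw [← pow_add, ← hk, pow_orderOf_eq_one]
    have hz1 : w ^ k ≠ 1 := fun h => by
      have := Nat.le_of_dvd hk0 (orderOf_dvd_of_pow_eq_one h)
      omega
    have hxz : x * w ^ k = w ^ k * x := by
      have h2 := hxp k
      rw [inv_eq_of_mul_eq_one_right hz2, hxinv] at h2
      calc x * w ^ k = x * w ^ k * x * x := by rw [mul_assoc _ x x, hx, mul_one]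
        _ = w ^ k * x := by rw [h2]
    refine ⟨w ^ k, w, k, hz2, hz1, hxz, ?_, rfl, rfl, hk'⟩
    have htw : t = x * w := by rw [hw, ← mul_assoc, hx, one_mul]
    rw [htw, mul_assoc, ← pow_succ', pow_succ, ← mul_assoc, hxz, mul_assoc]
  · left
    refine ⟨i, ?_⟩
    rw [hconj]
    have : w ^ (i + i) = w⁻¹ := by
      refine eq_inv_of_mul_eq_one_left ?_
      rw [← pow_succ, show i + i + 1 = orderOf w by omega, pow_orderOf_eq_one]
    rw [this, hw, mul_inv_rev, hxinv, htinv, mul_assoc, hx, mul_one]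

/-- Two involutions are conjugate or commute with a central involution. -/
lemma exists_central_or_conj {G : Type*} [Group G] [Finite G] {x t : G} (hx : x * x = 1) (ht : t * t = 1) :
    (∃ w : G, w * x * w⁻¹ = t) ∨ ∃ (z w : G) (k : ℕ), z * z = 1 ∧ z ≠ 1 ∧ x * z = z * x ∧ t * z = z * t ∧
      w = x * t ∧ z = w ^ k ∧ orderOf w = 2 * k :=
  (exists_central_or_pow_conj hx ht).imp_left fun ⟨_, h⟩ => ⟨_, h⟩

/-- When the central element is the distinguished central involution `ε`, a conjugate of `x` is `εx` or `εt`. -/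
lemma conj_eq_neg {G : Type*} [Group G] {x t ε : G} (hx : x * x = 1) (ht : t * t = 1) {k : ℕ}
    (hz : (x * t) ^ k = ε) : ∃ w : G, w * x * w⁻¹ = ε * x ∨ w * x * w⁻¹ = ε * t := by
  set w := x * t with hw
  have hxinv : x⁻¹ = x := inv_eq_of_mul_eq_one_right hx
  have htinv : t⁻¹ = t := inv_eq_of_mul_eq_one_right ht
  have hwinv : x * w * x⁻¹ = w⁻¹ := by
    rw [hw, mul_inv_rev, hxinv, htinv, ← mul_assoc, hx, one_mul]
  have hxp : ∀ i : ℕ, x * w ^ i * x⁻¹ = (w ^ i)⁻¹ := fun i => by rw [← conj_pow, hwinv, inv_pow]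
  have hconj : ∀ i : ℕ, w ^ i * x * (w ^ i)⁻¹ = w ^ (i + i) * x := by
    intro i
    rw [pow_add, ← hxp i, hxinv, mul_assoc, mul_assoc, mul_assoc]
    congr 1
    rw [← mul_assoc x (w ^ i) x, ← mul_assoc x _ _, ← mul_assoc, hx, one_mul]
  rcases Nat.even_or_odd k with ⟨i, rfl⟩ | ⟨i, rfl⟩
  · exact ⟨w ^ i, Or.inl (by rw [hconj, hz])⟩
  · refine ⟨w ^ i, Or.inr ?_⟩
    rw [hconj]
    have h2 : w ^ (i + i) * w = ε := by rw [← pow_succ, ← hz, two_mul]
    rw [← h2, hw, mul_assoc, mul_assoc, ht, mul_one]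

end CfsgLib.Maximal
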