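import Mathlib
import Cfsg.Agent.Lib.Maximal.RatBasic

/-!
Subfield subgroups are maximal in SL.
-/

set_option autoImplicit false
set_option linter.unusedSectionVars false
set_option linter.unusedSimpArgs false

namespace CfsgLib.Maximal

open scoped Matrix

variable {ι : Type} [Fintype ι] [DecidableEq ι] {F : Type*} [Field F] {F₀ : Subfield F}

/-- An overgroup of the rational group without larger elementary root groups. -/
structure SubOver (F₀ : Subfield F) (H : Subgroup (GL ι F)) : Prop where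
  le : H ≤ Cfsg.Geo.specialLinear ι F
  mem : ∀ g : GL ι F, g ∈ Cfsg.Geo.specialLinear ι F → RatUpToScalar F₀ g → g ∈ H
  root : ∀ i j, i ≠ j → ∀ μ : F, Has H (Pi.single i μ) (Pi.single j 1) → μ ∈ F₀
  dim : 6 ≤ Fintype.card ι

variable {H : Subgroup (GL ι F)}

lemma SubOver.rat (h : SubOver F₀ H) {u ψ : ι → F} (hu : RatV F₀ u) (hψ : RatV F₀ ψ) (h0 : ψ ⬝ᵥ u = 0) :
    Has H u ψ :=
  ⟨h0, h.mem _ (tv_mem_specialLinear _ _ _) ⟨1, one_ne_zero, by
    rw [one_smul, tv_val]; exact ratM_one.add (ratM_vecMulVec hu hψ)⟩⟩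

lemma exists_notMem4 (hι : 5 ≤ Fintype.card ι) (a b c d : ι) : ∃ q, q ≠ a ∧ q ≠ b ∧ q ≠ c ∧ q ≠ d := by
  obtain ⟨q, -, hq⟩ : ∃ q ∈ (Finset.univ : Finset ι), q ∉ ({a, b, c, d} : Finset ι) :=
    Finset.exists_mem_notMem_of_card_lt_card (by
      rw [Finset.card_univ]; exact lt_of_le_of_lt Finset.card_le_four (by omega))
  simp at hq
  exact ⟨q, hq⟩

/-- A rational centre has a rational axis. -/
lemma SubOver.axis_rat (h : SubOver F₀ H) {a φ : ι → F} (hX : Has H a φ) (ha : RatV F₀ a) (ha0 : a ≠ 0) :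
    RatV F₀ φ := by
  classical
  intro k
  by_contra hk
  have hι := h.dim
  obtain ⟨l, hl⟩ := Function.ne_iff.1 ha0
  obtain ⟨p, hpk, hpl, -⟩ := exists_notMem4 (by omega) k l k k
  obtain ⟨p', hp'k, hp'l, hp'p, -⟩ := exists_notMem4 (by omega) k l p k
  obtain ⟨i, hik, hil, hip, hip'⟩ := exists_notMem4 (by omega) k l p p'
  -- a rational functional killing the centre and vanishing at two coordinates
  obtain ⟨ψ, hψ, hψa, hψk, hψi, hψ0⟩ : ∃ ψ : ι → F, RatV F₀ ψ ∧ ψ ⬝ᵥ a = 0 ∧ ψ k = 0 ∧ ψ i = 0 ∧ ψ ≠ 0 := by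
    by_cases hap : a p = 0
    · exact ⟨Pi.single p 1, ratV_single p F₀.one_mem, by simp [hap], by simp [hpk.symm], by simp [hip],
        by simp⟩
    · refine ⟨Pi.single p (a p') - Pi.single p' (a p), (ratV_single p (ha p')).sub (ratV_single p' (ha p)),
        by simp [sub_dotProduct, mul_comm], by simp [hpk.symm, hp'k.symm], by simp [hip, hip'], fun h0 => ?_⟩
      have := congrFun h0 p'
      simp [hp'p] at this
      exact hap this
  have hY : Has H (Pi.single k 1) ψ := h.rat (ratV_single k F₀.one_mem) hψ (by simp [hψk])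
  have h1 := hY.conj_tv' hX
  rw [hψa, zero_smul, add_zero, dotProduct_single, mul_one] at h1
  have h2 := hX.sub_right h1
  rw [sub_sub_cancel] at h2
  -- now the centre to a coordinate vector
  have h3 := (h.rat (ratV_single i F₀.one_mem) (ratV_single l F₀.one_mem) (by simp [hil.symm])).comm_left h2
    (by simp [hψi])
  rw [single_dotProduct, one_mul] at h3
  obtain ⟨q, hq⟩ := Function.ne_iff.1 hψ0
  have hqi : q ≠ i := fun e => hq (by rw [e, hψi]; rfl)
  obtain ⟨j, hji, hjq, -⟩ := exists_notMem4 (by omega) i q i i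
  have h4 := h3.comm_left (h.rat (ratV_single q F₀.one_mem) (ratV_single j F₀.one_mem) (by simp [hjq]))
    (by simp [hji])
  rw [smul_dotProduct, dotProduct_single, mul_one, smul_smul, smul_eq_mul, ← Pi.single_smul', smul_eq_mul,
    mul_one] at h4
  have hmem := h.root i j hji.symm _ h4
  have h5 : ψ q * a l ∈ F₀ := F₀.mul_mem (hψ q) (ha l)
  have h6 : φ k ∈ F₀ := by
    have h7 := F₀.mul_mem hmem (F₀.inv_mem h5)
    have hne : ψ q * a l ≠ 0 := mul_ne_zero hq hl
    rwa [show φ k * ψ q * a l = φ k * (ψ q * a l) by ring, mul_assoc, mul_inv_cancel₀ hne, mul_one] at h7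
  exact hk h6

/-- A rational axis has a rational centre. -/
lemma SubOver.centre_rat (h : SubOver F₀ H) {a φ : ι → F} (hX : Has H a φ) (hφ : RatV F₀ φ) (hφ0 : φ ≠ 0) :
    RatV F₀ a := by
  classical
  intro k
  by_contra hk
  have hι := h.dim
  obtain ⟨p, hpk, -⟩ := exists_notMem4 (by omega) k k k k
  obtain ⟨p', hp'k, hp'p, -⟩ := exists_notMem4 (by omega) k p k k
  obtain ⟨u, hu, hφu, huk, hu0⟩ : ∃ u : ι → F, RatV F₀ u ∧ φ ⬝ᵥ u = 0 ∧ u k = 0 ∧ u ≠ 0 := by
    by_cases hap : φ p = 0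
    · exact ⟨Pi.single p 1, ratV_single p F₀.one_mem, by simp [hap], by simp [hpk.symm], by simp⟩
    · refine ⟨Pi.single p (φ p') - Pi.single p' (φ p), (ratV_single p (hφ p')).sub (ratV_single p' (hφ p)),
        by simp [dotProduct_sub, mul_comm], by simp [hpk.symm, hp'k.symm], fun h0 => ?_⟩
      have := congrFun h0 p'
      simp [hp'p] at this
      exact hap this
  have hY : Has H u (Pi.single k 1) := h.rat hu (ratV_single k F₀.one_mem) (by simp [huk])
  have h1 := hY.conj_tv' hX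
  rw [hφu, zero_smul, sub_zero, single_dotProduct, one_mul] at h1
  have h2 := h1.sub_left hX
  rw [add_sub_cancel_left, Has.smul_iff] at h2
  have h3 := h.axis_rat h2 hu hu0
  obtain ⟨q, hq⟩ := Function.ne_iff.1 hφ0
  have h4 := F₀.mul_mem (h3 q) (F₀.inv_mem (hφ q))
  rw [Pi.smul_apply, smul_eq_mul, mul_assoc, mul_inv_cancel₀ (show φ q ≠ 0 from hq), mul_one] at h4
  exact hk h4

/-- A centre on a rational line gives a rational transvection. -/
lemma SubOver.of_centre (h : SubOver F₀ H) {a φ : ι → F} (hX : Has H a φ) (ha0 : a ≠ 0) {c : F} (hc : c ≠ 0)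
    (ha : RatV F₀ (c • a)) : RatV F₀ (c⁻¹ • φ) := by
  refine h.axis_rat ?_ ha (smul_ne_zero hc ha0)
  rw [Has.smul_iff, smul_smul, mul_inv_cancel₀ hc, one_smul]
  exact hX

/-- A transvection with an axis on a rational line. -/
lemma SubOver.of_axis (h : SubOver F₀ H) {a φ : ι → F} (hX : Has H a φ) (hφ0 : φ ≠ 0) {c : F} (hc : c ≠ 0)
    (hφ : RatV F₀ (c • φ)) : RatM F₀ (Matrix.vecMulVec a φ) := by
  have h1 : Has H (c⁻¹ • a) (c • φ) := by
    rw [Has.smul_iff, smul_smul, inv_mul_cancel₀ hc, one_smul]; exact hX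
  have h2 := ratM_vecMulVec (h.centre_rat h1 hφ (smul_ne_zero hc hφ0)) hφ
  rwa [Matrix.smul_vecMulVec, Matrix.vecMulVec_smul, smul_smul, inv_mul_cancel₀ hc, one_smul] at h2

lemma SubOver.of_centre' (h : SubOver F₀ H) {a φ : ι → F} (hX : Has H a φ) (ha0 : a ≠ 0) {c : F} (hc : c ≠ 0)
    (ha : RatV F₀ (c • a)) : RatM F₀ (Matrix.vecMulVec a φ) := by
  have h2 := ratM_vecMulVec ha (h.of_centre hX ha0 hc ha)
  rwa [Matrix.smul_vecMulVec, Matrix.vecMulVec_smul, smul_smul, mul_inv_cancel₀ hc, one_smul] at h2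

/-- A centre in a rational hyperplane gives a rational transvection. -/
lemma SubOver.of_dep (h : SubOver F₀ H) {a φ ψ : ι → F} (hX : Has H a φ) (hψ : RatV F₀ ψ) (hψ0 : ψ ≠ 0)
    (hψa : ψ ⬝ᵥ a = 0) : RatM F₀ (Matrix.vecMulVec a φ) := by
  classical
  rcases eq_or_ne a 0 with rfl | ha0
  · intro i j; simp [Matrix.vecMulVec_apply, F₀.zero_mem]
  rcases eq_or_ne φ 0 with rfl | hφ0
  · intro i j; simp [Matrix.vecMulVec_apply, F₀.zero_mem]
  by_cases hc : ∃ c : ι → F, RatV F₀ c ∧ ψ ⬝ᵥ c = 0 ∧ φ ⬝ᵥ c ≠ 0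
  · obtain ⟨c, hc, hψc, hφc⟩ := hc
    have h1 := hX.comm_left (h.rat hc hψ hψc) hψa
    exact h.of_centre' hX ha0 hφc (h.centre_rat h1 hψ hψ0)
  · push Not at hc
    obtain ⟨q, hq⟩ := Function.ne_iff.1 hψ0
    -- the axis is then a multiple of the rational functional
    have h1 : ∀ x, φ x * ψ q = φ q * ψ x := fun x => by
      have := hc (Pi.single x (ψ q) - Pi.single q (ψ x))
        ((ratV_single x (hψ q)).sub (ratV_single q (hψ x))) (by simp [dotProduct_sub, mul_comm])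
      simp [dotProduct_sub] at this
      linear_combination this
    have hφq : φ q ≠ 0 := fun h0 => hφ0 (funext fun x => by
      have := h1 x
      rw [h0, zero_mul] at this
      exact (mul_eq_zero.1 this).resolve_right hq)
    refine h.of_axis hX hφ0 (c := (φ q)⁻¹) (inv_ne_zero hφq) fun x => ?_
    have hqne : ψ q ≠ 0 := hq
    have e : ((φ q)⁻¹ • φ) x = ψ x * (ψ q)⁻¹ := by
      simp only [Pi.smul_apply, smul_eq_mul]
      field_simp
      linear_combination h1 x
    rw [e]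
    exact F₀.mul_mem (hψ x) (F₀.inv_mem (hψ q))

/-- An axis vanishing at a rational vector gives a rational transvection. -/
lemma SubOver.of_dep' (h : SubOver F₀ H) {a φ c : ι → F} (hX : Has H a φ) (hc : RatV F₀ c) (hc0 : c ≠ 0)
    (hφc : φ ⬝ᵥ c = 0) : RatM F₀ (Matrix.vecMulVec a φ) := by
  classical
  rcases eq_or_ne φ 0 with rfl | hφ0
  · intro i j; simp [Matrix.vecMulVec_apply, F₀.zero_mem]
  rcases eq_or_ne a 0 with rfl | ha0
  · intro i j; simp [Matrix.vecMulVec_apply, F₀.zero_mem]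
  by_cases hψ : ∃ ψ : ι → F, RatV F₀ ψ ∧ ψ ⬝ᵥ c = 0 ∧ ψ ⬝ᵥ a ≠ 0
  · obtain ⟨ψ, hψ, hψc, hψa⟩ := hψ
    have h1 := hX.comm_right (h.rat hc hψ hψc) hφc
    exact h.of_axis hX hφ0 hψa (h.axis_rat h1 hc hc0)
  · push Not at hψ
    obtain ⟨q, hq⟩ := Function.ne_iff.1 hc0
    have h1 : ∀ x, a x * c q = a q * c x := fun x => by
      have := hψ (Pi.single x (c q) - Pi.single q (c x))
        ((ratV_single x (hc q)).sub (ratV_single q (hc x))) (by simp [sub_dotProduct, mul_comm])
      simp [sub_dotProduct] at this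
      linear_combination this
    have haq : a q ≠ 0 := fun h0 => ha0 (funext fun x => by
      have := h1 x
      rw [h0, zero_mul] at this
      exact (mul_eq_zero.1 this).resolve_right hq)
    refine h.of_centre' hX ha0 (c := (a q)⁻¹) (inv_ne_zero haq) fun x => ?_
    have hqne : c q ≠ 0 := hq
    have e : ((a q)⁻¹ • a) x = c x * (c q)⁻¹ := by
      simp only [Pi.smul_apply, smul_eq_mul]
      field_simp
      linear_combination h1 x
    rw [e]
    exact F₀.mul_mem (hc x) (F₀.inv_mem (hc q))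

/-- A transvection commuting with a rational involution is rational. -/
lemma SubOver.of_commute (h : SubOver F₀ H) {a φ : ι → F} (hX : Has H a φ) {t : Matrix ι ι F}
    (ht : RatM F₀ t) (htt : t * t = 1) (ht1 : t ≠ 1) (ht2 : t ≠ -1)
    (hcomm : t * Matrix.vecMulVec a φ = Matrix.vecMulVec a φ * t) : RatM F₀ (Matrix.vecMulVec a φ) := by
  classical
  rcases eq_or_ne φ 0 with rfl | hφ0
  · intro i j; simp [Matrix.vecMulVec_apply, F₀.zero_mem]
  rcases eq_or_ne a 0 with rfl | ha0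
  · intro i j; simp [Matrix.vecMulVec_apply, F₀.zero_mem]
  obtain ⟨j, hj⟩ := Function.ne_iff.1 hφ0
  rw [Matrix.mul_vecMulVec, Matrix.vecMulVec_mul] at hcomm
  set κ := (φ ᵥ* t) j / φ j
  have hta : t *ᵥ a = κ • a := funext fun i => by
    have := congrFun (congrFun hcomm i) j
    simp [Matrix.vecMulVec_apply] at this
    have hj' : φ j ≠ 0 := hj
    simp [κ]; field_simp; linear_combination this
  have hκ : κ = 1 ∨ κ = -1 := by
    obtain ⟨i, hi⟩ := Function.ne_iff.1 ha0
    have h2 : a = (κ * κ) • a := by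
      conv_lhs => rw [← Matrix.one_mulVec a, ← htt, ← Matrix.mulVec_mulVec, hta, Matrix.mulVec_smul, hta,
        smul_smul]
    have h3 := congrFun h2 i
    simp at h3
    exact mul_self_eq_one_iff.1 (mul_right_cancel₀ (show a i ≠ 0 from hi) (by linear_combination -h3))
  have hκ0 : κ ∈ F₀ := by
    rcases hκ with e | e <;> rw [e]
    exacts [F₀.one_mem, F₀.neg_mem F₀.one_mem]
  have hne : t - κ • 1 ≠ 0 := fun h0 => by
    rcases hκ with e | e <;> rw [e] at h0
    · exact ht1 (by rwa [one_smul, sub_eq_zero] at h0)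
    · exact ht2 (by rwa [neg_smul, one_smul, sub_eq_zero] at h0)
  obtain ⟨i, hi⟩ := Function.ne_iff.1 hne
  refine h.of_dep hX (ψ := (t - κ • (1 : Matrix ι ι F)) i) (fun x => (ht.sub (ratM_one.smul hκ0)) i x) hi ?_
  show ((t - κ • (1 : Matrix ι ι F)) *ᵥ a) i = 0
  rw [Matrix.sub_mulVec, hta, Matrix.smul_mulVec, Matrix.one_mulVec, sub_self, Pi.zero_apply]

lemma ratLine_of_vecMulVec {a φ : ι → F} (hφ : φ ≠ 0) (h : RatM F₀ (Matrix.vecMulVec a φ)) : RatLine F₀ a := by
  obtain ⟨j, hj⟩ := Function.ne_iff.1 hφ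
  refine ⟨φ j, hj, fun i => ?_⟩
  have := h i j
  rwa [Matrix.vecMulVec_apply, mul_comm] at this

/-- An element sending two independent rational vectors to rational lines is rational up to a scalar. -/
lemma SubOver.rat_of_two (h : SubOver F₀ H) {z : GL ι F} (hz : z ∈ H) {i₁ i₂ : ι} (hne : i₁ ≠ i₂)
    (h₁ : RatLine F₀ ((z : Matrix ι ι F) *ᵥ Pi.single i₁ 1))
    (h₂ : RatLine F₀ ((z : Matrix ι ι F) *ᵥ Pi.single i₂ 1)) : RatUpToScalar F₀ z := by
  classical
  set G : Matrix ι ι F := (z : Matrix ι ι F)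
  set Gi : Matrix ι ι F := ((z⁻¹ : GL ι F) : Matrix ι ι F)
  have row : ∀ {i : ι} {c : F}, c ≠ 0 → RatV F₀ (c • (G *ᵥ Pi.single i 1)) → ∀ q, q ≠ i →
      RatV F₀ (c⁻¹ • Gi q) := by
    intro i c hc hrat q hq
    have h1 := (h.rat (ratV_single i F₀.one_mem) (ratV_single q F₀.one_mem) (by simp [hq])).conj hz
    have h2 := h.of_centre h1 (fun h0 => by
      have h3 := mulVec_inj z (show (z : Matrix ι ι F) *ᵥ Pi.single i 1 = (z : Matrix ι ι F) *ᵥ 0 by
        rw [Matrix.mulVec_zero]; exact h0)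
      simp at h3) hc hrat
    rw [Matrix.single_one_vecMul] at h2
    exact h2
  obtain ⟨c₁, hc₁, hr₁⟩ := h₁
  obtain ⟨c₂, hc₂, hr₂⟩ := h₂
  obtain ⟨q, hq1, hq2, -⟩ := exists_notMem4 (by have := h.dim; omega) i₁ i₂ i₁ i₁
  obtain ⟨x, hx⟩ := exists_row_ne' z q
  have e1 := row hc₁ hr₁ q hq1 x
  have e2 := row hc₂ hr₂ q hq2 x
  have hratio : c₂ * c₁⁻¹ ∈ F₀ := by
    have h3 := F₀.mul_mem e1 (F₀.inv_mem e2)
    simp only [Pi.smul_apply, smul_eq_mul] at h3
    have hx' : Gi q x ≠ 0 := hx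
    convert h3 using 1
    field_simp
  have hall : RatM F₀ (c₁⁻¹ • Gi) := by
    intro q x
    by_cases hq : q = i₁
    · subst hq
      have := F₀.mul_mem hratio (row hc₂ hr₂ q hne x)
      simp only [Pi.smul_apply, smul_eq_mul] at this
      rw [Matrix.smul_apply, smul_eq_mul]
      convert this using 1
      field_simp
    · exact row hc₁ hr₁ q hq x
  -- invert
  let u : GL ι F :=
    { val := c₁⁻¹ • Gi
      inv := c₁ • G
      val_inv := by
        rw [smul_mul_smul_comm, inv_mul_cancel₀ hc₁, one_smul]; exact Units.inv_mul z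
      inv_val := by
        rw [smul_mul_smul_comm, mul_inv_cancel₀ hc₁, one_smul]; exact Units.mul_inv z }
  exact ⟨c₁, hc₁, RatM.inv (g := u) hall⟩
where
  exists_row_ne' (z : GL ι F) (q : ι) : ∃ x, ((z⁻¹ : GL ι F) : Matrix ι ι F) q x ≠ 0 := by
    by_contra h
    push Not at h
    have h2 := congrFun (congrFun (Units.inv_mul z) q) q
    rw [Matrix.mul_apply, Matrix.one_apply_eq] at h2
    simp [h] at h2

end CfsgLib.Maximal
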