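import Mathlib
import Cfsg.Agent.Lib.Maximal.SubfieldSL

/-!
Subfield subgroups are maximal in SL: the involution argument.
-/

set_option autoImplicit false
set_option linter.unusedSectionVars false
set_option linter.unusedSimpArgs false
set_option linter.style.haveILetI false

namespace CfsgLib.Maximal

open scoped Matrix

variable {ι : Type} [Fintype ι] [DecidableEq ι] {F : Type*} [Field F] {F₀ : Subfield F}

lemma dep_of_eigen {t : Matrix ι ι F} (ht : RatM F₀ t) (htt : t * t = 1) (ht1 : t ≠ 1) (ht2 : t ≠ -1)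
    {a : ι → F} (ha0 : a ≠ 0) {κ : F} (hta : t *ᵥ a = κ • a) : ∃ ψ : ι → F, RatV F₀ ψ ∧ ψ ≠ 0 ∧ ψ ⬝ᵥ a = 0 := by
  classical
  have hκ : κ = 1 ∨ κ = -1 := by
    obtain ⟨i, hi⟩ := Function.ne_iff.1 ha0
    have h2 : a = (κ * κ) • a := by
      conv_lhs => rw [← Matrix.one_mulVec a, ← htt, ← Matrix.mulVec_mulVec, hta, Matrix.mulVec_smul, hta,
        smul_smul]
    have h3 := congrFun h2 i
    simp at h3
    exact mul_self_eq_one_iff.1 (mul_right_cancel₀ (show a i ≠ 0 from hi) (by linear_combination -h3))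
  have hκ0 : κ ∈ F₀ := by
    rcases hκ with e | e <;> rw [e]
    exacts [F₀.one_mem, F₀.neg_mem F₀.one_mem]
  have hne : t - κ • 1 ≠ 0 := fun h0 => by
    rcases hκ with e | e <;> rw [e] at h0
    · exact ht1 (by rwa [one_smul, sub_eq_zero] at h0)
    · exact ht2 (by rwa [neg_smul, one_smul, sub_eq_zero] at h0)
  obtain ⟨i, hi⟩ := Function.ne_iff.1 hne
  refine ⟨(t - κ • (1 : Matrix ι ι F)) i, fun x => (ht.sub (ratM_one.smul hκ0)) i x, hi, ?_⟩
  show ((t - κ • (1 : Matrix ι ι F)) *ᵥ a) i = 0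
  rw [Matrix.sub_mulVec, hta, Matrix.smul_mulVec, Matrix.one_mulVec, sub_self, Pi.zero_apply]

variable {H : Subgroup (GL ι F)}

lemma monoGL_perm_mem (h : SubOver F₀ H) {σ : Equiv.Perm ι} (hσ : Equiv.Perm.sign σ = 1) :
    monoGL σ (fun _ => (1 : Fˣ)) ∈ H := by
  refine h.mem _ ?_ ⟨1, one_ne_zero, by rw [one_smul, monoGL_val]; exact ratM_monoMat σ fun _ => F₀.one_mem⟩
  rw [mem_specialLinear_iff, monoGL_val, monoMat_det, hσ]; simp

/-- The centraliser of a permutation with two fixed points is rational up to scalars. -/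
lemma SubOver.centralizer_rat (h : SubOver F₀ H) {σ : Equiv.Perm ι} (hσσ : σ * σ = 1) {p q : ι} (hpq : p ≠ q)
    (hp : σ p = p) (hq : σ q = q) (hσ1 : monoMat σ (fun _ => (1 : F)) ≠ 1)
    (hσ2 : monoMat σ (fun _ => (1 : F)) ≠ -1) {u : GL ι F} (hu : u ∈ H)
    (hcomm : u * monoGL σ (fun _ => (1 : Fˣ)) = monoGL σ (fun _ => 1) * u) : RatUpToScalar F₀ u := by
  classical
  have key : ∀ {p q : ι}, p ≠ q → σ p = p → σ q = q → RatLine F₀ ((u : Matrix ι ι F) *ᵥ Pi.single p 1) := by
    intro p q hpq hp hq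
    have hY := h.rat (ratV_single p F₀.one_mem) (ratV_single q F₀.one_mem) (by simp [hpq.symm])
    have hX := hY.conj hu
    set G : Matrix ι ι F := (u : Matrix ι ι F)
    set Gi : Matrix ι ι F := ((u⁻¹ : GL ι F) : Matrix ι ι F)
    set P : Matrix ι ι F := monoMat σ (fun _ => (1 : F))
    have hPG : P * G = G * P := by
      have := congrArg (fun g : GL ι F => (g : Matrix ι ι F)) hcomm
      simp only [Units.val_mul, monoGL_val, Units.val_one] at this
      exact this.symm
    have hGiP : Gi * P = P * Gi := by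
      calc Gi * P = Gi * P * (G * Gi) := by rw [show G * Gi = 1 from Units.mul_inv u, mul_one]
        _ = Gi * (P * G) * Gi := by simp only [mul_assoc]
        _ = Gi * (G * P) * Gi := by rw [hPG]
        _ = P * Gi := by rw [← mul_assoc Gi G P, show Gi * G = 1 from Units.inv_mul u, one_mul]
    have hPp : P *ᵥ Pi.single p 1 = Pi.single p 1 := funext fun l => by
      rw [monoMat_mulVec', one_mul]
      rcases eq_or_ne l p with rfl | hl
      · rw [show σ.symm l = l from (Equiv.symm_apply_eq σ).2 hp.symm]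
      · rw [Pi.single_eq_of_ne hl, Pi.single_eq_of_ne]
        rw [ne_eq, Equiv.symm_apply_eq, hp]; exact hl
    have hPq : (Pi.single q 1 : ι → F) ᵥ* P = Pi.single q 1 := funext fun l => by
      rw [vecMul_monoMat, mul_one]
      rcases eq_or_ne l q with rfl | hl
      · rw [hq]
      · rw [Pi.single_eq_of_ne hl, Pi.single_eq_of_ne]
        exact fun e => hl (σ.injective (e.trans hq.symm))
    have h2 : RatM F₀ (Matrix.vecMulVec (G *ᵥ Pi.single p 1) ((Pi.single q 1 : ι → F) ᵥ* Gi)) := by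
      refine h.of_commute hX (ratM_monoMat σ fun _ => F₀.one_mem) ?_ hσ1 hσ2 ?_
      · rw [monoMat_mul, hσσ, ← monoMat_one]; congr 1; funext; simp
      · rw [Matrix.mul_vecMulVec, Matrix.vecMulVec_mul, Matrix.mulVec_mulVec, hPG, ← Matrix.mulVec_mulVec,
          hPp, Matrix.vecMul_vecMul, hGiP, ← Matrix.vecMul_vecMul, hPq]
    refine ratLine_of_vecMulVec (fun h0 => ?_) h2
    have h3 := congrArg (fun v => v ᵥ* G) h0
    simp only [Matrix.vecMul_vecMul, Matrix.zero_vecMul, show Gi * G = 1 from Units.inv_mul u,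
      Matrix.vecMul_one] at h3
    simpa using congrFun h3 q
  exact h.rat_of_two hu hpq (key hpq hp hq) (key hpq.symm hq hp)

lemma rank_add_le' (A B : Matrix ι ι F) : (A + B).rank ≤ A.rank + B.rank := by
  rw [Matrix.rank, Matrix.rank, Matrix.rank, Matrix.mulVecLin_add]
  exact le_trans (Submodule.finrank_mono (LinearMap.range_add_le _ _))
    (Submodule.finrank_add_le_finrank_add_finrank _ _)

lemma rank_monoMat_swap_two {a b c d : ι} (hac : a ≠ c) (had : a ≠ d) (hbc : b ≠ c) (hbd : b ≠ d) :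
    (monoMat (Equiv.swap a b * Equiv.swap c d) (fun _ => (1 : F)) - 1).rank ≤ 2 := by
  classical
  have e : monoMat (Equiv.swap a b * Equiv.swap c d) (fun _ => (1 : F)) - 1 =
      Matrix.vecMulVec (Pi.single b 1 - Pi.single a 1) (Pi.single a 1 - Pi.single b 1) +
        Matrix.vecMulVec (Pi.single d 1 - Pi.single c 1) (Pi.single c 1 - Pi.single d 1) := by
    refine Matrix.ext fun i j => ?_
    simp only [monoMat, Matrix.of_apply, Matrix.sub_apply, Matrix.add_apply, Matrix.vecMulVec_apply,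
      Matrix.one_apply, Equiv.Perm.mul_apply, Pi.sub_apply, Pi.single_apply]
    rcases eq_or_ne a b with rfl | hab
    · rcases eq_or_ne c d with rfl | hcd
      · simp
      by_cases hjc : j = c
      · subst hjc; simp [hcd, hcd.symm]
      by_cases hjd : j = d
      · subst hjd; simp [hcd, hcd.symm]
      simp [Equiv.swap_apply_of_ne_of_ne hjc hjd, hjc, hjd]
    rcases eq_or_ne c d with rfl | hcd
    · by_cases hja : j = a
      · subst hja; simp [hab, hab.symm]
      by_cases hjb : j = b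
      · subst hjb; simp [hab, hab.symm]
      simp [Equiv.swap_apply_of_ne_of_ne hja hjb, hja, hjb]
    by_cases hja : j = a
    · subst hja; simp [Equiv.swap_apply_of_ne_of_ne hac had, hac, had]
      rcases eq_or_ne i j with rfl | h1 <;> rcases eq_or_ne i b with h2 | h2 <;> simp_all [hab.symm]
    by_cases hjb : j = b
    · subst hjb; simp [Equiv.swap_apply_of_ne_of_ne hbc hbd, hbc, hbd, hja]
    by_cases hjc : j = c
    · subst hjc; simp [Equiv.swap_apply_of_ne_of_ne had.symm hbd.symm, hja, hjb]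
      rcases eq_or_ne i j with rfl | h1 <;> rcases eq_or_ne i d with h2 | h2 <;> simp_all [hcd.symm]
    by_cases hjd : j = d
    · subst hjd; simp [Equiv.swap_apply_of_ne_of_ne hac.symm hbc.symm, hja, hjb, hjc]
    simp [Equiv.swap_apply_of_ne_of_ne hjc hjd, Equiv.swap_apply_of_ne_of_ne hja hjb, hja, hjb, hjc, hjd]
  rw [e]
  exact le_trans (rank_add_le' _ _) (Nat.add_le_add (Matrix.rank_vecMulVec_le _ _) (Matrix.rank_vecMulVec_le _ _))

lemma three_le_rank {A : Matrix ι ι F} (f g : Fin 3 → ι) {c : F} (hc : c ≠ 0)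
    (h : A.submatrix f g = c • 1) : 3 ≤ A.rank := by
  have h1 := Matrix.rank_submatrix_le A f g
  have hu : IsUnit (c • (1 : Matrix (Fin 3) (Fin 3) F)) := by
    rw [Matrix.isUnit_iff_isUnit_det, Matrix.det_smul, Matrix.det_one, mul_one]
    exact (isUnit_iff_ne_zero.2 hc).pow _
  rwa [h, Matrix.rank_of_isUnit _ hu, Fintype.card_fin] at h1

variable [Fintype F]

/-- The square roots of subfield elements lie in the subfield when the degree is an odd prime. -/
lemma mem_of_mul_self_mem {r : ℕ} (hr : r.Prime) (hr2 : r ≠ 2) (hcard : Fintype.card F = Nat.card F₀ ^ r)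
    {c : F} (hc : c * c ∈ F₀) : c ∈ F₀ := by
  classical
  haveI : Fact (1 < Module.finrank F₀ F) := ⟨by
    by_contra hle
    push Not at hle
    have h1 := Module.card_eq_pow_finrank (K := F₀) (V := F)
    rw [hcard, Nat.card_eq_fintype_card] at h1
    have := Nat.pow_right_injective Fintype.one_lt_card h1
    have := hr.two_le
    omega⟩
  have hfr : Module.finrank F₀ F = r := by
    have h1 := Module.card_eq_pow_finrank (K := F₀) (V := F)
    rw [hcard, Nat.card_eq_fintype_card] at h1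
    exact (Nat.pow_right_injective Fintype.one_lt_card h1).symm
  let A : Subalgebra F₀ F :=
    { carrier := {v | ∃ x y : F₀, v = (x : F) + (y : F) * c}
      one_mem' := ⟨1, 0, by simp⟩
      zero_mem' := ⟨0, 0, by simp⟩
      add_mem' := by
        rintro u v ⟨x, y, rfl⟩ ⟨x', y', rfl⟩
        exact ⟨x + x', y + y', by push_cast; ring⟩
      mul_mem' := by
        rintro u v ⟨x, y, rfl⟩ ⟨x', y', rfl⟩
        exact ⟨x * x' + y * y' * ⟨c * c, hc⟩, x * y' + y * x', by push_cast; ring⟩
      algebraMap_mem' := fun x => ⟨x, 0, by simp; rfl⟩ }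
  haveI := Subalgebra.isSimpleOrder_of_finrank_prime F₀ F (hfr ▸ hr)
  rcases eq_bot_or_eq_top A with hA | hA
  · have : c ∈ (⊥ : Subalgebra F₀ F) := hA ▸ (⟨0, 1, by simp⟩ : c ∈ A)
    obtain ⟨x, hx⟩ := Algebra.mem_bot.1 this
    exact hx ▸ x.2
  · exfalso
    have hsurj : Function.Surjective (fun p : F₀ × F₀ => (p.1 : F) + (p.2 : F) * c) := fun v => by
      obtain ⟨x, y, hv⟩ : v ∈ A := hA ▸ Algebra.mem_top
      exact ⟨(x, y), hv.symm⟩
    have h1 := Fintype.card_le_of_surjective _ hsurj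
    rw [Fintype.card_prod, hcard, Nat.card_eq_fintype_card] at h1
    have h3 : 2 < r := lt_of_le_of_ne hr.two_le (Ne.symm hr2)
    have h4 := Nat.pow_lt_pow_right (Fintype.one_lt_card (α := F₀)) h3
    rw [pow_two] at h4
    omega

/-- A root of a rational polynomial of degree less than `r` lies in the subfield. -/
lemma mem_of_det_eq_zero {r : ℕ} (hr : r.Prime) (hcard : Fintype.card F = Nat.card F₀ ^ r) {A : Matrix ι ι F}
    (hA : RatM F₀ A) {μ : F} (f : Fin 3 → ι) (h3 : 3 < r) (hdet : ((A - μ • 1).submatrix f f).det = 0)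
    (hf : Function.Injective f) : μ ∈ F₀ := by
  classical
  have hfr : Module.finrank F₀ F = r := by
    have h1 := Module.card_eq_pow_finrank (K := F₀) (V := F)
    rw [hcard, Nat.card_eq_fintype_card] at h1
    exact (Nat.pow_right_injective Fintype.one_lt_card h1).symm
  let B : Matrix (Fin 3) (Fin 3) F₀ := Matrix.of fun i j => ⟨A (f i) (f j), hA _ _⟩
  have h0 : Polynomial.aeval μ B.charpoly = 0 := by
    have e : Polynomial.aeval μ B.charpoly = (B.map F₀.subtype).charpoly.eval μ := by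
      rw [Matrix.charpoly_map, Polynomial.eval_map, Polynomial.aeval_def]; rfl
    rw [e, Matrix.eval_charpoly]
    have e2 : Matrix.scalar (Fin 3) μ - B.map F₀.subtype = -((A - μ • 1).submatrix f f) := by
      ext i j
      simp [B, Matrix.scalar_apply, Matrix.diagonal_apply, Matrix.one_apply, hf.eq_iff]
    rw [e2, Matrix.det_neg, hdet, mul_zero]
  haveI : Module.Finite F₀ F := Module.Finite.of_finite
  have hint : IsIntegral F₀ μ := IsIntegral.of_finite F₀ μ
  have hle : (minpoly F₀ μ).natDegree ≤ 3 := by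
    have := Polynomial.natDegree_le_of_dvd (minpoly.dvd F₀ μ h0) B.charpoly_monic.ne_zero
    simpa [Matrix.charpoly_natDegree_eq_dim] using this
  have hdvd := minpoly.degree_dvd hint
  rw [hfr] at hdvd
  rcases (Nat.dvd_prime hr).1 hdvd with h1 | h1
  · obtain ⟨x, hx⟩ := minpoly.natDegree_eq_one_iff.1 h1
    exact hx ▸ x.2
  · omega

/-- Every transvection in an overgroup without larger root groups is rational. -/
lemma SubOver.transvection_rat (h : SubOver F₀ H) {r : ℕ} (hr : r.Prime)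
    (hcard : Fintype.card F = Nat.card F₀ ^ r) {a φ : ι → F} (hX : Has H a φ) :
    RatM F₀ (Matrix.vecMulVec a φ) := by
  classical
  have hι := h.dim
  by_cases hrn : r < Fintype.card ι
  · obtain ⟨ψ, hψ, hψ0, hψa⟩ := exists_rat_dot_eq_zero F₀ hcard hrn a
    exact h.of_dep hX hψ hψ0 hψa
  have hr2 : r ≠ 2 := by omega
  obtain ⟨e⟩ : Nonempty (Fin 6 ↪ ι) := Function.Embedding.nonempty_of_card_le (by simpa using hι)
  have ne : ∀ {i j : Fin 6}, i ≠ j → e i ≠ e j := fun h => e.injective.ne h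
  set sj : Equiv.Perm ι := Equiv.swap (e 0) (e 1) * Equiv.swap (e 2) (e 3) with hsj
  set st : Equiv.Perm ι := Equiv.swap (e 0) (e 2) * Equiv.swap (e 1) (e 3) with hst
  set sr : Equiv.Perm ι := Equiv.swap (e 1) (e 2) * Equiv.swap (e 4) (e 5) with hsr
  have sj_apply : ∀ i : Fin 6, sj (e i) = e ((Equiv.swap 0 1 * Equiv.swap 2 3 : Equiv.Perm (Fin 6)) i) :=
    fun i => by simp only [hsj, Equiv.Perm.mul_apply, Function.Embedding.swap_apply]
  have st_apply : ∀ i : Fin 6, st (e i) = e ((Equiv.swap 0 2 * Equiv.swap 1 3 : Equiv.Perm (Fin 6)) i) :=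
    fun i => by simp only [hst, Equiv.Perm.mul_apply, Function.Embedding.swap_apply]
  have sr_apply : ∀ i : Fin 6, sr (e i) = e ((Equiv.swap 1 2 * Equiv.swap 4 5 : Equiv.Perm (Fin 6)) i) :=
    fun i => by simp only [hsr, Equiv.Perm.mul_apply, Function.Embedding.swap_apply]
  have out : ∀ (a b c d : Fin 6) (x : ι), x ∉ Set.range e →
      (Equiv.swap (e a) (e b) * Equiv.swap (e c) (e d)) x = x := fun a b c d x hx => by
    have hne : ∀ i, x ≠ e i := fun i h' => hx ⟨i, h'.symm⟩
    simp [Equiv.Perm.mul_apply, Equiv.swap_apply_of_ne_of_ne (hne _) (hne _)]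
  have sj_sq : sj * sj = 1 := Equiv.ext fun x => by
    by_cases hx : x ∈ Set.range e
    · obtain ⟨i, rfl⟩ := hx
      rw [Equiv.Perm.mul_apply, sj_apply, sj_apply, Equiv.Perm.one_apply]
      congr 1; revert i; decide
    · rw [Equiv.Perm.mul_apply, hsj, out _ _ _ _ x hx, out _ _ _ _ x hx]; rfl
  have st_sq : st * st = 1 := Equiv.ext fun x => by
    by_cases hx : x ∈ Set.range e
    · obtain ⟨i, rfl⟩ := hx
      rw [Equiv.Perm.mul_apply, st_apply, st_apply, Equiv.Perm.one_apply]
      congr 1; revert i; decide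
    · rw [Equiv.Perm.mul_apply, hst, out _ _ _ _ x hx, out _ _ _ _ x hx]; rfl
  have hperm : sr * sj = st * sr := Equiv.ext fun x => by
    by_cases hx : x ∈ Set.range e
    · obtain ⟨i, rfl⟩ := hx
      show sr (sj (e i)) = st (sr (e i))
      rw [sj_apply, sr_apply, sr_apply, st_apply]
      congr 1; revert i; decide
    · show sr (sj x) = st (sr x)
      rw [hsj, hst, hsr, out _ _ _ _ x hx, out _ _ _ _ x hx, out _ _ _ _ x hx]
  set J : GL ι F := monoGL sj (fun _ => 1) with hJ
  set T : GL ι F := monoGL st (fun _ => 1) with hT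
  set R : GL ι F := monoGL sr (fun _ => 1) with hR
  have hJH : J ∈ H := monoGL_perm_mem h (by
    simp [hsj, Equiv.Perm.sign_swap (ne (show (0 : Fin 6) ≠ 1 by decide)),
      Equiv.Perm.sign_swap (ne (show (2 : Fin 6) ≠ 3 by decide))])
  have hTH : T ∈ H := monoGL_perm_mem h (by
    simp [hst, Equiv.Perm.sign_swap (ne (show (0 : Fin 6) ≠ 2 by decide)),
      Equiv.Perm.sign_swap (ne (show (1 : Fin 6) ≠ 3 by decide))])
  have hRH : R ∈ H := monoGL_perm_mem h (by
    simp [hsr, Equiv.Perm.sign_swap (ne (show (1 : Fin 6) ≠ 2 by decide)),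
      Equiv.Perm.sign_swap (ne (show (4 : Fin 6) ≠ 5 by decide))])
  have hJJ : J * J = 1 := by
    rw [hJ, monoGL_mul, sj_sq]
    exact Units.ext (by rw [monoGL_val, Units.val_one, ← monoMat_one]; congr 1; funext; simp)
  have hTT : T * T = 1 := by
    rw [hT, monoGL_mul, st_sq]
    exact Units.ext (by rw [monoGL_val, Units.val_one, ← monoMat_one]; congr 1; funext; simp)
  have hRJ : R * J * R⁻¹ = T := by
    rw [mul_inv_eq_iff_eq_mul, hR, hJ, hT, monoGL_mul, monoGL_mul, hperm]
  have hJv : (J : Matrix ι ι F) = monoMat sj (fun _ => 1) := by simp [hJ, monoGL_val]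
  have hTv : (T : Matrix ι ι F) = monoMat st (fun _ => 1) := by simp [hT, monoGL_val]
  have entryJ : ∀ i k : Fin 6, (J : Matrix ι ι F) (e i) (e k) =
      if i = (Equiv.swap 0 1 * Equiv.swap 2 3 : Equiv.Perm (Fin 6)) k then 1 else 0 := fun i k => by
    rw [hJv]; simp only [monoMat, Matrix.of_apply, sj_apply, e.injective.eq_iff]
  have entryT : ∀ i k : Fin 6, (T : Matrix ι ι F) (e i) (e k) =
      if i = (Equiv.swap 0 2 * Equiv.swap 1 3 : Equiv.Perm (Fin 6)) k then 1 else 0 := fun i k => by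
    rw [hTv]; simp only [monoMat, Matrix.of_apply, st_apply, e.injective.eq_iff]
  have rkJ : ((J : Matrix ι ι F) - 1).rank ≤ 2 := by
    rw [hJv]
    exact rank_monoMat_swap_two (ne (by decide)) (ne (by decide)) (ne (by decide)) (ne (by decide))
  have rkJ' : (2 : F) ≠ 0 → 3 ≤ (-(J : Matrix ι ι F) - 1).rank := by
    intro h2
    have e2 : (-(J : Matrix ι ι F) - 1) + ((J : Matrix ι ι F) - 1) = (-2 : F) • (1 : Matrix ι ι F) := by module
    have h1 := rank_add_le' (-(J : Matrix ι ι F) - 1) ((J : Matrix ι ι F) - 1)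
    rw [e2, Matrix.rank_of_isUnit _ ((Matrix.isUnit_iff_isUnit_det _).2 (by
      rw [Matrix.det_smul, Matrix.det_one, mul_one]
      exact isUnit_iff_ne_zero.2 (pow_ne_zero _ (neg_ne_zero.2 h2))))] at h1
    omega
  have hJne : monoMat sj (fun _ => (1 : F)) ≠ 1 ∧ monoMat sj (fun _ => (1 : F)) ≠ -1 := by
    rw [← hJv]
    constructor <;> intro h0
    · have h1 := congrFun (congrFun h0 (e 1)) (e 0)
      rw [entryJ, Matrix.one_apply, if_neg (ne (show (1 : Fin 6) ≠ 0 by decide))] at h1
      simp (decide := true) at h1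
    · have h1 := congrFun (congrFun h0 (e 1)) (e 0)
      rw [entryJ, Matrix.neg_apply, Matrix.one_apply, if_neg (ne (show (1 : Fin 6) ≠ 0 by decide))] at h1
      simp (decide := true) at h1
  have hTne : monoMat st (fun _ => (1 : F)) ≠ 1 ∧ monoMat st (fun _ => (1 : F)) ≠ -1 := by
    rw [← hTv]
    constructor <;> intro h0
    · have h1 := congrFun (congrFun h0 (e 2)) (e 0)
      rw [entryT, Matrix.one_apply, if_neg (ne (show (2 : Fin 6) ≠ 0 by decide))] at h1
      simp (decide := true) at h1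
    · have h1 := congrFun (congrFun h0 (e 2)) (e 0)
      rw [entryT, Matrix.neg_apply, Matrix.one_apply, if_neg (ne (show (2 : Fin 6) ≠ 0 by decide))] at h1
      simp (decide := true) at h1
  obtain ⟨hd, hXM⟩ := hX
  set X := tv a φ hd with hXdef
  set x := X * J * X⁻¹ with hx
  have hxx : x * x = 1 := by rw [hx, conj_mul, hJJ, mul_one, mul_inv_cancel]
  have rank_conj : ∀ (w : GL ι F) (A : Matrix ι ι F),
      ((w : Matrix ι ι F) * A * ((w⁻¹ : GL ι F) : Matrix ι ι F)).rank = A.rank := fun w A => by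
    rw [Matrix.rank_mul_eq_left_of_isUnit_det _ _ ((Matrix.isUnit_iff_isUnit_det _).1 ⟨w⁻¹, rfl⟩),
      Matrix.rank_mul_eq_right_of_isUnit_det _ _ ((Matrix.isUnit_iff_isUnit_det _).1 ⟨w, rfl⟩)]
  have hxrk : ∀ (w : GL ι F), ((w * x * w⁻¹ : GL ι F) : Matrix ι ι F) - 1 =
      ((w * X : GL ι F) : Matrix ι ι F) * ((J : Matrix ι ι F) - 1) * (((w * X)⁻¹ : GL ι F) : Matrix ι ι F) := by
    intro w
    rw [mul_sub, sub_mul, mul_one, ← Units.val_mul, ← Units.val_mul, ← Units.val_mul, mul_inv_cancel,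
      Units.val_one, hx]
    congr 2
    group
  have contra : ∀ (w : GL ι F) (B : Matrix ι ι F), ((w * x * w⁻¹ : GL ι F) : Matrix ι ι F) = B →
      (B - 1).rank ≤ 2 := by
    intro w B hB
    rw [← hB, hxrk, rank_conj]; exact rkJ
  rcases eq_or_ne a 0 with rfl | ha0
  · intro i j; simp [Matrix.vecMulVec_apply, F₀.zero_mem]
  rcases eq_or_ne φ 0 with rfl | hφ0
  · intro i j; simp [Matrix.vecMulVec_apply, F₀.zero_mem]
  have hXh : Has H a φ := ⟨hd, hXM⟩
  rcases exists_central_or_pow_conj hxx hTT with ⟨i, hw⟩ | ⟨z, w, k, hz2, hz1, hxz, htz, hwdef, hzw, -⟩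
  · set w := (x * T) ^ i with hwdef
    have hwH : w ∈ H := pow_mem (mul_mem (mul_mem (mul_mem hXM hJH) (inv_mem hXM)) hTH) i
    have hTw : T * w * T = w⁻¹ := by
      have hTi : T⁻¹ = T := inv_eq_of_mul_eq_one_right hTT
      have hxi : x⁻¹ = x := inv_eq_of_mul_eq_one_right hxx
      calc T * w * T = T * (x * T) ^ i * T⁻¹ := by rw [hTi]
        _ = (T * (x * T) * T⁻¹) ^ i := conj_pow.symm
        _ = (x * T)⁻¹ ^ i := by rw [mul_inv_rev, hTi, hxi, mul_assoc, mul_assoc, hTT, mul_one]
        _ = w⁻¹ := by rw [hwdef, inv_pow]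
    set u := R⁻¹ * w * X with hu
    have huJ : u * J = J * u := by
      calc u * J = R⁻¹ * (w * x * w⁻¹) * (R * u) := by rw [hu, hx]; group
        _ = J * u := by rw [hw, ← hRJ]; group
    have ratu : RatUpToScalar F₀ u := h.centralizer_rat sj_sq (ne (show (4 : Fin 6) ≠ 5 by decide))
      (by rw [sj_apply]; rfl) (by rw [sj_apply]; rfl) hJne.1 hJne.2
      (mul_mem (mul_mem (inv_mem hRH) hwH) hXM) (by rw [← hJ]; exact huJ)
    have hu' : R * u = w * X := by rw [hu]; group
    set S := R * u * J with hS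
    have h5 : w * x = T * w := by rw [← hw]; group
    have h6 : T * w⁻¹ * T = w := by
      have h7 : T * (T * w * T) * T = T * w⁻¹ * T := by rw [hTw]
      rw [← h7]; simp only [← mul_assoc, hTT, one_mul]; rw [mul_assoc, hTT, mul_one]
    have hSX : S * X⁻¹ * S = X := by
      calc S * X⁻¹ * S = w * x * w * (X * J) := by rw [hS, hu', hx]; group
        _ = T * (T * w⁻¹ * T) * w * (X * J) := by rw [h5, h6]
        _ = w⁻¹ * (T * w) * (X * J) := by simp only [← mul_assoc, hTT, one_mul]
        _ = X * (J * J) := by rw [← h5, hx]; group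
        _ = X := by rw [hJJ, mul_one]
    obtain ⟨c, hc0, hS0⟩ : RatUpToScalar F₀ S := by
      obtain ⟨c, hc0, hc⟩ := ratu
      have hR' : RatM F₀ (R : Matrix ι ι F) := by rw [hR, monoGL_val]; exact ratM_monoMat _ fun _ => by simp [F₀.one_mem]
      have hJ' : RatM F₀ (J : Matrix ι ι F) := by rw [hJv]; exact ratM_monoMat _ fun _ => F₀.one_mem
      refine ⟨c, hc0, ?_⟩
      rw [hS, Units.val_mul, Units.val_mul, ← Matrix.smul_mul, ← Matrix.mul_smul]
      exact (hR'.mul hc).mul hJ'
    set Sm : Matrix ι ι F := (S : Matrix ι ι F) with hSm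
    have hXi : ((X⁻¹ : GL ι F) : Matrix ι ι F) = 1 - Matrix.vecMulVec a φ := by
      refine Units.inv_eq_of_mul_eq_one_right ?_
      rw [hXdef, tv_val, add_mul, one_mul, mul_sub, mul_one, Matrix.vecMulVec_mul_vecMulVec, hd]
      simp
    have hEq : Sm * Sm - 1 = Matrix.vecMulVec a φ + Matrix.vecMulVec (Sm *ᵥ a) (φ ᵥ* Sm) := by
      have h8 := congrArg (fun g : GL ι F => (g : Matrix ι ι F)) hSX
      simp only [Units.val_mul, hXi, ← hSm] at h8
      rw [mul_sub, mul_one, sub_mul, Matrix.mul_vecMulVec, Matrix.vecMulVec_mul, hXdef, tv_val] at h8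
      rw [sub_eq_iff_eq_add.1 h8]
      abel
    have hrk : (Sm * Sm - 1).rank ≤ 2 := by
      rw [hEq]
      exact le_trans (rank_add_le' _ _)
        (Nat.add_le_add (Matrix.rank_vecMulVec_le _ _) (Matrix.rank_vecMulVec_le _ _))
    have hc2 : c * c ∈ F₀ := by
      refine mem_of_det_eq_zero hr hcard (hS0.mul hS0) (e ∘ ![0, 1, 2]) (by omega) ?_
        (e.injective.comp (by decide))
      have e9 : (c • Sm) * (c • Sm) - (c * c) • (1 : Matrix ι ι F) = (c * c) • (Sm * Sm - 1) := by
        rw [smul_mul_smul_comm, smul_sub]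
      rw [e9, Matrix.submatrix_smul, Pi.smul_apply, Pi.smul_apply, Matrix.det_smul]
      refine mul_eq_zero_of_right _ ?_
      by_contra hne
      have h9 := Matrix.rank_of_isUnit _ ((Matrix.isUnit_iff_isUnit_det _).2 (isUnit_iff_ne_zero.2 hne))
      have h10 := Matrix.rank_submatrix_le (Sm * Sm - 1) (e ∘ ![0, 1, 2]) (e ∘ ![0, 1, 2])
      rw [h9, Fintype.card_fin] at h10
      omega
    have hSr : RatM F₀ Sm := by
      have h6' := hS0.smul (F₀.inv_mem (mem_of_mul_self_mem hr hr2 hcard hc2))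
      rwa [smul_smul, inv_mul_cancel₀ hc0, one_smul] at h6'
    have hSne : Sm ≠ 1 ∧ Sm ≠ -1 := by
      have key : ∀ l : F, Sm ≠ l • 1 := fun l hl => by
        have hRu : ((R * u : GL ι F) : Matrix ι ι F) = l • (J : Matrix ι ι F) := by
          have h1 : R * u = S * J := by rw [hS, mul_assoc, hJJ, mul_one]
          rw [h1, Units.val_mul, ← hSm, hl, Matrix.smul_mul, one_mul]
        have h2 : T * (R * u) = R * u * J := by
          rw [hu']
          calc T * (w * X) = (w * x) * X := by rw [h5]; group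
            _ = w * X * J := by rw [hx]; group
        have h3 := congrArg (fun g : GL ι F => (g : Matrix ι ι F)) h2
        rw [Units.val_mul, Units.val_mul (R * u), hRu, Matrix.mul_smul, Matrix.smul_mul] at h3
        have hl0 : l ≠ 0 := fun h0 => by
          haveI : Nonempty ι := ⟨e 0⟩
          haveI : Nontrivial (Matrix ι ι F) := Matrix.nonempty
          have := congrFun (congrFun hl (e 0)) (e 0)
          exact (Units.ne_zero S) (by rw [← hSm, hl, h0, zero_smul])
        have h4 := congrArg Units.val hJJ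
        rw [Units.val_mul] at h4
        have h7 : (T : Matrix ι ι F) = J := by
          have := congrArg (· * (J : Matrix ι ι F)) (smul_right_injective (Matrix ι ι F) hl0 h3)
          simpa [mul_assoc, h4] using this
        have := congrFun (congrFun h7 (e 1)) (e 0)
        rw [entryT, entryJ] at this
        simp (decide := true) at this
      exact ⟨fun h0 => key 1 (by rw [h0, one_smul]), fun h0 => key (-1) (by rw [h0, neg_smul, one_smul])⟩
    have hdet : (Sm * Sm - 1).det = 0 := by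
      by_contra hne
      have h9 := Matrix.rank_of_isUnit _ ((Matrix.isUnit_iff_isUnit_det _).2 (isUnit_iff_ne_zero.2 hne))
      omega
    by_cases heig : φ ∈ Submodule.span F {φ ᵥ* Sm}
    · obtain ⟨κ, hκ⟩ := Submodule.mem_span_singleton.1 heig
      by_cases hb : Sm * Sm = 1
      · have hκ0 : κ ≠ 0 := fun h0 => hφ0 (by rw [← hκ, h0, zero_smul])
        obtain ⟨cc, hcc, hcc0, hccφ⟩ := dep_of_eigen hSr.transpose
          (by rw [← Matrix.transpose_mul, hb, Matrix.transpose_one])
          (fun h0 => hSne.1 (Matrix.transpose_injective (h0.trans Matrix.transpose_one.symm)))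
          (fun h0 => hSne.2 (Matrix.transpose_injective (by rw [h0, Matrix.transpose_neg, Matrix.transpose_one])))
          hφ0 (κ := κ⁻¹) (by rw [Matrix.mulVec_transpose]; exact (eq_inv_smul_iff₀ hκ0).2 hκ)
        exact h.of_dep' hXh hcc hcc0 (by rw [dotProduct_comm]; exact hccφ)
      · obtain ⟨cc, hcc, hcc0, hccS⟩ := ((hSr.mul hSr).sub ratM_one).transpose.exists_left_null
          (by rw [Matrix.det_transpose, hdet])
        rw [Matrix.vecMul_transpose, hEq, Matrix.add_mulVec, Matrix.vecMulVec_mulVec, Matrix.vecMulVec_mulVec] at hccS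
        refine h.of_dep' hXh hcc hcc0 ?_
        by_contra hne
        have hq : φ ⬝ᵥ cc = κ * ((φ ᵥ* Sm) ⬝ᵥ cc) := by
          conv_lhs => rw [← hκ, smul_dotProduct, smul_eq_mul]
        have hz : κ • a + Sm *ᵥ a = 0 := by
          have hq0 : (φ ᵥ* Sm) ⬝ᵥ cc ≠ 0 := fun h0 => hne (by rw [hq, h0, mul_zero])
          rw [hq] at hccS
          refine smul_right_injective (ι → F) hq0 ?_
          simp only [smul_zero]
          rw [← hccS]
          ext i; simp; ring
        refine hb (sub_eq_zero.1 ?_)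
        have e10 : Matrix.vecMulVec a φ = Matrix.vecMulVec (κ • a) (φ ᵥ* Sm) := by
          conv_lhs => rw [← hκ]
          ext i j; simp [Matrix.vecMulVec_apply]; ring
        rw [hEq, e10, ← Matrix.add_vecMulVec, hz, Matrix.zero_vecMulVec]
    · obtain ⟨ψ, hψ, hψ0, hψS⟩ := ((hSr.mul hSr).sub ratM_one).exists_left_null hdet
      obtain ⟨v, hv, hv1⟩ := exists_ann _ _ heig
      refine h.of_dep hXh hψ hψ0 ?_
      have h11 : (Sm * Sm - 1) *ᵥ v = a := by
        rw [hEq, Matrix.add_mulVec, Matrix.vecMulVec_mulVec, Matrix.vecMulVec_mulVec, dotProduct_comm φ, hv1,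
          dotProduct_comm (φ ᵥ* Sm), hv _ (Submodule.mem_span_singleton_self _)]
        simp
      rw [← h11, Matrix.dotProduct_mulVec, hψS, zero_dotProduct]
  by_cases hzneg : (z : Matrix ι ι F) = -1
  · exfalso
    have hneg : ∀ g : GL ι F, ((z * g : GL ι F) : Matrix ι ι F) = -(g : Matrix ι ι F) := fun g => by
      rw [Units.val_mul, hzneg, neg_one_mul]
    have h2 : (2 : F) ≠ 0 := fun h0 => hz1 (Units.ext (by
      rw [hzneg, Units.val_one]
      refine Matrix.ext fun i j => ?_
      rw [Matrix.neg_apply]; linear_combination -((1 : Matrix ι ι F) i j) * h0))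
    obtain ⟨v, hv | hv⟩ := conj_eq_neg hxx hTT (k := k) (ε := z) (by rw [← hwdef, hzw])
    · -- `x` conjugate to `-x`
      have h3 : ((X⁻¹ * v) * x * (X⁻¹ * v)⁻¹ : GL ι F) = z * J := by
        have hcz : X⁻¹ * z = z * X⁻¹ := Units.ext (by
          rw [Units.val_mul, Units.val_mul, hzneg, neg_one_mul, mul_neg, mul_one])
        rw [show (X⁻¹ * v) * x * (X⁻¹ * v)⁻¹ = X⁻¹ * (v * x * v⁻¹) * X by group, hv, hx]
        rw [show X⁻¹ * (z * (X * J * X⁻¹)) * X = X⁻¹ * z * X * J by group, hcz]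
        group
      have := contra _ _ (congrArg (fun g : GL ι F => (g : Matrix ι ι F)) h3)
      rw [hneg] at this
      have := rkJ' h2
      omega
    · have := contra v _ (congrArg (fun g : GL ι F => (g : Matrix ι ι F)) hv)
      rw [hneg] at this
      have h4 : -(T : Matrix ι ι F) - 1 = (R : Matrix ι ι F) * (-(J : Matrix ι ι F) - 1) * ((R⁻¹ : GL ι F) : Matrix ι ι F) := by
        rw [mul_sub, sub_mul, mul_one, mul_neg, neg_mul, ← Units.val_mul, ← Units.val_mul, ← Units.val_mul, hRJ,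
          mul_inv_cancel, Units.val_one]
      rw [h4, rank_conj] at this
      have := rkJ' h2
      omega
  -- `z` and its conjugate by `X` are rational
  have hzH : z ∈ H := by
    rw [hzw, hwdef]
    exact pow_mem (mul_mem (mul_mem (mul_mem hXM hJH) (inv_mem hXM)) hTH) k
  set z' := X⁻¹ * z * X with hz'
  have hz'J : z' * J = J * z' := by
    calc z' * J = X⁻¹ * (z * x) * X := by rw [hz', hx]; group
      _ = X⁻¹ * (x * z) * X := by rw [hxz]
      _ = J * z' := by rw [hz', hx]; group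
  have ratz : RatUpToScalar F₀ z := h.centralizer_rat st_sq (ne (show (4 : Fin 6) ≠ 5 by decide))
    (by rw [st_apply]; rfl) (by rw [st_apply]; rfl) hTne.1 hTne.2 hzH (by rw [← hT]; exact htz.symm)
  have ratz' : RatUpToScalar F₀ z' := h.centralizer_rat sj_sq (ne (show (4 : Fin 6) ≠ 5 by decide))
    (by rw [sj_apply]; rfl) (by rw [sj_apply]; rfl) hJne.1 hJne.2
    (mul_mem (mul_mem (inv_mem hXM) hzH) hXM) (by rw [← hJ]; exact hz'J)
  obtain ⟨i₀⟩ : Nonempty ι := ⟨e 0⟩
  have clear : ∀ {u : GL ι F}, u * u = 1 → RatUpToScalar F₀ u → RatM F₀ (u : Matrix ι ι F) := by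
    intro u huu ⟨c, hc0, hc⟩
    have hcc : c * c ∈ F₀ := by
      have h4 := hc.mul hc i₀ i₀
      rw [smul_mul_smul_comm, ← Units.val_mul, huu] at h4
      simpa using h4
    have h5 := mem_of_mul_self_mem hr hr2 hcard hcc
    have h6 := hc.smul (F₀.inv_mem h5)
    rwa [smul_smul, inv_mul_cancel₀ hc0, one_smul] at h6
  have hz'2 : z' * z' = 1 := by
    rw [hz', show X⁻¹ * z * X * (X⁻¹ * z * X) = X⁻¹ * (z * z) * X by group, hz2, mul_one, inv_mul_cancel]
  have hZ := clear hz2 ratz
  have hZ' := clear hz'2 ratz'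
  set Z : Matrix ι ι F := (z : Matrix ι ι F) with hZdef
  set Z' : Matrix ι ι F := (z' : Matrix ι ι F) with hZ'def
  have hZZ : Z * Z = 1 := by rw [hZdef, ← Units.val_mul, hz2, Units.val_one]
  have hZ'Z' : Z' * Z' = 1 := by rw [hZ'def, ← Units.val_mul, hz'2, Units.val_one]
  have hZne1 : Z ≠ 1 := fun h0 => hz1 (Units.ext h0)
  have hz'e : z = X * z' * X⁻¹ := by rw [hz']; group
  have hZ'ne1 : Z' ≠ 1 := fun h0 => hz1 (by rw [hz'e, show z' = 1 from Units.ext h0, mul_one, mul_inv_cancel])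
  have hZ'ne2 : Z' ≠ -1 := fun h0 => hzneg (by
    show ((z : GL ι F) : Matrix ι ι F) = -1
    rw [hz'e, Units.val_mul, Units.val_mul, show (z' : Matrix ι ι F) = -1 from h0, mul_neg, mul_one, neg_mul,
      ← Units.val_mul, mul_inv_cancel, Units.val_one])
  by_cases heig : ∃ κ : F, Z *ᵥ a = κ • a
  · obtain ⟨κ, hκ⟩ := heig
    obtain ⟨ψ, hψ, hψ0, hψa⟩ := dep_of_eigen hZ hZZ hZne1 hzneg ha0 hκ
    exact h.of_dep hXh hψ hψ0 hψa
  by_cases heig' : φ ᵥ* Z' ∈ Submodule.span F {φ}
  · obtain ⟨κ, hκ⟩ := Submodule.mem_span_singleton.1 heig'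
    obtain ⟨c, hc, hc0, hcφ⟩ := dep_of_eigen hZ'.transpose
      (by rw [← Matrix.transpose_mul, hZ'Z', Matrix.transpose_one])
      (fun h0 => hZ'ne1 (Matrix.transpose_injective (h0.trans Matrix.transpose_one.symm)))
      (fun h0 => hZ'ne2 (Matrix.transpose_injective (by rw [h0, Matrix.transpose_neg, Matrix.transpose_one])))
      hφ0 (κ := κ) (by rw [Matrix.mulVec_transpose, hκ])
    exact h.of_dep' hXh hc hc0 (by rw [dotProduct_comm]; exact hcφ)
  -- the difference of the two involutions is rational with the centre in its image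
  have hΔ : Z - Z' = Matrix.vecMulVec a (φ ᵥ* Z') - Matrix.vecMulVec (Z *ᵥ a) φ := by
    have h7 : z * X = X * z' := by rw [hz']; group
    have h8 := congrArg (fun g : GL ι F => (g : Matrix ι ι F)) h7
    simp only [Units.val_mul, hXdef, tv_val, mul_add, add_mul, mul_one, one_mul, Matrix.mul_vecMulVec,
      Matrix.vecMulVec_mul] at h8
    rw [sub_eq_sub_iff_add_eq_add, h8, add_comm]
  have hdetΔ : (Z - Z').det = 0 := by
    by_contra hne
    have h9 : (Z - Z').rank = Fintype.card ι :=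
      Matrix.rank_of_isUnit _ ((Matrix.isUnit_iff_isUnit_det _).2 (isUnit_iff_ne_zero.2 hne))
    have h10 : (Z - Z').rank ≤ 2 := by
      rw [hΔ, sub_eq_add_neg, ← Matrix.neg_vecMulVec]
      exact le_trans (rank_add_le' _ _)
        (Nat.add_le_add (Matrix.rank_vecMulVec_le _ _) (Matrix.rank_vecMulVec_le _ _))
    omega
  obtain ⟨ψ, hψ, hψ0, hψΔ⟩ := (hZ.sub hZ').exists_left_null hdetΔ
  obtain ⟨u, hu, hu1⟩ := exists_ann _ _ heig'
  refine h.of_dep hXh hψ hψ0 ?_
  have h11 : (Z - Z') *ᵥ u = a := by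
    rw [hΔ, Matrix.sub_mulVec, Matrix.vecMulVec_mulVec, Matrix.vecMulVec_mulVec,
      dotProduct_comm (φ ᵥ* Z'), hu1, dotProduct_comm φ, hu φ (Submodule.mem_span_singleton_self φ)]
    simp
  rw [← h11, Matrix.dotProduct_mulVec, hψΔ, zero_dotProduct]

end CfsgLib.Maximal
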