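import Mathlib
import Cfsg.Agent.Lib.Maximal.SubfieldMain

/-!
Subfield subgroups are maximal in SL: conclusion.
-/

set_option autoImplicit false
set_option linter.unusedSectionVars false
set_option linter.unusedSimpArgs false
set_option linter.style.haveILetI false

namespace CfsgLib.Maximal

open scoped Matrix

variable {ι : Type} [Fintype ι] [DecidableEq ι] {F : Type*} [Field F] [Fintype F] {F₀ : Subfield F}

lemma exists_notMem_subfield {r : ℕ} (hr : r.Prime) (hcard : Fintype.card F = Nat.card F₀ ^ r) :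
    ∃ μ : F, μ ∉ F₀ := by
  classical
  by_contra! hall
  have h1 : Nat.card F₀ = Fintype.card F := by
    rw [← Nat.card_eq_fintype_card]
    exact Nat.card_congr (Equiv.subtypeUnivEquiv hall)
  have h2 : 1 < Nat.card F₀ := Finite.one_lt_card
  rw [← h1] at hcard
  have := Nat.pow_lt_pow_right h2 hr.one_lt
  rw [pow_one, ← hcard] at this
  exact lt_irrefl _ this

/-- An overgroup with a larger root group is everything. -/
lemma specialLinear_le_of_big_root {r : ℕ} (hr : r.Prime) (hcard : Fintype.card F = Nat.card F₀ ^ r)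
    {H : Subgroup (GL ι F)} (hι : 5 ≤ Fintype.card ι)
    (hmem : ∀ g : GL ι F, g ∈ Cfsg.Geo.specialLinear ι F → RatUpToScalar F₀ g → g ∈ H)
    {i j : ι} (hij : i ≠ j) {μ : F} (hμ : μ ∉ F₀) (hH : Has H (Pi.single i μ) (Pi.single j 1)) :
    Cfsg.Geo.specialLinear ι F ≤ H := by
  classical
  let R : ι → ι → F → Prop := fun a b x => Has H (Pi.single a x) (Pi.single b 1)
  have base : ∀ {a b : ι}, a ≠ b → ∀ {x : F}, x ∈ F₀ → R a b x := fun {a b} hab {x} hx =>
    ⟨by simp [hab.symm], hmem _ (tv_mem_specialLinear _ _ _) ⟨1, one_ne_zero, by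
      rw [one_smul, tv_val]; exact ratM_one.add (ratM_vecMulVec (ratV_single a hx) (ratV_single b F₀.one_mem))⟩⟩
  have comm : ∀ {a b c : ι}, a ≠ c → ∀ {x y : F}, R a b x → R b c y → R a c (y * x) := by
    intro a b c hac x y h1 h2
    have h3 := Has.comm_left h1 h2 (by simp [hac.symm])
    rw [single_dotProduct, Pi.single_eq_same, one_mul, ← Pi.single_smul', smul_eq_mul] at h3
    exact h3
  have right : ∀ {a b c : ι}, b ≠ c → a ≠ c → ∀ {x}, R a b x → R a c x := fun {a b c} hbc hac {x} h1 => by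
    have := comm hac h1 (base hbc F₀.one_mem); rwa [one_mul] at this
  have left : ∀ {a b c : ι}, c ≠ a → c ≠ b → ∀ {x}, R a b x → R c b x := fun {a b c} hca hcb {x} h1 => by
    have := comm hcb (base hca F₀.one_mem) h1; rwa [mul_one] at this
  have move : ∀ {a b c d : ι}, c ≠ d → ∀ {x}, R a b x → R c d x := by
    intro a b c d hcd x h1
    obtain ⟨p, hpa, hpb, hpc, hpd⟩ := exists_notMem4 hι a b c d
    have h2 := right hpb.symm hpa.symm h1
    rcases eq_or_ne c a with rfl | hca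
    · exact right hpd hcd h2
    · exact right hpd hcd (left hca hpc.symm h2)
  have hadd : ∀ {x y}, R i j x → R i j y → R i j (x + y) := fun {x y} h1 h2 => by
    have := h1.add_left h2; rwa [← Pi.single_add] at this
  have hmul : ∀ {x y}, R i j x → R i j y → R i j (x * y) := fun {x y} h1 h2 => by
    obtain ⟨p, hpi, hpj, -⟩ := exists_notMem4 hι i j i i
    exact comm hij (move hpi.symm h2) (move hpj h1)
  let A : Subalgebra F₀ F :=
    { carrier := {x | R i j x}
      one_mem' := base hij F₀.one_mem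
      zero_mem' := base hij F₀.zero_mem
      add_mem' := hadd
      mul_mem' := hmul
      algebraMap_mem' := fun x => base hij x.2 }
  have hfr : Module.finrank F₀ F = r := by
    have h1 := Module.card_eq_pow_finrank (K := F₀) (V := F)
    rw [hcard, Nat.card_eq_fintype_card] at h1
    exact (Nat.pow_right_injective Fintype.one_lt_card h1).symm
  haveI := Subalgebra.isSimpleOrder_of_finrank_prime F₀ F (hfr ▸ hr)
  rcases eq_bot_or_eq_top A with hA | hA
  · exfalso
    have h1 : μ ∈ (⊥ : Subalgebra F₀ F) := hA ▸ (show μ ∈ A from hH)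
    obtain ⟨x, hx⟩ := Algebra.mem_bot.1 h1
    exact hμ (hx ▸ x.2)
  · refine specialLinear_le_of_elemAt H fun a b hab c => move hab (a := i) (b := j) ?_
    exact (show c ∈ A from hA ▸ Algebra.mem_top)

/-- An overgroup of the rational group is either rational or everything. -/
lemma subfield_dichotomy {r : ℕ} (hr : r.Prime) (hcard : Fintype.card F = Nat.card F₀ ^ r) (hι : 6 ≤ Fintype.card ι)
    {H : Subgroup (GL ι F)} (hle : H ≤ Cfsg.Geo.specialLinear ι F)
    (hmem : ∀ g : GL ι F, g ∈ Cfsg.Geo.specialLinear ι F → RatUpToScalar F₀ g → g ∈ H) :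
    (∀ g ∈ H, RatUpToScalar F₀ g) ∨ H = Cfsg.Geo.specialLinear ι F := by
  by_cases hroot : ∀ i j, i ≠ j → ∀ μ : F, Has H (Pi.single i μ) (Pi.single j 1) → μ ∈ F₀
  · left
    have h : SubOver F₀ H := ⟨hle, hmem, hroot, hι⟩
    intro g hg
    have key : ∀ i : ι, RatLine F₀ ((g : Matrix ι ι F) *ᵥ Pi.single i 1) := by
      intro i
      obtain ⟨q, hq, -⟩ := exists_notMem4 (by omega) i i i i
      have h1 := (h.rat (ratV_single i F₀.one_mem) (ratV_single q F₀.one_mem) (by simp [hq])).conj hg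
      refine ratLine_of_vecMulVec (fun h0 => ?_) (h.transvection_rat hr hcard h1)
      have h3 := congrArg (fun v => v ᵥ* (g : Matrix ι ι F)) h0
      simp only [Matrix.vecMul_vecMul, Matrix.zero_vecMul, ← Units.val_mul, inv_mul_cancel, Units.val_one,
        Matrix.vecMul_one] at h3
      simpa using congrFun h3 q
    obtain ⟨i₁, i₂, hne⟩ := Fintype.exists_pair_of_one_lt_card (show 1 < Fintype.card ι by omega)
    exact h.rat_of_two hg hne (key i₁) (key i₂)
  · right
    push Not at hroot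
    obtain ⟨i, j, hij, μ, hH, hμ⟩ := hroot
    exact le_antisymm hle (specialLinear_le_of_big_root hr hcard (by omega) hmem hij hμ hH)

lemma mem_subfieldSubgroup_iff (P g : GL ι F) :
    g ∈ Cfsg.Geo.subfieldSubgroup F₀ P ↔ RatUpToScalar F₀ (P⁻¹ * g * P) := by
  unfold Cfsg.Geo.subfieldSubgroup
  constructor
  · rintro ⟨x, hx, rfl⟩
    obtain ⟨a, ⟨a₀, rfl⟩, s, hs, rfl⟩ := Subgroup.mem_sup_of_normal_right.1 hx
    obtain ⟨c, hc⟩ := (Cfsg.Geo.mem_scalars_iff s).1 hs
    refine ⟨(c : F)⁻¹, inv_ne_zero c.ne_zero, fun i j => ?_⟩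
    simp only [MulEquiv.coe_toMonoidHom, MulAut.conj_apply,
      show ∀ y : GL ι F, P⁻¹ * (P * y * P⁻¹) * P = y from fun y => by group]
    rw [Units.val_mul, hc, Matrix.mul_smul, Matrix.mul_one, smul_smul, inv_mul_cancel₀ c.ne_zero, one_smul]
    exact ((a₀ : Matrix ι ι F₀) i j).2
  · rintro ⟨c, hc, hrat⟩
    obtain ⟨A₀, hA₀⟩ := hrat.lift
    have hdet : A₀.det ≠ 0 := fun h0 => by
      have h2 := (RingHom.map_det F₀.subtype A₀).symm
      rw [h0, map_zero, show F₀.subtype.mapMatrix A₀ = A₀.map F₀.subtype from rfl, hA₀, Matrix.det_smul] at h2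
      refine mul_ne_zero (pow_ne_zero _ hc) ?_ h2
      exact ((Matrix.isUnit_iff_isUnit_det _).1 ⟨P⁻¹ * g * P, rfl⟩).ne_zero
    let s : GL ι F := Units.map (Matrix.scalar ι : F →+* Matrix ι ι F).toMonoidHom (Units.mk0 c⁻¹ (inv_ne_zero hc))
    refine ⟨Matrix.GeneralLinearGroup.map F₀.subtype (Matrix.GeneralLinearGroup.mkOfDetNeZero A₀ hdet) * s,
      Subgroup.mul_mem_sup ⟨_, rfl⟩ ⟨_, rfl⟩, ?_⟩
    have hs : (s : Matrix ι ι F) = c⁻¹ • (1 : Matrix ι ι F) := by
      simp [s, Matrix.smul_one_eq_diagonal]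
    have he : Matrix.GeneralLinearGroup.map F₀.subtype (Matrix.GeneralLinearGroup.mkOfDetNeZero A₀ hdet) * s
        = P⁻¹ * g * P := Units.ext (by
      rw [Units.val_mul, hs]
      show A₀.map F₀.subtype * _ = _
      rw [hA₀, Matrix.mul_smul, Matrix.mul_one, smul_smul, inv_mul_cancel₀ hc, one_smul])
    rw [MulEquiv.coe_toMonoidHom, MulAut.conj_apply, he]
    group

theorem subfieldSubgroup_maximal {r : ℕ} (hr : r.Prime) (hcard : Fintype.card F = Nat.card F₀ ^ r)
    (hι : 6 ≤ Fintype.card ι) (P : GL ι F) :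
    Cfsg.Geo.IsMaximalIn (Cfsg.Geo.specialLinear ι F)
      (Cfsg.Geo.subfieldSubgroup F₀ P ⊓ Cfsg.Geo.specialLinear ι F) := by
  classical
  haveI hn : (Cfsg.Geo.specialLinear ι F).Normal := MonoidHom.normal_ker _
  have hconj : ∀ {g : GL ι F}, g ∈ Cfsg.Geo.specialLinear ι F → P * g * P⁻¹ ∈ Cfsg.Geo.specialLinear ι F :=
    fun {g} hg => hn.conj_mem g hg P
  have hconj' : ∀ {g : GL ι F}, g ∈ Cfsg.Geo.specialLinear ι F → P⁻¹ * g * P ∈ Cfsg.Geo.specialLinear ι F :=
    fun {g} hg => hn.conj_mem' g hg P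
  refine ⟨lt_of_le_of_ne inf_le_right fun heq => ?_, fun M hSM hMK => ?_⟩
  · obtain ⟨μ, hμ⟩ := exists_notMem_subfield hr hcard
    obtain ⟨i, j, hij⟩ := Fintype.exists_pair_of_one_lt_card (show 1 < Fintype.card ι by omega)
    have hd : (Pi.single j 1 : ι → F) ⬝ᵥ Pi.single i μ = 0 := by simp [hij.symm]
    have hs := tv_mem_specialLinear _ _ hd
    have h1 : P * tv _ _ hd * P⁻¹ ∈ Cfsg.Geo.subfieldSubgroup F₀ P ⊓ Cfsg.Geo.specialLinear ι F :=
      (SetLike.ext_iff.1 heq _).2 (hconj hs)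
    obtain ⟨c, hc, hrat⟩ := (mem_subfieldSubgroup_iff P _).1 h1.1
    rw [show P⁻¹ * (P * tv _ _ hd * P⁻¹) * P = tv _ _ hd by group, tv_val] at hrat
    have hii := hrat i i
    have hijm := hrat i j
    simp [Matrix.vecMulVec_apply, hij, hij.symm] at hii hijm
    exact hμ (by
      have h2 := F₀.mul_mem (F₀.inv_mem hii) hijm
      rwa [← mul_assoc, inv_mul_cancel₀ hc, one_mul] at h2)
  · let H : Subgroup (GL ι F) := M.map (MulAut.conj P⁻¹).toMonoidHom
    have memH : ∀ g, g ∈ H ↔ P * g * P⁻¹ ∈ M := fun g => by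
      constructor
      · rintro ⟨x, hx, rfl⟩
        simpa [MulAut.conj_apply, mul_assoc] using hx
      · intro hg; exact ⟨_, hg, by simp [MulAut.conj_apply, mul_assoc]⟩
    have hle : H ≤ Cfsg.Geo.specialLinear ι F := fun g hg => by
      have := hconj' (hMK ((memH g).1 hg))
      rwa [show P⁻¹ * (P * g * P⁻¹) * P = g by group] at this
    have hmem : ∀ g : GL ι F, g ∈ Cfsg.Geo.specialLinear ι F → RatUpToScalar F₀ g → g ∈ H := fun g hg hrat =>
      (memH g).2 (hSM ⟨(mem_subfieldSubgroup_iff P _).2 (by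
        rwa [show P⁻¹ * (P * g * P⁻¹) * P = g by group]), hconj hg⟩)
    rcases subfield_dichotomy hr hcard hι hle hmem with hall | htop
    · refine Or.inl (le_antisymm (fun g hg => ⟨(mem_subfieldSubgroup_iff P g).2 (hall _ ?_), hMK hg⟩) hSM)
      rw [memH, show P * (P⁻¹ * g * P) * P⁻¹ = g by group]; exact hg
    · refine Or.inr (le_antisymm hMK fun g hg => ?_)
      have := (memH (P⁻¹ * g * P)).1 (htop ▸ hconj' hg)
      rwa [show P * (P⁻¹ * g * P) * P⁻¹ = g by group] at this

end CfsgLib.Maximal
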