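import Mathlib
import Cfsg.Agent.Lib.Maximal.FormTv
import Cfsg.Agent.Lib.Geometry.Symplectic

/-!
Symplectic transvections inside a subgroup of the symplectic group.
-/

set_option autoImplicit false

namespace CfsgLib.Maximal

open scoped Matrix

variable {m : ℕ} {F : Type*} [Field F]

local notation "sf" => Cfsg.sympForm m F
local notation "B" => CfsgLib.Geometry.sympBilin m F

lemma sf_add_left (x y v : Fin m ⊕ Fin m → F) : sf (x + y) v = sf x v + sf y v := by
  simp [← CfsgLib.Geometry.sympBilin_apply]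

lemma sf_add_right (v x y : Fin m ⊕ Fin m → F) : sf v (x + y) = sf v x + sf v y := by
  simp [← CfsgLib.Geometry.sympBilin_apply]

lemma sf_smul_left (c : F) (x v : Fin m ⊕ Fin m → F) : sf (c • x) v = c * sf x v := by
  simp [← CfsgLib.Geometry.sympBilin_apply]

lemma sf_smul_right (c : F) (v x : Fin m ⊕ Fin m → F) : sf v (c • x) = c * sf v x := by
  simp [← CfsgLib.Geometry.sympBilin_apply]

lemma sf_zero_left (v : Fin m ⊕ Fin m → F) : sf 0 v = 0 := by
  simp [← CfsgLib.Geometry.sympBilin_apply]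

lemma sf_zero_right (v : Fin m ⊕ Fin m → F) : sf v 0 = 0 := by
  simp [← CfsgLib.Geometry.sympBilin_apply]

lemma sf_alt (v : Fin m ⊕ Fin m → F) : sf v v = 0 := CfsgLib.Geometry.sympBilin_isAlt m F v

lemma sf_skew (v w : Fin m ⊕ Fin m → F) : sf v w = - sf w v :=
  ((CfsgLib.Geometry.sympBilin_isAlt m F).neg_eq w v).symm

lemma sf_dot (d x : Fin m ⊕ Fin m → F) : fvec sf d ⬝ᵥ x = sf x d :=
  fvec_dot sf_add_left sf_smul_left d x

lemma sf_exists (v : Fin m ⊕ Fin m → F) (hv : v ≠ 0) : ∃ y, sf v y = 1 := by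
  obtain ⟨y, hy⟩ : ∃ y, sf v y ≠ 0 := by
    by_contra hcon
    push Not at hcon
    exact hv ((CfsgLib.Geometry.sympBilin_nondegenerate m F).1 v hcon)
  exact ⟨(sf v y)⁻¹ • y, by rw [sf_smul_right, inv_mul_cancel₀ hy]⟩

lemma sf_exists₂ (v w : Fin m ⊕ Fin m → F) (hv : v ≠ 0) (hw : w ≠ 0) : ∃ y, sf v y ≠ 0 ∧ sf w y ≠ 0 := by
  obtain ⟨y, hy⟩ := sf_exists v hv
  obtain ⟨z, hz⟩ := sf_exists w hw
  by_cases h1 : sf w y = 0
  · by_cases h2 : sf v z = 0
    · exact ⟨y + z, by rw [sf_add_right, h2, add_zero, hy]; exact one_ne_zero,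
        by rw [sf_add_right, h1, zero_add, hz]; exact one_ne_zero⟩
    · exact ⟨z, h2, by rw [hz]; exact one_ne_zero⟩
  · exact ⟨y, by rw [hy]; exact one_ne_zero, h1⟩

lemma mem_spGL_iff (g : Matrix.GeneralLinearGroup (Fin m ⊕ Fin m) F) :
    g ∈ Cfsg.spGL m F ↔ ∀ u v, sf ((g : Matrix _ _ F) *ᵥ u) ((g : Matrix _ _ F) *ᵥ v) = sf u v := Iff.rfl

lemma sf_tv_dot (k : F) (w : Fin m ⊕ Fin m → F) : fvec sf w ⬝ᵥ (k • w) = 0 := by
  rw [sf_dot, sf_smul_left, sf_alt, mul_zero]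

/-- The symplectic transvection `x ↦ x + k f(x,w) w`. -/
def stv (k : F) (w : Fin m ⊕ Fin m → F) : Matrix.GeneralLinearGroup (Fin m ⊕ Fin m) F :=
  tv (k • w) (fvec sf w) (sf_tv_dot k w)

lemma stv_mulVec (k : F) (w x : Fin m ⊕ Fin m → F) :
    (stv k w : Matrix _ _ F) *ᵥ x = x + (k * sf x w) • w := by
  rw [stv, tv_mulVec, sf_dot, smul_smul, mul_comm]

lemma stv_mem_spGL (k : F) (w : Fin m ⊕ Fin m → F) : stv k w ∈ Cfsg.spGL m F := by
  intro u v
  show sf ((stv k w : Matrix _ _ F) *ᵥ u) ((stv k w : Matrix _ _ F) *ᵥ v) = _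
  simp only [stv_mulVec, sf_add_left, sf_add_right, sf_smul_left, sf_smul_right, sf_alt, sf_skew w v]
  ring

lemma stv_scale (k c : F) (w : Fin m ⊕ Fin m → F) : stv k (c • w) = stv (k * c * c) w := by
  refine Units.ext (CfsgLib.Geometry.matrix_eq_of_mulVec fun x => ?_)
  rw [stv_mulVec, stv_mulVec, sf_smul_right, smul_smul]
  ring_nf

/-- Conjugation of symplectic transvections. -/
lemma stv_conj {g : Matrix.GeneralLinearGroup (Fin m ⊕ Fin m) F} (hg : g ∈ Cfsg.spGL m F) (k : F)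
    (w : Fin m ⊕ Fin m → F) : g * stv k w * g⁻¹ = stv k ((g : Matrix _ _ F) *ᵥ w) := by
  rw [mul_inv_eq_iff_eq_mul]
  refine Units.ext (CfsgLib.Geometry.matrix_eq_of_mulVec fun x => ?_)
  simp only [Units.val_mul, ← Matrix.mulVec_mulVec, stv_mulVec, Matrix.mulVec_add, Matrix.mulVec_smul,
    (mem_spGL_iff g).1 hg]

/-- The symplectic group is generated by its transvections. -/
lemma spGL_le_of_stv {M : Subgroup (Matrix.GeneralLinearGroup (Fin m ⊕ Fin m) F)}
    (hM : ∀ k w, stv k w ∈ M) : Cfsg.spGL m F ≤ M := by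
  intro g hg
  have ht : CfsgLib.Geometry.glEquiv g ∈ CfsgLib.Geometry.altTransvGroup B :=
    CfsgLib.Geometry.alt_mem_transvGroup (CfsgLib.Geometry.sympBilin_nondegenerate m F)
      (CfsgLib.Geometry.sympBilin_isAlt m F) _ fun u v => by
        simp only [CfsgLib.Geometry.glEquiv_apply, CfsgLib.Geometry.sympBilin_apply]
        exact hg u v
  have : CfsgLib.Geometry.glEquiv.symm (CfsgLib.Geometry.glEquiv g) ∈ M := by
    refine (Subgroup.closure_le (M.comap CfsgLib.Geometry.glEquiv.symm.toMonoidHom)).2 ?_ ht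
    rintro t ⟨a, d, ht⟩
    show CfsgLib.Geometry.glEquiv.symm t ∈ M
    convert hM a d using 1
    refine Units.ext (CfsgLib.Geometry.matrix_eq_of_mulVec fun v => ?_)
    rw [CfsgLib.Geometry.glEquiv_symm_mulVec, stv_mulVec, ht]
    rfl
  simpa using this

end CfsgLib.Maximal
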