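import Mathlib
import Cfsg.Agent.Lib.Maximal.SpTv

/-!
Points all whose symplectic transvections lie in a given subgroup.
-/

set_option autoImplicit false

namespace CfsgLib.Maximal

open scoped Matrix

variable {m : ℕ} {F : Type*} [Field F]

local notation "sf" => Cfsg.sympForm m F
local notation "B" => CfsgLib.Geometry.sympBilin m F

/-- All symplectic transvections with centre `v` lie in `M`. -/
def SpFull (M : Subgroup (Matrix.GeneralLinearGroup (Fin m ⊕ Fin m) F)) (v : Fin m ⊕ Fin m → F) : Prop :=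
  ∀ k, stv k v ∈ M

lemma stv_zero (k : F) : stv k (0 : Fin m ⊕ Fin m → F) = 1 :=
  Units.ext (CfsgLib.Geometry.matrix_eq_of_mulVec fun x => by simp [stv_mulVec])

lemma SpFull.zero (M : Subgroup (Matrix.GeneralLinearGroup (Fin m ⊕ Fin m) F)) : SpFull M 0 := fun k => by
  rw [stv_zero]; exact one_mem M

variable {M : Subgroup (Matrix.GeneralLinearGroup (Fin m ⊕ Fin m) F)}

lemma SpFull.smul {v : Fin m ⊕ Fin m → F} (h : SpFull M v) (c : F) : SpFull M (c • v) := fun k => by
  rw [stv_scale]; exact h _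

lemma SpFull.map (hMS : M ≤ Cfsg.spGL m F) {v : Fin m ⊕ Fin m → F} (h : SpFull M v)
    {g : Matrix.GeneralLinearGroup (Fin m ⊕ Fin m) F} (hg : g ∈ M) : SpFull M ((g : Matrix _ _ F) *ᵥ v) :=
  fun k => by
    rw [← stv_conj (hMS hg)]; exact mul_mem (mul_mem hg (h k)) (inv_mem hg)

lemma SpFull.move (hMS : M ≤ Cfsg.spGL m F) {v w : Fin m ⊕ Fin m → F} (hv : SpFull M v) (hw : SpFull M w)
    (h : sf w v ≠ 0) (a : F) : SpFull M (w + a • v) := by
  have := hw.map hMS (hv (a * (sf w v)⁻¹))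
  rwa [stv_mulVec, inv_mul_cancel_right₀ h] at this

lemma spGL_eq_of_full (hMS : M ≤ Cfsg.spGL m F) (h : ∀ v, SpFull M v) : M = Cfsg.spGL m F :=
  le_antisymm hMS (spGL_le_of_stv fun k w => h w k)

lemma sf_sub_right (v x y : Fin m ⊕ Fin m → F) : sf v (x - y) = sf v x - sf v y := by
  simp [← CfsgLib.Geometry.sympBilin_apply]

/-- A vector orthogonal to `y` but not to an independent `x`. -/
lemma sf_eval {x y : Fin m ⊕ Fin m → F} (hy : y ≠ 0) (hx : x ∉ Submodule.span F {y}) :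
    ∃ b, sf y b = 0 ∧ sf x b = 1 := by
  obtain ⟨y₁, hy₁⟩ := sf_exists y hy
  by_contra hcon
  push Not at hcon
  refine hx (Submodule.mem_span_singleton.2 ⟨sf x y₁, ?_⟩)
  have hall : ∀ z, sf x z = sf y z * sf x y₁ := by
    intro z
    by_contra hne
    have hb : sf x (z - sf y z • y₁) ≠ 0 := by
      rw [sf_sub_right, sf_smul_right]; exact sub_ne_zero.2 hne
    refine hcon ((sf x (z - sf y z • y₁))⁻¹ • (z - sf y z • y₁)) ?_ ?_
    · have h0 : sf y (z - sf y z • y₁) = 0 := by rw [sf_sub_right, sf_smul_right, hy₁, mul_one, sub_self]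
      rw [sf_smul_right, h0, mul_zero]
    · rw [sf_smul_right, inv_mul_cancel₀ hb]
  refine sub_eq_zero.1 ((CfsgLib.Geometry.sympBilin_nondegenerate m F).1 _ fun z => ?_)
  rw [map_sub, map_smul, LinearMap.sub_apply, LinearMap.smul_apply, CfsgLib.Geometry.sympBilin_apply,
    CfsgLib.Geometry.sympBilin_apply, hall z, smul_eq_mul]
  ring

/-- Inside a non-degenerate subspace full of transvections, the component of a full point can be changed freely. -/
lemma SpFull.change (hMS : M ≤ Cfsg.spGL m F) (S : Submodule F (Fin m ⊕ Fin m → F))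
    (hS : Cfsg.Geo.IsNondegenerateOn sf S) (hfull : ∀ v ∈ S, SpFull M v)
    {w w' p : Fin m ⊕ Fin m → F} (hw : w ∈ S) (hw0 : w ≠ 0) (hw' : w' ∈ S) (hw0' : w' ≠ 0)
    (hp : ∀ s ∈ S, sf p s = 0) (h : SpFull M (w + p)) : SpFull M (w' + p) := by
  have step : ∀ a ∈ S, ∀ b ∈ S, sf a b ≠ 0 → SpFull M (a + p) → SpFull M (b + p) := by
    intro a ha b hb hab hfa
    have h1 : sf (a + p) (b - a) ≠ 0 := by
      rwa [sf_add_left, hp _ (S.sub_mem hb ha), add_zero, sf_sub_right, sf_alt, sub_zero]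
    have := SpFull.move hMS (hfull _ (S.sub_mem hb ha)) hfa h1 1
    rwa [one_smul, add_right_comm, add_sub_cancel] at this
  obtain ⟨a, ha, ha1⟩ := (hS w hw hw0).2
  obtain ⟨b, hb, hb1⟩ := (hS w' hw' hw0').1
  obtain ⟨c, hc, hc1, hc2⟩ : ∃ c ∈ S, sf w c ≠ 0 ∧ sf c w' ≠ 0 := by
    by_cases h1 : sf a w' = 0
    · by_cases h2 : sf w b = 0
      · exact ⟨a + b, S.add_mem ha hb, by rwa [sf_add_right, h2, add_zero],
          by rwa [sf_add_left, h1, zero_add]⟩
      · exact ⟨b, hb, h2, hb1⟩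
    · exact ⟨a, ha, ha1, h1⟩
  exact step c hc w' hw' hc2 (step w hw c hc hc1 h)

end CfsgLib.Maximal
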