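import Mathlib
import Cfsg.Prelude.Def_GeometricClasses
import Cfsg.Agent.Lib.Maximal.FormTv
import Cfsg.Agent.Lib.Geometry.Hermitian

/-!
Unitary forms given as functions: isotropic vectors and unitary transvections.
-/

set_option autoImplicit false

namespace CfsgLib.Maximal

open scoped Matrix

variable {F : Type*} [Field F] {ι : Type} [Fintype ι] [DecidableEq ι] {σ : F ≃+* F}
  {f : (ι → F) → (ι → F) → F}

section basic

variable (hf : Cfsg.Geo.IsUnitaryForm σ f)
include hf

lemma un_add_right (v x y : ι → F) : f v (x + y) = f v x + f v y := by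
  rw [hf.herm, hf.add_left, map_add, ← hf.herm, ← hf.herm]

lemma un_smul_right (c : F) (v x : ι → F) : f v (c • x) = σ c * f v x := by
  rw [hf.herm, hf.smul_left, map_mul, ← hf.herm]

lemma un_zero_left (v : ι → F) : f 0 v = 0 := by
  rw [← zero_smul F (0 : ι → F), hf.smul_left, zero_mul]

lemma un_zero_right (v : ι → F) : f v 0 = 0 := by
  rw [← zero_smul F (0 : ι → F), un_smul_right hf, map_zero, zero_mul]

lemma un_sum_left {κ : Type} (s : Finset κ) (u : κ → ι → F) (v : ι → F) :
    f (∑ i ∈ s, u i) v = ∑ i ∈ s, f (u i) v := by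
  classical
  induction s using Finset.induction with
  | empty => simp [un_zero_left hf]
  | @insert a s ha ih => rw [Finset.sum_insert ha, Finset.sum_insert ha, hf.add_left, ih]

lemma un_dot (d x : ι → F) : fvec f d ⬝ᵥ x = f x d := fvec_dot hf.add_left hf.smul_left d x

lemma un_fvec_smul (c : F) (d : ι → F) : fvec f (c • d) = σ c • fvec f d :=
  funext fun _ => un_smul_right hf _ _ _

lemma un_fvec_add (c d : ι → F) : fvec f (c + d) = fvec f c + fvec f d :=
  funext fun _ => un_add_right hf _ _ _

lemma un_fvec_zero : fvec f (0 : ι → F) = 0 := funext fun _ => un_zero_right hf _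

lemma un_eq_of_forall {u v : ι → F} (h : ∀ x, f x u = f x v) : u = v := by
  by_contra hne
  obtain ⟨x, hx⟩ := (hf.nondegenerate _ (sub_ne_zero.2 hne)).1
  apply hx
  rw [sub_eq_add_neg, ← neg_one_smul F v, un_add_right hf, un_smul_right hf, map_neg, map_one, h]
  ring

lemma un_fvec_injective : Function.Injective (fvec f) := fun a b h =>
  un_eq_of_forall hf fun x => by rw [← un_dot hf, ← un_dot hf, h]

lemma un_fvec_surj [Finite F] (φ : ι → F) : ∃ d, fvec f d = φ :=
  (Finite.injective_iff_surjective.1 (un_fvec_injective hf)) φ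

lemma un_exists (v : ι → F) (hv : v ≠ 0) : ∃ y, f v y = 1 := by
  obtain ⟨y, hy⟩ := (hf.nondegenerate v hv).2
  exact ⟨σ (f v y)⁻¹ • y, by rw [un_smul_right hf, hf.involutive, inv_mul_cancel₀ hy]⟩

lemma un_skew_exists : ∃ k : F, k ≠ 0 ∧ σ k = -k := by
  by_contra hcon
  push Not at hcon
  refine hf.ne_refl (RingEquiv.ext fun c => ?_)
  by_contra hc
  exact hcon (c - σ c) (sub_ne_zero.2 (Ne.symm hc)) (by rw [map_sub, hf.involutive]; ring)

lemma un_tv_dot {a : ι → F} (ha : f a a = 0) (k : F) : fvec f a ⬝ᵥ (k • a) = 0 := by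
  rw [un_dot hf, hf.smul_left, ha, mul_zero]

lemma un_tv_isometry {a : ι → F} (ha : f a a = 0) {k : F} (hk : σ k = -k) (u v : ι → F) :
    f ((tv (k • a) (fvec f a) (un_tv_dot hf ha k) : Matrix ι ι F) *ᵥ u)
      ((tv (k • a) (fvec f a) (un_tv_dot hf ha k) : Matrix ι ι F) *ᵥ v) = f u v := by
  rw [tv_mulVec, tv_mulVec, un_dot hf, un_dot hf, smul_smul, smul_smul]
  simp only [hf.add_left, un_add_right hf, hf.smul_left, un_smul_right hf, ha, map_mul, hk]
  rw [← hf.herm a v]
  ring

/-- A combination of two isotropic vectors which is isotropic. -/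
lemma un_iso_comb {a b : ι → F} (ha : f a a = 0) (hb : f b b = 0) :
    ∃ c : F, c ≠ 0 ∧ f (a + c • b) (a + c • b) = 0 := by
  obtain ⟨k, hk0, hk⟩ := un_skew_exists hf
  have hexp : ∀ c, f (a + c • b) (a + c • b) = σ c * f a b + c * σ (f a b) := fun c => by
    simp only [hf.add_left, un_add_right hf, hf.smul_left, un_smul_right hf, ha, hb, ← hf.herm b a]
    ring
  by_cases hab : f a b = 0
  · exact ⟨1, one_ne_zero, by rw [hexp, hab, map_zero]; ring⟩
  · refine ⟨σ (k / f a b), by simp [hk0, hab], ?_⟩
    rw [hexp, hf.involutive, div_mul_cancel₀ _ hab, ← map_mul, div_mul_cancel₀ _ hab, hk]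
    ring

end basic

section supplySix

variable [Fintype F] (hf : Cfsg.Geo.IsUnitaryForm σ f)
include hf

/-- A vector orthogonal to `v i` and of product one with `x`. -/
lemma un_eval₀ {κ : Type*} (v : κ → ι → F) {x : ι → F} (hx : x ∉ Submodule.span F (Set.range v)) :
    ∃ y, (∀ i, f y (v i) = 0) ∧ f y x = 1 := by
  have hxv : fvec f x ∉ Submodule.span F (Set.range fun i => fvec f (v i)) := by
    intro h
    let S : Submodule F (ι → F) :=
      { carrier := {φ | ∃ z ∈ Submodule.span F (Set.range v), fvec f z = φ}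
        zero_mem' := ⟨0, zero_mem _, un_fvec_zero hf⟩
        add_mem' := by
          rintro _ _ ⟨a, ha, rfl⟩ ⟨b, hb, rfl⟩
          exact ⟨a + b, add_mem ha hb, un_fvec_add hf a b⟩
        smul_mem' := by
          rintro c _ ⟨a, ha, rfl⟩
          exact ⟨σ c • a, Submodule.smul_mem _ _ ha, by rw [un_fvec_smul hf, hf.involutive]⟩ }
    have hle : Submodule.span F (Set.range fun i => fvec f (v i)) ≤ S :=
      Submodule.span_le.2 (by rintro _ ⟨i, rfl⟩; exact ⟨v i, Submodule.subset_span ⟨i, rfl⟩, rfl⟩)
    obtain ⟨z, hz, hzx⟩ := hle h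
    exact hx (un_fvec_injective hf hzx ▸ hz)
  obtain ⟨φ, hφ, hφx⟩ := exists_ann _ _ hxv
  refine ⟨φ, fun i => ?_, ?_⟩
  · rw [← un_dot hf, dotProduct_comm]; exact hφ _ (Submodule.subset_span ⟨i, rfl⟩)
  · rw [← un_dot hf, dotProduct_comm]; exact hφx

variable (hn : 6 ≤ Fintype.card ι)
include hn

/-- Isotropic vectors orthogonal to two given vectors, not orthogonal to another one. -/
lemma un_supply_two (v : Fin 2 → ι → F) {x : ι → F} (hx : x ∉ Submodule.span F (Set.range v)) :
    ∃ a, f a a = 0 ∧ (∀ i, f a (v i) = 0) ∧ f a x = 1 := by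
  obtain ⟨y, hy, hyx⟩ := un_eval₀ hf v hx
  by_cases hyy : f y y = 0
  · exact ⟨y, hyy, hy, hyx⟩
  let w : Fin 3 → ι → F := ![v 0, v 1, y]
  let L : (ι → F) →ₗ[F] (Fin 3 → F) :=
    LinearMap.pi fun i =>
      { toFun := fun z => f z (w i)
        map_add' := fun a b => hf.add_left a b _
        map_smul' := fun c a => hf.smul_left c a _ }
  have hmem : ∀ z, z ∈ LinearMap.ker L ↔ ∀ i, f z (w i) = 0 := fun z => by simp [L, funext_iff]
  suffices hne : ∃ z ∈ LinearMap.ker L, f z z ≠ 0 by
    obtain ⟨z, hz, hzz⟩ := hne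
    have hσ : (σ : F →+* F) ≠ RingHom.id F := fun h => hf.ne_refl (RingEquiv.ext fun a => RingHom.congr_fun h a)
    have hfix : ∀ u, σ (f u u) = f u u := fun u => (hf.herm u u).symm
    obtain ⟨c, hc⟩ := CfsgLib.Geometry.exists_norm_eq (σ := (σ : F →+* F)) hσ (fun a => hf.involutive a)
      (c := -f y y / f z z) (by
        show σ (-f y y / f z z) = _
        rw [map_div₀, map_neg, hfix, hfix])
    have hzw : ∀ i, f z (w i) = 0 := (hmem z).1 hz
    have hzy : f z y = 0 := hzw 2
    have hyz : f y z = 0 := by rw [hf.herm, hzy, map_zero]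
    have hzv : ∀ i, f z (v i) = 0 := fun i => by
      fin_cases i
      exacts [hzw 0, hzw 1]
    set a := y + c • z with ha
    have haa : f a a = 0 := by
      simp only [ha, hf.add_left, un_add_right hf, hf.smul_left, un_smul_right hf, hzy, hyz]
      change c * σ c = _ at hc
      have hc2 : c * σ c * f z z = -f y y := by rw [hc, div_mul_cancel₀ _ hzz]
      linear_combination hc2
    have hav : ∀ i, f a (v i) = 0 := fun i => by
      rw [ha, hf.add_left, hf.smul_left, hy i, hzv i, mul_zero, add_zero]
    have hay : f a y = f y y := by rw [ha, hf.add_left, hf.smul_left, hzy, mul_zero, add_zero]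
    by_cases hax : f a x = 0
    · obtain ⟨t, ht⟩ : ∃ t : F, σ t + t ≠ 0 := by
        by_contra hh
        push Not at hh
        have h2 : ∀ t : F, σ t = -t := fun t => eq_neg_of_add_eq_zero_left (hh t)
        have h11 : (1 : F) = -1 := by have := h2 1; rwa [map_one] at this
        exact hf.ne_refl (RingEquiv.ext fun t => by
          show σ t = t
          rw [h2 t]; linear_combination -t * h11)
      have hinv : σ (σ t + t) = σ t + t := by rw [map_add, hf.involutive]; ring
      refine ⟨y + (-t / (σ t + t)) • a, ?_, fun i => ?_, ?_⟩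
      · have hya : f y a = f y y := by rw [hf.herm, hay, hfix]
        simp only [hf.add_left, un_add_right hf, hf.smul_left, un_smul_right hf, haa, hay, hya, map_div₀, map_neg,
          hinv]
        field_simp
        ring
      · rw [hf.add_left, hf.smul_left, hy i, hav i, mul_zero, add_zero]
      · rw [hf.add_left, hf.smul_left, hyx, hax, mul_zero, add_zero]
    · exact ⟨(f a x)⁻¹ • a, by rw [hf.smul_left, un_smul_right hf, haa, mul_zero, mul_zero],
        fun i => by rw [hf.smul_left, hav i, mul_zero], by rw [hf.smul_left, inv_mul_cancel₀ hax]⟩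
  by_contra hcon
  push Not at hcon
  set K := LinearMap.ker L
  have hts : ∀ a ∈ K, ∀ b ∈ K, f a b = 0 := by
    intro a ha b hb
    obtain ⟨k, hk0, hk⟩ := un_skew_exists hf
    have key : ∀ c : F, σ c * f a b + c * σ (f a b) = 0 := fun c => by
      have h := hcon _ (add_mem ha (K.smul_mem c hb))
      simp only [hf.add_left, un_add_right hf, hf.smul_left, un_smul_right hf, hcon a ha, hcon b hb] at h
      rw [hf.herm b a] at h
      linear_combination h
    by_contra hab
    obtain ⟨c, hc⟩ : ∃ c : F, σ c + c ≠ 0 := by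
      by_contra hh
      push Not at hh
      have h2 : ∀ c : F, σ c = -c := fun c => eq_neg_of_add_eq_zero_left (hh c)
      have h11 : (1 : F) = -1 := by have := h2 1; rwa [map_one] at this
      exact hf.ne_refl (RingEquiv.ext fun c => by
        show σ c = c
        rw [h2 c]; linear_combination -c * h11)
    have := key (σ (c / f a b))
    rw [hf.involutive, div_mul_cancel₀ _ hab, ← map_mul, div_mul_cancel₀ _ hab, add_comm] at this
    exact hc this
  let b := Module.finBasis F K
  have hli : LinearIndependent F fun j => fvec f (b j : ι → F) := by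
    rw [Fintype.linearIndependent_iff]
    intro g hg
    have hz : (∑ j, σ (g j) • (b j : ι → F)) = 0 := by
      refine un_fvec_injective hf ?_
      rw [un_fvec_zero hf, ← hg]
      funext i
      simp only [fvec, Finset.sum_apply, Pi.smul_apply, smul_eq_mul]
      rw [hf.herm, un_sum_left hf, map_sum]
      refine Finset.sum_congr rfl fun j _ => ?_
      rw [hf.smul_left, map_mul, hf.involutive, ← hf.herm]
    have hz' : (∑ j, σ (g j) • b j) = 0 := Subtype.ext (by simpa using hz)
    intro j
    have := Fintype.linearIndependent_iff.1 b.linearIndependent _ hz' j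
    exact σ.injective (by rw [this, map_zero])
  have hzy : ∀ z ∈ K, f z y = 0 := fun z hz => (hmem z).1 hz 2
  let u : Fin (Module.finrank F K + 1) → ι → F := Fin.cons y fun j => (b j : ι → F)
  have hmemA : ∀ j, dotProductEquiv F ι (fvec f (u j)) ∈ K.dualAnnihilator := fun j => by
    rw [Submodule.mem_dualAnnihilator]
    intro z hz
    show fvec f (u j) ⬝ᵥ z = 0
    rw [un_dot hf]
    refine Fin.cases ?_ (fun i => ?_) j
    · exact hzy z hz
    · exact hts z hz _ (b i).2
  have hliu : LinearIndependent F fun j => fvec f (u j) := by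
    have e : (fun j => fvec f (u j)) = Fin.cons (fvec f y) fun j => fvec f (b j : ι → F) := funext fun j =>
      Fin.cases rfl (fun i => rfl) j
    rw [e, linearIndependent_finCons]
    refine ⟨hli, fun hspan => hyy ?_⟩
    have hle : Submodule.span F (Set.range fun j => fvec f (b j : ι → F)) ≤
        LinearMap.ker (dotProductEquiv F ι y) := Submodule.span_le.2 (by
      rintro _ ⟨j, rfl⟩
      show y ⬝ᵥ fvec f (b j : ι → F) = 0
      rw [dotProduct_comm, un_dot hf, hf.herm, hzy _ (b j).2, map_zero])
    have := hle hspan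
    rw [LinearMap.mem_ker] at this
    rw [← un_dot hf y y, dotProduct_comm]
    exact this
  have hli2 : LinearIndependent F fun j => (⟨_, hmemA j⟩ : K.dualAnnihilator) :=
    LinearIndependent.of_comp K.dualAnnihilator.subtype
      (hliu.map' (dotProductEquiv F ι).toLinearMap (LinearEquiv.ker _))
  have h1 := hli2.fintype_card_le_finrank
  have h2 := Subspace.finrank_add_finrank_dualAnnihilator_eq K
  have h3 := L.finrank_range_add_finrank_ker
  have h4 := (LinearMap.range L).finrank_le
  simp at h1 h2 h3 h4
  change Module.finrank F (LinearMap.range L) + Module.finrank F K = _ at h3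
  omega

/-- An isotropic vector not orthogonal to either of two given non-zero vectors. -/
lemma un_supply₂' {u v : ι → F} (hu : u ≠ 0) (hv : v ≠ 0) : ∃ a, f a a = 0 ∧ f a u ≠ 0 ∧ f a v ≠ 0 := by
  have h0 : ∀ z : ι → F, z ≠ 0 → z ∉ Submodule.span F (Set.range fun _ : Fin 2 => (0 : ι → F)) := fun z hz h => hz (by
    simpa using h)
  obtain ⟨a, ha, -, hau⟩ := un_supply_two hf hn _ (h0 u hu)
  obtain ⟨b, hb, -, hbv⟩ := un_supply_two hf hn _ (h0 v hv)
  by_cases h1 : f a v = 0
  · by_cases h2 : f b u = 0
    · obtain ⟨c, hc, hab⟩ := un_iso_comb hf ha hb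
      exact ⟨a + c • b, hab, by rw [hf.add_left, hf.smul_left, h2, hau, mul_zero, add_zero]; exact one_ne_zero,
        by rw [hf.add_left, hf.smul_left, h1, hbv, mul_one, zero_add]; exact hc⟩
    · exact ⟨b, hb, h2, by rw [hbv]; exact one_ne_zero⟩
  · exact ⟨a, ha, by rw [hau]; exact one_ne_zero, h1⟩

end supplySix

section supply

variable [Fintype F] (hf : Cfsg.Geo.IsUnitaryForm σ f) (hn : 10 ≤ Fintype.card ι)
include hf hn

/-- A vector orthogonal to `v i` and of product one with `x`. -/
lemma un_eval {κ : Type*} (v : κ → ι → F) {x : ι → F} (hx : x ∉ Submodule.span F (Set.range v)) :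
    ∃ y, (∀ i, f y (v i) = 0) ∧ f y x = 1 :=
  un_eval₀ hf v hx

/-- Isotropic vectors orthogonal to at most three given vectors, not orthogonal to another one. -/
lemma un_supply (v : Fin 3 → ι → F) {x : ι → F} (hx : x ∉ Submodule.span F (Set.range v)) :
    ∃ a, f a a = 0 ∧ (∀ i, f a (v i) = 0) ∧ f a x = 1 := by
  obtain ⟨y, hy, hyx⟩ := un_eval hf hn v hx
  by_cases hyy : f y y = 0
  · exact ⟨y, hyy, hy, hyx⟩
  let w : Fin 5 → ι → F := ![v 0, v 1, v 2, x, y]
  let L : (ι → F) →ₗ[F] (Fin 5 → F) :=
    LinearMap.pi fun i =>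
      { toFun := fun z => f z (w i)
        map_add' := fun a b => hf.add_left a b _
        map_smul' := fun c a => hf.smul_left c a _ }
  have hmem : ∀ z, z ∈ LinearMap.ker L ↔ ∀ i, f z (w i) = 0 := fun z => by simp [L, funext_iff]
  suffices hne : ∃ z ∈ LinearMap.ker L, f z z ≠ 0 by
    obtain ⟨z, hz, hzz⟩ := hne
    have hσ : (σ : F →+* F) ≠ RingHom.id F := fun h => hf.ne_refl (RingEquiv.ext fun a => RingHom.congr_fun h a)
    have hfix : ∀ u, σ (f u u) = f u u := fun u => (hf.herm u u).symm
    obtain ⟨c, hc⟩ := CfsgLib.Geometry.exists_norm_eq (σ := (σ : F →+* F)) hσ (fun a => hf.involutive a)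
      (c := -f y y / f z z) (by
        show σ (-f y y / f z z) = _
        rw [map_div₀, map_neg, hfix, hfix])
    have hzw : ∀ i, f z (w i) = 0 := (hmem z).1 hz
    have hzy : f z y = 0 := hzw 4
    have hyz : f y z = 0 := by rw [hf.herm, hzy, map_zero]
    refine ⟨y + c • z, ?_, fun i => ?_, ?_⟩
    · simp only [hf.add_left, un_add_right hf, hf.smul_left, un_smul_right hf, hzy, hyz]
      change c * σ c = _ at hc
      have hc2 : c * σ c * f z z = -f y y := by rw [hc, div_mul_cancel₀ _ hzz]
      linear_combination hc2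
    · have h3 : f z (v i) = 0 := by
        fin_cases i
        exacts [hzw 0, hzw 1, hzw 2]
      rw [hf.add_left, hf.smul_left, hy i, h3, mul_zero, add_zero]
    · rw [hf.add_left, hf.smul_left, hyx, show f z x = 0 from hzw 3, mul_zero, add_zero]
  by_contra hcon
  push Not at hcon
  set K := LinearMap.ker L
  have hts : ∀ a ∈ K, ∀ b ∈ K, f a b = 0 := by
    intro a ha b hb
    obtain ⟨k, hk0, hk⟩ := un_skew_exists hf
    have key : ∀ c : F, σ c * f a b + c * σ (f a b) = 0 := fun c => by
      have h := hcon _ (add_mem ha (K.smul_mem c hb))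
      simp only [hf.add_left, un_add_right hf, hf.smul_left, un_smul_right hf, hcon a ha, hcon b hb] at h
      rw [hf.herm b a] at h
      linear_combination h
    by_contra hab
    obtain ⟨c, hc⟩ : ∃ c : F, σ c + c ≠ 0 := by
      by_contra hh
      push Not at hh
      have h2 : ∀ c : F, σ c = -c := fun c => eq_neg_of_add_eq_zero_left (hh c)
      have h11 : (1 : F) = -1 := by have := h2 1; rwa [map_one] at this
      exact hf.ne_refl (RingEquiv.ext fun c => by
        show σ c = c
        rw [h2 c]; linear_combination -c * h11)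
    have := key (σ (c / f a b))
    rw [hf.involutive, div_mul_cancel₀ _ hab, ← map_mul, div_mul_cancel₀ _ hab, add_comm] at this
    exact hc this
  let b := Module.finBasis F K
  have hli : LinearIndependent F fun j => fvec f (b j : ι → F) := by
    rw [Fintype.linearIndependent_iff]
    intro g hg
    have hz : (∑ j, σ (g j) • (b j : ι → F)) = 0 := by
      refine un_fvec_injective hf ?_
      rw [un_fvec_zero hf, ← hg]
      funext i
      simp only [fvec, Finset.sum_apply, Pi.smul_apply, smul_eq_mul]
      rw [hf.herm, un_sum_left hf, map_sum]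
      refine Finset.sum_congr rfl fun j _ => ?_
      rw [hf.smul_left, map_mul, hf.involutive, ← hf.herm]
    have hz' : (∑ j, σ (g j) • b j) = 0 := Subtype.ext (by simpa using hz)
    intro j
    have := Fintype.linearIndependent_iff.1 b.linearIndependent _ hz' j
    exact σ.injective (by rw [this, map_zero])
  have hzy : ∀ z ∈ K, f z y = 0 := fun z hz => (hmem z).1 hz 4
  let u : Fin (Module.finrank F K + 1) → ι → F := Fin.cons y fun j => (b j : ι → F)
  have hmemA : ∀ j, dotProductEquiv F ι (fvec f (u j)) ∈ K.dualAnnihilator := fun j => by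
    rw [Submodule.mem_dualAnnihilator]
    intro z hz
    show fvec f (u j) ⬝ᵥ z = 0
    rw [un_dot hf]
    refine Fin.cases ?_ (fun i => ?_) j
    · exact hzy z hz
    · exact hts z hz _ (b i).2
  have hliu : LinearIndependent F fun j => fvec f (u j) := by
    have e : (fun j => fvec f (u j)) = Fin.cons (fvec f y) fun j => fvec f (b j : ι → F) := funext fun j =>
      Fin.cases rfl (fun i => rfl) j
    rw [e, linearIndependent_finCons]
    refine ⟨hli, fun hspan => hyy ?_⟩
    have hle : Submodule.span F (Set.range fun j => fvec f (b j : ι → F)) ≤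
        LinearMap.ker (dotProductEquiv F ι y) := Submodule.span_le.2 (by
      rintro _ ⟨j, rfl⟩
      show y ⬝ᵥ fvec f (b j : ι → F) = 0
      rw [dotProduct_comm, un_dot hf, hf.herm, hzy _ (b j).2, map_zero])
    have := hle hspan
    rw [LinearMap.mem_ker] at this
    rw [← un_dot hf y y, dotProduct_comm]
    exact this
  have hli2 : LinearIndependent F fun j => (⟨_, hmemA j⟩ : K.dualAnnihilator) :=
    LinearIndependent.of_comp K.dualAnnihilator.subtype
      (hliu.map' (dotProductEquiv F ι).toLinearMap (LinearEquiv.ker _))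
  have h1 := hli2.fintype_card_le_finrank
  have h2 := Subspace.finrank_add_finrank_dualAnnihilator_eq K
  have h3 := L.finrank_range_add_finrank_ker
  have h4 := (LinearMap.range L).finrank_le
  simp at h1 h2 h3 h4
  change Module.finrank F (LinearMap.range L) + Module.finrank F K = _ at h3
  omega

/-- An isotropic vector not orthogonal to either of two given non-zero vectors. -/
lemma un_supply₂ {u v : ι → F} (hu : u ≠ 0) (hv : v ≠ 0) : ∃ a, f a a = 0 ∧ f a u ≠ 0 ∧ f a v ≠ 0 :=
  un_supply₂' hf (by omega) hu hv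

end supply

end CfsgLib.Maximal
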