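import Mathlib
import Cfsg.Agent.Lib.Maximal.UnTv
import Cfsg.Agent.Lib.Classical.UnitaryGen
import Cfsg.Agent.Lib.Geometry.MatrixEquiv

/-!
Unitary transvections inside a subgroup of the unitary group of the standard Hermitian form.
-/

set_option autoImplicit false

namespace CfsgLib.Maximal

open scoped Matrix

variable {F : Type*} [Field F] {ι : Type} [Fintype ι] [DecidableEq ι] {σ : F ≃+* F}
  {f : (ι → F) → (ι → F) → F}

section relative

variable [Fintype F] (hf : Cfsg.Geo.IsUnitaryForm σ f) (P : Submodule F (ι → F))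
include hf

/-- A totally isotropic subspace of a non-degenerate subspace has at most half its dimension. -/
lemma un_two_mul_le (hP : Cfsg.Geo.IsNondegenerateOn f P) (K : Submodule F (ι → F)) (hK : K ≤ P)
    (hts : ∀ a ∈ K, ∀ b ∈ K, f a b = 0) : 2 * Module.finrank F K ≤ Module.finrank F P := by
  classical
  let b := Module.finBasis F K
  let K' : Submodule F P := K.comap P.subtype
  let ψ : Fin (Module.finrank F K) → Module.Dual F P := fun j =>
    (dotProductEquiv F ι (fvec f (b j : ι → F))).comp P.subtype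
  have hψ : ∀ j z, ψ j z = f (z : ι → F) (b j : ι → F) := fun j z => un_dot hf _ _
  have hli : LinearIndependent F ψ := by
    rw [Fintype.linearIndependent_iff]
    intro g hg
    set u : ι → F := ∑ j, σ (g j) • (b j : ι → F) with hu
    have huK : u ∈ K := K.sum_mem fun j _ => K.smul_mem _ (b j).2
    have hu0 : u = 0 := by
      by_contra hne
      obtain ⟨z, hz, hzu⟩ := (hP u (hK huK) hne).1
      apply hzu
      have h1 := LinearMap.congr_fun hg ⟨z, hz⟩
      simp only [LinearMap.coe_sum, Finset.sum_apply, LinearMap.smul_apply, hψ, smul_eq_mul,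
        LinearMap.zero_apply] at h1
      rw [hu, hf.herm, un_sum_left hf, map_sum, ← h1]
      exact Finset.sum_congr rfl fun j _ => by rw [hf.smul_left, map_mul, hf.involutive, ← hf.herm]
    have hz' : (∑ j, σ (g j) • b j) = 0 := Subtype.ext (by simpa [hu] using hu0)
    intro j
    have := Fintype.linearIndependent_iff.1 b.linearIndependent _ hz' j
    exact σ.injective (by rw [this, map_zero])
  have hmem : ∀ j, ψ j ∈ K'.dualAnnihilator := fun j => by
    rw [Submodule.mem_dualAnnihilator]
    intro z hz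
    rw [hψ]; exact hts _ hz _ (b j).2
  have hli2 : LinearIndependent F fun j => (⟨_, hmem j⟩ : K'.dualAnnihilator) :=
    LinearIndependent.of_comp K'.dualAnnihilator.subtype hli
  have h1 := hli2.fintype_card_le_finrank
  have h2 := Subspace.finrank_add_finrank_dualAnnihilator_eq K'
  have h3 : Module.finrank F K' = Module.finrank F K := (Submodule.comapSubtypeEquivOfLe hK).finrank_eq
  simp only [Fintype.card_fin] at h1
  omega

/-- Norms on the perp of few vectors inside a non-degenerate subspace. -/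
lemma un_norm_perp (hP : Cfsg.Geo.IsNondegenerateOn f P) {k : ℕ} (v : Fin k → ι → F)
    (hk : 2 * k < Module.finrank F P) {ν : F} (hν : σ ν = ν) :
    ∃ z ∈ P, (∀ i, f z (v i) = 0) ∧ f z z = ν := by
  classical
  let L : P →ₗ[F] (Fin k → F) := LinearMap.pi fun i => (dotProductEquiv F ι (fvec f (v i))).comp P.subtype
  let K : Submodule F (ι → F) := (LinearMap.ker L).map P.subtype
  have hKP : K ≤ P := Submodule.map_subtype_le _ _
  have hKv : ∀ z ∈ K, ∀ i, f z (v i) = 0 := by
    rintro _ ⟨z, hz, rfl⟩ i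
    exact (un_dot hf (v i) _).symm.trans (congrFun hz i)
  have hdim : Module.finrank F P ≤ Module.finrank F K + k := by
    have h1 := L.finrank_range_add_finrank_ker
    have h2 := (LinearMap.range L).finrank_le
    have h3 : Module.finrank F K = Module.finrank F (LinearMap.ker L) :=
      (Submodule.equivMapOfInjective _ P.subtype_injective _).finrank_eq.symm
    simp at h2
    omega
  suffices hne : ∃ z ∈ K, f z z ≠ 0 by
    obtain ⟨z, hz, hzz⟩ := hne
    have hσ : (σ : F →+* F) ≠ RingHom.id F := fun h => hf.ne_refl (RingEquiv.ext fun a => RingHom.congr_fun h a)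
    obtain ⟨c, hc⟩ := CfsgLib.Geometry.exists_norm_eq (σ := (σ : F →+* F)) hσ (fun a => hf.involutive a)
      (c := ν / f z z) (by
        show σ (ν / f z z) = _
        rw [map_div₀, hν, ← hf.herm z z])
    refine ⟨c • z, P.smul_mem c (hKP hz), fun i => by rw [hf.smul_left, hKv z hz, mul_zero], ?_⟩
    change c * σ c = _ at hc
    rw [hf.smul_left, un_smul_right hf, ← mul_assoc, hc, div_mul_cancel₀ _ hzz]
  by_contra hcon
  push Not at hcon
  have hts : ∀ a ∈ K, ∀ b ∈ K, f a b = 0 := by
    intro a ha b hb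
    by_contra hab
    obtain ⟨c, hc⟩ : ∃ c : F, σ c + c ≠ 0 := by
      by_contra hh
      push Not at hh
      have h2 : ∀ c : F, σ c = -c := fun c => eq_neg_of_add_eq_zero_left (hh c)
      have h11 : (1 : F) = -1 := by have := h2 1; rwa [map_one] at this
      exact hf.ne_refl (RingEquiv.ext fun c => by
        show σ c = c
        rw [h2 c]; linear_combination -c * h11)
    have h := hcon _ (K.add_mem ha (K.smul_mem (σ (c / f a b)) hb))
    simp only [hf.add_left, un_add_right hf, hf.smul_left, un_smul_right hf, hf.involutive,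
      hcon a ha, hcon b hb] at h
    rw [hf.herm b a] at h
    rw [div_mul_cancel₀ _ hab, ← map_mul, div_mul_cancel₀ _ hab] at h
    exact hc (by linear_combination h)
  have := un_two_mul_le hf P hP K hKP hts
  omega

omit [Fintype F] in
/-- Orthogonal projection exists when `P` and `Q` are orthogonal and span. -/
lemma un_eval_in [Fintype F] (hn : 10 ≤ Fintype.card ι) (Q : Submodule F (ι → F)) (hPQ : P ⊔ Q = ⊤)
    (horth : ∀ q ∈ Q, ∀ p ∈ P, f q p = 0) {k : ℕ} (v : Fin k → ι → F) (hv : ∀ i, v i ∈ P) {x : ι → F}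
    (hxP : x ∈ P) (hx : x ∉ Submodule.span F (Set.range v)) :
    ∃ y ∈ P, (∀ i, f y (v i) = 0) ∧ f y x = 1 := by
  obtain ⟨y, hy, hyx⟩ := un_eval hf hn v hx
  obtain ⟨p, hp, q, hq, rfl⟩ := Submodule.mem_sup.1 (hPQ ▸ Submodule.mem_top : y ∈ P ⊔ Q)
  refine ⟨p, hp, fun i => ?_, ?_⟩
  · have := hy i
    rwa [hf.add_left, horth q hq _ (hv i), add_zero] at this
  · rwa [hf.add_left, horth q hq _ hxP, add_zero] at hyx

/-- Isotropic vectors of a non-degenerate subspace with prescribed inner products. -/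
lemma un_supply_in (hn : 10 ≤ Fintype.card ι) (hP : Cfsg.Geo.IsNondegenerateOn f P) (Q : Submodule F (ι → F))
    (hPQ : P ⊔ Q = ⊤) (horth : ∀ q ∈ Q, ∀ p ∈ P, f q p = 0) {k : ℕ} (v : Fin k → ι → F) (hv : ∀ i, v i ∈ P)
    (hk : 2 * (k + 2) < Module.finrank F P) {x : ι → F} (hxP : x ∈ P) (hx : x ∉ Submodule.span F (Set.range v)) :
    ∃ a ∈ P, f a a = 0 ∧ (∀ i, f a (v i) = 0) ∧ f a x = 1 := by
  obtain ⟨y, hyP, hy, hyx⟩ := un_eval_in hf P hn Q hPQ horth v hv hxP hx
  obtain ⟨z, hzP, hz, hzz⟩ := un_norm_perp hf P hP (Fin.cons x (Fin.cons y v)) (by omega) (ν := -f y y) (by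
    rw [map_neg, ← hf.herm])
  have hzx : f z x = 0 := hz 0
  have hzy : f z y = 0 := hz 1
  have hyz : f y z = 0 := by rw [hf.herm, hzy, map_zero]
  refine ⟨y + z, P.add_mem hyP hzP, ?_, fun i => ?_, ?_⟩
  · rw [hf.add_left, un_add_right hf, un_add_right hf, hzy, hyz, hzz]; ring
  · have h3 : f z (v i) = 0 := by
      have := hz i.succ.succ
      simpa using this
    rw [hf.add_left, hy, h3, add_zero]
  · rw [hf.add_left, hyx, hzx, add_zero]

omit [Fintype F] in
/-- A subspace without anisotropic vectors is totally isotropic. -/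
lemma un_ts_of_self (K : Submodule F (ι → F)) (h0 : ∀ z ∈ K, f z z = 0) : ∀ a ∈ K, ∀ b ∈ K, f a b = 0 := by
  intro a ha b hb
  by_contra hab
  obtain ⟨c, hc⟩ : ∃ c : F, σ c + c ≠ 0 := by
    by_contra hh
    push Not at hh
    have h2 : ∀ c : F, σ c = -c := fun c => eq_neg_of_add_eq_zero_left (hh c)
    have h11 : (1 : F) = -1 := by have := h2 1; rwa [map_one] at this
    exact hf.ne_refl (RingEquiv.ext fun c => by
      show σ c = c
      rw [h2 c]; linear_combination -c * h11)
  have h := h0 _ (K.add_mem ha (K.smul_mem (σ (c / f a b)) hb))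
  simp only [hf.add_left, un_add_right hf, hf.smul_left, un_smul_right hf, hf.involutive,
    h0 a ha, h0 b hb] at h
  rw [hf.herm b a] at h
  rw [div_mul_cancel₀ _ hab, ← map_mul, div_mul_cancel₀ _ hab] at h
  exact hc (by linear_combination h)

/-- Orthogonal subspaces of a non-degenerate subspace have dimensions adding up to at most its dimension. -/
lemma un_add_le (hP : Cfsg.Geo.IsNondegenerateOn f P) (K K' : Submodule F (ι → F)) (hK : K ≤ P) (hK' : K' ≤ P)
    (horth : ∀ a ∈ K', ∀ b ∈ K, f a b = 0) : Module.finrank F K' + Module.finrank F K ≤ Module.finrank F P := by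
  classical
  let b := Module.finBasis F K
  let K'' : Submodule F P := K'.comap P.subtype
  let ψ : Fin (Module.finrank F K) → Module.Dual F P := fun j =>
    (dotProductEquiv F ι (fvec f (b j : ι → F))).comp P.subtype
  have hψ : ∀ j z, ψ j z = f (z : ι → F) (b j : ι → F) := fun j z => un_dot hf _ _
  have hli : LinearIndependent F ψ := by
    rw [Fintype.linearIndependent_iff]
    intro g hg
    set u : ι → F := ∑ j, σ (g j) • (b j : ι → F) with hu
    have huK : u ∈ K := K.sum_mem fun j _ => K.smul_mem _ (b j).2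
    have hu0 : u = 0 := by
      by_contra hne
      obtain ⟨z, hz, hzu⟩ := (hP u (hK huK) hne).1
      apply hzu
      have h1 := LinearMap.congr_fun hg ⟨z, hz⟩
      simp only [LinearMap.coe_sum, Finset.sum_apply, LinearMap.smul_apply, hψ, smul_eq_mul,
        LinearMap.zero_apply] at h1
      rw [hu, hf.herm, un_sum_left hf, map_sum, ← h1]
      exact Finset.sum_congr rfl fun j _ => by rw [hf.smul_left, map_mul, hf.involutive, ← hf.herm]
    have hz' : (∑ j, σ (g j) • b j) = 0 := Subtype.ext (by simpa [hu] using hu0)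
    intro j
    have := Fintype.linearIndependent_iff.1 b.linearIndependent _ hz' j
    exact σ.injective (by rw [this, map_zero])
  have hmem : ∀ j, ψ j ∈ K''.dualAnnihilator := fun j => by
    rw [Submodule.mem_dualAnnihilator]
    intro z hz
    rw [hψ]; exact horth _ hz _ (b j).2
  have hli2 : LinearIndependent F fun j => (⟨_, hmem j⟩ : K''.dualAnnihilator) :=
    LinearIndependent.of_comp K''.dualAnnihilator.subtype hli
  have h1 := hli2.fintype_card_le_finrank
  have h2 := Subspace.finrank_add_finrank_dualAnnihilator_eq K''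
  have h3 : Module.finrank F K'' = Module.finrank F K' := (Submodule.comapSubtypeEquivOfLe hK').finrank_eq
  simp only [Fintype.card_fin] at h1
  omega

/-- Prescribed inner products and norm in a non-degenerate subspace, with the sharp dimension bound. -/
lemma un_supply_sharp (hP : Cfsg.Geo.IsNondegenerateOn f P) (Q : Submodule F (ι → F)) (hPQ : P ⊔ Q = ⊤)
    (horth : ∀ q ∈ Q, ∀ p ∈ P, f q p = 0) {k : ℕ} (v : Fin k → ι → F) (hv : ∀ i, v i ∈ P)
    (hk : 2 * (k + 1) ≤ Module.finrank F P) {x : ι → F} (hxP : x ∈ P) (hx : x ∉ Submodule.span F (Set.range v))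
    {ν : F} (hν : σ ν = ν) :
    ∃ a ∈ P, f a a = ν ∧ (∀ i, f a (v i) = 0) ∧ f a x = 1 := by
  classical
  obtain ⟨y, hyP, hy, hyx⟩ : ∃ y ∈ P, (∀ i, f y (v i) = 0) ∧ f y x = 1 := by
    obtain ⟨y, hy, hyx⟩ := un_eval₀ hf v hx
    obtain ⟨p, hp, q, hq, rfl⟩ := Submodule.mem_sup.1 (hPQ ▸ Submodule.mem_top : y ∈ P ⊔ Q)
    refine ⟨p, hp, fun i => ?_, ?_⟩
    · have := hy i
      rwa [hf.add_left, horth q hq _ (hv i), add_zero] at this
    · rwa [hf.add_left, horth q hq _ hxP, add_zero] at hyx
  let L : P →ₗ[F] (Fin (k + 1) → F) :=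
    LinearMap.pi fun i => (dotProductEquiv F ι (fvec f ((Fin.cons x v : Fin (k + 1) → ι → F) i))).comp P.subtype
  let K : Submodule F (ι → F) := (LinearMap.ker L).map P.subtype
  have hKP : K ≤ P := Submodule.map_subtype_le _ _
  have hKv : ∀ z ∈ K, f z x = 0 ∧ ∀ i, f z (v i) = 0 := by
    rintro _ ⟨z, hz, rfl⟩
    have h := fun i => (un_dot hf _ _).symm.trans (congrFun hz i)
    exact ⟨h 0, fun i => h i.succ⟩
  by_cases hgood : ∃ h ∈ K, ¬ (f h h = 0 ∧ f h y = 0)
  · obtain ⟨h, hh, hne⟩ := hgood
    suffices ∃ t : F, f (y + t • h) (y + t • h) = ν by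
      obtain ⟨t, ht⟩ := this
      refine ⟨y + t • h, P.add_mem hyP (P.smul_mem _ (hKP hh)), ht, fun i => ?_, ?_⟩
      · rw [hf.add_left, hf.smul_left, hy, (hKv h hh).2 i, mul_zero, add_zero]
      · rw [hf.add_left, hf.smul_left, hyx, (hKv h hh).1, mul_zero, add_zero]
    have hexp : ∀ t : F, f (y + t • h) (y + t • h) =
        f y y + t * f h y + σ (t * f h y) + t * σ t * f h h := fun t => by
      simp only [hf.add_left, un_add_right hf, hf.smul_left, un_smul_right hf, map_mul, ← hf.herm y h]
      ring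
    have hσ : (σ : F →+* F) ≠ RingHom.id F := fun h => hf.ne_refl (RingEquiv.ext fun a => RingHom.congr_fun h a)
    have hfix : ∀ u, σ (f u u) = f u u := fun u => (hf.herm u u).symm
    by_cases ha : f h h = 0
    · have hb : f h y ≠ 0 := fun e => hne ⟨ha, e⟩
      obtain ⟨θ, hθ⟩ := CfsgLib.Geometry.exists_trace_one (σ := (σ : F →+* F)) hσ (fun a => hf.involutive a)
      change θ + σ θ = 1 at hθ
      refine ⟨θ * (ν - f y y) / f h y, ?_⟩
      rw [hexp, ha, mul_zero, add_zero, div_mul_cancel₀ _ hb, map_mul, map_sub, hν, hfix]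
      linear_combination (ν - f y y) * hθ
    · set a := f h h with had
      set b := f h y with hbd
      obtain ⟨s, hs⟩ := CfsgLib.Geometry.exists_norm_eq (σ := (σ : F →+* F)) hσ (fun a => hf.involutive a)
        (c := (ν - f y y + b * σ b / a) / a) (by
          show σ ((ν - f y y + b * σ b / a) / a) = _
          rw [map_div₀, map_add, map_sub, map_div₀, map_mul, hf.involutive, hν, hfix, had, hfix, mul_comm (σ b) b])
      change s * σ s = _ at hs
      refine ⟨s - σ b / a, ?_⟩
      rw [hexp]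
      simp only [map_sub, map_mul, map_div₀, hf.involutive, show σ a = a from hfix h]
      rw [eq_div_iff ha] at hs
      field_simp at hs ⊢
      linear_combination hs
  exfalso
  push Not at hgood
  have hts := un_ts_of_self hf K fun z hz => (hgood z hz).1
  have hyK : y ∉ K := fun hmem => one_ne_zero (by rw [← hyx]; exact (hKv y hmem).1)
  have h1 := un_add_le hf P hP K (K ⊔ Submodule.span F {y}) hKP
    (sup_le hKP ((Submodule.span_singleton_le_iff_mem _ _).2 hyP)) (fun a ha b hb => by
      obtain ⟨a₁, ha₁, a₂, ha₂, rfl⟩ := Submodule.mem_sup.1 ha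
      obtain ⟨c, rfl⟩ := Submodule.mem_span_singleton.1 ha₂
      rw [hf.add_left, hf.smul_left, hts a₁ ha₁ b hb, hf.herm y b, (hgood b hb).2, map_zero, mul_zero, add_zero])
  have h2 : Module.finrank F K < Module.finrank F (K ⊔ Submodule.span F {y} : Submodule F (ι → F)) :=
    Submodule.finrank_lt_finrank_of_lt (lt_of_le_of_ne le_sup_left fun e =>
      hyK (e ▸ Submodule.mem_sup_right (Submodule.mem_span_singleton_self y)))
  have h3 := L.finrank_range_add_finrank_ker
  have h4 := (LinearMap.range L).finrank_le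
  have h5 : Module.finrank F K = Module.finrank F (LinearMap.ker L) :=
    (Submodule.equivMapOfInjective _ P.subtype_injective _).finrank_eq.symm
  simp at h4
  omega

end relative

section siegel

variable (hf : Cfsg.Geo.IsUnitaryForm σ f)
include hf

lemma un_siegel_dot₁ {d w : ι → F} (hwd : f w d = 0) : fvec f d ⬝ᵥ w = 0 := by rw [un_dot hf, hwd]

lemma un_siegel_dot₂ {d w : ι → F} (hd : f d d = 0) (hwd : f w d = 0) (c : F) :
    (c • fvec f d - fvec f w) ⬝ᵥ d = 0 := by
  rw [sub_dotProduct, smul_dotProduct, un_dot hf, un_dot hf, hd, hf.herm d w, hwd, map_zero, smul_zero, sub_zero]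

/-- The Siegel transformation `x ↦ x + f(x,d) w + (c f(x,d) - f(x,w)) d`. -/
def unSiegel {d w : ι → F} (hd : f d d = 0) (hwd : f w d = 0) (c : F) : Matrix.GeneralLinearGroup ι F :=
  tv w (fvec f d) (un_siegel_dot₁ hf hwd) * tv d (c • fvec f d - fvec f w) (un_siegel_dot₂ hf hd hwd c)

lemma unSiegel_mulVec {d w : ι → F} (hd : f d d = 0) (hwd : f w d = 0) (c : F) (x : ι → F) :
    (unSiegel hf hd hwd c : Matrix ι ι F) *ᵥ x = x + (c * f x d - f x w) • d + f x d • w := by
  rw [unSiegel, Units.val_mul, ← Matrix.mulVec_mulVec, tv_mulVec, tv_mulVec, un_dot hf, hf.add_left,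
    hf.smul_left, hd, mul_zero, add_zero, sub_dotProduct, smul_dotProduct, un_dot hf, un_dot hf, smul_eq_mul]

lemma unSiegel_mem_SL {d w : ι → F} (hd : f d d = 0) (hwd : f w d = 0) (c : F) :
    unSiegel hf hd hwd c ∈ Cfsg.Geo.specialLinear ι F :=
  mul_mem (tv_mem_specialLinear _ _ _) (tv_mem_specialLinear _ _ _)

lemma unSiegel_isometry {d w : ι → F} (hd : f d d = 0) (hwd : f w d = 0) {c : F} (hc : c + σ c + f w w = 0)
    (u v : ι → F) : f ((unSiegel hf hd hwd c : Matrix ι ι F) *ᵥ u) ((unSiegel hf hd hwd c : Matrix ι ι F) *ᵥ v)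
      = f u v := by
  simp only [unSiegel_mulVec, hf.add_left, un_add_right hf, hf.smul_left, un_smul_right hf, map_sub, map_mul,
    hd, hwd, show f d w = 0 by rw [hf.herm, hwd, map_zero]]
  rw [← hf.herm d v, ← hf.herm w v]
  linear_combination (f u d * f d v) * hc

end siegel

section herm

variable {n q : ℕ} [Fintype F]

local notation "hh" => Cfsg.hermForm n F q
local notation "MM" => Matrix (Fin n) (Fin n) F

omit [DecidableEq ι] [Fintype ι] in
/-- The standard Hermitian form is a unitary form. -/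
lemma exists_hermSigma (hF : Fintype.card F = q ^ 2) (n : ℕ) :
    ∃ τ : F ≃+* F, (∀ x, τ x = x ^ q) ∧ Cfsg.Geo.IsUnitaryForm τ (Cfsg.hermForm n F q) := by
  obtain ⟨s, hs⟩ := CfsgLib.Classical.Unitary.exists_uFrob (F := F) (q := q) (by rw [Nat.card_eq_fintype_card, hF])
  have hbij : Function.Bijective s := Function.Involutive.bijective hs.invol
  refine ⟨RingEquiv.ofBijective s hbij, hs.pow, fun h => hs.ne (RingHom.ext fun a => ?_), hs.invol,
    fun x y v => ?_, fun c x v => ?_, fun v w => ?_, fun v hv => ?_⟩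
  · exact RingEquiv.congr_fun h a
  · simp only [hs.hermForm_eq]; exact CfsgLib.Classical.Unitary.uh_add_left x y v
  · simp only [hs.hermForm_eq]; exact CfsgLib.Classical.Unitary.uh_smul_left c x v
  · simp only [hs.hermForm_eq]; exact (hs.symm w v).symm
  · obtain ⟨x, hx⟩ := CfsgLib.Classical.Unitary.exists_uh_eq_one hs hv
    refine ⟨⟨x, by rw [hs.hermForm_eq, hx]; exact one_ne_zero⟩, ⟨x, ?_⟩⟩
    rw [hs.hermForm_eq, ← hs.symm, hx, map_one]; exact one_ne_zero

/-- `SU_n` as a subgroup of the general linear group. -/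
abbrev suGL (n : ℕ) (F : Type*) [Field F] (q : ℕ) : Subgroup (Matrix.GeneralLinearGroup (Fin n) F) :=
  Cfsg.GU n F q ⊓ Cfsg.Geo.specialLinear (Fin n) F

omit [DecidableEq ι] [Fintype ι] [Fintype F] in
lemma mem_GU_iff (g : Matrix.GeneralLinearGroup (Fin n) F) :
    g ∈ Cfsg.GU n F q ↔ ∀ u v, hh ((g : MM) *ᵥ u) ((g : MM) *ᵥ v) = hh u v := Iff.rfl

/-- All unitary transvections with centre the isotropic vector `v` lie in `M`. -/
def UFull (σ : F ≃+* F) (q : ℕ) (M : Subgroup (Matrix.GeneralLinearGroup (Fin n) F)) (v : Fin n → F) : Prop :=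
  ∀ k : F, σ k = -k → Has M (k • v) (fvec (Cfsg.hermForm n F q) v)

variable {τ : F ≃+* F} (hf : Cfsg.Geo.IsUnitaryForm τ (Cfsg.hermForm n F q))
  {M : Subgroup (Matrix.GeneralLinearGroup (Fin n) F)}
include hf

omit [Fintype F] in
lemma utv_mem_su {v : Fin n → F} (hv : hh v v = 0) {k : F} (hk : τ k = -k) :
    tv (k • v) (fvec hh v) (un_tv_dot hf hv k) ∈ suGL n F q :=
  ⟨(mem_GU_iff _).2 (un_tv_isometry hf hv hk), tv_mem_specialLinear _ _ _⟩

omit [Fintype F] in
lemma siegel_mem_su {d w : Fin n → F} (hd : hh d d = 0) (hwd : hh w d = 0) {c : F} (hc : c + τ c + hh w w = 0) :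
    unSiegel hf hd hwd c ∈ suGL n F q :=
  ⟨(mem_GU_iff _).2 (unSiegel_isometry hf hd hwd hc), unSiegel_mem_SL hf hd hwd c⟩

omit [Fintype F] in
lemma UFull.smul {v : Fin n → F} (h : UFull τ q M v) (c : F) : UFull τ q M (c • v) := by
  intro k hk
  have h1 : k • (c • v) = (k * c) • v := smul_smul _ _ _
  rw [h1, un_fvec_smul hf, ← Has.smul_iff, smul_smul]
  exact h _ (by rw [map_mul, map_mul, hf.involutive, hk]; ring)

omit [Fintype F] in
lemma UFull.map (hMS : M ≤ suGL n F q) {v : Fin n → F} (h : UFull τ q M v)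
    {g : Matrix.GeneralLinearGroup (Fin n) F} (hg : g ∈ M) : UFull τ q M ((g : MM) *ᵥ v) := by
  intro k hk
  have := (h k hk).conj hg
  rw [Matrix.mulVec_smul] at this
  convert this using 1
  refine dot_ext fun y => ?_
  obtain ⟨x, rfl⟩ := mulVec_surj g y
  rw [dot_vecMul_inv, un_dot hf, un_dot hf]
  exact (mem_GU_iff g).1 (hMS hg).1 x v

omit [Fintype F] in
/-- A full point moved by the transvections of another one. -/
lemma UFull.move (hMS : M ≤ suGL n F q) {u v : Fin n → F} (hu : UFull τ q M u) (hv : UFull τ q M v)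
    (huu : hh u u = 0) (hvv : hh v v = 0) (huv : hh u v ≠ 0) {s : F}
    (hw : hh (u + s • v) (u + s • v) = 0) : UFull τ q M (u + s • v) := by
  set k := s / hh u v
  have hk : τ k = -k := by
    simp only [hf.add_left, un_add_right hf, hf.smul_left, un_smul_right hf, huu, hvv, mul_zero, zero_add,
      add_zero, hf.herm v u] at hw
    simp only [k, map_div₀]
    have hne : τ (hh u v) ≠ 0 := fun h => huv (τ.injective (by rw [h, map_zero]))
    rw [← neg_div, div_eq_div_iff hne huv]
    linear_combination hw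
  obtain ⟨h1, h2⟩ := hv k hk
  have := hu.map hf hMS h2
  rwa [tv_mulVec, un_dot hf, smul_smul, show hh u v * k = s from mul_div_cancel₀ _ huv] at this

/-- A subgroup with all unitary transvections contains the special unitary group. -/
lemma suGL_le_of_full (hF : Fintype.card F = q ^ 2) (hn : 4 ≤ n)
    (h : ∀ v, hh v v = 0 → UFull τ q M v) : suGL n F q ≤ M := by
  obtain ⟨s, hs⟩ := CfsgLib.Classical.Unitary.exists_uFrob (F := F) (q := q) (by rw [Nat.card_eq_fintype_card, hF])
  have hsτ : ∀ x, s x = τ x := by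
    intro x
    let i₀ : Fin n := ⟨0, by omega⟩
    have := hf.herm (Pi.single i₀ 1) (Pi.single i₀ x)
    rw [hs.hermForm_eq, hs.hermForm_eq, CfsgLib.Classical.Unitary.uh_single_left,
      CfsgLib.Classical.Unitary.uh_single_left] at this
    simpa using this
  let φ : ↥(Cfsg.SU n F q) →* Matrix.GeneralLinearGroup (Fin n) F :=
    Matrix.SpecialLinearGroup.toGL.comp (Cfsg.SU n F q).subtype
  intro g hg
  obtain ⟨hg1, hg2⟩ := Subgroup.mem_inf.1 hg
  rw [mem_specialLinear_iff] at hg2
  let A : ↥(Cfsg.SU n F q) := ⟨⟨(g : MM), hg2⟩, fun u v => (mem_GU_iff g).1 hg1 u v⟩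
  have hA : A ∈ CfsgLib.Classical.Unitary.transvGroup n F q := by
    rw [CfsgLib.Classical.Unitary.transvGroup_eq_top (by rw [Nat.card_eq_fintype_card, hF]) hs n (by omega)
      (by omega)]
    exact Subgroup.mem_top A
  have hle : CfsgLib.Classical.Unitary.transvGroup n F q ≤ M.comap φ :=
    CfsgLib.Classical.Unitary.mem_of_eq_utv hs fun v c hv hc => by
      have hv' : hh v v = 0 := by rw [hs.hermForm_eq, hv]
      obtain ⟨h1, h2⟩ := h v hv' c (by rw [← hsτ]; exact eq_neg_of_add_eq_zero_right hc)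
      show φ _ ∈ M
      convert h2 using 1
      refine Units.ext (CfsgLib.Geometry.matrix_eq_of_mulVec fun x => ?_)
      rw [tv_mulVec, un_dot hf, smul_smul]
      show (CfsgLib.Classical.Unitary.utv hs v c hv hc).1.1 *ᵥ x = _
      rw [CfsgLib.Classical.Unitary.utv_mulVec, hs.hermForm_eq, mul_comm]
  have := hle hA
  suffices heq : g = φ A by rw [heq]; exact this
  exact Units.ext (rfl : (g : MM) = (φ A : MM))

end herm

end CfsgLib.Maximal
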