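import Mathlib

/-!
Characteristically simple finite groups are powers of simple groups.
-/

set_option autoImplicit false
set_option linter.style.haveILetI false

namespace CfsgLib.Maximal

open Subgroup

variable {X : Type*} [Group X] [Finite X]

/-- Every finite characteristically simple group is a power of a simple group. -/
theorem charSimple_decomp [Nontrivial X]
    (hX : ∀ H : Subgroup X, H.Characteristic → H = ⊥ ∨ H = ⊤) :
    ∃ (T : Type) (_ : Group T) (m : ℕ), IsSimpleGroup T ∧ 0 < m ∧ Nonempty (X ≃* (Fin m → T)) := by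
  classical
  haveI := Fintype.ofFinite X
  -- a minimal normal subgroup
  obtain ⟨S₀, ⟨hS₀n, hS₀b⟩, hS₀min⟩ :=
    Set.Finite.exists_minimal (s := {K : Subgroup X | K.Normal ∧ K ≠ ⊥}) (Set.toFinite _)
      ⟨⊤, inferInstance, fun h => by simp [Subgroup.eq_bot_iff_card] at h⟩
  set F : Set (Subgroup X) := Set.range (fun φ : MulAut X => S₀.map φ.toMonoidHom) with hF
  have hFn : ∀ S ∈ F, S.Normal ∧ S ≠ ⊥ ∧ ∀ K : Subgroup X, K.Normal → K ≤ S → K = ⊥ ∨ K = S := by
    rintro _ ⟨φ, rfl⟩
    refine ⟨hS₀n.map _ φ.surjective, fun h => hS₀b ?_, fun K hK hle => ?_⟩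
    · exact (Subgroup.map_eq_bot_iff_of_injective _ φ.injective).1 h
    · by_cases hb : K = ⊥
      · exact Or.inl hb
      · right
        haveI := hK
        have h1 : K.comap φ.toMonoidHom ≤ S₀ := by
          intro x hx
          obtain ⟨y, hy, hxy⟩ := hle hx
          exact φ.injective hxy ▸ hy
        have h2 : K.comap φ.toMonoidHom ≠ ⊥ := by
          intro h
          apply hb
          rw [← Subgroup.map_comap_eq_self_of_surjective (f := φ.toMonoidHom) φ.surjective K, h, Subgroup.map_bot]
        have h3 := hS₀min ⟨inferInstance, h2⟩ h1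
        rw [← Subgroup.map_comap_eq_self_of_surjective (f := φ.toMonoidHom) φ.surjective K]
        exact le_antisymm (Subgroup.map_mono h1) (Subgroup.map_mono h3)
  have hgen : sSup F = ⊤ := by
    have hc : (sSup F).Characteristic := by
      rw [Subgroup.characteristic_iff_map_le]
      intro ψ
      rw [Subgroup.map_le_iff_le_comap, sSup_le_iff]
      rintro _ ⟨φ, rfl⟩
      rw [← Subgroup.map_le_iff_le_comap, Subgroup.map_map]
      exact le_sSup ⟨φ.trans ψ, rfl⟩
    refine (hX _ hc).resolve_left fun h => hS₀b ?_
    have h1 : S₀ ≤ sSup F := le_sSup ⟨MulEquiv.refl X, Subgroup.map_id S₀⟩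
    rw [h] at h1; exact le_bot_iff.1 h1
  -- a minimal generating subfamily
  obtain ⟨T, ⟨hTF, hTgen⟩, hTmin⟩ :=
    Set.Finite.exists_minimal (s := {T : Finset (Subgroup X) | (T : Set (Subgroup X)) ⊆ F ∧ T.sup id = ⊤})
      (Set.toFinite _) ⟨(Set.toFinite F).toFinset, by simp, by rw [Finset.sup_id_eq_sSup, Set.Finite.coe_toFinset, hgen]⟩
  let K : T → Subgroup X := fun S => S.1
  have hKn : ∀ i, (K i).Normal := fun i => (hFn _ (hTF i.2)).1
  have hdisj : ∀ S ∈ T, S ⊓ (T.erase S).sup id = ⊥ := by
    intro S hS
    obtain ⟨hn, hb, hm⟩ := hFn S (hTF hS)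
    haveI := hn
    have hsn : ((T.erase S).sup id).Normal := by
      refine Finset.sup_induction (p := fun H : Subgroup X => H.Normal) inferInstance (fun a ha b hb' => ?_) (fun a ha => ?_)
      · haveI := ha; haveI := hb'; infer_instance
      · exact (hFn a (hTF (Finset.mem_of_mem_erase ha))).1
    haveI := hsn
    refine (hm (S ⊓ (T.erase S).sup id) inferInstance inf_le_left).resolve_right fun h => ?_
    have hle : S ≤ (T.erase S).sup id := inf_eq_left.1 h
    have h2 : (T.erase S).sup id = ⊤ := by
      refine eq_top_iff.2 (hTgen ▸ Finset.sup_le fun a ha => ?_)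
      by_cases haS : a = S
      · subst haS; exact hle
      · exact Finset.le_sup (f := id) (Finset.mem_erase.2 ⟨haS, ha⟩)
    have := hTmin ⟨(Finset.coe_subset.2 (Finset.erase_subset S T)).trans hTF, h2⟩ (Finset.erase_subset S T)
    exact Finset.notMem_erase S T (this hS)
  have hind : iSupIndep K := by
    intro i
    rw [disjoint_iff, eq_bot_iff, ← hdisj i.1 i.2]
    refine inf_le_inf_left _ (iSup₂_le fun j hj => ?_)
    exact Finset.le_sup (f := id) (Finset.mem_erase.2 ⟨fun h => hj (Subtype.ext h), j.2⟩)
  have hcomm : Pairwise fun i j => ∀ x y : X, x ∈ K i → y ∈ K j → Commute x y := by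
    intro i j hij x y hx hy
    exact Subgroup.commute_of_normal_of_disjoint _ _ (hKn i) (hKn j) (hind.pairwiseDisjoint hij) x y hx hy
  have hsup : (⨆ i, K i) = ⊤ := by
    rw [eq_top_iff, ← hTgen, Finset.sup_le_iff]
    exact fun a ha => le_iSup K ⟨a, ha⟩
  let e : ((i : T) → K i) ≃* X := MulEquiv.ofBijective (Subgroup.noncommPiCoprod hcomm)
    ⟨Subgroup.injective_noncommPiCoprod_of_iSupIndep hind, by
      rw [← MonoidHom.range_eq_top, Subgroup.noncommPiCoprod_range, hsup]⟩
  -- S₀ is simple
  have hsimple : IsSimpleGroup S₀ := by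
    have hne : T.Nonempty := by
      rw [Finset.nonempty_iff_ne_empty]
      rintro rfl
      simp at hTgen
    obtain ⟨S, hS⟩ := hne
    obtain ⟨φ, hφ⟩ := hTF hS
    obtain ⟨hn, hb, hm⟩ := hFn S (hTF hS)
    haveI hSne : Nontrivial S := (Subgroup.nontrivial_iff_ne_bot S).2 hb
    have hSsimple : IsSimpleGroup S := by
      refine ⟨fun L hL => ?_⟩
      have hLn : (L.map S.subtype).Normal := by
        refine Subgroup.normalizer_eq_top_iff.1 (eq_top_iff.2 (hTgen ▸ Finset.sup_le fun a ha => ?_))
        by_cases haS : a = S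
        · subst haS
          intro x hx
          rw [Subgroup.mem_normalizer_iff]
          intro y
          constructor
          · rintro ⟨l, hl, rfl⟩
            exact ⟨(⟨x, hx⟩ : a) * l * (⟨x, hx⟩ : a)⁻¹, hL.conj_mem l hl _, rfl⟩
          · rintro ⟨l, hl, hly⟩
            refine ⟨(⟨x, hx⟩ : a)⁻¹ * l * ((⟨x, hx⟩ : a)⁻¹)⁻¹, hL.conj_mem l hl _, ?_⟩
            show x⁻¹ * (l : X) * x⁻¹⁻¹ = y
            rw [show (l : X) = x * y * x⁻¹ from hly]; group
        · refine le_trans ?_ (Subgroup.centralizer_le_normalizer _)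
          intro x hx
          rw [Subgroup.mem_centralizer_iff]
          rintro y ⟨l, -, rfl⟩
          exact (hcomm (i := ⟨S, hS⟩) (j := ⟨a, ha⟩) (fun h => haS (congrArg Subtype.val h).symm) (l : X) x l.2 hx).eq
      rcases hm _ hLn (Subgroup.map_subtype_le L) with h | h
      · exact Or.inl ((Subgroup.map_eq_bot_iff_of_injective _ S.subtype_injective).1 h)
      · refine Or.inr (Subgroup.map_injective S.subtype_injective ?_)
        rw [h, ← MonoidHom.range_eq_map, Subgroup.range_subtype]
    subst hφ
    exact (Subgroup.equivMapOfInjective S₀ φ.toMonoidHom φ.injective).isSimpleGroup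
  have hiso : ∀ i : T, Nonempty (K i ≃* S₀) := by
    intro i
    obtain ⟨φ, hφ⟩ := hTF i.2
    exact ⟨(MulEquiv.subgroupCongr hφ.symm).trans (Subgroup.equivMapOfInjective S₀ φ.toMonoidHom φ.injective).symm⟩
  let ψ := fun i => (hiso i).some
  refine ⟨Shrink.{0} S₀, inferInstance, T.card, ?_, ?_, ⟨?_⟩⟩
  · exact (Shrink.mulEquiv.{0} (α := S₀)).isSimpleGroup
  · rw [Finset.card_pos, Finset.nonempty_iff_ne_empty]
    rintro rfl
    simp at hTgen
  · refine e.symm.trans ((MulEquiv.piCongrRight fun i => (ψ i).trans (Shrink.mulEquiv.{0}).symm).trans ?_)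
    exact
      { toFun := fun f j => f (T.equivFin.symm j)
        invFun := fun f i => f (T.equivFin i)
        left_inv := fun f => by funext i; simp
        right_inv := fun f => by funext j; simp
        map_mul' := fun f g => rfl }

/-- Powers of simple groups are characteristically simple. -/
theorem pi_charSimple {S : Type*} [Group S] [IsSimpleGroup S] {n : ℕ}
    (H : Subgroup (Fin n → S)) [hH : H.Characteristic] : H = ⊥ ∨ H = ⊤ := by
  classical
  refine or_iff_not_imp_left.2 fun hb => ?_
  obtain ⟨x, hx, hx1⟩ := (H.bot_or_exists_ne_one).resolve_left hb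
  obtain ⟨i, hi⟩ := Function.ne_iff.1 hx1
  have hmap : ∀ φ : MulAut (Fin n → S), ∀ z ∈ H, φ z ∈ H := fun φ z hz =>
    Subgroup.characteristic_iff_map_le.1 hH φ ⟨z, hz, rfl⟩
  let permAut : Equiv.Perm (Fin n) → MulAut (Fin n → S) := fun σ =>
    { toFun := fun f j => f (σ j)
      invFun := fun f j => f (σ.symm j)
      left_inv := fun f => by funext j; simp
      right_inv := fun f => by funext j; simp
      map_mul' := fun f g => rfl }
  have hperm : ∀ (σ : Equiv.Perm (Fin n)) (j : Fin n) (a : S),
      Pi.mulSingle j a ∈ H → Pi.mulSingle (σ.symm j) a ∈ H := by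
    intro σ j a h
    convert hmap (permAut σ) _ h using 1
    funext k
    show _ = (Pi.mulSingle j a : Fin n → S) (σ k)
    by_cases hk : k = σ.symm j
    · subst hk; simp
    · rw [Pi.mulSingle_eq_of_ne hk, Pi.mulSingle_eq_of_ne]
      intro h'; exact hk (by rw [← h']; simp)
  obtain ⟨j, s, hs, hjs⟩ : ∃ (j : Fin n) (s : S), s ≠ 1 ∧ Pi.mulSingle j s ∈ H := by
    by_cases hex : ∃ s : S, s * x i ≠ x i * s
    · obtain ⟨s, hs⟩ := hex
      refine ⟨i, x i * s * (x i)⁻¹ * s⁻¹, ?_, ?_⟩
      · intro h
        rw [mul_inv_eq_one, mul_inv_eq_iff_eq_mul] at h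
        exact hs h.symm
      · have hn : H.Normal := inferInstance
        have h1 : x * (Pi.mulSingle i s * x⁻¹ * (Pi.mulSingle i s)⁻¹) ∈ H :=
          mul_mem hx (hn.conj_mem _ (inv_mem hx) _)
        convert h1 using 1
        funext j
        rcases eq_or_ne j i with rfl | hj
        · simp [mul_assoc]
        · simp [Pi.mulSingle_eq_of_ne hj]
    · push Not at hex
      -- then the simple group is abelian
      have hcomm : ∀ a b : S, a * b = b * a := by
        have hc : x i ∈ Subgroup.center S := Subgroup.mem_center_iff.2 hex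
        rcases Subgroup.Normal.eq_bot_or_eq_top (show (Subgroup.center S).Normal from inferInstance) with hb' | ht
        · rw [hb', Subgroup.mem_bot] at hc; exact absurd hc hi
        · exact fun a b => ((Subgroup.mem_center_iff.1 (ht ▸ Subgroup.mem_top a)) b).symm
      by_cases hone : ∀ j : Fin n, j = i
      · refine ⟨i, x i, hi, ?_⟩
        convert hx using 1
        funext j
        rw [hone j, Pi.mulSingle_eq_same]
      · push Not at hone
        obtain ⟨j, hj⟩ := hone
        let τ : MulAut (Fin n → S) :=
          { toFun := fun f => Function.update f j (f j * f i)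
            invFun := fun f => Function.update f j (f j * (f i)⁻¹)
            left_inv := fun f => by
              funext k
              rcases eq_or_ne k j with rfl | hk
              · simp [Function.update_of_ne hj.symm, mul_assoc]
              · simp [Function.update_of_ne hk]
            right_inv := fun f => by
              funext k
              rcases eq_or_ne k j with rfl | hk
              · simp [Function.update_of_ne hj.symm, mul_assoc]
              · simp [Function.update_of_ne hk]
            map_mul' := fun f g => by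
              funext k
              rcases eq_or_ne k j with rfl | hk
              · simp only [Function.update_self, Pi.mul_apply]
                rw [mul_assoc, mul_assoc, ← mul_assoc (g k) (f i), hcomm (g k) (f i), mul_assoc]
              · simp [Function.update_of_ne hk] }
        refine ⟨j, x i, hi, ?_⟩
        have h1 : x⁻¹ * τ x ∈ H := mul_mem (inv_mem hx) (hmap τ x hx)
        convert h1 using 1
        funext k
        show _ = (x k)⁻¹ * (Function.update x j (x j * x i)) k
        rcases eq_or_ne k j with rfl | hk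
        · simp [mul_assoc]
        · simp [Function.update_of_ne hk, Pi.mulSingle_eq_of_ne hk]
  have hall : ∀ (k : Fin n), Pi.mulSingle k s ∈ H := fun k => by
    simpa using hperm (Equiv.swap k j) j s hjs
  rw [eq_top_iff]
  intro f _
  apply Subgroup.pi_mem_of_mulSingle_mem
  intro k
  let L : Subgroup S := H.comap (MonoidHom.mulSingle (fun _ : Fin n => S) k)
  haveI : L.Normal := Subgroup.Normal.comap inferInstance _
  rcases Subgroup.Normal.eq_bot_or_eq_top (show L.Normal from inferInstance) with h | h
  · have : s ∈ L := hall k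
    rw [h, Subgroup.mem_bot] at this
    exact absurd this hs
  · exact (h ▸ Subgroup.mem_top (f k) : f k ∈ L)

/-- Characteristic simplicity transports along isomorphisms. -/
theorem charSimple_of_equiv {Y : Type*} [Group Y] (e : X ≃* Y)
    (hY : ∀ H : Subgroup Y, H.Characteristic → H = ⊥ ∨ H = ⊤) (H : Subgroup X) (hH : H.Characteristic) :
    H = ⊥ ∨ H = ⊤ := by
  have hc : (H.map e.toMonoidHom).Characteristic := by
    rw [Subgroup.characteristic_iff_map_le]
    intro φ
    rintro _ ⟨_, ⟨x, hx, rfl⟩, rfl⟩
    refine ⟨e.symm (φ (e x)), ?_, by simp⟩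
    exact Subgroup.characteristic_iff_map_le.1 hH (e.trans (φ.trans e.symm)) ⟨x, hx, rfl⟩
  rcases hY _ hc with h | h
  · exact Or.inl ((Subgroup.map_eq_bot_iff_of_injective _ e.injective).1 h)
  · refine Or.inr (Subgroup.map_injective e.injective (h.trans ?_))
    rw [Subgroup.map_top_of_surjective _ e.surjective]

end CfsgLib.Maximal
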