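import Mathlib
import Cfsg.Agent.Lib.Maximal.SubfieldFinal
import Cfsg.Agent.Lib.Maximal.MonoMax
import Cfsg.Agent.Lib.PSL2.DicksonGen

/-!
Subfield subgroups are maximal in `SL₄`.
-/

set_option autoImplicit false
set_option linter.unusedSectionVars false
set_option linter.unusedSimpArgs false
set_option linter.style.haveILetI false

namespace CfsgLib.Maximal.SubFour

open scoped Matrix

variable {ι : Type} [Fintype ι] [DecidableEq ι] {F : Type*} [Field F] {F₀ : Subfield F}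

lemma nm3 (hι : 4 ≤ Fintype.card ι) (a b c : ι) : ∃ q, q ≠ a ∧ q ≠ b ∧ q ≠ c :=
  exists_three_ne hι a b c

/-- An overgroup of the rational group without larger elementary root groups. -/
structure Sub4 (F₀ : Subfield F) (H : Subgroup (GL ι F)) : Prop where
  le : H ≤ Cfsg.Geo.specialLinear ι F
  mem : ∀ g : GL ι F, g ∈ Cfsg.Geo.specialLinear ι F → RatUpToScalar F₀ g → g ∈ H
  root : ∀ i j, i ≠ j → ∀ μ : F, Has H (Pi.single i μ) (Pi.single j 1) → μ ∈ F₀
  dim : 4 ≤ Fintype.card ι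

variable {H : Subgroup (GL ι F)}

lemma Sub4.rat (h : Sub4 F₀ H) {u ψ : ι → F} (hu : RatV F₀ u) (hψ : RatV F₀ ψ) (h0 : ψ ⬝ᵥ u = 0) :
    Has H u ψ :=
  ⟨h0, h.mem _ (tv_mem_specialLinear _ _ _) ⟨1, one_ne_zero, by
    rw [one_smul, tv_val]; exact ratM_one.add (ratM_vecMulVec hu hψ)⟩⟩

/-- A rational centre has a rational axis. -/
lemma Sub4.axis_rat (h : Sub4 F₀ H) {a φ : ι → F} (hX : Has H a φ) (ha : RatV F₀ a) (ha0 : a ≠ 0) :
    RatV F₀ φ := by
  classical
  intro k
  by_contra hk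
  have hι := h.dim
  obtain ⟨l, hl⟩ := Function.ne_iff.1 ha0
  obtain ⟨p, hpk, -⟩ := nm3 hι k k k
  obtain ⟨p', hp'k, hp'p, -⟩ := nm3 hι k p k
  obtain ⟨i, hip, hip', hil⟩ : ∃ i, i ≠ p ∧ i ≠ p' ∧ i ≠ l := by
    rcases eq_or_ne l k with rfl | hlk
    · obtain ⟨i, h1, h2, h3⟩ := nm3 hι p p' l
      exact ⟨i, h1, h2, h3⟩
    · exact ⟨k, hpk.symm, hp'k.symm, hlk.symm⟩
  -- a rational functional killing the centre and vanishing at two coordinates
  obtain ⟨ψ, hψ, hψa, hψk, hψi, hψ0⟩ : ∃ ψ : ι → F, RatV F₀ ψ ∧ ψ ⬝ᵥ a = 0 ∧ ψ k = 0 ∧ ψ i = 0 ∧ ψ ≠ 0 := by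
    by_cases hap : a p = 0
    · exact ⟨Pi.single p 1, ratV_single p F₀.one_mem, by simp [hap], by simp [hpk.symm], by simp [hip],
        by simp⟩
    · refine ⟨Pi.single p (a p') - Pi.single p' (a p), (ratV_single p (ha p')).sub (ratV_single p' (ha p)),
        by simp [sub_dotProduct, mul_comm], by simp [hpk.symm, hp'k.symm], by simp [hip, hip'], fun h0 => ?_⟩
      have := congrFun h0 p'
      simp [hp'p] at this
      exact hap this
  have hY : Has H (Pi.single k 1) ψ := h.rat (ratV_single k F₀.one_mem) hψ (by simp [hψk])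
  have h1 := hY.conj_tv' hX
  rw [hψa, zero_smul, add_zero, dotProduct_single, mul_one] at h1
  have h2 := hX.sub_right h1
  rw [sub_sub_cancel] at h2
  -- now the centre to a coordinate vector
  have h3 := (h.rat (ratV_single i F₀.one_mem) (ratV_single l F₀.one_mem) (by simp [hil.symm])).comm_left h2
    (by simp [hψi])
  rw [single_dotProduct, one_mul] at h3
  obtain ⟨q, hq⟩ := Function.ne_iff.1 hψ0
  have hqi : q ≠ i := fun e => hq (by rw [e, hψi]; rfl)
  obtain ⟨j, hji, hjq, -⟩ := nm3 hι i q i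
  have h4 := h3.comm_left (h.rat (ratV_single q F₀.one_mem) (ratV_single j F₀.one_mem) (by simp [hjq]))
    (by simp [hji])
  rw [smul_dotProduct, dotProduct_single, mul_one, smul_smul, smul_eq_mul, ← Pi.single_smul', smul_eq_mul,
    mul_one] at h4
  have hmem := h.root i j hji.symm _ h4
  have h5 : ψ q * a l ∈ F₀ := F₀.mul_mem (hψ q) (ha l)
  have h6 : φ k ∈ F₀ := by
    have h7 := F₀.mul_mem hmem (F₀.inv_mem h5)
    have hne : ψ q * a l ≠ 0 := mul_ne_zero hq hl
    rwa [show φ k * ψ q * a l = φ k * (ψ q * a l) by ring, mul_assoc, mul_inv_cancel₀ hne, mul_one] at h7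
  exact hk h6

/-- A rational axis has a rational centre. -/
lemma Sub4.centre_rat (h : Sub4 F₀ H) {a φ : ι → F} (hX : Has H a φ) (hφ : RatV F₀ φ) (hφ0 : φ ≠ 0) :
    RatV F₀ a := by
  classical
  intro k
  by_contra hk
  have hι := h.dim
  obtain ⟨p, hpk, -⟩ := nm3 hι k k k
  obtain ⟨p', hp'k, hp'p, -⟩ := nm3 hι k p k
  obtain ⟨u, hu, hφu, huk, hu0⟩ : ∃ u : ι → F, RatV F₀ u ∧ φ ⬝ᵥ u = 0 ∧ u k = 0 ∧ u ≠ 0 := by
    by_cases hap : φ p = 0
    · exact ⟨Pi.single p 1, ratV_single p F₀.one_mem, by simp [hap], by simp [hpk.symm], by simp⟩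
    · refine ⟨Pi.single p (φ p') - Pi.single p' (φ p), (ratV_single p (hφ p')).sub (ratV_single p' (hφ p)),
        by simp [dotProduct_sub, mul_comm], by simp [hpk.symm, hp'k.symm], fun h0 => ?_⟩
      have := congrFun h0 p'
      simp [hp'p] at this
      exact hap this
  have hY : Has H u (Pi.single k 1) := h.rat hu (ratV_single k F₀.one_mem) (by simp [huk])
  have h1 := hY.conj_tv' hX
  rw [hφu, zero_smul, sub_zero, single_dotProduct, one_mul] at h1
  have h2 := h1.sub_left hX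
  rw [add_sub_cancel_left, Has.smul_iff] at h2
  have h3 := h.axis_rat h2 hu hu0
  obtain ⟨q, hq⟩ := Function.ne_iff.1 hφ0
  have h4 := F₀.mul_mem (h3 q) (F₀.inv_mem (hφ q))
  rw [Pi.smul_apply, smul_eq_mul, mul_assoc, mul_inv_cancel₀ (show φ q ≠ 0 from hq), mul_one] at h4
  exact hk h4

/-- A centre on a rational line gives a rational transvection. -/
lemma Sub4.of_centre (h : Sub4 F₀ H) {a φ : ι → F} (hX : Has H a φ) (ha0 : a ≠ 0) {c : F} (hc : c ≠ 0)
    (ha : RatV F₀ (c • a)) : RatV F₀ (c⁻¹ • φ) := by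
  refine h.axis_rat ?_ ha (smul_ne_zero hc ha0)
  rw [Has.smul_iff, smul_smul, mul_inv_cancel₀ hc, one_smul]
  exact hX

/-- A transvection with an axis on a rational line. -/
lemma Sub4.of_axis (h : Sub4 F₀ H) {a φ : ι → F} (hX : Has H a φ) (hφ0 : φ ≠ 0) {c : F} (hc : c ≠ 0)
    (hφ : RatV F₀ (c • φ)) : RatM F₀ (Matrix.vecMulVec a φ) := by
  have h1 : Has H (c⁻¹ • a) (c • φ) := by
    rw [Has.smul_iff, smul_smul, inv_mul_cancel₀ hc, one_smul]; exact hX
  have h2 := ratM_vecMulVec (h.centre_rat h1 hφ (smul_ne_zero hc hφ0)) hφ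
  rwa [Matrix.smul_vecMulVec, Matrix.vecMulVec_smul, smul_smul, inv_mul_cancel₀ hc, one_smul] at h2

lemma Sub4.of_centre' (h : Sub4 F₀ H) {a φ : ι → F} (hX : Has H a φ) (ha0 : a ≠ 0) {c : F} (hc : c ≠ 0)
    (ha : RatV F₀ (c • a)) : RatM F₀ (Matrix.vecMulVec a φ) := by
  have h2 := ratM_vecMulVec ha (h.of_centre hX ha0 hc ha)
  rwa [Matrix.smul_vecMulVec, Matrix.vecMulVec_smul, smul_smul, mul_inv_cancel₀ hc, one_smul] at h2

/-- A centre in a rational hyperplane gives a rational transvection. -/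
lemma Sub4.of_dep (h : Sub4 F₀ H) {a φ ψ : ι → F} (hX : Has H a φ) (hψ : RatV F₀ ψ) (hψ0 : ψ ≠ 0)
    (hψa : ψ ⬝ᵥ a = 0) : RatM F₀ (Matrix.vecMulVec a φ) := by
  classical
  rcases eq_or_ne a 0 with rfl | ha0
  · intro i j; simp [Matrix.vecMulVec_apply, F₀.zero_mem]
  rcases eq_or_ne φ 0 with rfl | hφ0
  · intro i j; simp [Matrix.vecMulVec_apply, F₀.zero_mem]
  by_cases hc : ∃ c : ι → F, RatV F₀ c ∧ ψ ⬝ᵥ c = 0 ∧ φ ⬝ᵥ c ≠ 0
  · obtain ⟨c, hc, hψc, hφc⟩ := hc
    have h1 := hX.comm_left (h.rat hc hψ hψc) hψa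
    exact h.of_centre' hX ha0 hφc (h.centre_rat h1 hψ hψ0)
  · push Not at hc
    obtain ⟨q, hq⟩ := Function.ne_iff.1 hψ0
    -- the axis is then a multiple of the rational functional
    have h1 : ∀ x, φ x * ψ q = φ q * ψ x := fun x => by
      have := hc (Pi.single x (ψ q) - Pi.single q (ψ x))
        ((ratV_single x (hψ q)).sub (ratV_single q (hψ x))) (by simp [dotProduct_sub, mul_comm])
      simp [dotProduct_sub] at this
      linear_combination this
    have hφq : φ q ≠ 0 := fun h0 => hφ0 (funext fun x => by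
      have := h1 x
      rw [h0, zero_mul] at this
      exact (mul_eq_zero.1 this).resolve_right hq)
    refine h.of_axis hX hφ0 (c := (φ q)⁻¹) (inv_ne_zero hφq) fun x => ?_
    have hqne : ψ q ≠ 0 := hq
    have e : ((φ q)⁻¹ • φ) x = ψ x * (ψ q)⁻¹ := by
      simp only [Pi.smul_apply, smul_eq_mul]
      field_simp
      linear_combination h1 x
    rw [e]
    exact F₀.mul_mem (hψ x) (F₀.inv_mem (hψ q))

/-- An axis vanishing at a rational vector gives a rational transvection. -/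
lemma Sub4.of_dep' (h : Sub4 F₀ H) {a φ c : ι → F} (hX : Has H a φ) (hc : RatV F₀ c) (hc0 : c ≠ 0)
    (hφc : φ ⬝ᵥ c = 0) : RatM F₀ (Matrix.vecMulVec a φ) := by
  classical
  rcases eq_or_ne φ 0 with rfl | hφ0
  · intro i j; simp [Matrix.vecMulVec_apply, F₀.zero_mem]
  rcases eq_or_ne a 0 with rfl | ha0
  · intro i j; simp [Matrix.vecMulVec_apply, F₀.zero_mem]
  by_cases hψ : ∃ ψ : ι → F, RatV F₀ ψ ∧ ψ ⬝ᵥ c = 0 ∧ ψ ⬝ᵥ a ≠ 0
  · obtain ⟨ψ, hψ, hψc, hψa⟩ := hψ
    have h1 := hX.comm_right (h.rat hc hψ hψc) hφc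
    exact h.of_axis hX hφ0 hψa (h.axis_rat h1 hc hc0)
  · push Not at hψ
    obtain ⟨q, hq⟩ := Function.ne_iff.1 hc0
    have h1 : ∀ x, a x * c q = a q * c x := fun x => by
      have := hψ (Pi.single x (c q) - Pi.single q (c x))
        ((ratV_single x (hc q)).sub (ratV_single q (hc x))) (by simp [sub_dotProduct, mul_comm])
      simp [sub_dotProduct] at this
      linear_combination this
    have haq : a q ≠ 0 := fun h0 => ha0 (funext fun x => by
      have := h1 x
      rw [h0, zero_mul] at this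
      exact (mul_eq_zero.1 this).resolve_right hq)
    refine h.of_centre' hX ha0 (c := (a q)⁻¹) (inv_ne_zero haq) fun x => ?_
    have hqne : c q ≠ 0 := hq
    have e : ((a q)⁻¹ • a) x = c x * (c q)⁻¹ := by
      simp only [Pi.smul_apply, smul_eq_mul]
      field_simp
      linear_combination h1 x
    rw [e]
    exact F₀.mul_mem (hc x) (F₀.inv_mem (hc q))

/-- An element sending two independent rational vectors to rational lines is rational up to a scalar. -/
lemma Sub4.rat_of_two (h : Sub4 F₀ H) {z : GL ι F} (hz : z ∈ H) {i₁ i₂ : ι} (hne : i₁ ≠ i₂)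
    (h₁ : RatLine F₀ ((z : Matrix ι ι F) *ᵥ Pi.single i₁ 1))
    (h₂ : RatLine F₀ ((z : Matrix ι ι F) *ᵥ Pi.single i₂ 1)) : RatUpToScalar F₀ z := by
  classical
  set G : Matrix ι ι F := (z : Matrix ι ι F)
  set Gi : Matrix ι ι F := ((z⁻¹ : GL ι F) : Matrix ι ι F)
  have row : ∀ {i : ι} {c : F}, c ≠ 0 → RatV F₀ (c • (G *ᵥ Pi.single i 1)) → ∀ q, q ≠ i →
      RatV F₀ (c⁻¹ • Gi q) := by
    intro i c hc hrat q hq
    have h1 := (h.rat (ratV_single i F₀.one_mem) (ratV_single q F₀.one_mem) (by simp [hq])).conj hz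
    have h2 := h.of_centre h1 (fun h0 => by
      have h3 := mulVec_inj z (show (z : Matrix ι ι F) *ᵥ Pi.single i 1 = (z : Matrix ι ι F) *ᵥ 0 by
        rw [Matrix.mulVec_zero]; exact h0)
      simp at h3) hc hrat
    rw [Matrix.single_one_vecMul] at h2
    exact h2
  obtain ⟨c₁, hc₁, hr₁⟩ := h₁
  obtain ⟨c₂, hc₂, hr₂⟩ := h₂
  obtain ⟨q, hq1, hq2, -⟩ := nm3 h.dim i₁ i₂ i₁
  obtain ⟨x, hx⟩ := exists_row_ne' z q
  have e1 := row hc₁ hr₁ q hq1 x
  have e2 := row hc₂ hr₂ q hq2 x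
  have hratio : c₂ * c₁⁻¹ ∈ F₀ := by
    have h3 := F₀.mul_mem e1 (F₀.inv_mem e2)
    simp only [Pi.smul_apply, smul_eq_mul] at h3
    have hx' : Gi q x ≠ 0 := hx
    convert h3 using 1
    field_simp
  have hall : RatM F₀ (c₁⁻¹ • Gi) := by
    intro q x
    by_cases hq : q = i₁
    · subst hq
      have := F₀.mul_mem hratio (row hc₂ hr₂ q hne x)
      simp only [Pi.smul_apply, smul_eq_mul] at this
      rw [Matrix.smul_apply, smul_eq_mul]
      convert this using 1
      field_simp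
    · exact row hc₁ hr₁ q hq x
  -- invert
  let u : GL ι F :=
    { val := c₁⁻¹ • Gi
      inv := c₁ • G
      val_inv := by
        rw [smul_mul_smul_comm, inv_mul_cancel₀ hc₁, one_smul]; exact Units.inv_mul z
      inv_val := by
        rw [smul_mul_smul_comm, mul_inv_cancel₀ hc₁, one_smul]; exact Units.mul_inv z }
  exact ⟨c₁, hc₁, RatM.inv (g := u) hall⟩
where
  exists_row_ne' (z : GL ι F) (q : ι) : ∃ x, ((z⁻¹ : GL ι F) : Matrix ι ι F) q x ≠ 0 := by
    by_contra h
    push Not at h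
    have h2 := congrFun (congrFun (Units.inv_mul z) q) q
    rw [Matrix.mul_apply, Matrix.one_apply_eq] at h2
    simp [h] at h2

/-- An element of `H` centralising a coordinate transvection is rational up to a scalar. -/
lemma Sub4.centralizer_tv (h : Sub4 F₀ H) {i j : ι} (hij : i ≠ j) {u : GL ι F} (hu : u ∈ H)
    {h0 : (Pi.single j 1 : ι → F) ⬝ᵥ Pi.single i 1 = 0}
    (hcomm : u * tv (Pi.single i 1) (Pi.single j 1) h0 = tv (Pi.single i 1) (Pi.single j 1) h0 * u) :
    RatUpToScalar F₀ u := by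
  classical
  obtain ⟨h', he⟩ := conj_tv u (Pi.single i 1) (Pi.single j 1) h0
  rw [mul_inv_eq_iff_eq_mul.2 hcomm] at he
  have hv := congrArg (fun g : GL ι F => (g : Matrix ι ι F)) he
  simp only [tv_val] at hv
  have hv' := add_left_cancel hv
  set α := ((u : Matrix ι ι F) *ᵥ Pi.single i 1) i
  set χ := (Pi.single j 1 : ι → F) ᵥ* ((u⁻¹ : GL ι F) : Matrix ι ι F)
  have hrow : ∀ l, α * χ l = (Pi.single j 1 : ι → F) l := fun l => by
    have h1 := congrFun (congrFun hv' i) l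
    simp only [Matrix.vecMulVec_apply, Pi.single_eq_same, one_mul] at h1
    exact h1.symm
  have hα : α ≠ 0 := fun e => by simpa [e] using hrow j
  have hχ : RatV F₀ (α • χ) := fun l => by
    rw [Pi.smul_apply, smul_eq_mul, hrow]
    exact ratV_single j F₀.one_mem l
  have hχ0 : χ ≠ 0 := fun e => by simpa [e] using hrow j
  have key : ∀ p, p ≠ j → RatLine F₀ ((u : Matrix ι ι F) *ᵥ Pi.single p 1) := fun p hp =>
    ratLine_of_vecMulVec hχ0 (h.of_axis
      ((h.rat (ratV_single p F₀.one_mem) (ratV_single j F₀.one_mem) (by simp [hp.symm])).conj hu) hχ0 hα hχ)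
  obtain ⟨p, hpi, hpj, -⟩ := nm3 h.dim i j i
  exact h.rat_of_two hu hpi.symm (key i hij) (key p hpj)

lemma RatUpToScalar.mul {g g' : GL ι F} (h : RatUpToScalar F₀ g) (h' : RatUpToScalar F₀ g') :
    RatUpToScalar F₀ (g * g') := by
  obtain ⟨c, hc0, hc⟩ := h
  obtain ⟨c', hc0', hc'⟩ := h'
  refine ⟨c * c', mul_ne_zero hc0 hc0', ?_⟩
  rw [Units.val_mul, ← smul_mul_smul_comm]
  exact hc.mul hc'

/-- The homomorphism from `SL₂` acting on a plane with a complement. -/
def planeHom {v₀ v₁ χ₀ χ₁ : ι → F} (h00 : χ₀ ⬝ᵥ v₀ = 1) (h01 : χ₀ ⬝ᵥ v₁ = 0) (h10 : χ₁ ⬝ᵥ v₀ = 0)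
    (h11 : χ₁ ⬝ᵥ v₁ = 1) : Matrix.SpecialLinearGroup (Fin 2) F →* GL ι F :=
  MonoidHom.toHomUnits
    { toFun := fun s => 1 + (s.1 0 0 - 1) • Matrix.vecMulVec v₀ χ₀ + s.1 0 1 • Matrix.vecMulVec v₀ χ₁ +
        s.1 1 0 • Matrix.vecMulVec v₁ χ₀ + (s.1 1 1 - 1) • Matrix.vecMulVec v₁ χ₁
      map_one' := by simp
      map_mul' := fun s t => by
        simp only [Matrix.SpecialLinearGroup.coe_mul, Matrix.mul_apply, Fin.sum_univ_two, mul_add, add_mul,
          mul_one, one_mul, smul_mul_smul_comm, Matrix.vecMulVec_mul_vecMulVec, Matrix.vecMulVec_smul, h00, h01,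
          h10, h11, one_smul, zero_smul, Matrix.vecMulVec_zero, smul_zero, add_zero, smul_mul_assoc, mul_smul_comm]
        module }

lemma planeHom_val {v₀ v₁ χ₀ χ₁ : ι → F} (h00 : χ₀ ⬝ᵥ v₀ = 1) (h01 : χ₀ ⬝ᵥ v₁ = 0) (h10 : χ₁ ⬝ᵥ v₀ = 0)
    (h11 : χ₁ ⬝ᵥ v₁ = 1) (s : Matrix.SpecialLinearGroup (Fin 2) F) :
    (planeHom h00 h01 h10 h11 s : Matrix ι ι F) =
      1 + (s.1 0 0 - 1) • Matrix.vecMulVec v₀ χ₀ + s.1 0 1 • Matrix.vecMulVec v₀ χ₁ +
        s.1 1 0 • Matrix.vecMulVec v₁ χ₀ + (s.1 1 1 - 1) • Matrix.vecMulVec v₁ χ₁ := rfl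

variable [Fintype F]

/-- The parameter of a transvection against a rational one is rational, in odd characteristic. -/
lemma Sub4.param_mem (h : Sub4 F₀ H) {r : ℕ} (hr : r.Prime) (hr2 : r ≠ 2)
    (hcard : Fintype.card F = Nat.card F₀ ^ r) (h2 : (2 : F) ≠ 0) {a φ b ψ : ι → F} (hX : Has H a φ)
    (hb : RatV F₀ b) (hψ : RatV F₀ ψ) (hψb : ψ ⬝ᵥ b = 0) : (φ ⬝ᵥ b) * (ψ ⬝ᵥ a) ∈ F₀ := by
  classical
  obtain ⟨lam, hlam⟩ : ∃ l, l = (φ ⬝ᵥ b) * (ψ ⬝ᵥ a) := ⟨_, rfl⟩
  rw [← hlam]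
  rcases eq_or_ne lam 0 with h0 | h0
  · rw [h0]; exact F₀.zero_mem
  have hφb : φ ⬝ᵥ b ≠ 0 := fun e => h0 (by rw [hlam, e, zero_mul])
  have hψa : ψ ⬝ᵥ a ≠ 0 := fun e => h0 (by rw [hlam, e, mul_zero])
  set K := Subfield.closure ({lam} : Set F) with hK
  let lam' : K := ⟨lam, Subfield.subset_closure rfl⟩
  have hgen : Subfield.closure ({lam'} : Set K) = ⊤ := by
    refine eq_top_iff.2 fun x _ => ?_
    have h1 : (x : F) ∈ (Subfield.closure ({lam'} : Set K)).map K.subtype := by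
      rw [RingHom.map_field_closure, Set.image_singleton]
      exact x.2
    obtain ⟨y, hy, hxy⟩ := Subfield.mem_map.1 h1
    rwa [← show y = x from Subtype.ext hxy]
  obtain ⟨p, hp⟩ := CharP.exists K
  haveI : Fact p.Prime := ⟨CharP.char_is_prime K p⟩
  have h2K : (2 : K) ≠ 0 := fun e => h2 (by
    have h' := congrArg K.subtype e
    rwa [map_ofNat, map_zero] at h')
  have hlam0 : lam' ≠ 0 := fun e => h0 (congrArg Subtype.val e)
  haveI := Fintype.ofFinite K
  rcases CfsgLib.PSL2.Gen.main p h2K lam' hlam0 hgen with htop | ⟨-, h9⟩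
  swap
  · refine mem_of_mul_self_mem hr hr2 hcard ?_
    have h9' : lam ^ 2 = -1 := by simpa [lam'] using congrArg Subtype.val h9
    rw [← sq, h9']
    exact F₀.neg_mem F₀.one_mem
  have h00 : ψ ⬝ᵥ ((ψ ⬝ᵥ a)⁻¹ • a) = 1 := by rw [dotProduct_smul, smul_eq_mul, inv_mul_cancel₀ hψa]
  have h10 : ((φ ⬝ᵥ b)⁻¹ • φ) ⬝ᵥ ((ψ ⬝ᵥ a)⁻¹ • a) = 0 := by
    rw [smul_dotProduct, dotProduct_smul, hX.dot, smul_zero, smul_zero]
  have h11 : ((φ ⬝ᵥ b)⁻¹ • φ) ⬝ᵥ b = 1 := by rw [smul_dotProduct, smul_eq_mul, inv_mul_cancel₀ hφb]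
  set f := (planeHom h00 hψb h10 h11).comp (Matrix.SpecialLinearGroup.map K.subtype) with hf
  have hval : ∀ (g : Matrix.SpecialLinearGroup (Fin 2) K) (i j : Fin 2),
      (Matrix.SpecialLinearGroup.map K.subtype g).1 i j = ((g.1 i j : K) : F) := fun _ _ _ => rfl
  have hle : Subgroup.closure (CfsgLib.PSL2.Gen.gens lam') ≤ H.comap f := by
    rw [Subgroup.closure_le]
    rintro g (hg | hg)
    · obtain ⟨h', hY⟩ := h.rat hb hψ hψb
      show f g ∈ H
      convert hY using 1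
      refine Units.ext ?_
      rw [hf, MonoidHom.comp_apply, planeHom_val, tv_val]
      simp only [hval, hg]
      simp
    · obtain ⟨h', hX'⟩ := hX
      show f g ∈ H
      convert hX' using 1
      refine Units.ext ?_
      rw [hf, MonoidHom.comp_apply, planeHom_val, tv_val]
      simp only [hval, hg]
      simp [lam', Matrix.smul_vecMulVec, Matrix.vecMulVec_smul, smul_smul]
      rw [show lam * ((φ ⬝ᵥ b)⁻¹ * (ψ ⬝ᵥ a)⁻¹) = 1 by rw [hlam]; field_simp, one_smul]
  let g : Matrix.SpecialLinearGroup (Fin 2) K := ⟨!![1, 0; lam', 1], by simp [Matrix.det_fin_two]⟩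
  have hg : f g ∈ H := hle (htop ▸ Subgroup.mem_top g)
  have hH : Has H b (lam • ψ) := by
    refine ⟨by rw [smul_dotProduct, hψb, smul_zero], ?_⟩
    convert hg using 1
    refine Units.ext ?_
    rw [hf, MonoidHom.comp_apply, planeHom_val, tv_val]
    simp only [hval]
    simp [g, lam', Matrix.vecMulVec_smul]
  have hb0 : b ≠ 0 := fun e => hφb (by rw [e, dotProduct_zero])
  have hr' := h.axis_rat hH hb hb0
  obtain ⟨q, hq⟩ := Function.ne_iff.1 (fun e : ψ = 0 => hψa (by rw [e, zero_dotProduct]))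
  have h4 := F₀.mul_mem (hr' q) (F₀.inv_mem (hψ q))
  rwa [Pi.smul_apply, smul_eq_mul, mul_assoc, mul_inv_cancel₀ (show ψ q ≠ 0 from hq), mul_one] at h4

/-- Every transvection is rational in odd characteristic. -/
lemma Sub4.odd_rat (h : Sub4 F₀ H) {r : ℕ} (hr : r.Prime) (hr2 : r ≠ 2)
    (hcard : Fintype.card F = Nat.card F₀ ^ r) (h2 : (2 : F) ≠ 0) (hι : Fintype.card ι = 4)
    {a φ : ι → F} (hX : Has H a φ) : RatM F₀ (Matrix.vecMulVec a φ) := by
  classical
  have hoff : ∀ i j, i ≠ j → a i * φ j ∈ F₀ := fun i j hij => by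
    have := h.param_mem hr hr2 hcard h2 hX (ratV_single j F₀.one_mem) (ratV_single i F₀.one_mem) (by simp [hij.symm])
    rwa [dotProduct_single, single_dotProduct, mul_one, one_mul, mul_comm] at this
  have hdiff : ∀ i j, a i * φ i - a j * φ j ∈ F₀ := fun i j => by
    rcases eq_or_ne i j with rfl | hij
    · rw [sub_self]; exact F₀.zero_mem
    have hb : RatV F₀ (Pi.single i 1 + Pi.single j 1 : ι → F) :=
      fun l => F₀.add_mem (ratV_single i F₀.one_mem l) (ratV_single j F₀.one_mem l)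
    have hψ : RatV F₀ (Pi.single i 1 - Pi.single j 1 : ι → F) :=
      (ratV_single i F₀.one_mem).sub (ratV_single j F₀.one_mem)
    have h1 := h.param_mem hr hr2 hcard h2 hX hb hψ (by simp [hij, hij.symm, dotProduct_add, sub_dotProduct])
    rw [dotProduct_add, dotProduct_single, dotProduct_single, sub_dotProduct, single_dotProduct, single_dotProduct,
      mul_one, mul_one, one_mul, one_mul] at h1
    have h3 := F₀.add_mem (F₀.sub_mem h1 (hoff i j hij)) (hoff j i hij.symm)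
    convert h3 using 1
    ring
  intro i j
  rw [Matrix.vecMulVec_apply]
  rcases eq_or_ne i j with rfl | hij
  swap
  · exact hoff i j hij
  have hs : ∑ l, (a i * φ i - a l * φ l) = 4 * (a i * φ i) := by
    rw [Finset.sum_sub_distrib, Finset.sum_const, Finset.card_univ, hι,
      show ∑ l, a l * φ l = 0 by rw [← hX.dot, dotProduct]; exact Finset.sum_congr rfl fun l _ => mul_comm _ _]
    simp
  have h4 : (4 : F) * (a i * φ i) ∈ F₀ := hs ▸ sum_mem fun l _ => hdiff i l
  have h40 : (4 : F) ≠ 0 := by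
    rw [show (4 : F) = 2 * 2 by norm_num]; exact mul_ne_zero h2 h2
  have h5 := F₀.mul_mem (F₀.inv_mem (show (4 : F) ∈ F₀ by exact_mod_cast natCast_mem F₀ 4)) h4
  rwa [← mul_assoc, inv_mul_cancel₀ h40, one_mul] at h5

/-- Every transvection is rational in characteristic two, for large degree. -/
lemma Sub4.even_rat (h : Sub4 F₀ H) {r : ℕ} (hr : r.Prime) (h5 : 4 ≤ r)
    (hcard : Fintype.card F = Nat.card F₀ ^ r) (h2 : (2 : F) = 0) (hι : Fintype.card ι = 4)
    {a φ : ι → F} (hXh : Has H a φ) : RatM F₀ (Matrix.vecMulVec a φ) := by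
  classical
  have hr2 : r ≠ 2 := by omega
  have hneg1 : (-1 : Matrix ι ι F) = 1 := by
    refine Matrix.ext fun i j => ?_
    rw [Matrix.neg_apply]; linear_combination -((1 : Matrix ι ι F) i j) * h2
  rcases eq_or_ne a 0 with rfl | ha0
  · intro i j; simp [Matrix.vecMulVec_apply, F₀.zero_mem]
  rcases eq_or_ne φ 0 with rfl | hφ0
  · intro i j; simp [Matrix.vecMulVec_apply, F₀.zero_mem]
  obtain ⟨e⟩ : Nonempty (Fin 4 ≃ ι) := ⟨(Fintype.equivFinOfCardEq hι).symm⟩
  have ne : ∀ {i j : Fin 4}, i ≠ j → e i ≠ e j := fun h => e.injective.ne h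
  have tt : ∀ (b ψ : ι → F) (h0 : ψ ⬝ᵥ b = 0), tv b ψ h0 * tv b ψ h0 = 1 := fun b ψ h0 => Units.ext (by
    rw [Units.val_mul, tv_val, add_mul, one_mul, mul_add, mul_one, Matrix.vecMulVec_mul_vecMulVec, h0, zero_smul,
      Matrix.vecMulVec_zero, add_zero, Units.val_one]
    refine Matrix.ext fun i j => ?_
    simp only [Matrix.add_apply]
    linear_combination (Matrix.vecMulVec b ψ i j) * h2)
  have hy : (Pi.single (e 1) 1 : ι → F) ⬝ᵥ Pi.single (e 0) 1 = 0 := by simp [ne (show (1 : Fin 4) ≠ 0 by decide)]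
  have ht : (Pi.single (e 3) 1 : ι → F) ⬝ᵥ Pi.single (e 2) 1 = 0 := by simp [ne (show (3 : Fin 4) ≠ 2 by decide)]
  set Y := tv _ _ hy with hY
  set T := tv _ _ ht with hT
  obtain ⟨_, hYH⟩ := h.rat (ratV_single (e 0) F₀.one_mem) (ratV_single (e 1) F₀.one_mem) hy
  obtain ⟨_, hTH⟩ := h.rat (ratV_single (e 2) F₀.one_mem) (ratV_single (e 3) F₀.one_mem) ht
  set sr : Equiv.Perm ι := Equiv.swap (e 0) (e 2) * Equiv.swap (e 1) (e 3) with hsr
  set R : GL ι F := monoGL sr (fun _ => 1) with hR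
  have hRr : RatUpToScalar F₀ R := ⟨1, one_ne_zero, by
    rw [one_smul, hR, monoGL_val]; exact ratM_monoMat _ fun _ => by simp [F₀.one_mem]⟩
  have hRH : R ∈ H := by
    refine h.mem _ ?_ hRr
    rw [hR, monoGL_mem_specialLinear_iff, hsr, Equiv.Perm.sign_mul, Equiv.Perm.sign_swap (ne (by decide)),
      Equiv.Perm.sign_swap (ne (by decide))]
    simp
  have hRY : R * Y * R⁻¹ = T := by
    obtain ⟨h', he⟩ := conj_tv R _ _ hy
    rw [hY, he, hT]
    refine Units.ext ?_
    rw [tv_val, tv_val]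
    have s0 : sr (e 0) = e 2 := by
      simp [hsr, Equiv.Perm.mul_apply, Equiv.swap_apply_of_ne_of_ne (ne (show (0 : Fin 4) ≠ 1 by decide)) (ne (show (0 : Fin 4) ≠ 3 by decide))]
    have s1 : sr (e 1) = e 3 := by
      simp [hsr, Equiv.Perm.mul_apply, Equiv.swap_apply_of_ne_of_ne (ne (show (3 : Fin 4) ≠ 0 by decide)) (ne (show (3 : Fin 4) ≠ 2 by decide))]
    congr 2 <;> funext l
    · rw [hR, monoGL_val, monoMat_mulVec']
      rcases eq_or_ne l (e 2) with rfl | hl
      · rw [show sr.symm (e 2) = e 0 by rw [← s0, Equiv.symm_apply_apply]]; simp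
      · have : sr.symm l ≠ e 0 := fun h' => hl (by rw [← s0, ← h', Equiv.apply_symm_apply])
        simp [hl, this]
    · rw [hR, monoGL_inv_val, vecMul_monoMat]
      rcases eq_or_ne l (e 3) with rfl | hl
      · rw [show sr⁻¹ (e 3) = e 1 by rw [Equiv.Perm.inv_eq_iff_eq, s1]]; simp
      · have : sr.symm l ≠ e 1 := fun h' => hl (by rw [← s1, ← h']; simp)
        simp [hl, this, Equiv.Perm.inv_def]
  have hTY : T * Y * T⁻¹ = Y := by
    obtain ⟨h', he⟩ := conj_tv T _ _ hy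
    rw [hY, he]
    refine Units.ext ?_
    rw [tv_val, tv_val]
    congr 2
    · rw [Matrix.add_mulVec, Matrix.one_mulVec, Matrix.vecMulVec_mulVec]
      simp [ne (show (3 : Fin 4) ≠ 0 by decide)]
    · rw [hT, show ((tv (Pi.single (e 2) (1 : F)) (Pi.single (e 3) 1) ht)⁻¹ : GL ι F).1 =
        1 + Matrix.vecMulVec (-Pi.single (e 2) 1) (Pi.single (e 3) 1) from rfl,
        Matrix.vecMul_add, Matrix.vecMul_one, Matrix.vecMul_vecMulVec]
      simp [ne (show (1 : Fin 4) ≠ 2 by decide)]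
  have hYT : Y ≠ T := fun h' => by
    have h1 := congrFun (congrFun (congrArg (fun g : GL ι F => (g : Matrix ι ι F)) h') (e 0)) (e 1)
    simp [hY, hT, tv_val, Matrix.vecMulVec_apply, ne (show (0 : Fin 4) ≠ 1 by decide),
      ne (show (0 : Fin 4) ≠ 2 by decide)] at h1
  obtain ⟨hd, hXM⟩ := hXh
  have hXh : Has H a φ := ⟨hd, hXM⟩
  set X := tv a φ hd with hXdef
  have hXX : X * X = 1 := tt _ _ hd
  have hXi : X⁻¹ = X := inv_eq_of_mul_eq_one_right hXX
  have hTT : T * T = 1 := tt _ _ ht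
  set x := X * Y * X⁻¹ with hx
  have hxx : x * x = 1 := by rw [hx, conj_mul, tt _ _ hy, mul_one, mul_inv_cancel]
  have hxH : x ∈ H := mul_mem (mul_mem hXM hYH) (inv_mem hXM)
  rcases exists_central_or_pow_conj hxx hTT with ⟨i, hw⟩ | ⟨z, w, k, hz2, hz1, hxz, htz, hwdef, hzw, -⟩
  · set w := (x * T) ^ i with hwdef
    have hwH : w ∈ H := pow_mem (mul_mem hxH hTH) i
    have hTi : T⁻¹ = T := inv_eq_of_mul_eq_one_right hTT
    have hxi : x⁻¹ = x := inv_eq_of_mul_eq_one_right hxx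
    have hTw : T * w * T = w⁻¹ := by
      calc T * w * T = T * (x * T) ^ i * T⁻¹ := by rw [hTi]
        _ = (T * (x * T) * T⁻¹) ^ i := conj_pow.symm
        _ = (x * T)⁻¹ ^ i := by rw [mul_inv_rev, hTi, hxi, mul_assoc, mul_assoc, hTT, mul_one]
        _ = w⁻¹ := by rw [hwdef, inv_pow]
    set u := R⁻¹ * w * X with hu
    have huY : u * Y = Y * u := by
      calc u * Y = R⁻¹ * (w * x * w⁻¹) * (R * u) := by rw [hu, hx]; group
        _ = Y * u := by rw [hw, ← hRY]; group
    have ratu : RatUpToScalar F₀ u :=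
      h.centralizer_tv (ne (show (0 : Fin 4) ≠ 1 by decide)) (mul_mem (mul_mem (inv_mem hRH) hwH) hXM) huY
    set S := T * (R * u) with hS
    have hTr : RatUpToScalar F₀ T := ⟨1, one_ne_zero, by
      rw [one_smul, hT, tv_val]; exact ratM_one.add (ratM_vecMulVec (ratV_single _ F₀.one_mem) (ratV_single _ F₀.one_mem))⟩
    obtain ⟨c, hc0, hS0⟩ : RatUpToScalar F₀ S := RatUpToScalar.mul hTr (RatUpToScalar.mul hRr ratu)
    have hSX : S * X * S = X := by
      have hRu : R * u = w * X := by rw [hu]; group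
      calc S * X * S = (T * w) * (X * X) * (T * w * X) := by rw [hS, hRu]; group
        _ = (T * w * T) * w * X := by rw [hXX, mul_one]; group
        _ = X := by rw [hTw, inv_mul_cancel, one_mul]
    set Sm : Matrix ι ι F := (S : Matrix ι ι F) with hSm
    have hEq : Sm * Sm - 1 = Matrix.vecMulVec a φ - Matrix.vecMulVec (Sm *ᵥ a) (φ ᵥ* Sm) := by
      have h8 := congrArg (fun g : GL ι F => (g : Matrix ι ι F)) hSX
      simp only [Units.val_mul, ← hSm, hXdef, tv_val] at h8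
      rw [mul_add, mul_one, add_mul, Matrix.mul_vecMulVec, Matrix.vecMulVec_mul] at h8
      rw [eq_sub_of_add_eq h8]
      abel
    have hrk : (Sm * Sm - 1).rank ≤ 2 := by
      rw [hEq, sub_eq_add_neg, ← Matrix.neg_vecMulVec]
      exact le_trans (rank_add_le' _ _)
        (Nat.add_le_add (Matrix.rank_vecMulVec_le _ _) (Matrix.rank_vecMulVec_le _ _))
    have hSr : RatM F₀ Sm := by
      have hc2 : c * c ∈ F₀ := by
        refine mem_of_det_eq_zero hr hcard (hS0.mul hS0) (e ∘ ![0, 1, 2]) (by omega) ?_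
          (e.injective.comp (by decide))
        rw [show (c • Sm) * (c • Sm) - (c * c) • (1 : Matrix ι ι F) = (c * c) • (Sm * Sm - 1) by
            rw [smul_mul_smul_comm, smul_sub],
          Matrix.submatrix_smul, Pi.smul_apply, Pi.smul_apply, Matrix.det_smul]
        refine mul_eq_zero_of_right _ ?_
        by_contra hne
        have h9 := Matrix.rank_of_isUnit _ ((Matrix.isUnit_iff_isUnit_det _).2 (isUnit_iff_ne_zero.2 hne))
        have h10 := Matrix.rank_submatrix_le (Sm * Sm - 1) (e ∘ ![0, 1, 2]) (e ∘ ![0, 1, 2])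
        rw [h9, Fintype.card_fin] at h10
        omega
      have h6 := hS0.smul (F₀.inv_mem (mem_of_mul_self_mem hr hr2 hcard hc2))
      rwa [smul_smul, inv_mul_cancel₀ hc0, one_smul] at h6
    have hM : RatM F₀ (Sm * Sm - 1) := (hSr.mul hSr).sub ratM_one
    have hSne1 : Sm ≠ 1 := fun h' => by
      have hS1 : S = 1 := Units.ext (h'.trans Units.val_one.symm)
      have hwX : w * X = T := by
        have hRu : R * u = w * X := by rw [hu]; group
        have h3 : T * (R * u) = 1 := hS1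
        rw [← hRu, eq_inv_of_mul_eq_one_right h3, hTi]
      apply hYT
      calc Y = T * Y * T⁻¹ := hTY.symm
        _ = (w * X) * Y * (w * X)⁻¹ := by rw [hwX]
        _ = w * x * w⁻¹ := by rw [hx]; group
        _ = T := hw
    by_cases hdep : φ ᵥ* Sm ∈ Submodule.span F {φ}
    · obtain ⟨κ, hκ⟩ := Submodule.mem_span_singleton.1 hdep
      by_cases hSS : Sm * Sm = 1
      · obtain ⟨d, hd', hd0, hdφ⟩ := dep_of_eigen hSr.transpose
          (by rw [← Matrix.transpose_mul, hSS, Matrix.transpose_one])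
          (fun h0 => hSne1 (Matrix.transpose_injective (h0.trans Matrix.transpose_one.symm)))
          (fun h0 => hSne1 (Matrix.transpose_injective ((h0.trans hneg1).trans Matrix.transpose_one.symm)))
          hφ0 (κ := κ) (by rw [Matrix.mulVec_transpose, hκ])
        exact h.of_dep' hXh hd' hd0 (by rw [dotProduct_comm]; exact hdφ)
      · rw [← hκ, Matrix.vecMulVec_smul, ← Matrix.smul_vecMulVec, ← Matrix.sub_vecMulVec] at hEq
        have hv0 : a - κ • Sm *ᵥ a ≠ 0 := fun h' => hSS (by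
          rw [h', Matrix.zero_vecMulVec, sub_eq_zero] at hEq; exact hEq)
        obtain ⟨l, hl⟩ := Function.ne_iff.1 hv0
        refine h.of_axis hXh hφ0 (c := (a - κ • Sm *ᵥ a) l) hl fun m => ?_
        have := hM l m
        rwa [hEq, Matrix.vecMulVec_apply] at this
    · have hdetM : (Sm * Sm - 1).det = 0 := by
        by_contra hne
        have h9 : (Sm * Sm - 1).rank = Fintype.card ι :=
          Matrix.rank_of_isUnit _ ((Matrix.isUnit_iff_isUnit_det _).2 (isUnit_iff_ne_zero.2 hne))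
        omega
      obtain ⟨ψ, hψ, hψ0, hψM⟩ := hM.exists_left_null hdetM
      have hne' : φ ∉ Submodule.span F {φ ᵥ* Sm} := fun h' => by
        obtain ⟨κ, hκ⟩ := Submodule.mem_span_singleton.1 h'
        have hκ0 : κ ≠ 0 := fun e => hφ0 (by rw [← hκ, e, zero_smul])
        exact hdep (Submodule.mem_span_singleton.2 ⟨κ⁻¹, by rw [← inv_smul_smul₀ hκ0 (φ ᵥ* Sm), hκ]⟩)
      obtain ⟨v, hv, hv1⟩ := exists_ann _ _ hne'
      refine h.of_dep hXh hψ hψ0 ?_
      have h11 : (Sm * Sm - 1) *ᵥ v = a := by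
        rw [hEq, Matrix.sub_mulVec, Matrix.vecMulVec_mulVec, Matrix.vecMulVec_mulVec, dotProduct_comm φ, hv1,
          dotProduct_comm (φ ᵥ* Sm), hv _ (Submodule.mem_span_singleton_self _)]
        simp
      rw [← h11, Matrix.dotProduct_mulVec, hψM, zero_dotProduct]
  have hzH : z ∈ H := by
    rw [hzw, hwdef]
    exact pow_mem (mul_mem hxH hTH) k
  set z' := X⁻¹ * z * X with hz'
  have hz'Y : z' * Y = Y * z' := by
    calc z' * Y = X⁻¹ * (z * x) * X := by rw [hz', hx]; group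
      _ = X⁻¹ * (x * z) * X := by rw [hxz]
      _ = Y * z' := by rw [hz', hx]; group
  have ratz : RatUpToScalar F₀ z := h.centralizer_tv (ne (show (2 : Fin 4) ≠ 3 by decide)) hzH htz.symm
  have ratz' : RatUpToScalar F₀ z' :=
    h.centralizer_tv (ne (show (0 : Fin 4) ≠ 1 by decide)) (mul_mem (mul_mem (inv_mem hXM) hzH) hXM) hz'Y
  have clear : ∀ {u : GL ι F}, u * u = 1 → RatUpToScalar F₀ u → RatM F₀ (u : Matrix ι ι F) := by
    intro u huu ⟨c, hc0, hc⟩
    have hcc : c * c ∈ F₀ := by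
      have h4 := hc.mul hc (e 0) (e 0)
      rw [smul_mul_smul_comm, ← Units.val_mul, huu] at h4
      simpa using h4
    have h6 := hc.smul (F₀.inv_mem (mem_of_mul_self_mem hr hr2 hcard hcc))
    rwa [smul_smul, inv_mul_cancel₀ hc0, one_smul] at h6
  have hz'2 : z' * z' = 1 := by
    rw [hz', show X⁻¹ * z * X * (X⁻¹ * z * X) = X⁻¹ * (z * z) * X by group, hz2, mul_one, inv_mul_cancel]
  have hZ := clear hz2 ratz
  have hZ' := clear hz'2 ratz'
  set Z : Matrix ι ι F := (z : Matrix ι ι F) with hZdef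
  set Z' : Matrix ι ι F := (z' : Matrix ι ι F) with hZ'def
  have hZZ : Z * Z = 1 := by rw [hZdef, ← Units.val_mul, hz2, Units.val_one]
  have hZ'Z' : Z' * Z' = 1 := by rw [hZ'def, ← Units.val_mul, hz'2, Units.val_one]
  have hZne1 : Z ≠ 1 := fun h0 => hz1 (Units.ext h0)
  have hz'e : z = X * z' * X⁻¹ := by rw [hz']; group
  have hZ'ne1 : Z' ≠ 1 := fun h0 => hz1 (by rw [hz'e, show z' = 1 from Units.ext h0, mul_one, mul_inv_cancel])
  have hZ'ne2 : Z' ≠ -1 := fun h0 => hZ'ne1 (h0.trans hneg1)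
  by_cases heig : ∃ κ : F, Z *ᵥ a = κ • a
  · obtain ⟨κ, hκ⟩ := heig
    obtain ⟨ψ, hψ, hψ0, hψa⟩ := dep_of_eigen hZ hZZ hZne1 (fun h0 => hZne1 (h0.trans hneg1)) ha0 hκ
    exact h.of_dep hXh hψ hψ0 hψa
  by_cases heig' : φ ᵥ* Z' ∈ Submodule.span F {φ}
  · obtain ⟨κ, hκ⟩ := Submodule.mem_span_singleton.1 heig'
    obtain ⟨c, hc, hc0, hcφ⟩ := dep_of_eigen hZ'.transpose
      (by rw [← Matrix.transpose_mul, hZ'Z', Matrix.transpose_one])
      (fun h0 => hZ'ne1 (Matrix.transpose_injective (h0.trans Matrix.transpose_one.symm)))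
      (fun h0 => hZ'ne2 (Matrix.transpose_injective (by rw [h0, Matrix.transpose_neg, Matrix.transpose_one])))
      hφ0 (κ := κ) (by rw [Matrix.mulVec_transpose, hκ])
    exact h.of_dep' hXh hc hc0 (by rw [dotProduct_comm]; exact hcφ)
  -- the difference of the two involutions is rational with the centre in its image
  have hΔ : Z - Z' = Matrix.vecMulVec a (φ ᵥ* Z') - Matrix.vecMulVec (Z *ᵥ a) φ := by
    have h7 : z * X = X * z' := by rw [hz']; group
    have h8 := congrArg (fun g : GL ι F => (g : Matrix ι ι F)) h7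
    simp only [Units.val_mul, hXdef, tv_val, mul_add, add_mul, mul_one, one_mul, Matrix.mul_vecMulVec,
      Matrix.vecMulVec_mul] at h8
    rw [sub_eq_sub_iff_add_eq_add, h8, add_comm]
  have hdetΔ : (Z - Z').det = 0 := by
    by_contra hne
    have h9 : (Z - Z').rank = Fintype.card ι :=
      Matrix.rank_of_isUnit _ ((Matrix.isUnit_iff_isUnit_det _).2 (isUnit_iff_ne_zero.2 hne))
    have h10 : (Z - Z').rank ≤ 2 := by
      rw [hΔ, sub_eq_add_neg, ← Matrix.neg_vecMulVec]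
      exact le_trans (rank_add_le' _ _)
        (Nat.add_le_add (Matrix.rank_vecMulVec_le _ _) (Matrix.rank_vecMulVec_le _ _))
    omega
  obtain ⟨ψ, hψ, hψ0, hψΔ⟩ := (hZ.sub hZ').exists_left_null hdetΔ
  obtain ⟨u, hu, hu1⟩ := exists_ann _ _ heig'
  refine h.of_dep hXh hψ hψ0 ?_
  have h11 : (Z - Z') *ᵥ u = a := by
    rw [hΔ, Matrix.sub_mulVec, Matrix.vecMulVec_mulVec, Matrix.vecMulVec_mulVec,
      dotProduct_comm (φ ᵥ* Z'), hu1, dotProduct_comm φ, hu φ (Submodule.mem_span_singleton_self φ)]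
    simp
  rw [← h11, Matrix.dotProduct_mulVec, hψΔ, zero_dotProduct]

/-- Every transvection in such an overgroup is rational. -/
lemma Sub4.transvection_rat (h : Sub4 F₀ H) {r : ℕ} (hr : r.Prime) (hcard : Fintype.card F = Nat.card F₀ ^ r)
    (hι : Fintype.card ι = 4) {a φ : ι → F} (hX : Has H a φ) : RatM F₀ (Matrix.vecMulVec a φ) := by
  by_cases hrn : r < Fintype.card ι
  · obtain ⟨ψ, hψ, hψ0, hψa⟩ := exists_rat_dot_eq_zero F₀ hcard hrn a
    exact h.of_dep hX hψ hψ0 hψa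
  by_cases h2 : (2 : F) = 0
  · exact h.even_rat hr (by omega) hcard h2 hι hX
  · exact h.odd_rat hr (by omega) hcard h2 hι hX

/-- An overgroup with a larger root group is everything. -/
lemma specialLinear_le_of_big_root {r : ℕ} (hr : r.Prime) (hcard : Fintype.card F = Nat.card F₀ ^ r)
    {H : Subgroup (GL ι F)} (hι : 4 ≤ Fintype.card ι)
    (hmem : ∀ g : GL ι F, g ∈ Cfsg.Geo.specialLinear ι F → RatUpToScalar F₀ g → g ∈ H)
    {i j : ι} (hij : i ≠ j) {μ : F} (hμ : μ ∉ F₀) (hH : Has H (Pi.single i μ) (Pi.single j 1)) :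
    Cfsg.Geo.specialLinear ι F ≤ H := by
  classical
  let R : ι → ι → F → Prop := fun a b x => Has H (Pi.single a x) (Pi.single b 1)
  have base : ∀ {a b : ι}, a ≠ b → ∀ {x : F}, x ∈ F₀ → R a b x := fun {a b} hab {x} hx =>
    ⟨by simp [hab.symm], hmem _ (tv_mem_specialLinear _ _ _) ⟨1, one_ne_zero, by
      rw [one_smul, tv_val]; exact ratM_one.add (ratM_vecMulVec (ratV_single a hx) (ratV_single b F₀.one_mem))⟩⟩
  have comm : ∀ {a b c : ι}, a ≠ c → ∀ {x y : F}, R a b x → R b c y → R a c (y * x) := by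
    intro a b c hac x y h1 h2
    have h3 := Has.comm_left h1 h2 (by simp [hac.symm])
    rw [single_dotProduct, Pi.single_eq_same, one_mul, ← Pi.single_smul', smul_eq_mul] at h3
    exact h3
  have right : ∀ {a b c : ι}, b ≠ c → a ≠ c → ∀ {x}, R a b x → R a c x := fun {a b c} hbc hac {x} h1 => by
    have := comm hac h1 (base hbc F₀.one_mem); rwa [one_mul] at this
  have left : ∀ {a b c : ι}, c ≠ a → c ≠ b → ∀ {x}, R a b x → R c b x := fun {a b c} hca hcb {x} h1 => by
    have := comm hcb (base hca F₀.one_mem) h1; rwa [mul_one] at this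
  have move : ∀ {a b c d : ι}, a ≠ b → c ≠ d → ∀ {x}, R a b x → R c d x := by
    intro a b c d hab hcd x h1
    have right' : ∀ {a b c : ι}, a ≠ c → ∀ {x}, R a b x → R a c x := fun {a b c} hac {x} h1 => by
      rcases eq_or_ne b c with rfl | hbc
      · exact h1
      · exact right hbc hac h1
    have left' : ∀ {a b c : ι}, c ≠ b → ∀ {x}, R a b x → R c b x := fun {a b c} hcb {x} h1 => by
      rcases eq_or_ne c a with rfl | hca
      · exact h1
      · exact left hca hcb h1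
    obtain ⟨p, hpa, hpc, -⟩ := nm3 hι a c a
    exact right' hcd (left' hpc.symm (right' hpa.symm h1))
  have hadd : ∀ {x y}, R i j x → R i j y → R i j (x + y) := fun {x y} h1 h2 => by
    have := h1.add_left h2; rwa [← Pi.single_add] at this
  have hmul : ∀ {x y}, R i j x → R i j y → R i j (x * y) := fun {x y} h1 h2 => by
    obtain ⟨p, hpi, hpj, -⟩ := nm3 hι i j i
    exact comm hij (move hij hpi.symm h2) (move hij hpj h1)
  let A : Subalgebra F₀ F :=
    { carrier := {x | R i j x}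
      one_mem' := base hij F₀.one_mem
      zero_mem' := base hij F₀.zero_mem
      add_mem' := hadd
      mul_mem' := hmul
      algebraMap_mem' := fun x => base hij x.2 }
  have hfr : Module.finrank F₀ F = r := by
    have h1 := Module.card_eq_pow_finrank (K := F₀) (V := F)
    rw [hcard, Nat.card_eq_fintype_card] at h1
    exact (Nat.pow_right_injective Fintype.one_lt_card h1).symm
  haveI := Subalgebra.isSimpleOrder_of_finrank_prime F₀ F (hfr ▸ hr)
  rcases eq_bot_or_eq_top A with hA | hA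
  · exfalso
    have h1 : μ ∈ (⊥ : Subalgebra F₀ F) := hA ▸ (show μ ∈ A from hH)
    obtain ⟨x, hx⟩ := Algebra.mem_bot.1 h1
    exact hμ (hx ▸ x.2)
  · refine specialLinear_le_of_elemAt H fun a b hab c => move hij hab ?_
    exact (show c ∈ A from hA ▸ Algebra.mem_top)

/-- An overgroup of the rational group is either rational or everything. -/
lemma subfield_dichotomy {r : ℕ} (hr : r.Prime) (hcard : Fintype.card F = Nat.card F₀ ^ r) (hι : Fintype.card ι = 4)
    {H : Subgroup (GL ι F)} (hle : H ≤ Cfsg.Geo.specialLinear ι F)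
    (hmem : ∀ g : GL ι F, g ∈ Cfsg.Geo.specialLinear ι F → RatUpToScalar F₀ g → g ∈ H) :
    (∀ g ∈ H, RatUpToScalar F₀ g) ∨ H = Cfsg.Geo.specialLinear ι F := by
  by_cases hroot : ∀ i j, i ≠ j → ∀ μ : F, Has H (Pi.single i μ) (Pi.single j 1) → μ ∈ F₀
  · left
    have h : Sub4 F₀ H := ⟨hle, hmem, hroot, hι.ge⟩
    intro g hg
    have key : ∀ i : ι, RatLine F₀ ((g : Matrix ι ι F) *ᵥ Pi.single i 1) := by
      intro i
      obtain ⟨q, hq, -⟩ := nm3 hι.ge i i i
      have h1 := (h.rat (ratV_single i F₀.one_mem) (ratV_single q F₀.one_mem) (by simp [hq])).conj hg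
      refine ratLine_of_vecMulVec (fun h0 => ?_) (h.transvection_rat hr hcard hι h1)
      have h3 := congrArg (fun v => v ᵥ* (g : Matrix ι ι F)) h0
      simp only [Matrix.vecMul_vecMul, Matrix.zero_vecMul, ← Units.val_mul, inv_mul_cancel, Units.val_one,
        Matrix.vecMul_one] at h3
      simpa using congrFun h3 q
    obtain ⟨i₁, i₂, hne⟩ := Fintype.exists_pair_of_one_lt_card (show 1 < Fintype.card ι by omega)
    exact h.rat_of_two hg hne (key i₁) (key i₂)
  · right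
    push Not at hroot
    obtain ⟨i, j, hij, μ, hH, hμ⟩ := hroot
    exact le_antisymm hle (specialLinear_le_of_big_root hr hcard hι.ge hmem hij hμ hH)

theorem subfieldSubgroup_maximal {r : ℕ} (hr : r.Prime) (hcard : Fintype.card F = Nat.card F₀ ^ r)
    (hι : Fintype.card ι = 4) (P : GL ι F) :
    Cfsg.Geo.IsMaximalIn (Cfsg.Geo.specialLinear ι F)
      (Cfsg.Geo.subfieldSubgroup F₀ P ⊓ Cfsg.Geo.specialLinear ι F) := by
  classical
  haveI hn : (Cfsg.Geo.specialLinear ι F).Normal := MonoidHom.normal_ker _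
  have hconj : ∀ {g : GL ι F}, g ∈ Cfsg.Geo.specialLinear ι F → P * g * P⁻¹ ∈ Cfsg.Geo.specialLinear ι F :=
    fun {g} hg => hn.conj_mem g hg P
  have hconj' : ∀ {g : GL ι F}, g ∈ Cfsg.Geo.specialLinear ι F → P⁻¹ * g * P ∈ Cfsg.Geo.specialLinear ι F :=
    fun {g} hg => hn.conj_mem' g hg P
  refine ⟨lt_of_le_of_ne inf_le_right fun heq => ?_, fun M hSM hMK => ?_⟩
  · obtain ⟨μ, hμ⟩ := exists_notMem_subfield hr hcard
    obtain ⟨i, j, hij⟩ := Fintype.exists_pair_of_one_lt_card (show 1 < Fintype.card ι by omega)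
    have hd : (Pi.single j 1 : ι → F) ⬝ᵥ Pi.single i μ = 0 := by simp [hij.symm]
    have hs := tv_mem_specialLinear _ _ hd
    have h1 : P * tv _ _ hd * P⁻¹ ∈ Cfsg.Geo.subfieldSubgroup F₀ P ⊓ Cfsg.Geo.specialLinear ι F :=
      (SetLike.ext_iff.1 heq _).2 (hconj hs)
    obtain ⟨c, hc, hrat⟩ := (mem_subfieldSubgroup_iff P _).1 h1.1
    rw [show P⁻¹ * (P * tv _ _ hd * P⁻¹) * P = tv _ _ hd by group, tv_val] at hrat
    have hii := hrat i i
    have hijm := hrat i j
    simp [Matrix.vecMulVec_apply, hij, hij.symm] at hii hijm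
    exact hμ (by
      have h2 := F₀.mul_mem (F₀.inv_mem hii) hijm
      rwa [← mul_assoc, inv_mul_cancel₀ hc, one_mul] at h2)
  · let H : Subgroup (GL ι F) := M.map (MulAut.conj P⁻¹).toMonoidHom
    have memH : ∀ g, g ∈ H ↔ P * g * P⁻¹ ∈ M := fun g => by
      constructor
      · rintro ⟨x, hx, rfl⟩
        simpa [MulAut.conj_apply, mul_assoc] using hx
      · intro hg; exact ⟨_, hg, by simp [MulAut.conj_apply, mul_assoc]⟩
    have hle : H ≤ Cfsg.Geo.specialLinear ι F := fun g hg => by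
      have := hconj' (hMK ((memH g).1 hg))
      rwa [show P⁻¹ * (P * g * P⁻¹) * P = g by group] at this
    have hmem : ∀ g : GL ι F, g ∈ Cfsg.Geo.specialLinear ι F → RatUpToScalar F₀ g → g ∈ H := fun g hg hrat =>
      (memH g).2 (hSM ⟨(mem_subfieldSubgroup_iff P _).2 (by
        rwa [show P⁻¹ * (P * g * P⁻¹) * P = g by group]), hconj hg⟩)
    rcases subfield_dichotomy hr hcard hι hle hmem with hall | htop
    · refine Or.inl (le_antisymm (fun g hg => ⟨(mem_subfieldSubgroup_iff P g).2 (hall _ ?_), hMK hg⟩) hSM)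
      rw [memH, show P * (P⁻¹ * g * P) * P⁻¹ = g by group]; exact hg
    · refine Or.inr (le_antisymm hMK fun g hg => ?_)
      have := (memH (P⁻¹ * g * P)).1 (htop ▸ hconj' hg)
      rwa [show P * (P⁻¹ * g * P) * P⁻¹ = g by group] at this

end CfsgLib.Maximal.SubFour
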