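import Mathlib
import Cfsg.Agent.Lib.Maximal.MonoMax
import Cfsg.Agent.Lib.Maximal.MonoFinal

/-!
In dimension four, over fields with at least seven elements, a subgroup of `SL` containing the monomial subgroup
and no elementary root subgroup is monomial.
-/

set_option autoImplicit false
set_option linter.unusedSectionVars false
set_option linter.unusedSimpArgs false

namespace CfsgLib.Maximal.MonoFour

open scoped Matrix

variable {ι : Type} [Fintype ι] [DecidableEq ι] {F : Type*} [Field F] [Fintype F]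
variable {H : Subgroup (GL ι F)}

/-- A pseudo-reflection with multiplier `u ^ 4`, scaled to determinant one, lies in `H`. -/
def ReflU (H : Subgroup (GL ι F)) (u : Fˣ) (a φ : ι → F) : Prop :=
  φ ⬝ᵥ a = 1 ∧ ∃ g ∈ H, (g : Matrix ι ι F) = (u : F)⁻¹ • (1 + ((u : F) ^ 4 - 1) • Matrix.vecMulVec a φ)

variable {u : Fˣ} {a φ : ι → F}

lemma ReflU.inv_val (h : ReflU H u a φ) : ∃ g ∈ H,
    (g : Matrix ι ι F) = (u : F)⁻¹ • (1 + ((u : F) ^ 4 - 1) • Matrix.vecMulVec a φ) ∧
    ((g⁻¹ : GL ι F) : Matrix ι ι F) = (u : F) • (1 + (((u : F) ^ 4)⁻¹ - 1) • Matrix.vecMulVec a φ) := by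
  obtain ⟨g, hg, hv⟩ := h.2
  refine ⟨g, hg, hv, Units.inv_eq_of_mul_eq_one_right ?_⟩
  have hu : (u : F) ≠ 0 := u.ne_zero
  rw [hv, smul_mul_assoc, mul_smul_comm, smul_smul, inv_mul_cancel₀ hu, one_smul, refl_prod, h.1, mul_one,
    add_assoc, add_assoc, ← add_smul, ← add_smul]
  have : ((u : F) ^ 4 - 1) + ((((u : F) ^ 4)⁻¹ - 1) + ((u : F) ^ 4 - 1) * (((u : F) ^ 4)⁻¹ - 1)) = 0 := by
    field_simp; ring
  rw [this, zero_smul, add_zero]

lemma ReflU.conj (h : ReflU H u a φ) {g : GL ι F} (hg : g ∈ H) :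
    ReflU H u ((g : Matrix ι ι F) *ᵥ a) (φ ᵥ* ((g⁻¹ : GL ι F) : Matrix ι ι F)) := by
  refine ⟨by rw [dot_vecMul_inv, h.1], ?_⟩
  obtain ⟨r, hr, hv⟩ := h.2
  refine ⟨g * r * g⁻¹, mul_mem (mul_mem hg hr) (inv_mem hg), ?_⟩
  rw [Units.val_mul, Units.val_mul, hv, mul_smul_comm, smul_mul_assoc, mul_add, add_mul, mul_one,
    ← Units.val_mul, mul_inv_cancel, Units.val_one, mul_smul_comm, smul_mul_assoc, Matrix.mul_vecMulVec,
    Matrix.vecMulVec_mul]

lemma ReflU.rescale {b ψ : ι → F} {c : F} (hc : c ≠ 0) (h : ReflU H u (c • b) (c⁻¹ • ψ)) : ReflU H u b ψ := by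
  obtain ⟨h1, g, hg, hv⟩ := h
  rw [smul_dotProduct, dotProduct_smul, smul_smul, inv_mul_cancel₀ hc, one_smul] at h1
  refine ⟨h1, g, hg, ?_⟩
  rw [hv, Matrix.smul_vecMulVec, Matrix.vecMulVec_smul, smul_smul c c⁻¹, mul_inv_cancel₀ hc, one_smul]

lemma ReflU.has_axis {φ' : ι → F} (h : ReflU H u a φ) (h' : ReflU H u a φ') :
    Has H (((u : F) ^ 4 - 1) • a) (φ' - φ) := by
  obtain ⟨g, hg, hgv⟩ := h'.2
  obtain ⟨r, hr, -, hrv⟩ := h.inv_val
  have h0 : (φ' - φ) ⬝ᵥ (((u : F) ^ 4 - 1) • a) = 0 := by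
    rw [dotProduct_smul, sub_dotProduct, h.1, h'.1, sub_self, smul_zero]
  refine ⟨h0, ?_⟩
  convert mul_mem hg (inv_mem hr) using 1
  refine Units.ext ?_
  rw [tv_val, Units.val_mul, hgv, hrv, smul_mul_assoc, mul_smul_comm, smul_smul, inv_mul_cancel₀ u.ne_zero,
    one_smul, refl_prod, h'.1, mul_one]
  have hu : (u : F) ≠ 0 := u.ne_zero
  rw [add_assoc _ ((((u : F) ^ 4)⁻¹ - 1) • _), ← add_smul,
    show (((u : F) ^ 4)⁻¹ - 1) + ((u : F) ^ 4 - 1) * (((u : F) ^ 4)⁻¹ - 1) = -((u : F) ^ 4 - 1) by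
      field_simp; ring,
    Matrix.smul_vecMulVec, Matrix.vecMulVec_sub]
  module

lemma ReflU.has_centre {a' : ι → F} (h : ReflU H u a φ) (h' : ReflU H u a' φ) :
    Has H (((u : F) ^ 4 - 1) • (a' - a)) φ := by
  obtain ⟨r, hr, -, hrv⟩ := h.inv_val
  obtain ⟨g, hg, hgv⟩ := h'.2
  have h0 : φ ⬝ᵥ (((u : F) ^ 4 - 1) • (a' - a)) = 0 := by
    rw [dotProduct_smul, dotProduct_sub, h.1, h'.1, sub_self, smul_zero]
  refine ⟨h0, ?_⟩
  convert mul_mem (inv_mem hr) hg using 1
  refine Units.ext ?_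
  rw [tv_val, Units.val_mul, hgv, hrv, smul_mul_assoc, mul_smul_comm, smul_smul, mul_inv_cancel₀ u.ne_zero,
    one_smul, refl_prod, h'.1, mul_one]
  have hu : (u : F) ≠ 0 := u.ne_zero
  rw [add_right_comm _ (((u : F) ^ 4 - 1) • _), add_assoc _ ((((u : F) ^ 4)⁻¹ - 1) • _), ← add_smul,
    show (((u : F) ^ 4)⁻¹ - 1) + (((u : F) ^ 4)⁻¹ - 1) * ((u : F) ^ 4 - 1) = -((u : F) ^ 4 - 1) by
      field_simp; ring,
    Matrix.smul_vecMulVec, Matrix.sub_vecMulVec]
  module

/-- The scaled diagonal reflection at `r`. -/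
def dS (u : Fˣ) (r : ι) : ι → Fˣ := fun l => u⁻¹ * single₁ r (u ^ 4) l

lemma dS_mem (hH : MonoOver H) (hι : Fintype.card ι = 4) (u : Fˣ) (r : ι) : monoGL 1 (dS u r) ∈ H := by
  refine hH.mono _ _ (monoGL_one_mem_specialLinear _ ?_)
  simp [dS, Finset.prod_mul_distrib, prod_single₁, hι]

lemma refl_of_col (hH : MonoOver H) (hι : Fintype.card ι = 4) (u : Fˣ) {A : GL ι F} (hA : A ∈ H) (k : ι) :
    ReflU H u (fun i => (A : Matrix ι ι F) i k) (fun i => ((A⁻¹ : GL ι F) : Matrix ι ι F) k i) := by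
  have h0 : ReflU H u (Pi.single k (1 : F)) (Pi.single k (1 : F)) := by
    refine ⟨by simp, monoGL 1 (dS u k), dS_mem hH hι u k, Matrix.ext fun l m => ?_⟩
    rcases eq_or_ne l m with rfl | hlm
    · rcases eq_or_ne l k with rfl | hlk
      · simp [monoGL_val, monoMat, dS, single₁_self, Matrix.vecMulVec_apply]
      · simp [monoGL_val, monoMat, dS, single₁_of_ne hlk, Matrix.vecMulVec_apply, hlk]
    · rcases eq_or_ne l k with rfl | hlk <;>
        simp [monoGL_val, monoMat, Matrix.vecMulVec_apply, hlm, hlm.symm, *]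
  have h1 := h0.conj hA
  rw [Matrix.mulVec_single_one, Matrix.single_one_vecMul] at h1
  exact h1

variable (hH : MonoOver H) (hq : 7 ≤ Fintype.card F) (hι : Fintype.card ι = 4) (hu : (u : F) ^ 4 ≠ 1)

include hH hq hι hu

/-- A transvection's axis cannot vanish where its centre does not. -/
lemma kill {b χ : ι → F} (h : Has H b χ) {r : ι} (hb : b r ≠ 0) (hχ : χ r = 0) : χ = 0 := by
  have h1 := h.conj_diag (dS_mem hH hι u r)
  have hu0 : (u : F) ≠ 0 := u.ne_zero
  have h2 : Has H ((u : F)⁻¹ • fun l => ((single₁ r (u ^ 4) l : Fˣ) : F) * b l) ((u : F) • χ) := by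
    refine h1.congr (funext fun l => ?_) (funext fun l => ?_)
    · simp [dS, mul_assoc]
    · rcases eq_or_ne l r with rfl | hl
      · simp [hχ]
      · simp [dS, single₁_of_ne hl, mul_comm]
  rw [← Has.smul_iff, smul_smul, mul_inv_cancel₀ hu0, one_smul] at h2
  have h3 : Has H ((((u : F) ^ 4 - 1) * b r) • (Pi.single r 1 : ι → F)) χ := by
    refine (h2.sub_left h).congr (funext fun l => ?_) rfl
    rcases eq_or_ne l r with rfl | hl
    · simp [single₁_self]; ring
    · simp [single₁_of_ne hl, hl]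
  rw [Has.smul_iff] at h3
  exact (smul_eq_zero.1 (hH.single_centre (by omega) (by omega) h3)).resolve_left
    (mul_ne_zero (sub_ne_zero.2 hu) hb)

lemma supp_iff (h : ReflU H u a φ) (l : ι) : a l = 0 ↔ φ l = 0 := by
  have hu0 : (u : F) ≠ 0 := u.ne_zero
  have he : (u : F) ^ 4 - 1 ≠ 0 := sub_ne_zero.2 hu
  have h2 := h.conj (dS_mem hH hι u l)
  have e1 : ((monoGL 1 (dS u l) : GL ι F) : Matrix ι ι F) *ᵥ a =
      (u : F)⁻¹ • (a + (Pi.single l (((u : F) ^ 4 - 1) * a l) : ι → F)) := funext fun m => by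
    rw [monoGL_val, monoMat_one_mulVec]
    rcases eq_or_ne m l with hm | hm
    · subst hm; simp [dS, single₁_self]; ring
    · simp [dS, single₁_of_ne hm, hm]
  have e2 : φ ᵥ* (((monoGL 1 (dS u l))⁻¹ : GL ι F) : Matrix ι ι F) =
      ((u : F)⁻¹)⁻¹ • (φ + (Pi.single l ((((u : F) ^ 4)⁻¹ - 1) * φ l) : ι → F)) := funext fun m => by
    rw [monoGL_inv_val, vecMul_monoMat]
    rcases eq_or_ne m l with hm | hm
    · subst hm; simp [dS, single₁_self]; ring
    · simp [dS, single₁_of_ne hm, hm, mul_comm]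
  rw [e1, e2] at h2
  have h3 := h2.rescale (inv_ne_zero hu0)
  constructor
  · intro hl
    rw [hl, mul_zero, Pi.single_zero, add_zero] at h3
    obtain ⟨r, hr⟩ : ∃ r, a r ≠ 0 := by
      by_contra hc
      push Not at hc
      have := h.1
      rw [show a = 0 from funext hc] at this
      simp at this
    have hrl : r ≠ l := fun e => hr (e ▸ hl)
    have h4 := congrFun (kill hH hq hι hu (h.has_axis h3) (r := r) (by simp [he, hr]) (by simp [hrl])) l
    simp at h4
    exact h4.resolve_left fun e => hu (inv_eq_one.1 (sub_eq_zero.1 e))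
  · intro hl
    rw [hl, mul_zero, Pi.single_zero, add_zero] at h3
    by_contra hne
    have h4 := h.has_centre h3
    rw [add_sub_cancel_left, ← Pi.single_smul', ← mul_one (_ • _ : F), ← smul_eq_mul, Pi.single_smul',
      Has.smul_iff] at h4
    have h5 := hH.single_centre (by omega) (by omega) h4
    rw [smul_eq_zero] at h5
    rcases h5 with h5 | h5
    · exact hne (by simpa [he] using h5)
    · simpa [h5] using h.1

/-- A monomial element of `H` fixing the centre preserves the products. -/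
lemma prod_of_fix (h : ReflU H u a φ) {σ : Equiv.Perm ι} {v : ι → Fˣ} (hM : monoGL σ v ∈ H)
    (hfix : ∀ x, (v x : F) * a x = a (σ x)) {r : ι} (hr : σ r = r) (har : a r ≠ 0) (l : ι) :
    a l * φ l = a (σ l) * φ (σ l) := by
  have h2 := h.conj hM
  have e1 : ((monoGL σ v : GL ι F) : Matrix ι ι F) *ᵥ a = a := funext fun x => by
    rw [monoGL_val, monoMat_mulVec', hfix, Equiv.apply_symm_apply]
  rw [e1] at h2
  have hvr : (v r : F) = 1 := by
    have := hfix r
    rw [hr] at this
    exact (mul_eq_right₀ har).1 this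
  have hχr : (φ ᵥ* (((monoGL σ v)⁻¹ : GL ι F) : Matrix ι ι F) - φ) r = 0 := by
    have hr' : σ⁻¹ r = r := by rw [Equiv.Perm.inv_eq_iff_eq, hr]
    rw [Pi.sub_apply, monoGL_inv_val, vecMul_monoMat]
    simp [hr', hvr]
  have h4 := congrFun (kill hH hq hι hu (h.has_axis h2) (r := r)
    (by simp [sub_ne_zero.2 hu, har]) hχr) (σ l)
  rw [Pi.sub_apply, monoGL_inv_val, vecMul_monoMat] at h4
  simp [sub_eq_zero, Equiv.Perm.inv_def] at h4
  rw [← h4, ← hfix l]
  have := (v l).ne_zero
  field_simp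

/-- The products are constant on a support with at least three points. -/
lemma prod_eq (h : ReflU H u a φ) {l p r : ι} (hlp : l ≠ p) (hlr : l ≠ r) (hpr : p ≠ r)
    (hl : a l ≠ 0) (hp : a p ≠ 0) (hr : a r ≠ 0) : a l * φ l = a p * φ p := by
  classical
  obtain ⟨o, hol, hop, hor⟩ := exists_three_ne (by omega) l p r
  have huniv : (Finset.univ : Finset ι) = {l, p, r, o} := (Finset.eq_univ_of_card _ (by
    rw [hι]; simp [hlp, hlr, hpr, hol.symm, hop.symm, hor.symm])).symm
  by_cases ho : a o = 0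
  · let v : ι → Fˣ := fun x => if x = l then Units.mk0 (a p / a l) (div_ne_zero hp hl) else
      if x = p then Units.mk0 (a l / a p) (div_ne_zero hl hp) else if x = o then -1 else 1
    have hM : monoGL (Equiv.swap l p) v ∈ H := hH.mono _ _ <| by
      rw [monoGL_mem_specialLinear_iff, Equiv.Perm.sign_swap hlp, huniv]
      simp [v, Finset.prod_insert, hlp, hlr, hpr, hlp.symm, hlr.symm, hpr.symm, hol, hop, hor, hol.symm,
        hop.symm, hor.symm]
      field_simp
    have := prod_of_fix hH hq hι hu h hM (fun x => ?_) (r := r)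
      (Equiv.swap_apply_of_ne_of_ne hlr.symm hpr.symm) hr l
    · rwa [Equiv.swap_apply_left] at this
    · rcases eq_or_ne x l with rfl | h1
      · simp [v, hl]
      rcases eq_or_ne x p with rfl | h2
      · simp [v, h1, hp]
      rw [Equiv.swap_apply_of_ne_of_ne h1 h2]
      rcases eq_or_ne x o with rfl | h3
      · simp [v, ho]
      · simp [v, h1, h2, h3]
  · set σ : Equiv.Perm ι := Equiv.swap l p * Equiv.swap p r with hσ
    have hσl : σ l = p := by simp [hσ, Equiv.Perm.mul_apply, Equiv.swap_apply_of_ne_of_ne hlp hlr]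
    have hσo : σ o = o := by
      simp [hσ, Equiv.Perm.mul_apply, Equiv.swap_apply_of_ne_of_ne hop hor, Equiv.swap_apply_of_ne_of_ne hol hop]
    have hall : ∀ x, a x ≠ 0 := fun x => by
      have hx : x ∈ ({l, p, r, o} : Finset ι) := huniv ▸ Finset.mem_univ x
      simp at hx
      rcases hx with rfl | rfl | rfl | rfl <;> assumption
    let v : ι → Fˣ := fun x => Units.mk0 (a (σ x) / a x) (div_ne_zero (hall _) (hall _))
    have hM : monoGL σ v ∈ H := hH.mono _ _ <| by
      rw [monoGL_mem_specialLinear_iff]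
      simp only [v, Units.val_mk0, Finset.prod_div_distrib]
      rw [Equiv.prod_comp σ a, div_self (Finset.prod_ne_zero_iff.2 fun x _ => hall x), mul_one, hσ,
        Equiv.Perm.sign_mul, Equiv.Perm.sign_swap hlp, Equiv.Perm.sign_swap hpr]
      simp
    have := prod_of_fix hH hq hι hu h hM (fun x => by simp [v, hall x]) hσo ho l
    rwa [hσl] at this

omit hq hι hu in
/-- Conjugating a family by a conjugate of itself. -/
lemma step (h : ReflU H u a φ) {d : ι → Fˣ} (hd : monoGL 1 d ∈ H) :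
    ReflU H u (fun l => a l * (1 + ((u : F) ^ 4 - 1) * (∑ x, a x * φ x / (d x : F)) * (d l : F)))
      (fun l => φ l * (1 + (((u : F) ^ 4)⁻¹ - 1) * (∑ x, a x * φ x * (d x : F)) / (d l : F))) := by
  obtain ⟨r, hr, hrv, hri⟩ := (h.conj hd).inv_val
  have h4 := h.conj hr
  rw [hrv, hri] at h4
  refine (?_ : ReflU H u _ _).rescale (c := (u : F)⁻¹) (inv_ne_zero u.ne_zero)
  convert h4 using 1
  · rw [Matrix.smul_mulVec, Matrix.add_mulVec, Matrix.one_mulVec, Matrix.smul_mulVec, Matrix.vecMulVec_mulVec,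
      op_smul_eq_smul, smul_smul]
    funext l
    simp only [Pi.smul_apply, Pi.add_apply, smul_eq_mul, monoGL_val, monoMat_one_mulVec, monoGL_inv_val,
      vecMul_monoMat, dotProduct, inv_one, Equiv.Perm.one_apply]
    rw [show (∑ x, φ x * (((d x)⁻¹ : Fˣ) : F) * a x) = ∑ x, a x * φ x / (d x : F) from
      Finset.sum_congr rfl fun x _ => by simp [div_eq_mul_inv]; ring]
    ring
  · rw [inv_inv, Matrix.vecMul_smul, Matrix.vecMul_add, Matrix.vecMul_one, Matrix.vecMul_smul,
      Matrix.vecMul_vecMulVec, smul_smul]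
    funext l
    simp only [Pi.smul_apply, Pi.add_apply, smul_eq_mul, monoGL_val, monoMat_one_mulVec, monoGL_inv_val,
      vecMul_monoMat, dotProduct, inv_one, Equiv.Perm.one_apply]
    rw [show (∑ x, φ x * ((d x : F) * a x)) = ∑ x, a x * φ x * (d x : F) from
      Finset.sum_congr rfl fun x _ => by ring]
    simp [div_eq_mul_inv]
    ring

/-- Some element of `H` with a non-monomial one has a column with three non-zero entries. -/
lemma three_support {g : GL ι F} (hg : g ∈ H) (hgm : ¬ IsMono g) :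
    ∃ h ∈ H, ∃ k l p r : ι, l ≠ p ∧ l ≠ r ∧ p ≠ r ∧ (h : Matrix ι ι F) l k ≠ 0 ∧
      (h : Matrix ι ι F) p k ≠ 0 ∧ (h : Matrix ι ι F) r k ≠ 0 := by
  classical
  set G : Matrix ι ι F := (g : Matrix ι ι F)
  obtain ⟨k, hk⟩ : ∃ k, ∀ i, ∃ l, l ≠ i ∧ G l k ≠ 0 := by
    simp only [IsMono] at hgm; push Not at hgm; exact hgm
  obtain ⟨p, -, hp⟩ := hk k
  obtain ⟨q, hqp, hq'⟩ := hk p
  let S : ι → Finset ι := fun j => Finset.univ.filter fun x => G x j ≠ 0
  by_cases h3 : 3 ≤ (S k).card
  · obtain ⟨x, y, z, hx, hy, hz, hxy, hxz, hyz⟩ := Finset.two_lt_card_iff.1 h3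
    simp [S] at hx hy hz
    exact ⟨g, hg, k, x, y, z, hxy, hxz, hyz, hx, hy, hz⟩
  have hSk : S k = {p, q} := by
    refine (Finset.eq_of_subset_of_card_le (by simp [Finset.insert_subset_iff, S, hp, hq']) ?_).symm
    rw [Finset.card_pair hqp.symm]; omega
  obtain ⟨i, j, hij, hun⟩ : ∃ i j, i ≠ j ∧ 3 ≤ (S i ∪ S j).card := by
    by_contra hc
    push Not at hc
    have hsub : ∀ j, S j ⊆ {p, q} := by
      intro j
      rcases eq_or_ne k j with rfl | hjk
      · rw [hSk]
      have := hc k j hjk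
      rw [hSk] at this
      have he : ({p, q} : Finset ι) = {p, q} ∪ S j :=
        Finset.eq_of_subset_of_card_le Finset.subset_union_left (by rw [Finset.card_pair hqp.symm]; omega)
      exact fun x hx => he ▸ Finset.mem_union_right _ hx
    obtain ⟨w, hw⟩ := exists_three_ne (by omega) p q q
    obtain ⟨j, hj⟩ := exists_row_ne_zero g w
    have := hsub j (by simpa [S] using hj)
    simp [hw.1, hw.2.1] at this
  -- a combination of the two columns without cancellation
  obtain ⟨t, ht⟩ := exists_notMem_of_card_le (insert (0 : F) (Finset.univ.image fun x => -(G x i) / G x j)) 5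
    (le_trans (Finset.card_insert_le _ _) (by
      have := Finset.card_image_le (s := (Finset.univ : Finset ι)) (f := fun x => -(G x i) / G x j)
      rw [Finset.card_univ, hι] at this
      omega)) (by omega)
  simp at ht
  obtain ⟨τ, hτp, hτq⟩ : ∃ τ : Equiv.Perm ι, τ p = i ∧ τ q = j := by
    let τ₁ := Equiv.swap p i
    refine ⟨Equiv.swap (τ₁ q) j * τ₁, ?_, by simp⟩
    rw [Equiv.Perm.mul_apply, show τ₁ p = i from Equiv.swap_apply_left _ _]
    exact Equiv.swap_apply_of_ne_of_ne (fun e => hqp (τ₁.injective ((Equiv.swap_apply_left _ _).trans e)).symm) hij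
  obtain ⟨w, hwp, hwq, -⟩ := exists_three_ne (by omega) p q q
  let x₁ : Fˣ := (Units.mk0 _ hp)⁻¹
  let y₁ : Fˣ := Units.mk0 t ht.1 * (Units.mk0 _ hq')⁻¹
  let v : ι → Fˣ := fun z => if z = p then x₁ else if z = q then y₁ else
    if z = w then (Units.map (Int.castRingHom F).toMonoidHom (Equiv.Perm.sign τ) * (x₁ * y₁))⁻¹ else 1
  have hM : monoGL τ v ∈ H := hH.mono _ _ <| by
    have hprod : ∏ z, v z = x₁ * y₁ * (Units.map (Int.castRingHom F).toMonoidHom (Equiv.Perm.sign τ) * (x₁ * y₁))⁻¹ := by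
      rw [← Finset.prod_subset (Finset.subset_univ ({p, q, w} : Finset ι)) (fun z _ hz => by
        simp at hz; simp [v, hz.1, hz.2.1, hz.2.2])]
      simp [v, Finset.prod_insert, hqp, hqp.symm, hwp, hwq, hwp.symm, hwq.symm, mul_assoc]
    rw [monoGL_mem_specialLinear_iff, ← Units.coe_prod, hprod]
    rcases Int.units_eq_one_or (Equiv.Perm.sign τ) with e | e <;> simp [e] <;> field_simp
  refine ⟨g * monoGL τ v * g, mul_mem (mul_mem hg hM) hg, k, ?_⟩
  have hcolk : (fun x => G x k) = Pi.single p (G p k) + Pi.single q (G q k) := funext fun x => by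
    rcases eq_or_ne x p with rfl | h1
    · simp [hqp.symm]
    rcases eq_or_ne x q with rfl | h2
    · simp [h1]
    · have : x ∉ S k := by rw [hSk]; simp [h1, h2]
      simp [S] at this
      simp [h1, h2, this]
  have hentry : ∀ x, ((g * monoGL τ v * g : GL ι F) : Matrix ι ι F) x k = G x i + t * G x j := by
    intro x
    have e : ((g * monoGL τ v * g : GL ι F) : Matrix ι ι F) *ᵥ Pi.single k 1 =
        G *ᵥ (Pi.single i 1 + Pi.single j t) := by
      rw [Units.val_mul, Units.val_mul, ← Matrix.mulVec_mulVec, ← Matrix.mulVec_mulVec, col_mulVec, hcolk]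
      congr 1
      funext z
      rw [monoGL_val, monoMat_mulVec']
      rcases eq_or_ne z i with rfl | h1
      · rw [show τ.symm z = p by rw [← hτp, Equiv.symm_apply_apply]]
        simp [v, x₁, hqp.symm, hij, hp]
      rcases eq_or_ne z j with rfl | h2
      · rw [show τ.symm z = q by rw [← hτq, Equiv.symm_apply_apply]]
        simp [v, y₁, hqp, h1, hq']
      · have n1 : τ.symm z ≠ p := fun e => h1 (by rw [← hτp, ← e, Equiv.apply_symm_apply])
        have n2 : τ.symm z ≠ q := fun e => h2 (by rw [← hτq, ← e, Equiv.apply_symm_apply])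
        simp [n1, n2, h1, h2]
    have := congrFun e x
    rw [col_mulVec, Matrix.mulVec_add, col_mulVec, mulVec_single'] at this
    exact this
  obtain ⟨x, y, z, hx, hy, hz, hxy, hxz, hyz⟩ := Finset.two_lt_card_iff.1 hun
  have hne : ∀ x, x ∈ S i ∪ S j → G x i + t * G x j ≠ 0 := by
    intro x hx h0
    simp [S] at hx
    by_cases hj0 : G x j = 0
    · rw [hj0, mul_zero, add_zero] at h0
      exact (hx.resolve_right (by simp [hj0])) h0
    · exact ht.2 x (by field_simp; linear_combination -h0)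
  exact ⟨x, y, z, hxy, hxz, hyz, by rw [hentry]; exact hne x hx, by rw [hentry]; exact hne y hy,
    by rw [hentry]; exact hne z hz⟩

/-- A family with three points in its centre's support is impossible. -/
lemma no_refl (h : ReflU H u a φ) {l₁ l₂ l₃ : ι} (h12 : l₁ ≠ l₂) (h13 : l₁ ≠ l₃) (h23 : l₂ ≠ l₃)
    (h1 : a l₁ ≠ 0) (h2 : a l₂ ≠ 0) (h3 : a l₃ ≠ 0) : False := by
  classical
  obtain ⟨o, ho1, ho2, ho3⟩ := exists_three_ne (by omega) l₁ l₂ l₃
  have huniv : (Finset.univ : Finset ι) = {l₁, l₂, l₃, o} := (Finset.eq_univ_of_card _ (by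
    rw [hι]; simp [h12, h13, h23, ho1.symm, ho2.symm, ho3.symm])).symm
  set c := a l₁ * φ l₁ with hc
  have hφ1 : φ l₁ ≠ 0 := fun e => h1 ((supp_iff hH hq hι hu h l₁).2 e)
  have hc0 : c ≠ 0 := mul_ne_zero h1 hφ1
  have c2 : a l₂ * φ l₂ = c := prod_eq hH hq hι hu h h12.symm h23 h13 h2 h1 h3
  have c3 : a l₃ * φ l₃ = c := prod_eq hH hq hι hu h h13.symm h23.symm h12 h3 h1 h2
  have hdot : φ ⬝ᵥ a = 1 := h.1
  rw [dotProduct, huniv, Finset.sum_insert (by simp [h12, h13, ho1.symm]),
    Finset.sum_insert (by simp [h23, ho2.symm]), Finset.sum_pair ho3.symm] at hdot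
  have hsum : ∀ f : ι → F, ∑ x, a x * φ x * f x = c * (f l₁ + f l₂ + f l₃) + a o * φ o * f o := by
    intro f
    rw [huniv, Finset.sum_insert (by simp [h12, h13, ho1.symm]),
      Finset.sum_insert (by simp [h23, ho2.symm]), Finset.sum_pair ho3.symm, c2, c3]
    ring
  set e : F := (u : F) ^ 4
  have he0 : e ≠ 0 := pow_ne_zero _ u.ne_zero
  have he1 : e - 1 ≠ 0 := sub_ne_zero.2 hu
  by_cases ho : a o = 0
  · rw [ho] at hdot hsum
    have hc3 : 3 * c = 1 := by linear_combination hdot - c2 - c3 + 2 * hc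
    obtain ⟨t, ht⟩ := exists_notMem_of_card_le ({0, 1, -((e - 1) * c) / (1 + 2 * ((e - 1) * c)),
      -(1 + (e - 1) * c) / (2 * ((e - 1) * c)), -(e + 2) / (2 * e + 1)} : Finset F) 5 Finset.card_le_five (by omega)
    simp only [Finset.mem_insert, Finset.mem_singleton, not_or] at ht
    obtain ⟨t0, t1, t2, t3, t4⟩ := ht
    have hlin : ∀ α β : F, (α ≠ 0 ∨ β ≠ 0) → t ≠ -β / α → α * t + β ≠ 0 := by
      intro α β hαβ hne h0
      by_cases hα : α = 0
      · rw [hα, zero_mul, zero_add] at h0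
        exact hαβ.elim (fun e => e hα) (fun e => e h0)
      · exact hne (by field_simp; linear_combination h0)
    have h' := step hH h (hH.pair_mem l₁ o (Units.mk0 t t0))
    have d1 : (pair₁ l₁ o (Units.mk0 t t0) l₁ : F) = t := by rw [pair₁_left ho1.symm]; rfl
    have d2 : (pair₁ l₁ o (Units.mk0 t t0) l₂ : F) = 1 := by rw [pair₁_of_ne h12.symm ho2.symm]; rfl
    have d3 : (pair₁ l₁ o (Units.mk0 t t0) l₃ : F) = 1 := by rw [pair₁_of_ne h13.symm ho3.symm]; rfl
    simp only [div_eq_mul_inv (_ * φ _), hsum, d1, d2, d3, zero_mul, add_zero, inv_one] at h'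
    set X := (e - 1) * (c * (t⁻¹ + 1 + 1))
    set Y := (e⁻¹ - 1) * (c * (t + 1 + 1))
    have n1 : 1 + X ≠ 0 := fun h0 => hlin (1 + 2 * ((e - 1) * c)) ((e - 1) * c)
      (Or.inr (mul_ne_zero he1 hc0)) t2 (by simp only [X] at h0; field_simp at h0; linear_combination h0)
    have n2 : 1 + X * t ≠ 0 := fun h0 => hlin (2 * ((e - 1) * c)) (1 + (e - 1) * c) (by
        by_cases h2 : (2 : F) = 0
        · exact Or.inr fun h0 => he0 (by linear_combination h0 + (e - 1) * (-(c * h2) + hc3) * (-1))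
        · exact Or.inl (mul_ne_zero h2 (mul_ne_zero he1 hc0)))
      t3 (by simp only [X] at h0; field_simp at h0; linear_combination h0)
    have key := prod_eq hH hq hι hu h' h12 h13 h23 (by simp [d1, h1, n2]) (by simp [d2, h2, n1])
      (by simp [d3, h3, n1])
    simp only [d1, d2, mul_one, div_one] at key
    have key2 : (1 + X * t) * (1 + Y / t) = (1 + X) * (1 + Y) := mul_left_cancel₀ hc0 (by
      linear_combination key + (1 + X) * (1 + Y) * c2)
    have key3 : (t - 1) * (X * t - Y) = 0 := by field_simp at key2; linear_combination key2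
    have key4 := (mul_eq_zero.1 key3).resolve_left (sub_ne_zero.2 t1)
    refine hlin (2 * e + 1) (e + 2) ?_ t4 ?_
    · by_contra h0
      push Not at h0
      exact one_ne_zero (α := F) (by linear_combination -hc3 + c * (2 * h0.2 - h0.1))
    · simp only [X, Y] at key4
      field_simp at key4
      have h5 : (e - 1) * c * ((2 * e + 1) * t + (e + 2)) = 0 := by linear_combination key4
      exact (mul_eq_zero.1 h5).resolve_left (mul_ne_zero he1 hc0)
  · have c4 : a o * φ o = c := prod_eq hH hq hι hu h ho1 ho2 h12 ho h1 h2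
    have hc4 : 4 * c = 1 := by linear_combination hdot - c2 - c3 - c4 + 3 * hc
    have h20 : (2 : F) ≠ 0 := fun h0 => one_ne_zero (α := F) (by linear_combination -hc4 + 2 * c * h0)
    obtain ⟨w, hw⟩ : ∃ w : F, w = if e = -1 then -1 else -e⁻¹ := ⟨_, rfl⟩
    obtain ⟨r, hr⟩ : ∃ r : F, ∀ t : F, t * t = w → t = r ∨ t = -r := by
      by_cases hex : ∃ r, r * r = w
      · obtain ⟨r, hr⟩ := hex
        exact ⟨r, fun t ht => mul_self_eq_mul_self_iff.1 (ht.trans hr.symm)⟩
      · exact ⟨0, fun t ht => absurd ⟨t, ht⟩ hex⟩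
    obtain ⟨t, ht⟩ := exists_notMem_of_card_le ({0, 1, -1, -e⁻¹, r, -r} : Finset F) 6 Finset.card_le_six (by omega)
    simp only [Finset.mem_insert, Finset.mem_singleton, not_or] at ht
    obtain ⟨t0, t1, tm, te, tr, tr'⟩ := ht
    have tw : t * t ≠ w := fun h0 => (hr t h0).elim tr tr'
    have h' := step hH h (hH.pair_mem l₁ l₂ (Units.mk0 t t0))
    have d1 : (pair₁ l₁ l₂ (Units.mk0 t t0) l₁ : F) = t := by rw [pair₁_left h12]; rfl
    have d2 : (pair₁ l₁ l₂ (Units.mk0 t t0) l₂ : F) = t⁻¹ := by rw [pair₁_right h12]; rfl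
    have d3 : (pair₁ l₁ l₂ (Units.mk0 t t0) l₃ : F) = 1 := by rw [pair₁_of_ne h13.symm h23.symm]; rfl
    have d4 : (pair₁ l₁ l₂ (Units.mk0 t t0) o : F) = 1 := by rw [pair₁_of_ne ho1 ho2]; rfl
    simp only [div_eq_mul_inv (_ * φ _), hsum, d1, d2, d3, d4, inv_one, inv_inv, c4, mul_one] at h'
    set s := t + t⁻¹ + 2 with hs
    set X := (e - 1) * (c * s) with hX
    have hs0 : s ≠ 0 := fun h0 => tm (by
      rw [hs] at h0; field_simp at h0
      have : (t + 1) * (t + 1) = 0 := by linear_combination h0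
      exact eq_neg_of_add_eq_zero_left (mul_self_eq_zero.1 this))
    have hX0 : X ≠ 0 := mul_ne_zero he1 (mul_ne_zero hc0 hs0)
    rw [show (e - 1) * (c * (t⁻¹ + t + 1) + c) = X by rw [hX, hs]; ring,
      show (e⁻¹ - 1) * (c * (t + t⁻¹ + 1) + c) = -X / e by rw [hX, hs]; field_simp; ring] at h'
    have n1 : 1 + X ≠ 0 := fun h0 => by
      have hXm : X = -1 := by linear_combination h0
      have h5 := (supp_iff hH hq hι hu h' l₃).1 (by simp [d3, h0])
      have hφ3 : φ l₃ ≠ 0 := fun e => h3 ((supp_iff hH hq hι hu h l₃).2 e)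
      simp [d3, hXm, hφ3] at h5
      have hem : e = -1 := by field_simp at h5; linear_combination h5
      apply tw
      rw [hw, if_pos hem]
      rw [hX, hem, hs] at hXm
      field_simp at hXm
      linear_combination -2 * hXm - hc4 * (t + 1) * (t + 1)
    have n2 : 1 + X * t ≠ 0 := fun h0 => by
      have h5 := (supp_iff hH hq hι hu h' l₁).1 (by simp [d1, h0])
      simp [d1, hφ1] at h5
      field_simp at h5
      have h6 : e * (t * t) = -1 := by linear_combination t * h5 + h0
      apply tw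
      by_cases hem : e = -1
      · exfalso
        rw [hem] at h6
        rcases mul_self_eq_one_iff.1 (show t * t = 1 by linear_combination -h6) with h7 | h7
        · exact t1 h7
        · exact tm h7
      · rw [hw, if_neg hem]
        field_simp
        linear_combination h6
    have key := prod_eq hH hq hι hu h' h13 ho1.symm ho3.symm (by simp [d1, h1, n2]) (by simp [d3, h3, n1])
      (by simp [d4, ho, n1])
    simp only [d1, d3, mul_one, div_one] at key
    have key2 : (1 + X * t) * (1 + -X / e / t) = (1 + X) * (1 + -X / e) := mul_left_cancel₀ hc0 (by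
      linear_combination key + (1 + X) * (1 + -X / e) * c3)
    have key3 : X * ((t - 1) * (e * t + 1)) = 0 := by field_simp at key2; linear_combination key2
    apply te
    have key4 := (mul_eq_zero.1 ((mul_eq_zero.1 key3).resolve_left hX0)).resolve_left (sub_ne_zero.2 t1)
    field_simp
    linear_combination key4

omit hu in
/-- The monomial subgroup is maximal in dimension four. -/
theorem isMono {g : GL ι F} (hg : g ∈ H) : IsMono g := by
  classical
  by_contra hgm
  obtain ⟨u, hu⟩ : ∃ u : Fˣ, (u : F) ^ 4 ≠ 1 := by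
    by_contra hc
    push Not at hc
    have h1 : (Finset.univ.image fun u : Fˣ => (u : F)) ⊆ (Polynomial.nthRoots 4 (1 : F)).toFinset := by
      intro x hx
      simp at hx
      obtain ⟨u, rfl⟩ := hx
      simp [Polynomial.mem_nthRoots, hc u]
    have h2 := (Finset.card_le_card h1).trans ((Multiset.toFinset_card_le _).trans (Polynomial.card_nthRoots 4 1))
    rw [Finset.card_image_of_injective _ Units.val_injective, Finset.card_univ, Fintype.card_units] at h2
    omega
  obtain ⟨h, hh, k, l, p, r, hlp, hlr, hpr, hl, hp, hr⟩ := three_support hH hq hι hu hg hgm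
  exact no_refl hH hq hι hu (refl_of_col hH hι u hh k) hlp hlr hpr hl hp hr

end CfsgLib.Maximal.MonoFour
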