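import Mathlib
import Cfsg.Agent.Lib.Maximal.DecompFrame
import Cfsg.Agent.Lib.Maximal.MonoFour

/-!
Maximality in `SL₄` of the stabiliser of a decomposition into lines or into planes.
-/

set_option autoImplicit false
set_option linter.unusedSectionVars false
set_option linter.unusedSimpArgs false

namespace CfsgLib.Maximal.DecompFour

open scoped Matrix

variable {ι : Type} [Fintype ι] [DecidableEq ι] {F : Type*} [Field F] [Fintype F] {t m : ℕ}
variable {ee : ι ≃ Fin t × Fin m} {H : Subgroup (GL ι F)}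

/-- An element mixing two planes yields a crossing root group. -/
lemma exists_cross_two (hH : BlockOver ee H) (hm2 : m = 2) (ht2 : t = 2) (hq : 4 ≤ Fintype.card F)
    {g : GL ι F} (hg : g ∈ H) (hgb : ¬ IsBlock (fun x => (ee x).1) g) :
    ∃ x y, (ee x).1 ≠ (ee y).1 ∧ ElemAt H x y := by
  have hm : 2 ≤ m := hm2.ge
  classical
  by_contra hno
  set G : Matrix ι ι F := (g : Matrix ι ι F)
  set Gi : Matrix ι ι F := ((g⁻¹ : GL ι F) : Matrix ι ι F)
  -- a transvection in `H` whose centre and axis meet different blocks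
  obtain ⟨a, φ, x, y, h, hx, hy, hxy⟩ : ∃ (a φ : ι → F) (x y : ι), Has H a φ ∧ a x ≠ 0 ∧ φ y ≠ 0 ∧
      (ee y).1 ≠ (ee x).1 := by
    by_contra hcon
    push Not at hcon
    have img : ∀ (a φ : ι → F) (j : Fin t), φ ⬝ᵥ a = 0 → (∀ x, (ee x).1 ≠ j → a x = 0) →
        (∀ x, (ee x).1 ≠ j → φ x = 0) → ∀ u v, (G *ᵥ a) u ≠ 0 → (φ ᵥ* Gi) v ≠ 0 → (ee v).1 = (ee u).1 :=
      fun a φ j h ha hφ u v hu hv => hcon _ _ u v ((hH.inBlock j h ha hφ).conj hg) hu hv
    have single_supp : ∀ (z : ι) (c : F), ∀ w, (ee w).1 ≠ (ee z).1 → (Pi.single z c : ι → F) w = 0 :=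
      fun z c w hw => by
        have : w ≠ z := fun e => hw (by rw [e])
        simp [this]
    have same : ∀ x x', (ee x).1 = (ee x').1 → ∀ u u', G u x ≠ 0 → G u' x' ≠ 0 → (ee u).1 = (ee u').1 := by
      have core : ∀ x x', x ≠ x' → (ee x).1 = (ee x').1 → ∀ u u', G u x ≠ 0 → G u' x' ≠ 0 →
          (ee u).1 = (ee u').1 := by
        intro x x' hne hb u u' hu hu'
        have hrow : ∀ z, ∃ v, Gi z v ≠ 0 := exists_row_ne_zero g⁻¹
        obtain ⟨v, hv⟩ := hrow x'
        obtain ⟨v', hv'⟩ := hrow x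
        -- supports of single columns
        have h1 : ∀ w, G w x ≠ 0 → (ee v).1 = (ee w).1 := fun w hw => img (Pi.single x 1) (Pi.single x' 1) (ee x).1
          (by simp [hne.symm]) (single_supp x 1) (hb ▸ single_supp x' 1) w v (by simpa using hw) (by simpa using hv)
        have h2 : ∀ w, G w x' ≠ 0 → (ee v').1 = (ee w).1 := fun w hw => img (Pi.single x' 1) (Pi.single x 1) (ee x).1
          (by simp [hne]) (hb ▸ single_supp x' 1) (single_supp x 1) w v' (by simpa using hw) (by simpa using hv')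
        by_contra hd
        have hu0 : G u x' = 0 := by_contra fun h => hd ((h2 u h).symm.trans (h2 u' hu'))
        have hu'0 : G u' x = 0 := by_contra fun h => hd ((h1 u hu).symm.trans (h1 u' h))
        obtain ⟨v'', hv''⟩ : ∃ v, ((Pi.single x 1 - Pi.single x' 1 : ι → F) ᵥ* Gi) v ≠ 0 := by
          by_contra hz
          push Not at hz
          have h3 := congrArg (fun w => w ᵥ* G) (funext hz : (Pi.single x 1 - Pi.single x' 1 : ι → F) ᵥ* Gi = 0)
          simp only [Matrix.vecMul_vecMul, Matrix.zero_vecMul] at h3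
          rw [show Gi * G = 1 from Units.inv_mul g, Matrix.vecMul_one] at h3
          have := congrFun h3 x
          simp [hne] at this
        have i1 := img (Pi.single x 1 + Pi.single x' 1) (Pi.single x 1 - Pi.single x' 1) (ee x).1
          (by simp [hne, hne.symm]) (fun w hw => by simp [single_supp x 1 w hw, single_supp x' 1 w (hb ▸ hw)])
          (fun w hw => by simp [single_supp x 1 w hw, single_supp x' 1 w (hb ▸ hw)])
        have a1 := i1 u v'' (by simp [Matrix.mulVec_add, hu0, hu]) hv''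
        have a2 := i1 u' v'' (by simp [Matrix.mulVec_add, hu'0, hu']) hv''
        exact hd (a1.symm.trans a2)
      intro x x' hb u u' hu hu'
      rcases eq_or_ne x x' with rfl | hne
      · obtain ⟨z, hz, hzb⟩ := exists_mate ee hm x
        obtain ⟨w, hw⟩ := exists_col_ne_zero g z
        exact (core x z hz.symm hzb.symm u w hu hw).trans (core x z hz.symm hzb.symm u' w hu' hw).symm
      · exact core x x' hne hb u u' hu hu'
    have hm0 : 0 < m := by omega
    have hcol : ∀ i : Fin t, ∃ u, G u (ee.symm (i, ⟨0, hm0⟩)) ≠ 0 := fun i => exists_col_ne_zero g _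
    choose u hu using hcol
    let σ : Fin t → Fin t := fun i => (ee (u i)).1
    have hσ : ∀ w x, G w x ≠ 0 → (ee w).1 = σ (ee x).1 := fun w x hw =>
      same x _ (by simp) w _ hw (hu (ee x).1)
    have hsurj : Function.Surjective σ := fun i => by
      obtain ⟨x, hx⟩ := exists_row_ne_zero g (ee.symm (i, ⟨0, hm0⟩))
      exact ⟨(ee x).1, by rw [← hσ _ x hx]; simp⟩
    exact hgb ⟨Equiv.ofBijective σ (Finite.surjective_iff_bijective.1 hsurj), hσ⟩
  by_cases hsingle : ∀ z, a z ≠ 0 → (ee z).1 = (ee x).1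
  · exact hno (hH.finish hm h (fun e => hx (by rw [e]; rfl)) (ee x).1
      (fun z hz => by_contra fun e => hz (hsingle z e)) hxy hy)
  push Not at hsingle
  obtain ⟨x₂, hx₂, hx₂b⟩ := hsingle
  obtain ⟨-, ⟨z₁, hz₁b, hz₁⟩, hdot₁⟩ := (hH.cross_or_degenerate hm h hx hy hxy).resolve_left hno
  obtain ⟨-, ⟨z₂, hz₂b, hz₂⟩, hdot₂⟩ :=
    (hH.cross_or_degenerate hm h hx₂ hz₁ (hz₁b ▸ Ne.symm hx₂b)).resolve_left hno
  set j₁ := (ee x).1
  set j₂ := (ee x₂).1
  have hblocks : ∀ j : Fin t, j = j₁ ∨ j = j₂ := fun j => by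
    subst ht2
    revert hx₂b
    generalize j₁ = a, j₂ = b
    revert a b j
    decide
  set φ₁ := resBlock (fun z => (ee z).1) j₁ φ with hφ₁
  set φ₂ := resBlock (fun z => (ee z).1) j₂ φ with hφ₂
  have hsplit : φ₁ + φ₂ = φ := funext fun z => by
    rcases hblocks (ee z).1 with e | e <;> simp [hφ₁, hφ₂, resBlock, e, hx₂b, Ne.symm hx₂b]
  set a₁ := resBlock (fun z => (ee z).1) j₁ a with ha₁
  set a₂ := resBlock (fun z => (ee z).1) j₂ a with ha₂
  -- the torus fixing both centre lines gives independent multipliers of the two axes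
  have span : ∀ x y : Fˣ, (∃ μ : Fˣ, μ ^ 4 = x * y) → Has H a ((x : F) • φ₁ + (y : F) • φ₂) := by
    rintro x y ⟨μ, hμ⟩
    let mk : ∀ (j : Fin t) (z : ι), φ z ≠ 0 → (ee z).1 = j → Fˣ → GL ι F := fun j z hz hzj ν =>
      reflGL (Pi.single z (φ z)⁻¹) (resBlock (fun z => (ee z).1) j φ) ν (by simp [resBlock, hzj, hz])
    let D : ι → Fˣ := fun _ => μ
    let g₁ := mk j₁ z₁ hz₁ hz₁b x⁻¹
    let g₂ := mk j₂ z₂ hz₂ hz₂b y⁻¹
    have hres : ∀ (j : Fin t) z, φ z ≠ 0 → (ee z).1 = j → ∀ w, (ee w).1 ≠ j →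
        (Pi.single z (φ z)⁻¹ : ι → F) w = 0 := fun j z _ hzj w hw => by
      have : w ≠ z := fun e => hw (e ▸ hzj)
      simp [this]
    have hblk : ∀ (j : Fin t) (z : ι) (hz : φ z ≠ 0) (hzj : (ee z).1 = j) (ν : Fˣ) (p q : ι),
        (mk j z hz hzj ν : Matrix ι ι F) p q ≠ 0 → (ee p).1 = (ee q).1 := by
      intro j z hz hzj ν p q hpq
      by_contra hne
      apply hpq
      show ((1 : Matrix ι ι F) + ((ν : F) - 1) • Matrix.vecMulVec (Pi.single z (φ z)⁻¹)
        (resBlock (fun z => (ee z).1) j φ)) p q = 0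
      have hpq' : p ≠ q := fun e => hne (by rw [e])
      by_cases hp : (ee p).1 = j
      · have hq' : ¬ (ee q).1 = j := fun e => hne (hp.trans e.symm)
        simp [hpq', Matrix.vecMulVec_apply, resBlock, hq']
      · rw [Matrix.add_apply, Matrix.one_apply_ne hpq', zero_add, Matrix.smul_apply, Matrix.vecMulVec_apply,
          hres j z hz hzj p hp, zero_mul, smul_zero]
    have hgm : monoGL 1 D * (g₁ * g₂) ∈ H := by
      refine hH.block _ ⟨1, fun p q hpq => ?_⟩ ?_
      · show (ee p).1 = (ee q).1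
        rw [Units.val_mul, Units.val_mul, Matrix.mul_apply] at hpq
        obtain ⟨r, -, hr⟩ := Finset.exists_ne_zero_of_sum_ne_zero hpq
        obtain ⟨h3, h4⟩ := mul_ne_zero_iff.1 hr
        rw [Matrix.mul_apply] at h4
        obtain ⟨s, -, hs⟩ := Finset.exists_ne_zero_of_sum_ne_zero h4
        obtain ⟨h5, h6⟩ := mul_ne_zero_iff.1 hs
        have hpr : p = r := by
          by_contra e
          simp [monoGL_val, monoMat, e] at h3
        rw [hpr]
        exact (hblk _ _ hz₁ hz₁b _ r s h5).trans (hblk _ _ hz₂ hz₂b _ s q h6)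
      · rw [mem_specialLinear_iff, Units.val_mul, Units.val_mul, Matrix.det_mul, Matrix.det_mul, monoGL_val,
          monoMat_det]
        show _ * ((mk j₁ z₁ hz₁ hz₁b x⁻¹ : Matrix ι ι F).det * (mk j₂ z₂ hz₂ hz₂b y⁻¹ : Matrix ι ι F).det) = _
        rw [reflGL_det, reflGL_det]
        have hc : Fintype.card ι = 4 := by rw [Fintype.card_congr ee]; simp [hm2, ht2]
        simp [D, hc]
        have := congrArg (Units.val) hμ
        simp at this
        field_simp
        linear_combination this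
    have h3 := h.conj hgm
    have f12 : φ₁ ⬝ᵥ Pi.single z₂ (φ z₂)⁻¹ = 0 := by simp [hφ₁, resBlock, hz₂b, hx₂b]
    have f1 : φ ⬝ᵥ Pi.single z₁ (φ z₁)⁻¹ = 1 := by simp [hz₁]
    have f2 : φ ⬝ᵥ Pi.single z₂ (φ z₂)⁻¹ = 1 := by simp [hz₂]
    have f21 : φ₂ ⬝ᵥ Pi.single z₁ (φ z₁)⁻¹ = 0 := by simp [hφ₂, resBlock, hz₁b, Ne.symm hx₂b]
    have hD : (monoGL 1 D : GL ι F).1 = (μ : F) • (1 : Matrix ι ι F) := by
      refine Matrix.ext fun p q => ?_
      rw [monoGL_val, Matrix.smul_apply, Matrix.one_apply]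
      simp [monoMat, D]
      split_ifs <;> simp_all
    have hDi : ((monoGL 1 D)⁻¹ : GL ι F).1 = (μ : F)⁻¹ • (1 : Matrix ι ι F) := by
      refine Matrix.ext fun p q => ?_
      rw [monoGL_inv_val, Matrix.smul_apply, Matrix.one_apply]
      simp [monoMat, D]
    have eg₁ : ∀ v, (g₁ : Matrix ι ι F) *ᵥ v = v + ((((x⁻¹ : Fˣ) : F) - 1) * (φ₁ ⬝ᵥ v)) • Pi.single z₁ (φ z₁)⁻¹ :=
      fun v => reflGL_mulVec _ _ _ _ v
    have eg₂ : ∀ v, (g₂ : Matrix ι ι F) *ᵥ v = v + ((((y⁻¹ : Fˣ) : F) - 1) * (φ₂ ⬝ᵥ v)) • Pi.single z₂ (φ z₂)⁻¹ :=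
      fun v => reflGL_mulVec _ _ _ _ v
    have ei₁ : ∀ v, v ᵥ* ((g₁⁻¹ : GL ι F) : Matrix ι ι F) =
        v + (((((x⁻¹ : Fˣ) : F))⁻¹ - 1) * (v ⬝ᵥ Pi.single z₁ (φ z₁)⁻¹)) • φ₁ :=
      fun v => reflGL_vecMul_inv _ _ _ _ v
    have ei₂ : ∀ v, v ᵥ* ((g₂⁻¹ : GL ι F) : Matrix ι ι F) =
        v + (((((y⁻¹ : Fˣ) : F))⁻¹ - 1) * (v ⬝ᵥ Pi.single z₂ (φ z₂)⁻¹)) • φ₂ :=
      fun v => reflGL_vecMul_inv _ _ _ _ v
    have e1 : ((monoGL 1 D * (g₁ * g₂) : GL ι F) : Matrix ι ι F) *ᵥ a = (μ : F) • a := by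
      rw [Units.val_mul, Units.val_mul, hD, ← Matrix.mulVec_mulVec, ← Matrix.mulVec_mulVec,
        eg₂, show φ₂ ⬝ᵥ a = 0 from hdot₂, mul_zero, zero_smul, add_zero,
        eg₁, show φ₁ ⬝ᵥ a = 0 from hdot₁, mul_zero, zero_smul, add_zero, Matrix.smul_mulVec,
        Matrix.one_mulVec]
    have e2 : φ ᵥ* (((monoGL 1 D * (g₁ * g₂))⁻¹ : GL ι F) : Matrix ι ι F) =
        (μ : F)⁻¹ • ((x : F) • φ₁ + (y : F) • φ₂) := by
      rw [mul_inv_rev, mul_inv_rev, Units.val_mul, Units.val_mul, hDi, Matrix.mul_smul, Matrix.mul_one,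
        Matrix.vecMul_smul, ← Matrix.vecMul_vecMul, ei₂, f2, ei₁,
        add_dotProduct, smul_dotProduct, f1, f21, smul_zero, add_zero, mul_one, mul_one]
      simp only [Units.val_inv_eq_inv_val, inv_inv]
      congr 1
      rw [← hsplit]
      module
    rw [e1, e2, Has.smul_iff, smul_smul, mul_inv_cancel₀ μ.ne_zero, one_smul] at h3
    exact h3
  have h11 : Has H a (φ₁ + φ₂) := hsplit ▸ h
  -- an axis inside one plane with the same centre
  obtain ⟨κ, hκ, hHκ⟩ : ∃ κ : F, κ ≠ 0 ∧ Has H a (κ • φ₂) := by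
    by_cases hex : ∃ u : Fˣ, u ^ 4 ≠ 1
    · obtain ⟨u, hu⟩ := hex
      refine ⟨((u ^ 4 : Fˣ) : F) - 1, sub_ne_zero.2 fun e => hu (Units.ext e), ?_⟩
      refine ((span 1 (u ^ 4) ⟨u, (one_mul _).symm⟩).sub_right h11).congr rfl ?_
      rw [Units.val_one]; module
    · push Not at hex
      have hcard : Fintype.card F = 5 := by
        have h1 : (Finset.univ.image fun u : Fˣ => (u : F)) ⊆ (Polynomial.nthRoots 4 (1 : F)).toFinset := by
          intro w hw
          simp at hw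
          obtain ⟨u, rfl⟩ := hw
          simpa [Polynomial.mem_nthRoots] using congrArg Units.val (hex u)
        have h2 := (Finset.card_le_card h1).trans ((Multiset.toFinset_card_le _).trans (Polynomial.card_nthRoots 4 1))
        rw [Finset.card_image_of_injective _ Units.val_injective, Finset.card_univ, Fintype.card_units] at h2
        rcases (by omega : Fintype.card F = 4 ∨ Fintype.card F = 5) with h4 | h5
        · exfalso
          obtain ⟨u, hu⟩ := Fintype.exists_ne_of_one_lt_card (show 1 < Fintype.card Fˣ by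
            rw [Fintype.card_units]; omega) 1
          have h6 : u ^ 3 = 1 := by
            rw [show 3 = Fintype.card Fˣ by rw [Fintype.card_units]; omega]; exact pow_card_eq_one
          have h7 := hex u
          rw [pow_succ, h6, one_mul] at h7
          exact hu h7
        · exact h5
      haveI : Fact (Nat.Prime 5) := ⟨by norm_num⟩
      haveI : CharP F 5 := charP_of_card_eq_prime hcard
      have f5 : (5 : F) = 0 := by exact_mod_cast CharP.cast_eq_zero F 5
      have f2 : (2 : F) ≠ 0 := fun h => one_ne_zero (α := F) (by linear_combination f5 - 2 * h)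
      refine ⟨(2 : F)⁻¹ - 2, fun h0 => ?_, ?_⟩
      · rw [sub_eq_zero, inv_eq_iff_eq_inv] at h0
        field_simp at h0
        exact one_ne_zero (α := F) (by linear_combination (2 : F) * f5 - 3 * h0)
      · refine (((span (Units.mk0 2 f2) (Units.mk0 2 f2)⁻¹ ⟨1, by simp⟩).sub_right h11).sub_right h11).congr rfl ?_
        rw [Units.val_inv_eq_inv_val, Units.val_mk0]; module
  refine hno ?_
  have hφz₂ : (κ • φ₂) z₂ ≠ 0 := by simp [hφ₂, resBlock, hz₂b, hκ, hz₂]
  have hz₂j : (ee z₂).1 ≠ j₁ := hz₂b ▸ hx₂b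
  rcases hH.cross_or_degenerate hm hHκ hx hφz₂ hz₂j with h5 | ⟨-, ⟨z, hzb, hz⟩, -⟩
  · exact h5
  · have hzj : ¬ (ee z).1 = j₂ := fun e => hx₂b (e.symm.trans hzb)
    exact absurd (by simp [hφ₂, resBlock, hzj]) hz

/-- The dichotomy for lines in dimension four. -/
theorem eq_or_lines {ee : ι ≃ Fin 4 × Fin 1} (hH : BlockOver ee H) (hq : 7 ≤ Fintype.card F) :
    (∀ g ∈ H, IsBlock (fun x => (ee x).1) g) ∨ Cfsg.Geo.specialLinear ι F ≤ H := by
  classical
  by_cases hcross : ∃ x y, (ee x).1 ≠ (ee y).1 ∧ ElemAt H x y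
  · obtain ⟨x, y, hxy, h⟩ := hcross
    exact Or.inr (hH.sl_le_of_cross hxy h)
  left
  intro g hg
  have hcard : Fintype.card ι = 4 := by rw [Fintype.card_congr ee]; simp
  have hinj : Function.Injective fun x => (ee x).1 := fun a b hab =>
    ee.injective (Prod.ext hab (Subsingleton.elim _ _))
  let E : ι ≃ Fin 4 := ee.trans (Equiv.prodUnique (Fin 4) (Fin 1))
  have hE : ∀ x, (ee x).1 = E x := fun x => rfl
  have hM : MonoOver H :=
    { le := hH.le
      noElem := fun i j hij he => hcross ⟨i, j, fun e => hij (hinj e), he⟩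
      mono := fun σ d hsl => hH.block _ ⟨E.symm.trans (σ.trans E), fun b a hba => by
        simp only [monoGL_val, monoMat, Matrix.of_apply, ne_eq, ite_eq_right_iff, Classical.not_imp] at hba
        simp only [hE]
        simp [hba.1]⟩ hsl }
  obtain ⟨σ, d, rfl⟩ := (MonoFour.isMono hM hq hcard hg).exists_eq
  refine ⟨E.symm.trans (σ.trans E), fun b a hba => ?_⟩
  simp only [monoGL_val, monoMat, Matrix.of_apply, ne_eq, ite_eq_right_iff, Classical.not_imp] at hba
  simp only [hE]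
  simp [hba.1]

/-- The dichotomy for two planes. -/
theorem eq_or_planes {ee : ι ≃ Fin 2 × Fin 2} (hH : BlockOver ee H) (hq : 4 ≤ Fintype.card F) :
    (∀ g ∈ H, IsBlock (fun x => (ee x).1) g) ∨ Cfsg.Geo.specialLinear ι F ≤ H := by
  classical
  by_cases hcross : ∃ x y, (ee x).1 ≠ (ee y).1 ∧ ElemAt H x y
  · obtain ⟨x, y, hxy, h⟩ := hcross
    exact Or.inr (hH.sl_le_of_cross hxy h)
  left
  intro g hg
  by_contra hgb
  exact hcross (exists_cross_two hH rfl rfl hq hg hgb)

/-- Maximality of a decomposition stabiliser, given the dichotomy in coordinates. -/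
theorem decomposition_maximal_of (D : Fin t → Submodule F (ι → F)) (hD : Cfsg.Geo.IsMDecomposition m D)
    (hor : ∀ (ee : ι ≃ Fin t × Fin m) (H : Subgroup (GL ι F)), BlockOver ee H →
      (∀ g ∈ H, IsBlock (fun x => (ee x).1) g) ∨ Cfsg.Geo.specialLinear ι F ≤ H) :
    Cfsg.Geo.IsMaximalIn (Cfsg.Geo.specialLinear ι F)
      (Cfsg.Geo.decompositionStabilizer D ⊓ Cfsg.Geo.specialLinear ι F) := by
  obtain ⟨ee, P, hP⟩ := exists_frame D hD
  have hstab := mem_stab_iff_isBlock D ee P hP hD.finrank_eq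
  have hsl : ∀ g : GL ι F, P⁻¹ * g * P ∈ Cfsg.Geo.specialLinear ι F ↔ g ∈ Cfsg.Geo.specialLinear ι F :=
    fun g => by simp [Cfsg.Geo.specialLinear, MonoidHom.mem_ker, mul_comm]
  constructor
  · refine lt_of_le_of_ne inf_le_right fun he => ?_
    haveI : Nontrivial (Fin t) := Fin.nontrivial_iff_two_le.2 hD.two_le
    obtain ⟨i, j, hij⟩ := exists_pair_ne (Fin t)
    let x := ee.symm (i, ⟨0, hD.pos⟩)
    let y := ee.symm (j, ⟨0, hD.pos⟩)
    have hxy : x ≠ y := fun e => hij (by simpa [x, y] using congrArg (fun z => (ee z).1) e)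
    have h0 : (Pi.single y 1 : ι → F) ⬝ᵥ Pi.single x 1 = 0 := by simp [hxy.symm]
    have hg : P * tv (Pi.single x 1) (Pi.single y 1) h0 * P⁻¹ ∈ Cfsg.Geo.specialLinear ι F := by
      rw [← hsl]; simpa [mul_assoc] using tv_mem_specialLinear _ _ _
    rw [← he] at hg
    have h3 := (hstab _).1 hg.1
    simp only [← mul_assoc, inv_mul_cancel, one_mul] at h3
    rw [inv_mul_cancel_right] at h3
    obtain ⟨σ, hσ⟩ := h3
    have a1 := hσ x y (by simp [tv_val, Matrix.vecMulVec_apply, hxy])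
    have a2 := hσ y y (by simp [tv_val, Matrix.vecMulVec_apply, hxy.symm])
    simp [x, y] at a1 a2
    exact hij (a1.trans a2.symm)
  intro M hHM hMS
  set H := M.map (MulAut.conj P⁻¹).toMonoidHom with hH
  have hmem : ∀ g : GL ι F, g ∈ H ↔ P * g * P⁻¹ ∈ M := by
    intro g
    rw [hH, Subgroup.mem_map_equiv]
    simp
  have hover : BlockOver ee H :=
    { le := fun g hg => by
        have := hMS ((hmem g).1 hg)
        rw [← hsl] at this
        simpa [mul_assoc] using this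
      block := fun g hgb hgs => (hmem g).2 (hHM ⟨(hstab _).2 (by simpa [mul_assoc] using hgb),
        (hsl _).1 (by simpa [mul_assoc] using hgs)⟩) }
  rcases hor ee H hover with h | h
  · refine Or.inl (le_antisymm (fun g hg => ⟨(hstab g).2 (h _ ((hmem _).2 (by simpa [mul_assoc] using hg))), hMS hg⟩) hHM)
  · refine Or.inr (le_antisymm hMS fun g hg => ?_)
    have h3 := (hmem _).1 (h ((hsl g).2 hg))
    simpa [mul_assoc] using h3

end CfsgLib.Maximal.DecompFour
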