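import Mathlib
import Cfsg.Agent.Lib.Maximal.FormTv
import Cfsg.Agent.Lib.Geometry.OmegaGen

/-!
Supply of singular vectors in common perps, and Siegel elements as products of two transvections.
-/

set_option autoImplicit false
set_option linter.unusedSectionVars false
set_option linter.unusedSimpArgs false

namespace CfsgLib.Maximal

open scoped Matrix
open QuadraticMap CfsgLib.Geometry

variable {ι : Type} [Fintype ι] [DecidableEq ι] {F : Type*} [Field F]
variable (Q : QuadraticForm F (ι → F))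

/-- The row vector of `x ↦ polar Q x a`. -/
def pv (a : ι → F) : ι → F := fvec (polar ⇑Q) a

lemma pv_dot (a x : ι → F) : pv Q a ⬝ᵥ x = polar Q x a :=
  fvec_dot (fun x y v => polar_add_left Q x y v) (fun c x v => polar_smul_left' Q c x v) a x

lemma pv_smul (c : F) (a : ι → F) : pv Q (c • a) = c • pv Q a :=
  dot_ext fun x => by rw [pv_dot, smul_dotProduct, pv_dot, polar_smul_right', smul_eq_mul]

lemma pv_sub (a b : ι → F) : pv Q (a - b) = pv Q a - pv Q b :=
  dot_ext fun x => by rw [pv_dot, sub_dotProduct, pv_dot, pv_dot, polar_sub_right]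

lemma pv_add (a b : ι → F) : pv Q (a + b) = pv Q a + pv Q b :=
  dot_ext fun x => by rw [pv_dot, add_dotProduct, pv_dot, pv_dot, polar_add_right]

lemma pv_zero : pv Q (0 : ι → F) = 0 :=
  dot_ext fun x => by rw [pv_dot, zero_dotProduct, polar_zero_right]

variable {Q}

lemma pv_surj (hQ : (polarBilin Q).Nondegenerate) (φ : ι → F) : ∃ a, pv Q a = φ := by
  let L : (ι → F) →ₗ[F] (ι → F) :=
    { toFun := pv Q, map_add' := pv_add Q, map_smul' := pv_smul Q }
  have hinj : Function.Injective L := by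
    rw [injective_iff_map_eq_zero]
    intro a ha
    refine hQ.2 a fun x => ?_
    show polar Q x a = 0
    rw [← pv_dot, show pv Q a = 0 from ha, zero_dotProduct]
  exact LinearMap.injective_iff_surjective.1 hinj φ

lemma sieg_dot₁ {e w : ι → F} (he : Q e = 0) (hw : polar Q e w = 0) :
    (Q w • pv Q e - pv Q w) ⬝ᵥ e = 0 := by
  rw [sub_dotProduct, smul_dotProduct, pv_dot, pv_dot, hw, polar_self', he]
  simp

lemma sieg_dot₂ {e w : ι → F} (hw : polar Q e w = 0) : pv Q e ⬝ᵥ w = 0 := by
  rw [pv_dot, polar_comm, hw]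

/-- The Siegel element of `e` and `w`. -/
def sieg (e w : ι → F) (he : Q e = 0) (hw : polar Q e w = 0) : GL ι F :=
  tv e (Q w • pv Q e - pv Q w) (sieg_dot₁ he hw) * tv w (pv Q e) (sieg_dot₂ hw)

lemma sieg_mulVec {e w : ι → F} (he : Q e = 0) (hw : polar Q e w = 0) (x : ι → F) :
    (sieg e w he hw : Matrix ι ι F) *ᵥ x = x + polar Q x e • w - (polar Q x w + Q w * polar Q x e) • e := by
  rw [sieg, Units.val_mul, ← Matrix.mulVec_mulVec, tv_mulVec, tv_mulVec, pv_dot, dotProduct_add,
    dotProduct_smul, sub_dotProduct, sub_dotProduct, smul_dotProduct, smul_dotProduct, pv_dot, pv_dot,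
    pv_dot, pv_dot, polar_comm Q w e, hw, polar_self']
  simp only [smul_eq_mul]
  module

lemma sieg_isometry {e w : ι → F} (he : Q e = 0) (hw : polar Q e w = 0) (x : ι → F) :
    Q ((sieg e w he hw : Matrix ι ι F) *ᵥ x) = Q x := by
  have : (sieg e w he hw : Matrix ι ι F) *ᵥ x = siegel Q e w he hw x := by
    rw [sieg_mulVec, siegel_apply]; module
  rw [this]
  exact siegel_mem_orth Q e w he hw x

lemma sieg_mem_specialLinear {e w : ι → F} (he : Q e = 0) (hw : polar Q e w = 0) :
    sieg e w he hw ∈ Cfsg.Geo.specialLinear ι F :=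
  mul_mem (tv_mem_specialLinear _ _ _) (tv_mem_specialLinear _ _ _)

lemma sieg_vecMul_inv {e w : ι → F} (he : Q e = 0) (hw : polar Q e w = 0) {β : ι → F}
    (h1 : β ⬝ᵥ e = 0) (h2 : β ⬝ᵥ w = 0) :
    β ᵥ* (((sieg e w he hw)⁻¹ : GL ι F) : Matrix ι ι F) = β := by
  refine dot_ext fun y => ?_
  obtain ⟨x, rfl⟩ := mulVec_surj (sieg e w he hw) y
  simp only []
  rw [dot_vecMul_inv, sieg_mulVec]
  simp [dotProduct_sub, dotProduct_add, dotProduct_smul, h1, h2]

variable [Fintype F]

/-- A non-zero singular vector in a subspace of dimension at least three, in odd characteristic. -/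
lemma exists_singular_in (h2 : (2 : F) ≠ 0) (T : Submodule F (ι → F)) (hT : 3 ≤ Module.finrank F T) :
    ∃ e ∈ T, e ≠ 0 ∧ Q e = 0 := by
  let Q' : QuadraticForm F T := Q.comp T.subtype
  have hpol : ∀ x y : T, polar Q' x y = polar Q (x : ι → F) y := fun x y => by
    simp [Q', polar]
  by_cases hnd : (polarBilin Q').Nondegenerate
  · obtain ⟨e, he0, he⟩ := CfsgLib.Geometry.exists_singular hnd hT
    exact ⟨e, e.2, fun h => he0 (Subtype.ext h), he⟩
  · obtain ⟨x, hx, hx0⟩ : ∃ x : T, (∀ y, polar Q' x y = 0) ∧ x ≠ 0 := by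
      by_contra hcon
      push Not at hcon
      exact hnd ⟨fun x hx => hcon x hx, fun x hx => hcon x fun y => by rw [polar_comm]; exact hx y⟩
    refine ⟨x, x.2, fun h => hx0 (Subtype.ext h), ?_⟩
    have := hx x
    rw [hpol, polar_self'] at this
    exact (mul_eq_zero.1 this).resolve_left h2

/-- Singular vectors orthogonal to a family separate everything outside its span. -/
lemma sing_supply (hQ : (polarBilin Q).Nondegenerate) (h2 : (2 : F) ≠ 0) {r : ℕ} (v : Fin r → ι → F)
    (hr : 2 * r + 4 ≤ Fintype.card ι) {b : ι → F} (hb : b ∉ Submodule.span F (Set.range v)) :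
    ∃ u, Q u = 0 ∧ (∀ i, polar Q u (v i) = 0) ∧ polar Q u b ≠ 0 := by
  set S := Submodule.span F (Set.range v) with hS
  let L : (ι → F) →ₗ[F] (Fin (r + 1) → F) :=
    LinearMap.pi (Fin.cons (polarLeft Q b) fun i => polarLeft Q (v i))
  have hmemT : ∀ x, x ∈ LinearMap.ker L → polar Q x b = 0 ∧ ∀ i, polar Q x (v i) = 0 := fun x hx =>
    ⟨by simpa [L] using congrFun hx 0, fun i => by simpa [L] using congrFun hx i.succ⟩
  set T := LinearMap.ker L
  have hTd : Fintype.card ι ≤ Module.finrank F T + (r + 1) := by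
    have h := L.finrank_range_add_finrank_ker
    have h' := (LinearMap.range L).finrank_le
    rw [Module.finrank_fintype_fun_eq_card] at h
    simp [Module.finrank_fintype_fun_eq_card] at h'
    change _ + Module.finrank F T = _ at h
    omega
  obtain ⟨C, hC⟩ := Submodule.exists_isCompl (T ⊓ S)
  have hsplit : T ⊓ S ⊔ C ⊓ T = T := by
    rw [← sup_inf_assoc_of_le C (inf_le_left : T ⊓ S ≤ T), hC.sup_eq_top, top_inf_eq]
  have hdis : T ⊓ S ⊓ (C ⊓ T) = ⊥ := eq_bot_iff.2 fun x hx => by
    have : x ∈ T ⊓ S ⊓ C := ⟨hx.1, hx.2.1⟩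
    rwa [hC.inf_eq_bot] at this
  have hd := Submodule.finrank_sup_add_finrank_inf_eq (T ⊓ S) (C ⊓ T)
  rw [hsplit, hdis, finrank_bot] at hd
  have hSd : Module.finrank F ↥(T ⊓ S) ≤ r := by
    refine (Submodule.finrank_mono inf_le_right).trans ?_
    exact (finrank_range_le_card v).trans (by simp)
  obtain ⟨e, heT, he0, he⟩ := exists_singular_in (Q := Q) h2 (C ⊓ T) (by omega)
  obtain ⟨heb, hev⟩ := hmemT e heT.2
  have heS : e ∉ S := fun h => he0 (by
    have : e ∈ T ⊓ S ⊓ (C ⊓ T) := ⟨⟨heT.2, h⟩, heT⟩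
    rwa [hdis, Submodule.mem_bot] at this)
  obtain ⟨f, hf, hfe⟩ := exists_polar hQ S heS 1
  obtain ⟨s, hs, hsb⟩ := exists_polar hQ S hb 1
  have hvS : ∀ i, v i ∈ S := fun i => Submodule.subset_span (Set.mem_range_self i)
  obtain ⟨g, hg, hge, hgb⟩ : ∃ g, (∀ i, polar Q g (v i) = 0) ∧ polar Q g e ≠ 0 ∧ polar Q g b ≠ 0 := by
    by_cases h1 : polar Q f b = 0
    · by_cases h3 : polar Q s e = 0
      · exact ⟨f + s, fun i => by rw [polar_add_left, hf _ (hvS i), hs _ (hvS i), add_zero],
          by rw [polar_add_left, hfe, h3, add_zero]; exact one_ne_zero,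
          by rw [polar_add_left, h1, hsb, zero_add]; exact one_ne_zero⟩
      · exact ⟨s, fun i => hs _ (hvS i), h3, by rw [hsb]; exact one_ne_zero⟩
    · exact ⟨f, fun i => hf _ (hvS i), by rw [hfe]; exact one_ne_zero, h1⟩
  refine ⟨g - (Q g / polar Q g e) • e, ?_, fun i => ?_, ?_⟩
  · rw [CfsgLib.Geometry.map_sub', CfsgLib.Geometry.map_smul', he, polar_smul_right']; field_simp; ring
  · rw [polar_sub_left, polar_smul_left', hg, hev, mul_zero, sub_zero]
  · rw [polar_sub_left, polar_smul_left', heb, mul_zero, sub_zero]; exact hgb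

lemma exists_perp_notMem (hQ : (polarBilin Q).Nondegenerate) {r s : ℕ} (v : Fin r → ι → F)
    (w : Fin s → ι → F) (h : r + s < Fintype.card ι) :
    ∃ z, (∀ i, polar Q z (v i) = 0) ∧ z ∉ Submodule.span F (Set.range w) := by
  let L : (ι → F) →ₗ[F] (Fin r → F) := LinearMap.pi fun i => polarLeft Q (v i)
  by_contra hcon
  push Not at hcon
  have h1 := (Submodule.finrank_mono (fun z hz => hcon z fun i => by simpa [L] using congrFun hz i :
    LinearMap.ker L ≤ Submodule.span F (Set.range w))).trans (finrank_range_le_card w)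
  have h2 := L.finrank_range_add_finrank_ker
  have h3 := (LinearMap.range L).finrank_le
  rw [Module.finrank_fintype_fun_eq_card] at h2
  simp [Module.finrank_fintype_fun_eq_card] at h1 h3
  omega

/-- A singular vector orthogonal to one vector and to neither of two others. -/
lemma sing_supply₂ (hQ : (polarBilin Q).Nondegenerate) (h2 : (2 : F) ≠ 0) (hn : 6 ≤ Fintype.card ι)
    {c d z : ι → F} (hd : d ∉ Submodule.span F {c}) (hz : z ∉ Submodule.span F {c}) :
    ∃ u, Q u = 0 ∧ polar Q u c = 0 ∧ polar Q u d ≠ 0 ∧ polar Q u z ≠ 0 := by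
  obtain ⟨u₁, hu₁, hu₁c', ha⟩ := sing_supply hQ h2 ![c] (by omega) (b := d) (by simpa using hd)
  obtain ⟨u₂, hu₂, hu₂c', hb⟩ := sing_supply hQ h2 ![c] (by omega) (b := z) (by simpa using hz)
  have hu₁c : polar Q u₁ c = 0 := hu₁c' 0
  have hu₂c : polar Q u₂ c = 0 := hu₂c' 0
  by_contra hcon
  push Not at hcon
  have hu₁z : polar Q u₁ z = 0 := hcon _ hu₁ hu₁c ha
  have hu₂d : polar Q u₂ d = 0 := by_contra fun h => hb (hcon _ hu₂ hu₂c h)
  have hp : polar Q u₁ u₂ ≠ 0 := fun h0 => hb (by
    have := hcon (u₁ + u₂) (by rw [CfsgLib.Geometry.map_add', hu₁, hu₂, h0]; ring)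
      (by rw [polar_add_left, hu₁c, hu₂c, add_zero]) (by rw [polar_add_left, hu₂d, add_zero]; exact ha)
    rwa [polar_add_left, hu₁z, zero_add] at this)
  set S := Submodule.span F (Set.range ![c, u₁, u₂]) with hS
  have hcS : c ∈ S := Submodule.subset_span ⟨0, rfl⟩
  have h1S : u₁ ∈ S := Submodule.subset_span ⟨1, rfl⟩
  have h2S : u₂ ∈ S := Submodule.subset_span ⟨2, rfl⟩
  let L : (ι → F) →ₗ[F] (Fin 3 → F) := LinearMap.pi fun i => polarLeft Q (![c, u₁, u₂] i)
  set P := LinearMap.ker L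
  have hmemP : ∀ x, x ∈ P ↔ polar Q x c = 0 ∧ polar Q x u₁ = 0 ∧ polar Q x u₂ = 0 := fun x => by
    simp [P, L, funext_iff, Fin.forall_fin_succ]
  have hPd : 3 ≤ Module.finrank F P := by
    have h1 := L.finrank_range_add_finrank_ker
    have h3 := (LinearMap.range L).finrank_le
    rw [Module.finrank_fintype_fun_eq_card] at h1
    simp [Module.finrank_fintype_fun_eq_card] at h3
    change _ + Module.finrank F P = _ at h1
    omega
  have hrad : ∀ r ∈ P, (∀ y ∈ P, polar Q y r = 0) → r ∈ Submodule.span F {c} := by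
    intro r hr hperp
    have hrS : r ∈ S := by
      by_contra hrS
      obtain ⟨y, hy, hyr⟩ := exists_polar hQ S hrS 1
      rw [hperp y ((hmemP y).2 ⟨hy c hcS, hy u₁ h1S, hy u₂ h2S⟩)] at hyr
      exact zero_ne_one hyr
    obtain ⟨k, hk⟩ := (Submodule.mem_span_range_iff_exists_fun F).1 hrS
    simp [Fin.sum_univ_three] at hk
    obtain ⟨-, hr1, hr2⟩ := (hmemP r).1 hr
    have hs1 : polar Q u₁ u₁ = 0 := by rw [polar_self', hu₁, mul_zero]
    have hs2 : polar Q u₂ u₂ = 0 := by rw [polar_self', hu₂, mul_zero]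
    rw [← hk] at hr1 hr2
    simp only [polar_add_left, polar_smul_left', polar_comm Q c u₁, polar_comm Q c u₂, hu₁c, hu₂c, hs1, hs2,
      polar_comm Q u₂ u₁, mul_zero, zero_add, add_zero, mul_eq_zero, hp, or_false] at hr1 hr2
    rw [← hk, hr1, hr2]
    exact Submodule.mem_span_singleton.2 ⟨k 0, by simp⟩
  -- a non-singular vector orthogonal to `d` or to `z`
  have nsd : ∀ x ∈ P, polar Q x d = 0 → Q x = 0 := fun x hx hxd => by
    by_contra hQx
    obtain ⟨hxc, hx1, hx2⟩ := (hmemP x).1 hx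
    have try_ : ∀ α : F, α ≠ 0 → (-(Q x) / (α * polar Q u₁ u₂)) * polar Q u₂ z + polar Q x z = 0 := fun α hα => by
      have := hcon (α • u₁ + (-(Q x) / (α * polar Q u₁ u₂)) • u₂ + x)
        (by
          simp only [CfsgLib.Geometry.map_add', CfsgLib.Geometry.map_smul', hu₁, hu₂, polar_add_left,
            polar_smul_left', polar_smul_right', polar_comm Q u₁ x, polar_comm Q u₂ x, hx1, hx2]
          field_simp; ring)
        (by simp [polar_add_left, polar_smul_left', hu₁c, hu₂c, hxc])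
        (by simp [polar_add_left, polar_smul_left', hu₂d, hxd, hα, ha])
      simpa [polar_add_left, polar_smul_left', hu₁z] using this
    have e1 := try_ 1 one_ne_zero
    have e2 := try_ (-1) (neg_ne_zero.2 one_ne_zero)
    have e3 : 2 * (-(Q x) / polar Q u₁ u₂ * polar Q u₂ z) = 0 := by
      rw [one_mul] at e1; rw [neg_one_mul, div_neg] at e2; linear_combination e1 - e2
    exact (mul_ne_zero h2 (mul_ne_zero (div_ne_zero (neg_ne_zero.2 hQx) hp) hb)) e3
  have nsz : ∀ x ∈ P, polar Q x z = 0 → Q x = 0 := fun x hx hxz => by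
    by_contra hQx
    obtain ⟨hxc, hx1, hx2⟩ := (hmemP x).1 hx
    have try_ : ∀ β : F, β ≠ 0 → (-(Q x) / (β * polar Q u₁ u₂)) * polar Q u₁ d + polar Q x d = 0 := fun β hβ => by
      by_contra hne
      refine mul_ne_zero hβ hb ?_
      have := hcon ((-(Q x) / (β * polar Q u₁ u₂)) • u₁ + β • u₂ + x)
        (by
          simp only [CfsgLib.Geometry.map_add', CfsgLib.Geometry.map_smul', hu₁, hu₂, polar_add_left,
            polar_smul_left', polar_smul_right', polar_comm Q u₁ x, polar_comm Q u₂ x, hx1, hx2]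
          field_simp; ring)
        (by simp [polar_add_left, polar_smul_left', hu₁c, hu₂c, hxc])
        (by simpa [polar_add_left, polar_smul_left', hu₂d] using hne)
      simpa [polar_add_left, polar_smul_left', hu₁z, hxz] using this
    have e1 := try_ 1 one_ne_zero
    have e2 := try_ (-1) (neg_ne_zero.2 one_ne_zero)
    have e3 : 2 * (-(Q x) / polar Q u₁ u₂ * polar Q u₁ d) = 0 := by
      rw [one_mul] at e1; rw [neg_one_mul, div_neg] at e2; linear_combination e1 - e2
    exact (mul_ne_zero h2 (mul_ne_zero (div_ne_zero (neg_ne_zero.2 hQx) hp) ha)) e3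
  have kd : ∀ x ∈ P, polar Q x d = 0 → polar Q x z = 0 := fun x hx hxd => by
    obtain ⟨hxc, hx1, -⟩ := (hmemP x).1 hx
    have := hcon (u₁ + x) (by rw [CfsgLib.Geometry.map_add', hu₁, nsd x hx hxd, polar_comm, hx1]; ring)
      (by rw [polar_add_left, hu₁c, hxc, add_zero]) (by rw [polar_add_left, hxd, add_zero]; exact ha)
    rwa [polar_add_left, hu₁z, zero_add] at this
  have kz : ∀ x ∈ P, polar Q x z = 0 → polar Q x d = 0 := fun x hx hxz => by
    by_contra hxd
    obtain ⟨hxc, -, hx2⟩ := (hmemP x).1 hx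
    refine hb ?_
    have := hcon (u₂ + x) (by rw [CfsgLib.Geometry.map_add', hu₂, nsz x hx hxz, polar_comm, hx2]; ring)
      (by rw [polar_add_left, hu₂c, hxc, add_zero]) (by rw [polar_add_left, hu₂d, zero_add]; exact hxd)
    rwa [polar_add_left, hxz, add_zero] at this
  set N := P ⊓ LinearMap.ker (polarLeft Q d) with hN
  have hNmem : ∀ x, x ∈ N ↔ x ∈ P ∧ polar Q x d = 0 := fun x => by simp [N]
  have hNd : 2 ≤ Module.finrank F N := by
    have h1 := Submodule.finrank_sup_add_finrank_inf_eq P (LinearMap.ker (polarLeft Q d))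
    have h3 := (P ⊔ LinearMap.ker (polarLeft Q d)).finrank_le
    have h4 := (polarLeft Q d).finrank_range_add_finrank_ker
    have h5 := (LinearMap.range (polarLeft Q d)).finrank_le
    rw [← hN] at h1
    rw [Module.finrank_fintype_fun_eq_card] at h3 h4
    rw [Module.finrank_self] at h5
    omega
  have hTS : ∀ x ∈ N, ∀ y ∈ N, polar Q x y = 0 := fun x hx y hy => by
    obtain ⟨hx1, hx2⟩ := (hNmem x).1 hx
    obtain ⟨hy1, hy2⟩ := (hNmem y).1 hy
    have := nsd (x + y) (P.add_mem hx1 hy1) (by rw [polar_add_left, hx2, hy2, add_zero])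
    rw [CfsgLib.Geometry.map_add', nsd x hx1 hx2, nsd y hy1 hy2] at this
    simpa using this
  have hline : Module.finrank F (Submodule.span F ({c} : Set (ι → F))) ≤ 1 :=
    (finrank_span_le_card _).trans (by simp)
  obtain ⟨x, hx, hxd⟩ : ∃ x ∈ P, polar Q x d ≠ 0 := by
    by_contra hall
    push Not at hall
    have := Submodule.finrank_mono (fun x hx => hrad x hx fun y hy =>
      hTS y ((hNmem y).2 ⟨hy, hall y hy⟩) x ((hNmem x).2 ⟨hx, hall x hx⟩) : P ≤ Submodule.span F {c})
    omega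
  obtain ⟨n, hn', hxn⟩ : ∃ n ∈ N, polar Q x n ≠ 0 := by
    by_contra hall
    push Not at hall
    have := Submodule.finrank_mono (fun n hn' => hrad n ((hNmem n).1 hn').1 fun y hy => by
      have hy' : y - (polar Q y d / polar Q x d) • x ∈ N := (hNmem _).2
        ⟨P.sub_mem hy (P.smul_mem _ hx), by rw [polar_sub_left, polar_smul_left']; field_simp; ring⟩
      have h6 := hTS _ hy' n hn'
      rwa [polar_sub_left, polar_smul_left', hall n hn', mul_zero, sub_zero] at h6
      : N ≤ Submodule.span F {c})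
    omega
  obtain ⟨hnP, hnd⟩ := (hNmem n).1 hn'
  set x₀ := x - (Q x / polar Q x n) • n with hx₀
  have hx₀P : x₀ ∈ P := P.sub_mem hx (P.smul_mem _ hnP)
  have hx₀d : polar Q x₀ d ≠ 0 := by rw [hx₀, polar_sub_left, polar_smul_left', hnd, mul_zero, sub_zero]; exact hxd
  have h7 := hcon x₀ (by
    rw [hx₀, CfsgLib.Geometry.map_sub', CfsgLib.Geometry.map_smul', nsd n hnP hnd, polar_smul_right']
    field_simp; ring) ((hmemP x₀).1 hx₀P).1 hx₀d
  exact hx₀d (kz x₀ hx₀P h7)

end CfsgLib.Maximal
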