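import Mathlib
import Cfsg.Agent.Lib.Maximal.UnTv
import Cfsg.Agent.Lib.Maximal.BlockMax

/-!
The similitudes of a unitary form form a maximal subgroup of `SL₄`.
-/

set_option autoImplicit false
set_option linter.unusedSectionVars false
set_option linter.unusedSimpArgs false
set_option maxHeartbeats 800000

namespace CfsgLib.Maximal.UnFour

open scoped Matrix

section supply

variable {F : Type*} [Field F] [Fintype F] {ι : Type} [Fintype ι] [DecidableEq ι] {σ : F ≃+* F}
  {f : (ι → F) → (ι → F) → F} (hf : Cfsg.Geo.IsUnitaryForm σ f)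
include hf

/-- An element with non-zero trace. -/
lemma exists_trace : ∃ t : F, t + σ t ≠ 0 := by
  by_contra hh
  push Not at hh
  have h2 : ∀ t : F, σ t = -t := fun t => eq_neg_of_add_eq_zero_right (hh t)
  have h11 : (1 : F) = -1 := by have := h2 1; rwa [map_one] at this
  exact hf.ne_refl (RingEquiv.ext fun t => by
    show σ t = t
    rw [h2 t]; linear_combination -t * h11)

/-- Every fixed element is a trace. -/
lemma exists_tr_eq {b : F} (hb : σ b = b) : ∃ γ : F, γ + σ γ = b := by
  obtain ⟨t, ht⟩ := exists_trace hf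
  refine ⟨b * (t / (t + σ t)), ?_⟩
  rw [map_mul, map_div₀, map_add, hf.involutive, hb]
  field_simp
  rw [show σ t + t = t + σ t from add_comm _ _, mul_div_assoc, div_self ht, mul_one]

lemma fix_self (u : ι → F) : σ (f u u) = f u u := (hf.herm u u).symm

lemma rev_zero {u v : ι → F} (h : f u v = 0) : f v u = 0 := by rw [hf.herm, h, map_zero]

lemma rev_one {u v : ι → F} (h : f u v = 1) : f v u = 1 := by rw [hf.herm, h, map_one]

lemma eq_zero_of {x : ι → F} (h : ∀ y, f y x = 0) : x = 0 :=
  un_eq_of_forall hf fun y => by rw [h, un_zero_right hf]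

variable (hn : Fintype.card ι = 4)
include hn

/-- An isotropic vector not orthogonal to a given non-zero vector. -/
lemma supply₀ {x : ι → F} (hx0 : x ≠ 0) :
    ∃ a, f a a = 0 ∧ f a x = 1 := by
  obtain ⟨y, -, hyx⟩ := un_eval₀ hf (fun _ : Empty => (0 : ι → F)) (x := x) (by simp [Set.range_eq_empty, hx0])
  by_cases hyy : f y y = 0
  · exact ⟨y, hyy, hyx⟩
  let w : Fin 1 → ι → F := ![y]
  let L : (ι → F) →ₗ[F] (Fin 1 → F) :=
    LinearMap.pi fun i =>
      { toFun := fun z => f z (w i)
        map_add' := fun a b => hf.add_left a b _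
        map_smul' := fun c a => hf.smul_left c a _ }
  have hmem : ∀ z, z ∈ LinearMap.ker L ↔ ∀ i, f z (w i) = 0 := fun z => by simp [L, funext_iff]
  suffices hne : ∃ z ∈ LinearMap.ker L, f z z ≠ 0 by
    obtain ⟨z, hz, hzz⟩ := hne
    have hσ : (σ : F →+* F) ≠ RingHom.id F := fun h => hf.ne_refl (RingEquiv.ext fun a => RingHom.congr_fun h a)
    have hfix : ∀ u, σ (f u u) = f u u := fun u => (hf.herm u u).symm
    obtain ⟨c, hc⟩ := CfsgLib.Geometry.exists_norm_eq (σ := (σ : F →+* F)) hσ (fun a => hf.involutive a)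
      (c := -f y y / f z z) (by
        show σ (-f y y / f z z) = _
        rw [map_div₀, map_neg, hfix, hfix])
    have hzw : ∀ i, f z (w i) = 0 := (hmem z).1 hz
    have hzy : f z y = 0 := hzw 0
    have hyz : f y z = 0 := by rw [hf.herm, hzy, map_zero]
    set a := y + c • z with ha
    have haa : f a a = 0 := by
      simp only [ha, hf.add_left, un_add_right hf, hf.smul_left, un_smul_right hf, hzy, hyz]
      change c * σ c = _ at hc
      have hc2 : c * σ c * f z z = -f y y := by rw [hc, div_mul_cancel₀ _ hzz]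
      linear_combination hc2
    have hay : f a y = f y y := by rw [ha, hf.add_left, hf.smul_left, hzy, mul_zero, add_zero]
    by_cases hax : f a x = 0
    · obtain ⟨t, ht⟩ : ∃ t : F, σ t + t ≠ 0 := by
        by_contra hh
        push Not at hh
        have h2 : ∀ t : F, σ t = -t := fun t => eq_neg_of_add_eq_zero_left (hh t)
        have h11 : (1 : F) = -1 := by have := h2 1; rwa [map_one] at this
        exact hf.ne_refl (RingEquiv.ext fun t => by
          show σ t = t
          rw [h2 t]; linear_combination -t * h11)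
      have hinv : σ (σ t + t) = σ t + t := by rw [map_add, hf.involutive]; ring
      refine ⟨y + (-t / (σ t + t)) • a, ?_, ?_⟩
      · have hya : f y a = f y y := by rw [hf.herm, hay, hfix]
        simp only [hf.add_left, un_add_right hf, hf.smul_left, un_smul_right hf, haa, hay, hya, map_div₀, map_neg,
          hinv]
        field_simp
        ring
      · rw [hf.add_left, hf.smul_left, hyx, hax, mul_zero, add_zero]
    · exact ⟨(f a x)⁻¹ • a, by rw [hf.smul_left, un_smul_right hf, haa, mul_zero, mul_zero],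
        by rw [hf.smul_left, inv_mul_cancel₀ hax]⟩
  by_contra hcon
  push Not at hcon
  set K := LinearMap.ker L
  have hts : ∀ a ∈ K, ∀ b ∈ K, f a b = 0 := by
    intro a ha b hb
    obtain ⟨k, hk0, hk⟩ := un_skew_exists hf
    have key : ∀ c : F, σ c * f a b + c * σ (f a b) = 0 := fun c => by
      have h := hcon _ (add_mem ha (K.smul_mem c hb))
      simp only [hf.add_left, un_add_right hf, hf.smul_left, un_smul_right hf, hcon a ha, hcon b hb] at h
      rw [hf.herm b a] at h
      linear_combination h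
    by_contra hab
    obtain ⟨c, hc⟩ : ∃ c : F, σ c + c ≠ 0 := by
      by_contra hh
      push Not at hh
      have h2 : ∀ c : F, σ c = -c := fun c => eq_neg_of_add_eq_zero_left (hh c)
      have h11 : (1 : F) = -1 := by have := h2 1; rwa [map_one] at this
      exact hf.ne_refl (RingEquiv.ext fun c => by
        show σ c = c
        rw [h2 c]; linear_combination -c * h11)
    have := key (σ (c / f a b))
    rw [hf.involutive, div_mul_cancel₀ _ hab, ← map_mul, div_mul_cancel₀ _ hab, add_comm] at this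
    exact hc this
  let b := Module.finBasis F K
  have hli : LinearIndependent F fun j => fvec f (b j : ι → F) := by
    rw [Fintype.linearIndependent_iff]
    intro g hg
    have hz : (∑ j, σ (g j) • (b j : ι → F)) = 0 := by
      refine un_fvec_injective hf ?_
      rw [un_fvec_zero hf, ← hg]
      funext i
      simp only [fvec, Finset.sum_apply, Pi.smul_apply, smul_eq_mul]
      rw [hf.herm, un_sum_left hf, map_sum]
      refine Finset.sum_congr rfl fun j _ => ?_
      rw [hf.smul_left, map_mul, hf.involutive, ← hf.herm]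
    have hz' : (∑ j, σ (g j) • b j) = 0 := Subtype.ext (by simpa using hz)
    intro j
    have := Fintype.linearIndependent_iff.1 b.linearIndependent _ hz' j
    exact σ.injective (by rw [this, map_zero])
  have hzy : ∀ z ∈ K, f z y = 0 := fun z hz => (hmem z).1 hz 0
  let u : Fin (Module.finrank F K + 1) → ι → F := Fin.cons y fun j => (b j : ι → F)
  have hmemA : ∀ j, dotProductEquiv F ι (fvec f (u j)) ∈ K.dualAnnihilator := fun j => by
    rw [Submodule.mem_dualAnnihilator]
    intro z hz
    show fvec f (u j) ⬝ᵥ z = 0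
    rw [un_dot hf]
    refine Fin.cases ?_ (fun i => ?_) j
    · exact hzy z hz
    · exact hts z hz _ (b i).2
  have hliu : LinearIndependent F fun j => fvec f (u j) := by
    have e : (fun j => fvec f (u j)) = Fin.cons (fvec f y) fun j => fvec f (b j : ι → F) := funext fun j =>
      Fin.cases rfl (fun i => rfl) j
    rw [e, linearIndependent_finCons]
    refine ⟨hli, fun hspan => hyy ?_⟩
    have hle : Submodule.span F (Set.range fun j => fvec f (b j : ι → F)) ≤
        LinearMap.ker (dotProductEquiv F ι y) := Submodule.span_le.2 (by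
      rintro _ ⟨j, rfl⟩
      show y ⬝ᵥ fvec f (b j : ι → F) = 0
      rw [dotProduct_comm, un_dot hf, hf.herm, hzy _ (b j).2, map_zero])
    have := hle hspan
    rw [LinearMap.mem_ker] at this
    rw [← un_dot hf y y, dotProduct_comm]
    exact this
  have hli2 : LinearIndependent F fun j => (⟨_, hmemA j⟩ : K.dualAnnihilator) :=
    LinearIndependent.of_comp K.dualAnnihilator.subtype
      (hliu.map' (dotProductEquiv F ι).toLinearMap (LinearEquiv.ker _))
  have h1 := hli2.fintype_card_le_finrank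
  have h2 := Subspace.finrank_add_finrank_dualAnnihilator_eq K
  have h3 := L.finrank_range_add_finrank_ker
  have h4 := (LinearMap.range L).finrank_le
  simp at h1 h2 h3 h4
  change Module.finrank F (LinearMap.range L) + Module.finrank F K = _ at h3
  omega

/-- An isotropic vector not orthogonal to either of two given non-zero vectors. -/
lemma supply₂ {u v : ι → F} (hu : u ≠ 0) (hv : v ≠ 0) : ∃ a, f a a = 0 ∧ f a u ≠ 0 ∧ f a v ≠ 0 := by
  obtain ⟨a, ha, hau⟩ := supply₀ hf hn hu
  obtain ⟨b, hb, hbv⟩ := supply₀ hf hn hv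
  by_cases h1 : f a v = 0
  · by_cases h2 : f b u = 0
    · obtain ⟨c, hc, hab⟩ := un_iso_comb hf ha hb
      exact ⟨a + c • b, hab, by rw [hf.add_left, hf.smul_left, h2, hau, mul_zero, add_zero]; exact one_ne_zero,
        by rw [hf.add_left, hf.smul_left, h1, hbv, mul_one, zero_add]; exact hc⟩
    · exact ⟨b, hb, h2, by rw [hbv]; exact one_ne_zero⟩
  · exact ⟨a, ha, by rw [hau]; exact one_ne_zero, h1⟩

/-- A frame for the hyperplane orthogonal to an anisotropic vector. -/
lemma frame3 {c e : ι → F} (hc : f c c ≠ 0) (he : f e e = 0) (he0 : e ≠ 0) (hec : f e c = 0) :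
    ∃ g n, f g g = 0 ∧ f g c = 0 ∧ f e g = 1 ∧ f n c = 0 ∧ f n e = 0 ∧ f n g = 0 ∧ f n n ≠ 0 ∧
      ∀ x, f x c = 0 → ∃ r s t : F, x = r • e + s • g + t • n := by
  classical
  have hens : e ∉ Submodule.span F (Set.range fun _ : Unit => c) := by
    intro hm
    simp only [Set.range_const] at hm
    obtain ⟨r, hr⟩ := Submodule.mem_span_singleton.1 hm
    rw [← hr, hf.smul_left] at hec
    exact he0 (by rw [← hr, (mul_eq_zero.1 hec).resolve_right hc, zero_smul])
  obtain ⟨y, hy, hye⟩ := un_eval₀ hf (fun _ : Unit => c) hens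
  have hyc : f y c = 0 := hy ()
  have hey : f e y = 1 := rev_one hf hye
  obtain ⟨γ, hγ⟩ := exists_tr_eq hf (b := -f y y) (by rw [map_neg, fix_self hf])
  set g := y + γ • e with hg
  have hgg : f g g = 0 := by
    simp only [hg, hf.add_left, un_add_right hf, hf.smul_left, un_smul_right hf, he, hey, hye]
    linear_combination hγ
  have hgc : f g c = 0 := by rw [hg, hf.add_left, hf.smul_left, hyc, hec]; ring
  have heg : f e g = 1 := by rw [hg, un_add_right hf, un_smul_right hf, hey, he]; ring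
  have hge : f g e = 1 := rev_one hf heg
  have hce : f c e = 0 := rev_zero hf hec
  have hcg : f c g = 0 := rev_zero hf hgc
  have hli : LinearIndependent F ![c, e, g] := by
    rw [Fintype.linearIndependent_iff]
    intro k hk i
    simp only [Fin.sum_univ_three, Matrix.cons_val_zero, Matrix.cons_val_one, Matrix.cons_val] at hk
    have k0 := congrArg (fun v => f v c) hk
    have k1 := congrArg (fun v => f v g) hk
    have k2 := congrArg (fun v => f v e) hk
    simp only [hf.add_left, hf.smul_left, hec, hgc, hce, hcg, he, hgg, heg, hge, un_zero_left hf, mul_zero, mul_one,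
      add_zero, zero_add] at k0 k1 k2
    fin_cases i
    · exact (mul_eq_zero.1 k0).resolve_right hc
    · exact k1
    · exact k2
  set S3 := Submodule.span F (Set.range ![c, e, g])
  have hS3 : Module.finrank F S3 = 3 := by rw [finrank_span_eq_card hli, Fintype.card_fin]
  obtain ⟨x, hx⟩ : ∃ x, x ∉ S3 := by
    by_contra hcon
    push Not at hcon
    have h1 : S3 = ⊤ := eq_top_iff.2 fun x _ => hcon x
    rw [h1, finrank_top, Module.finrank_fintype_fun_eq_card, hn] at hS3
    omega
  set n := x - (f x c / f c c) • c - f x g • e - f x e • g with hndef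
  have hmem : ∀ r s t : F, r • c + s • e + t • g ∈ S3 := fun r s t =>
    add_mem (add_mem (Submodule.smul_mem _ _ (Submodule.subset_span ⟨0, rfl⟩))
      (Submodule.smul_mem _ _ (Submodule.subset_span ⟨1, rfl⟩))) (Submodule.smul_mem _ _ (Submodule.subset_span ⟨2, rfl⟩))
  have hn0 : n ≠ 0 := fun h0 => hx (by
    have : x = (f x c / f c c) • c + f x g • e + f x e • g := by
      rw [hndef] at h0
      linear_combination (norm := module) h0
    rw [this]; exact hmem _ _ _)
  have sub_left : ∀ u v w, f (u - v) w = f u w - f v w := fun u v w => by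
    rw [sub_eq_add_neg, hf.add_left, ← neg_one_smul F v, hf.smul_left]; ring
  have hnc : f n c = 0 := by
    simp only [hndef, sub_left, hf.smul_left, hec, hgc]
    rw [div_mul_cancel₀ _ hc]; ring
  have hne : f n e = 0 := by simp only [hndef, sub_left, hf.smul_left, hce, he, hge]; ring
  have hng : f n g = 0 := by simp only [hndef, sub_left, hf.smul_left, hcg, heg, hgg]; ring
  have htop : S3 ⊔ Submodule.span F {x} = ⊤ := by
    apply Submodule.eq_top_of_finrank_eq
    have hlt : S3 < S3 ⊔ Submodule.span F {x} := lt_of_le_of_ne le_sup_left fun h =>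
      hx (h ▸ Submodule.mem_sup_right (Submodule.mem_span_singleton_self x))
    have h1 := Submodule.finrank_lt_finrank_of_lt hlt
    have h2 := (S3 ⊔ Submodule.span F {x}).finrank_le
    rw [Module.finrank_fintype_fun_eq_card, hn] at h2 ⊢
    omega
  have hexp : ∀ z, ∃ a r s t : F, z = a • c + r • e + s • g + t • n := by
    intro z
    obtain ⟨p, hp, q, hq, rfl⟩ := Submodule.mem_sup.1 (htop ▸ Submodule.mem_top (x := z))
    obtain ⟨k, rfl⟩ := (Submodule.mem_span_range_iff_exists_fun F).1 hp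
    obtain ⟨t, rfl⟩ := Submodule.mem_span_singleton.1 hq
    refine ⟨k 0 + t * (f x c / f c c), k 1 + t * f x g, k 2 + t * f x e, t, ?_⟩
    simp only [Fin.sum_univ_three, Matrix.cons_val_zero, Matrix.cons_val_one, Matrix.cons_val, hndef]
    module
  have hnn : f n n ≠ 0 := fun h0 => hn0 (eq_zero_of hf fun z => by
    obtain ⟨a, r, s, t, rfl⟩ := hexp z
    simp [hf.add_left, hf.smul_left, rev_zero hf hnc, rev_zero hf hne, rev_zero hf hng, h0])
  refine ⟨g, n, hgg, hgc, heg, hnc, hne, hng, hnn, fun z hz => ?_⟩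
  obtain ⟨a, r, s, t, rfl⟩ := hexp z
  simp only [hf.add_left, hf.smul_left, hec, hgc, hnc, mul_zero, add_zero] at hz
  exact ⟨r, s, t, by rw [(mul_eq_zero.1 hz).resolve_right hc, zero_smul, zero_add]⟩

/-- An isotropic vector in the hyperplane. -/
lemma exists_iso_perp {c : ι → F} (hc : f c c ≠ 0) : ∃ e, f e e = 0 ∧ e ≠ 0 ∧ f e c = 0 := by
  have sub_left : ∀ u v w, f (u - v) w = f u w - f v w := fun u v w => by
    rw [sub_eq_add_neg, hf.add_left, ← neg_one_smul F v, hf.smul_left]; ring
  have out : ∀ v : Fin 2 → ι → F, ∃ x, x ∉ Submodule.span F (Set.range v) := fun v => by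
    by_contra hcon
    push Not at hcon
    have h1 : Submodule.span F (Set.range v) = ⊤ := eq_top_iff.2 fun x _ => hcon x
    have h2 : Module.finrank F (Submodule.span F (Set.range v)) ≤ Fintype.card (Fin 2) := finrank_range_le_card v
    rw [h1, finrank_top, Module.finrank_fintype_fun_eq_card, hn, Fintype.card_fin] at h2
    omega
  obtain ⟨x, hx⟩ := out ![c, c]
  set y := x - (f x c / f c c) • c with hy
  have hyc : f y c = 0 := by rw [hy, sub_left, hf.smul_left, div_mul_cancel₀ _ hc, sub_self]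
  have hy0 : y ≠ 0 := fun h0 => hx (by
    rw [sub_eq_zero.1 h0]; exact Submodule.smul_mem _ _ (Submodule.subset_span ⟨0, rfl⟩))
  by_cases hyy : f y y = 0
  · exact ⟨y, hyy, hy0, hyc⟩
  obtain ⟨z, hz⟩ := out ![c, y]
  set w := z - (f z c / f c c) • c - (f z y / f y y) • y with hw
  have hcy : f c y = 0 := rev_zero hf hyc
  have hwc : f w c = 0 := by
    simp only [hw, sub_left, hf.smul_left, hyc]
    rw [div_mul_cancel₀ _ hc]; ring
  have hwy : f w y = 0 := by
    simp only [hw, sub_left, hf.smul_left, hcy]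
    rw [div_mul_cancel₀ _ hyy]; ring
  have hw0 : w ≠ 0 := fun h0 => hz (by
    have : z = (f z c / f c c) • c + (f z y / f y y) • y := by
      rw [hw] at h0
      linear_combination (norm := module) h0
    rw [this]
    exact add_mem (Submodule.smul_mem _ _ (Submodule.subset_span ⟨0, rfl⟩))
      (Submodule.smul_mem _ _ (Submodule.subset_span ⟨1, rfl⟩)))
  by_cases hww : f w w = 0
  · exact ⟨w, hww, hw0, hwc⟩
  have hσ : (σ : F →+* F) ≠ RingHom.id F := fun h => hf.ne_refl (RingEquiv.ext fun a => RingHom.congr_fun h a)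
  obtain ⟨k, hk⟩ := CfsgLib.Geometry.exists_norm_eq (σ := (σ : F →+* F)) hσ (fun a => hf.involutive a)
    (c := -f w w / f y y) (by
      show σ (-f w w / f y y) = _
      rw [map_div₀, map_neg, fix_self hf, fix_self hf])
  change k * σ k = _ at hk
  refine ⟨k • y + w, ?_, fun h0 => ?_, ?_⟩
  · simp only [hf.add_left, un_add_right hf, hf.smul_left, un_smul_right hf, hwy, rev_zero hf hwy]
    have hk2 : k * σ k * f y y = -f w w := by rw [hk, div_mul_cancel₀ _ hyy]
    linear_combination hk2
  · have h1 := congrArg (fun v => f v w) h0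
    simp [hf.add_left, hf.smul_left, rev_zero hf hwy, un_zero_left hf] at h1
    exact hww h1
  · rw [hf.add_left, hf.smul_left, hyc, hwc]; ring

/-- The isotropic vectors of the hyperplane separate its points. -/
lemma exists_iso_ne {c z : ι → F} (hc : f c c ≠ 0) (hz : f z c = 0) (hz0 : z ≠ 0) :
    ∃ e, f e e = 0 ∧ e ≠ 0 ∧ f e c = 0 ∧ f e z ≠ 0 := by
  by_contra hcon
  push Not at hcon
  obtain ⟨e, he, he0, hec⟩ := exists_iso_perp hf hn hc
  obtain ⟨g, n, hgg, hgc, heg, hnc, hne, hng, hnn, hexp⟩ := frame3 hf hn hc he he0 hec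
  have hge : f g e = 1 := rev_one hf heg
  have hg0 : g ≠ 0 := fun e0 => by rw [e0, un_zero_right hf] at heg; exact zero_ne_one heg
  have z1 : f e z = 0 := hcon e he he0 hec
  have z2 : f g z = 0 := hcon g hgg hg0 hgc
  obtain ⟨γ, hγ⟩ := exists_tr_eq hf (b := -f n n) (by rw [map_neg, fix_self hf])
  have z3 : f (g + n + γ • e) z = 0 := by
    refine hcon _ ?_ (fun e0 => ?_) ?_
    · simp only [hf.add_left, un_add_right hf, hf.smul_left, un_smul_right hf, hgg, he, heg, hge, hne, hng,
        rev_zero hf hne, rev_zero hf hng]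
      linear_combination hγ
    · have h1 := congrArg (fun v => f v e) e0
      simp [hf.add_left, hf.smul_left, hge, hne, he, un_zero_left hf] at h1
    · simp [hf.add_left, hf.smul_left, hgc, hnc, hec]
  rw [hf.add_left, hf.add_left, hf.smul_left, z2, z1] at z3
  refine hz0 (eq_zero_of hf fun y => ?_)
  obtain ⟨r, s, t, hy⟩ := hexp (y - (f y c / f c c) • c) (by
    rw [sub_eq_add_neg, ← neg_smul, hf.add_left, hf.smul_left, neg_mul, div_mul_cancel₀ _ hc, add_neg_cancel])
  rw [show y = (f y c / f c c) • c + (r • e + s • g + t • n) by rw [← hy]; module]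
  have hzn : f n z = 0 := by linear_combination z3
  simp [hf.add_left, hf.smul_left, rev_zero hf hz, z1, z2, hzn]

/-- A submodule with a vector of the hyperplane, closed under passing to the isotropic vectors not orthogonal
to one of its members, contains the hyperplane. -/
lemma sweep {c d : ι → F} (hc : f c c ≠ 0) (hd : f d c = 0) (hd0 : d ≠ 0) (L : Submodule F (ι → F)) (hL : d ∈ L)
    (hclose : ∀ z ∈ L, f z c = 0 → ∀ e, f e e = 0 → e ≠ 0 → f e c = 0 → f e z ≠ 0 → e ∈ L) :
    ∀ x, f x c = 0 → x ∈ L := by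
  obtain ⟨e, he, he0, hec, hed⟩ := exists_iso_ne hf hn hc hd hd0
  have heL : e ∈ L := hclose d hL hd e he he0 hec hed
  obtain ⟨g, n, hgg, hgc, heg, hnc, hne, hng, hnn, hexp⟩ := frame3 hf hn hc he he0 hec
  have hge : f g e = 1 := rev_one hf heg
  have hgL : g ∈ L := hclose e heL hec g hgg (fun e0 => by rw [e0, un_zero_right hf] at heg; exact zero_ne_one heg) hgc
    (by rw [hge]; exact one_ne_zero)
  have hnL : n ∈ L := by
    obtain ⟨γ, hγ⟩ := exists_tr_eq hf (b := -f n n) (by rw [map_neg, fix_self hf])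
    have h1 : g + n + γ • e ∈ L := by
      refine hclose e heL hec _ ?_ (fun e0 => ?_) ?_ ?_
      · simp only [hf.add_left, un_add_right hf, hf.smul_left, un_smul_right hf, hgg, he, heg, hge, hne, hng,
          rev_zero hf hne, rev_zero hf hng]
        linear_combination hγ
      · have h1 := congrArg (fun v => f v e) e0
        simp [hf.add_left, hf.smul_left, hge, hne, he, un_zero_left hf] at h1
      · simp [hf.add_left, hf.smul_left, hgc, hnc, hec]
      · simp [hf.add_left, hf.smul_left, hge, hne, he]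
    have h2 := L.sub_mem (L.sub_mem h1 hgL) (L.smul_mem γ heL)
    convert h2 using 1
    module
  intro x hx
  obtain ⟨r, s, t, rfl⟩ := hexp x hx
  exact L.add_mem (L.add_mem (L.smul_mem r heL) (L.smul_mem s hgL)) (L.smul_mem t hnL)

end supply

variable {F : Type*} [Field F] {n : ℕ} {σ : F ≃+* F} {f : (Fin n → F) → (Fin n → F) → F}

local notation "GG" => Matrix.GeneralLinearGroup (Fin n) F
local notation "MM" => Matrix (Fin n) (Fin n) F

variable {M : Subgroup (Matrix.GeneralLinearGroup (Fin n) F)}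

lemma has_iso (hf : Cfsg.Geo.IsUnitaryForm σ f)
    (hHM : Cfsg.Geo.similarityGroup f ⊓ Cfsg.Geo.specialLinear (Fin n) F ≤ M) {a : Fin n → F} (ha : f a a = 0)
    {k : F} (hk : σ k = -k) : Has M (k • a) (fvec f a) :=
  ⟨un_tv_dot hf ha k, hHM ⟨⟨1, fun u v => by rw [un_tv_isometry hf ha hk, Units.val_one, one_mul]⟩,
    tv_mem_specialLinear _ _ _⟩⟩

variable [Fintype F]

lemma proper (hf : Cfsg.Geo.IsUnitaryForm σ f) (hn : Fintype.card (Fin n) = 4) :
    Cfsg.Geo.similarityGroup f ⊓ Cfsg.Geo.specialLinear (Fin n) F < Cfsg.Geo.specialLinear (Fin n) F := by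
  refine lt_of_le_of_ne inf_le_right fun heq => ?_
  have hn0 : 0 < n := by simp at hn; omega
  have he0 : (Pi.single ⟨0, hn0⟩ 1 : Fin n → F) ≠ 0 := by simp
  obtain ⟨c, hc, hcx⟩ := supply₀ hf hn he0
  have hc0 : c ≠ 0 := fun h => by rw [h, un_zero_left hf] at hcx; exact zero_ne_one hcx
  obtain ⟨d, hd, hdc⟩ : ∃ d, f c d = 0 ∧ d ∉ Submodule.span F {c} := by
    let φ := fvec f c
    let L : (Fin n → F) →ₗ[F] F := dotProductEquiv F (Fin n) φ
    by_contra hcon
    push Not at hcon
    have hle : LinearMap.ker L ≤ Submodule.span F {c} := fun z hz => hcon z (by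
      rw [hf.herm, show f z c = 0 from (un_dot hf c z).symm.trans hz, map_zero])
    have h1 := Submodule.finrank_mono hle
    rw [finrank_span_singleton hc0] at h1
    have h2 := L.finrank_range_add_finrank_ker
    have h3 := (LinearMap.range L).finrank_le
    simp at h2 h3 hn
    omega
  have h : fvec f d ⬝ᵥ c = 0 := by rw [un_dot hf, hd]
  have hmem : tv c (fvec f d) h ∈ Cfsg.Geo.similarityGroup f ⊓ Cfsg.Geo.specialLinear (Fin n) F := by
    rw [heq]; exact tv_mem_specialLinear _ _ _
  obtain ⟨k, hk⟩ := hmem.1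
  have hk1 : (k : F) = 1 := by
    obtain ⟨z, hz⟩ := un_exists hf c hc0
    have hz' : f z c = 1 := by rw [hf.herm, hz, map_one]
    have h2 := hk z c
    rw [tv_mulVec, tv_mulVec, un_dot hf, un_dot hf, hd, zero_smul, add_zero, hf.add_left, hf.smul_left, hc,
      mul_zero, add_zero, hz', mul_one] at h2
    exact h2.symm
  obtain ⟨x, hxc, hxd⟩ := un_eval₀ hf (fun _ : Unit => c) (x := d) (by simpa using hdc)
  have hcd : c ∉ Submodule.span F {d} := by
    intro hm
    obtain ⟨l, hl⟩ := Submodule.mem_span_singleton.1 hm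
    rcases eq_or_ne l 0 with rfl | hl0
    · simp [← hl] at hc0
    · exact hdc (Submodule.mem_span_singleton.2 ⟨l⁻¹, by rw [← hl, inv_smul_smul₀ hl0]⟩)
  obtain ⟨y, hyd, hyc⟩ := un_eval₀ hf (fun _ : Unit => d) (x := c) (by simpa using hcd)
  have h3 := hk x y
  rw [hk1, one_mul, tv_mulVec, tv_mulVec, un_dot hf, un_dot hf, hxd, hyd (), one_smul, zero_smul, add_zero,
    hf.add_left, hf.herm c y, hyc, map_one, add_eq_left] at h3
  exact one_ne_zero h3

lemma exists_pair (hf : Cfsg.Geo.IsUnitaryForm σ f) (hn : Fintype.card (Fin n) = 4)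
    (hHM : Cfsg.Geo.similarityGroup f ⊓ Cfsg.Geo.specialLinear (Fin n) F ≤ M) {g : GG} (hgM : g ∈ M)
    (hg : g ∉ Cfsg.Geo.similarityGroup f) :
    ∃ c d, c ≠ 0 ∧ d ∉ Submodule.span F {c} ∧ Has M c (fvec f d) := by
  obtain ⟨k, hk0, hk⟩ := un_skew_exists hf
  by_contra hcon
  push Not at hcon
  have key : ∀ a, a ≠ 0 → f a a = 0 → ∃ l : F, ∀ x, f x a = l * f ((g : MM) *ᵥ x) ((g : MM) *ᵥ a) := by
    intro a ha0 ha
    obtain ⟨d, hd⟩ := un_fvec_surj hf (fvec f a ᵥ* ((g⁻¹ : GG) : MM))
    have hga : k • ((g : MM) *ᵥ a) ≠ 0 := smul_ne_zero hk0 fun h0 => ha0 (mulVec_inj g (by simpa using h0))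
    by_cases hds : d ∈ Submodule.span F {k • ((g : MM) *ᵥ a)}
    · obtain ⟨l, hl⟩ := Submodule.mem_span_singleton.1 hds
      refine ⟨σ (l * k), fun x => ?_⟩
      rw [← un_dot hf a, ← dot_vecMul_inv g, ← hd, un_dot hf, ← hl, smul_smul, un_smul_right hf]
    · refine absurd ?_ (hcon _ d hga hds)
      have := (has_iso hf hHM ha hk).conj hgM
      rwa [Matrix.mulVec_smul, ← hd] at this
  choose! l hl using key
  have hsym : ∀ a b, a ≠ 0 → f a a = 0 → b ≠ 0 → f b b = 0 → f a b ≠ 0 → l a = σ (l b) := by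
    intro a b ha0 ha hb0 hb hab
    have h1 := hl a ha0 ha b
    have h2 := congrArg σ (hl b hb0 hb a)
    rw [← hf.herm, map_mul, ← hf.herm, h1] at h2
    have hne : f ((g : MM) *ᵥ b) ((g : MM) *ᵥ a) ≠ 0 := by
      intro h0
      apply hab
      rw [hf.herm, h1, h0, mul_zero, map_zero]
    exact mul_right_cancel₀ hne h2
  have hfix : ∀ a b, a ≠ 0 → f a a = 0 → b ≠ 0 → f b b = 0 → f a b ≠ 0 → l a = l b := by
    intro a b ha0 ha hb0 hb hab
    obtain ⟨c, hc, hw⟩ := un_iso_comb hf ha hb
    have hw0 : a + c • b ≠ 0 := fun h0 => hab (by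
      rw [eq_neg_of_add_eq_zero_left h0, ← neg_smul, hf.smul_left, hb, mul_zero])
    have hzero : (σ (l (a + c • b)) - σ (l a)) • ((g : MM) *ᵥ a) +
        ((σ (l (a + c • b)) - σ (l b)) * c) • ((g : MM) *ᵥ b) = 0 := by
      refine un_eq_of_forall hf fun y => ?_
      obtain ⟨x, rfl⟩ := mulVec_surj g y
      have h1 := hl _ hw0 hw x
      rw [un_add_right hf, un_smul_right hf, Matrix.mulVec_add, Matrix.mulVec_smul, un_add_right hf,
        un_smul_right hf, hl a ha0 ha x, hl b hb0 hb x] at h1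
      simp only [un_add_right hf, un_smul_right hf, un_zero_right hf, map_sub, map_mul, hf.involutive]
      linear_combination -h1
    have hzero' : (σ (l (a + c • b)) - σ (l a)) • a + ((σ (l (a + c • b)) - σ (l b)) * c) • b = 0 := by
      refine mulVec_inj g ?_
      show (g : MM) *ᵥ _ = _ *ᵥ _
      rw [Matrix.mulVec_add, Matrix.mulVec_smul, Matrix.mulVec_smul, Matrix.mulVec_zero]
      exact hzero
    have hind : LinearIndependent F ![a, b] := (LinearIndependent.pair_iff' ha0).2 fun r hr => hab (by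
      rw [← hr, un_smul_right hf, ha, mul_zero])
    obtain ⟨h1, h2⟩ := LinearIndependent.pair_iff.1 hind _ _ hzero'
    rcases mul_eq_zero.1 h2 with h3 | h3
    · exact σ.injective ((sub_eq_zero.1 h1).symm.trans (sub_eq_zero.1 h3))
    · exact absurd h3 hc
  have hconst : ∀ a b, a ≠ 0 → f a a = 0 → b ≠ 0 → f b b = 0 → l a = l b := by
    intro a b ha0 ha hb0 hb
    obtain ⟨e, he, hea, heb⟩ := supply₂ hf hn ha0 hb0
    have he0 : e ≠ 0 := fun h => hea (by rw [h, un_zero_left hf])
    exact (hfix e a he0 he ha0 ha hea).symm.trans (hfix e b he0 he hb0 hb heb)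
  have hn0 : 0 < n := by simp at hn; omega
  obtain ⟨a₀, ha₀, hau⟩ := supply₀ hf hn (x := Pi.single ⟨0, hn0⟩ 1) (by simp)
  have ha₀0 : a₀ ≠ 0 := fun h => by rw [h, un_zero_left hf] at hau; exact zero_ne_one hau
  let S : Submodule F (Fin n → F) :=
    { carrier := {v | ∀ x, f x v = l a₀ * f ((g : MM) *ᵥ x) ((g : MM) *ᵥ v)}
      zero_mem' := fun x => by rw [Matrix.mulVec_zero, un_zero_right hf, un_zero_right hf, mul_zero]
      add_mem' := fun {u v} hu hv x => by rw [Matrix.mulVec_add, un_add_right hf, un_add_right hf, hu x, hv x]; ring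
      smul_mem' := fun c v hv x => by rw [Matrix.mulVec_smul, un_smul_right hf, un_smul_right hf, hv x]; ring }
  have hall : ∀ v, v ∈ S := by
    by_contra hcon'
    push Not at hcon'
    obtain ⟨v, hv⟩ := hcon'
    obtain ⟨φ, hφ, hφv⟩ := exists_ann S v hv
    obtain ⟨z, rfl⟩ := un_fvec_surj hf φ
    have hz : z ≠ 0 := fun h => by simp [h, un_fvec_zero hf] at hφv
    obtain ⟨e, he, hez⟩ := supply₀ hf hn hz
    have he0 : e ≠ 0 := fun h => by rw [h, un_zero_left hf] at hez; exact zero_ne_one hez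
    have := hφ e fun x => by rw [hl e he0 he x, hconst e a₀ he0 he ha₀0 ha₀]
    rw [un_dot hf, hez] at this
    exact one_ne_zero this
  have hl0 : l a₀ ≠ 0 := by
    intro h0
    obtain ⟨x, hx⟩ := (hf.nondegenerate _ ha₀0).1
    exact hx (by rw [hall a₀ x, h0, zero_mul])
  exact hg ⟨Units.mk0 (l a₀)⁻¹ (inv_ne_zero hl0), fun u v => by
    rw [hall v u, Units.val_mk0, inv_mul_cancel_left₀ hl0]⟩

/-- An element of the similitude group fixing `c` and scaling the isotropic vector `e`. -/
lemma scale_mem (hf : Cfsg.Geo.IsUnitaryForm σ f) (hn : Fintype.card (Fin n) = 4)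
    (hHM : Cfsg.Geo.similarityGroup f ⊓ Cfsg.Geo.specialLinear (Fin n) F ≤ M) {c e : Fin n → F} (hc : f c c ≠ 0)
    (he : f e e = 0) (he0 : e ≠ 0) (hec : f e c = 0) (l : Fˣ) :
    ∃ T ∈ M, (∀ u v, f ((T : MM) *ᵥ u) ((T : MM) *ᵥ v) = f u v) ∧ (T : MM) *ᵥ c = c ∧
      (T : MM) *ᵥ e = (l : F) • e := by
  obtain ⟨g, w, hgg, hgc, heg, hwc, hwe, hwg, hww, hexp⟩ := frame3 hf hn hc he he0 hec
  have hge : f g e = 1 := rev_one hf heg
  have d1 : fvec f g ⬝ᵥ e = 1 := by rw [un_dot hf, heg]
  have d2 : fvec f e ⬝ᵥ g = 1 := by rw [un_dot hf, hge]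
  have d3 : (f w w)⁻¹ • fvec f w ⬝ᵥ w = 1 := by rw [smul_dotProduct, un_dot hf, smul_eq_mul, inv_mul_cancel₀ hww]
  let l' : Fˣ := (Units.map σ.toRingHom.toMonoidHom l)⁻¹
  set T := reflGL e (fvec f g) l d1 * reflGL g (fvec f e) l' d2 *
    reflGL w ((f w w)⁻¹ • fvec f w) (l * l')⁻¹ d3 with hT
  set lw : F := (((l * l')⁻¹ : Fˣ) : F) with hlw
  have hTv : ∀ x, (T : MM) *ᵥ x = x + (((l : F) - 1) * f x g) • e + (((σ l : F)⁻¹ - 1) * f x e) • g +
      ((lw - 1) * ((f w w)⁻¹ * f x w)) • w := by
    intro x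
    rw [hT, Units.val_mul, Units.val_mul, ← Matrix.mulVec_mulVec, ← Matrix.mulVec_mulVec, reflGL_mulVec,
      reflGL_mulVec, reflGL_mulVec]
    simp only [smul_dotProduct, un_dot hf, smul_eq_mul, hf.add_left, hf.smul_left, hwe, hwg, hgg, mul_zero,
      add_zero, hlw, l', Units.val_inv_eq_inv_val, Units.val_mul]
    simp only [Units.coe_map, RingEquiv.toRingHom_eq_coe, RingHom.toMonoidHom_eq_coe, MonoidHom.coe_coe, RingHom.coe_coe]
    module
  have hiso : ∀ u v, f ((T : MM) *ᵥ u) ((T : MM) *ᵥ v) = f u v := by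
    intro u v
    have hl : (l : F) ≠ 0 := l.ne_zero
    have hσl : σ (l : F) ≠ 0 := fun h => hl (σ.injective (by rw [h, map_zero]))
    have hlwv : lw = σ (l : F) / (l : F) := by
      simp [hlw, l', div_eq_mul_inv]
    have hfw : σ (f w w) = f w w := fix_self hf w
    rw [hTv, hTv]
    simp only [hf.add_left, un_add_right hf, hf.smul_left, un_smul_right hf, he, hgg, heg, hge, hwe, hwg,
      rev_zero hf hwe, rev_zero hf hwg, map_mul, map_sub, map_one, map_inv₀, hfw, hlwv, map_div₀, hf.involutive,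
      ← hf.herm e v, ← hf.herm g v, ← hf.herm w v]
    field_simp
    ring
  have hTS : T ∈ M := by
    refine hHM ⟨⟨1, fun u v => by rw [hiso, Units.val_one, one_mul]⟩, ?_⟩
    show T ∈ Cfsg.Geo.specialLinear (Fin n) F
    rw [mem_specialLinear_iff, hT, Units.val_mul, Units.val_mul, Matrix.det_mul, Matrix.det_mul, reflGL_det,
      reflGL_det, reflGL_det, ← Units.val_mul, ← Units.val_mul, mul_inv_cancel, Units.val_one]
  refine ⟨T, hTS, hiso, ?_, ?_⟩
  · rw [hTv, rev_zero hf hgc, rev_zero hf hec, rev_zero hf hwc]; simp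
  · rw [hTv, heg, he, rev_zero hf hwe]; simp [sub_smul]

/-- A transvection with an anisotropic centre gives all of that centre. -/
lemma centre_of_pair (hf : Cfsg.Geo.IsUnitaryForm σ f) (hn : Fintype.card (Fin n) = 4)
    (hHM : Cfsg.Geo.similarityGroup f ⊓ Cfsg.Geo.specialLinear (Fin n) F ≤ M) {c d : Fin n → F} (hc : f c c ≠ 0)
    (hd : d ≠ 0) (hcd : Has M c (fvec f d)) : TvCentre M c := by
  classical
  obtain ⟨k, hk0, hk⟩ := un_skew_exists hf
  have hdc : f d c = 0 := rev_zero hf (by rw [← un_dot hf]; exact hcd.dot)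
  let L : Submodule F (Fin n → F) :=
    { carrier := {y | f y c = 0 ∧ ∀ μ : F, Has M c (fvec f (μ • y))}
      zero_mem' := ⟨un_zero_left hf c, fun μ => has_of_zero (Or.inr (by rw [smul_zero, un_fvec_zero hf]))⟩
      add_mem' := fun {y z} hy hz => ⟨by rw [hf.add_left, hy.1, hz.1, add_zero],
        fun μ => by rw [smul_add, un_fvec_add hf]; exact (hy.2 μ).add_right (hz.2 μ)⟩
      smul_mem' := fun a y hy => ⟨by rw [hf.smul_left, hy.1, mul_zero],
        fun μ => by rw [smul_smul]; exact hy.2 _⟩ }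
  have hsing : ∀ d, Has M c (fvec f d) → ∀ e, f e e = 0 → e ≠ 0 → f e c = 0 → f e d ≠ 0 → e ∈ L := by
    intro d hcd e he he0 hec hed
    refine ⟨hec, fun μ => ?_⟩
    rcases eq_or_ne μ 0 with rfl | hμ
    · exact has_of_zero (Or.inr (by rw [zero_smul, un_fvec_zero hf]))
    have h0 : fvec f e ⬝ᵥ c = 0 := by rw [un_dot hf, rev_zero hf hec]
    have h1 := (has_iso hf hHM he hk).comm_right hcd h0
    rw [un_dot hf, show f (k • e) d • fvec f e = fvec f (σ (f (k • e) d) • e) by
      rw [un_fvec_smul hf, hf.involutive]] at h1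
    set r := σ (f (k • e) d) with hr
    have hr0 : r ≠ 0 := fun h => by
      have := σ.injective (show σ (f (k • e) d) = σ 0 by rw [map_zero]; exact h)
      rw [hf.smul_left] at this
      exact mul_ne_zero hk0 hed this
    obtain ⟨T, hT, hiso, hTc, hTe⟩ := scale_mem hf hn hHM hc he he0 hec
      (Units.mk0 (μ / r) (div_ne_zero hμ hr0))
    have h2 := h1.conj hT
    rw [hTc] at h2
    refine h2.congr rfl (dot_ext fun y => ?_)
    obtain ⟨x, rfl⟩ := mulVec_surj T y
    rw [dot_vecMul_inv, un_dot hf, un_dot hf, ← hiso x, Matrix.mulVec_smul, hTe, smul_smul, Units.val_mk0,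
      mul_div_cancel₀ _ hr0]
  obtain ⟨e, he, he0, hec, hed⟩ := exists_iso_ne hf hn hc hdc hd
  have heL : e ∈ L := hsing d hcd e he he0 hec hed
  have hall := sweep hf hn hc hec he0 L heL fun z hz _ u hu hu0 huc huz =>
    hsing z (by simpa using hz.2 1) u hu hu0 huc huz
  refine tvCentre_iff.2 fun φ hφ => ?_
  obtain ⟨y, rfl⟩ := un_fvec_surj hf φ
  rw [un_dot hf] at hφ
  simpa using (hall y (rev_zero hf hφ)).2 1

/-- A transvection outside the isometries gives one with an anisotropic centre. -/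
lemma exists_nonsing_pair (hf : Cfsg.Geo.IsUnitaryForm σ f) (hn : Fintype.card (Fin n) = 4)
    (hHM : Cfsg.Geo.similarityGroup f ⊓ Cfsg.Geo.specialLinear (Fin n) F ≤ M) {c d : Fin n → F} (hc : c ≠ 0)
    (hd : d ∉ Submodule.span F {c}) (hcd : Has M c (fvec f d)) :
    ∃ c d, f c c ≠ 0 ∧ d ≠ 0 ∧ Has M c (fvec f d) := by
  classical
  have hd0 : d ≠ 0 := fun h => hd (h ▸ zero_mem _)
  by_cases hcc : f c c = 0
  swap
  · exact ⟨c, d, hcc, hd0, hcd⟩
  obtain ⟨k, hk0, hk⟩ := un_skew_exists hf
  have hcd0 : f c d = 0 := by rw [← un_dot hf]; exact hcd.dot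
  obtain ⟨u, hu, huc⟩ := supply₀ hf hn hc
  have hcu : f c u = 1 := rev_one hf huc
  obtain ⟨a, ha, hac, hT⟩ : ∃ a, f a a = 0 ∧ f c a = 1 ∧ f a d + σ (f a d) ≠ 0 := by
    by_cases h1 : f u d + σ (f u d) = 0
    swap
    · exact ⟨u, hu, hcu, h1⟩
    have hdns : d ∉ Submodule.span F (Set.range ![c, u]) := by
      intro hm
      obtain ⟨p, hp⟩ := (Submodule.mem_span_range_iff_exists_fun F).1 hm
      simp [Fin.sum_univ_two] at hp
      have h2 : f d c = 0 := rev_zero hf hcd0
      rw [← hp, hf.add_left, hf.smul_left, hf.smul_left, hcc, huc, mul_zero, zero_add, mul_one] at h2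
      exact hd (Submodule.mem_span_singleton.2 ⟨p 0, by rw [← hp, h2, zero_smul, add_zero]⟩)
    obtain ⟨p, hp, hpd⟩ := un_eval₀ hf ![c, u] hdns
    have hpc : f p c = 0 := hp 0
    have hpu : f p u = 0 := hp 1
    obtain ⟨t, ht⟩ := exists_trace hf
    obtain ⟨γ, hγ⟩ := exists_tr_eq hf (b := -f (t • p) (t • p)) (by rw [map_neg, fix_self hf])
    refine ⟨u + t • p + γ • c, ?_, ?_, ?_⟩
    · simp only [hf.add_left, un_add_right hf, hf.smul_left, un_smul_right hf, hu, hcc, hcu, huc, hpc, hpu,
        rev_zero hf hpc, rev_zero hf hpu]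
      simp only [hf.smul_left, un_smul_right hf] at hγ
      linear_combination hγ
    · simp only [un_add_right hf, un_smul_right hf, hcu, hcc, rev_zero hf hpc]; ring
    · rw [hf.add_left, hf.add_left, hf.smul_left, hf.smul_left, hpd, hcd0]
      simp only [mul_zero, add_zero, mul_one, map_add]
      intro h0
      exact ht (by linear_combination h0 - h1)
  obtain ⟨hh, hTM⟩ := has_iso hf hHM ha hk
  set Y := tv (k • a) (fvec f a) hh
  set c' := (Y : MM) *ᵥ c with hc'
  have hc'eq : c' = c + k • a := by rw [hc', tv_mulVec, un_dot hf, hac, one_smul]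
  set ψ := fvec f d ᵥ* ((Y⁻¹ : GG) : MM)
  have h2 : Has M c' ψ := hcd.conj hTM
  have h3 := hcd.conj_tv' h2
  rw [un_dot hf] at h3
  obtain ⟨d', hd'⟩ := un_fvec_surj hf (ψ - (ψ ⬝ᵥ c) • fvec f d)
  rw [← hd'] at h3
  refine ⟨_, d', ?_, fun e0 => ?_, h3⟩
  · have hca : f a c = 1 := rev_one hf hac
    intro h0
    rw [hc'eq] at h0
    simp only [hf.add_left, un_add_right hf, hf.smul_left, un_smul_right hf, hcc, ha, hac, hca, hcd0, map_add,
      map_mul, hk, map_zero] at h0
    have h5 : k * k * (f a d + σ (f a d)) = 0 := by linear_combination -h0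
    exact mul_ne_zero (mul_ne_zero hk0 hk0) hT h5
  · rw [e0, un_fvec_zero hf] at hd'
    have h4 : ψ = (ψ ⬝ᵥ c) • fvec f d := sub_eq_zero.1 hd'.symm
    have h5 : ψ ⬝ᵥ c = 0 := by
      have := congrArg (fun v => v ⬝ᵥ c) h4
      simp only [smul_dotProduct, un_dot hf, hcd0, smul_zero] at this
      exact this
    rw [h5, zero_smul] at h4
    apply hd0
    refine eq_zero_of hf fun y => ?_
    rw [← un_dot hf, ← dot_vecMul_inv Y, show fvec f d ᵥ* ((Y⁻¹ : GG) : MM) = ψ from rfl, h4, zero_dotProduct]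

lemma centre_add (b c : Fin n → F) (hb : TvCentre M b) (hc : TvCentre M c) : TvCentre M (b + c) := by
  by_cases h : c ∈ Submodule.span F {b}
  · obtain ⟨l, rfl⟩ := Submodule.mem_span_singleton.1 h
    have := hb.smul (1 + l)
    rwa [add_smul, one_smul] at this
  obtain ⟨φ, hφ, hφc⟩ := exists_ann _ c h
  have h0 := hφ b (Submodule.mem_span_singleton_self b)
  have := hc.map (hb φ h0)
  rwa [tv_mulVec, hφc, one_smul, add_comm] at this

/-- The similitude group is maximal. -/
theorem unitarySimilarity_maximal (hf : Cfsg.Geo.IsUnitaryForm σ f) (hn : Fintype.card (Fin n) = 4) :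
    Cfsg.Geo.IsMaximalIn (Cfsg.Geo.specialLinear (Fin n) F)
      (Cfsg.Geo.similarityGroup f ⊓ Cfsg.Geo.specialLinear (Fin n) F) := by
  refine ⟨proper hf hn, fun M hHM hMS => or_iff_not_imp_left.2 fun hne =>
    le_antisymm hMS (specialLinear_le_of_tv M ?_)⟩
  obtain ⟨g, hgM, hg⟩ : ∃ g ∈ M, g ∉ Cfsg.Geo.similarityGroup f := by
    by_contra hcon
    push Not at hcon
    exact hne (le_antisymm (fun g hg => ⟨hcon g hg, hMS hg⟩) hHM)
  obtain ⟨c₀, d₀, hc₀, hd₀, hcd₀⟩ := exists_pair hf hn hHM hgM hg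
  obtain ⟨c, d, hcc, hd, hcd⟩ := exists_nonsing_pair hf hn hHM hc₀ hd₀ hcd₀
  have hc : c ≠ 0 := fun h => hcc (by rw [h, un_zero_left hf])
  let C : Submodule F (Fin n → F) :=
    { carrier := {v | TvCentre M v}
      zero_mem' := by
        show TvCentre M 0
        exact tvCentre_iff.2 fun φ _ => has_of_zero (Or.inl rfl)
      add_mem' := fun {u v} hu hv => centre_add u v hu hv
      smul_mem' := fun a v hv => TvCentre.smul hv a }
  have hcC : c ∈ C := centre_of_pair hf hn hHM hcc hd hcd
  obtain ⟨k, hk0, hk⟩ := un_skew_exists hf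
  have hnext : ∀ x ∈ C, ∀ a, f a a = 0 → f x a ≠ 0 → a ∈ C := by
    intro x hx a ha hxa
    obtain ⟨h, hm⟩ := has_iso hf hHM ha hk
    have h1 : TvCentre M _ := TvCentre.map hx hm
    rw [tv_mulVec, un_dot hf, smul_smul] at h1
    have h2 : (f x a * k) • a ∈ C := (C.add_mem_iff_right hx).1 h1
    exact (C.smul_mem_iff (mul_ne_zero hxa hk0)).1 h2
  have hiso : ∀ b, f b b = 0 → b ∈ C := by
    intro b hb
    rcases eq_or_ne b 0 with rfl | hb0
    · exact C.zero_mem
    obtain ⟨e, he, hec, heb⟩ := supply₂ hf hn hc hb0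
    exact hnext e (hnext c hcC e he fun h => hec (by rw [hf.herm, h, map_zero])) b hb heb
  intro v
  by_contra hv
  obtain ⟨φ, hφ, hφv⟩ := exists_ann C v hv
  obtain ⟨z, rfl⟩ := un_fvec_surj hf φ
  have hz : z ≠ 0 := fun h => by simp [h, un_fvec_zero hf] at hφv
  obtain ⟨e, he, hez, -⟩ := supply₂ hf hn hz hz
  exact hez ((un_dot hf z e).symm.trans (hφ e (hiso e he)))

end CfsgLib.Maximal.UnFour
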