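import Mathlib
import Cfsg.Agent.Lib.Maximal.Transvec

/-!
Field subalgebras of the matrix algebra: intermediate subfields, and unipotent elements centralising a
subfield without normalising the field.
-/

set_option autoImplicit false
set_option linter.style.haveILetI false

namespace CfsgLib.Maximal

open scoped Matrix

variable {F : Type*} [Field F] {ι : Type} [Fintype ι] [DecidableEq ι]

variable (K : Subalgebra F (Matrix ι ι F))

/-- The field structure on a field subalgebra. -/
@[reducible] noncomputable def fieldOfSub {r : ℕ} (hK : Cfsg.Geo.IsFieldSubalgebra r K)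
    (h10 : (1 : Matrix ι ι F) ≠ 0) : Field K :=
  @IsField.toField K _ ⟨⟨0, 1, fun h => h10 (congrArg Subtype.val h).symm⟩,
    fun x y => Subtype.ext (hK.comm _ x.2 _ y.2),
    fun {x} hx => by
      obtain ⟨y, hy, hxy⟩ := hK.inv _ x.2 (fun h => hx (Subtype.ext h))
      exact ⟨⟨y, hy⟩, Subtype.ext hxy⟩⟩

lemma isFieldSubalgebra_bot [Nonempty ι] : Cfsg.Geo.IsFieldSubalgebra 1 (⊥ : Subalgebra F (Matrix ι ι F)) := by
  refine ⟨?_, ?_, ?_⟩
  · intro x hx y hy
    obtain ⟨a, rfl⟩ := Algebra.mem_bot.1 hx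
    exact (Algebra.commutes a y)
  · intro x hx hx0
    obtain ⟨a, rfl⟩ := Algebra.mem_bot.1 hx
    have ha : a ≠ 0 := fun h => hx0 (by rw [h, map_zero])
    exact ⟨algebraMap F _ a⁻¹, Algebra.mem_bot.2 ⟨_, rfl⟩, by rw [← map_mul, mul_inv_cancel₀ ha, map_one]⟩
  · exact Subalgebra.finrank_bot

lemma finrank_mulVec_lt {r : ℕ} (hK : Cfsg.Geo.IsFieldSubalgebra r K) (hr : r < Fintype.card ι)
    (v : ι → F) : ∃ w : ι → F, ∀ x ∈ K, x *ᵥ v ≠ w := by
  let f : K →ₗ[F] (ι → F) :=
    { toFun := fun x => (x : Matrix ι ι F) *ᵥ v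
      map_add' := fun x y => by simp [Matrix.add_mulVec]
      map_smul' := fun c x => by simp [Matrix.smul_mulVec] }
  have h : LinearMap.range f ≠ ⊤ := by
    intro h
    have h2 := LinearMap.finrank_range_le f
    rw [h, finrank_top, hK.finrank_eq, Module.finrank_pi] at h2
    omega
  obtain ⟨w, -, hw⟩ := SetLike.exists_of_lt h.lt_top
  exact ⟨w, fun x hx he => hw ⟨⟨x, hx⟩, he⟩⟩

variable [Fintype F]

/-- Some element of SL centralises the subfield `L` but does not normalise `K`. -/
theorem exists_centralizer_not_normalizer {r s : ℕ} (hK : Cfsg.Geo.IsFieldSubalgebra r K)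
    (L : Subalgebra F (Matrix ι ι F)) (hL : Cfsg.Geo.IsFieldSubalgebra s L) (hLK : L < K)
    (hr : r < Fintype.card ι) :
    ∃ T : GL ι F, T ∈ Cfsg.Geo.specialLinear ι F ∧
      (∀ x ∈ L, (T : Matrix ι ι F) * x = x * (T : Matrix ι ι F)) ∧
      T ∉ Cfsg.Geo.subalgebraNormalizer K := by
  classical
  haveI : Nonempty ι := Fintype.card_pos_iff.1 (by omega)
  obtain ⟨i₀⟩ := (inferInstance : Nonempty ι)
  letI : Field L := fieldOfSub L hL one_ne_zero
  letI : Module L (ι → F) := Module.compHom (ι → F)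
    ((Matrix.toLinAlgEquiv' (R := F) (n := ι)).toAlgHom.toRingHom.comp L.val.toRingHom)
  have hsmul : ∀ (x : L) (v : ι → F), x • v = (x : Matrix ι ι F) *ᵥ v := fun _ _ => rfl
  obtain ⟨c, hcK, hcL⟩ := SetLike.exists_of_lt hLK
  set v1 : ι → F := Pi.single i₀ 1 with hv1
  obtain ⟨v2, hv2⟩ := finrank_mulVec_lt K hK hr v1
  -- v1 and v2 are independent over K
  have hind : ∀ x ∈ K, ∀ y ∈ K, x *ᵥ v1 + y *ᵥ v2 = 0 → x = 0 ∧ y = 0 := by
    intro x hx y hy h
    by_cases hy0 : y = 0
    · refine ⟨?_, hy0⟩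
      by_contra hx0
      obtain ⟨z, hz, hxz⟩ := hK.inv x hx hx0
      rw [hy0, Matrix.zero_mulVec, add_zero] at h
      have h2 := congrArg (z *ᵥ ·) h
      simp only [Matrix.mulVec_mulVec, Matrix.mulVec_zero] at h2
      rw [hK.comm z hz x hx, hxz, Matrix.one_mulVec] at h2
      have h3 := congrFun h2 i₀
      simp [hv1] at h3
    · exfalso
      obtain ⟨z, hz, hyz⟩ := hK.inv y hy hy0
      refine hv2 (-(z * x)) (neg_mem (mul_mem hz hx)) ?_
      have h2 := congrArg (z *ᵥ ·) (eq_neg_of_add_eq_zero_right h)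
      simp only [Matrix.mulVec_mulVec, Matrix.mulVec_neg] at h2
      rw [hK.comm z hz y hy, hyz, Matrix.one_mulVec] at h2
      rw [Matrix.neg_mulVec, h2]
  set W : Submodule L (ι → F) := Submodule.span L {c *ᵥ v1, v2, c *ᵥ v2} with hW
  have hv1W : v1 ∉ W := by
    intro h
    obtain ⟨a, b, d, habd⟩ : ∃ a b d : L, a • (c *ᵥ v1) + b • v2 + d • (c *ᵥ v2) = v1 := by
      obtain ⟨a, z, hz, hv⟩ := Submodule.mem_span_insert.1 h
      obtain ⟨b, z2, hz2, rfl⟩ := Submodule.mem_span_insert.1 hz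
      obtain ⟨d, rfl⟩ := Submodule.mem_span_singleton.1 hz2
      exact ⟨a, b, d, (add_assoc _ _ _).trans hv.symm⟩
    simp only [hsmul, Matrix.mulVec_mulVec] at habd
    have haK := hLK.le a.2
    have h2 := hind ((a : Matrix ι ι F) * c - 1) (sub_mem (mul_mem haK hcK) (one_mem K))
      ((b : Matrix ι ι F) + (d : Matrix ι ι F) * c) (add_mem (hLK.le b.2) (mul_mem (hLK.le d.2) hcK))
      (by
        rw [Matrix.sub_mulVec, Matrix.add_mulVec, Matrix.one_mulVec]
        linear_combination (norm := module) habd)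
    have hac : (a : Matrix ι ι F) * c = 1 := sub_eq_zero.1 h2.1
    have ha0 : (a : Matrix ι ι F) ≠ 0 := fun h0 => by rw [h0, zero_mul] at hac; exact zero_ne_one hac
    obtain ⟨a', ha', haa'⟩ := hL.inv _ a.2 ha0
    have : c = a' := by
      calc c = (a' * (a : Matrix ι ι F)) * c := by rw [hL.comm a' ha' _ a.2, haa', one_mul]
        _ = a' := by rw [mul_assoc, hac, mul_one]
    exact hcL (this ▸ ha')
  obtain ⟨l, hl1, hlW⟩ := Submodule.exists_dual_map_eq_bot_of_notMem hv1W (@Module.Projective.of_free _ _ _ _ _ (Module.Free.of_divisionRing L _))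
  have hlz : ∀ w ∈ W, l w = 0 := fun w hw => by
    have : l w ∈ W.map l := ⟨w, hw, rfl⟩
    rw [hlW, Submodule.mem_bot] at this
    exact this
  set lin : L →ₗ[L] (ι → F) := LinearMap.toSpanSingleton L (ι → F) ((l v1)⁻¹ • v2) with hlin
  set Xl : (ι → F) →ₗ[L] (ι → F) := lin.comp l with hXl
  have hXF : ∀ (a : F) (v : ι → F), Xl (a • v) = a • Xl v := by
    intro a v
    have e : ∀ w : ι → F, a • w = (algebraMap F L a) • w := fun w => by
      rw [hsmul]
      show _ = (algebraMap F (Matrix ι ι F) a) *ᵥ w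
      rw [Algebra.algebraMap_eq_smul_one, Matrix.smul_mulVec, Matrix.one_mulVec]
    rw [e v, map_smul, ← e]
  let X : Matrix ι ι F := LinearMap.toMatrix'
    { toFun := fun v => Xl v, map_add' := fun v w => map_add Xl v w, map_smul' := hXF }
  have hX : ∀ v, X *ᵥ v = Xl v := fun v => by
    show (LinearMap.toMatrix' _) *ᵥ v = _
    rw [LinearMap.toMatrix'_mulVec]; rfl
  have hXz : ∀ w ∈ W, Xl w = 0 := fun w hw => by
    show lin (l w) = 0
    rw [hlz w hw, map_zero]
  have hXX : X * X = 0 := by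
    refine Matrix.ext_of_mulVec_single fun i => ?_
    rw [← Matrix.mulVec_mulVec, hX, hX, Matrix.zero_mulVec]
    apply hXz
    show lin (l _) ∈ W
    rw [hlin, LinearMap.toSpanSingleton_apply]
    exact W.smul_mem _ (W.smul_mem _ (Submodule.subset_span (by simp)))
  let T : GL ι F := ⟨1 + X, 1 - X,
    by rw [mul_sub, mul_one, add_mul, one_mul, hXX, add_zero, add_sub_cancel_right],
    by rw [sub_mul, one_mul, mul_add, mul_one, hXX, add_zero, add_sub_cancel_right]⟩
  refine ⟨T, ?_, ?_, ?_⟩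
  · rw [mem_specialLinear_iff]
    obtain ⟨p, hp⟩ := CharP.exists F
    haveI := hp
    haveI hpF : Fact p.Prime := ⟨CharP.char_is_prime F p⟩
    have h2 : (1 + X) ^ p = 1 := by
      have : ∀ k : ℕ, (1 + X) ^ k = 1 + (k : ℕ) • X := by
        intro k
        induction k with
        | zero => simp
        | succ k ih =>
          rw [pow_succ, ih, succ_nsmul, add_mul, one_mul, smul_mul_assoc, mul_add, mul_one, hXX, add_zero]
          abel
      rw [this, ← Nat.cast_smul_eq_nsmul F, CharP.cast_eq_zero, zero_smul, add_zero]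
    have h3 : (Matrix.det (1 + X)) ^ p = 1 := by rw [← Matrix.det_pow, h2, Matrix.det_one]
    have h4 : (Matrix.det (1 + X) - 1) ^ p = 0 := by rw [sub_pow_char, h3, one_pow, sub_self]
    exact sub_eq_zero.1 (pow_eq_zero_iff hpF.out.ne_zero |>.1 h4)
  · intro x hx
    show (1 + X) * x = x * (1 + X)
    rw [add_mul, one_mul, mul_add, mul_one, add_right_inj]
    refine Matrix.ext_of_mulVec_single fun i => ?_
    rw [← Matrix.mulVec_mulVec, ← Matrix.mulVec_mulVec, hX, hX]
    exact Xl.map_smul (⟨x, hx⟩ : L) _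
  · intro hT
    have hk := (hT c).1 hcK
    set k' := (T : Matrix ι ι F) * c * ((T⁻¹ : GL ι F) : Matrix ι ι F) with hk'
    have hXv1 : Xl v1 = v2 := by
      show lin (l v1) = v2
      rw [hlin, LinearMap.toSpanSingleton_apply]
      exact smul_inv_smul₀ hl1 v2
    have hval : k' *ᵥ v1 = c *ᵥ v1 - c *ᵥ v2 := by
      rw [hk', ← Matrix.mulVec_mulVec, ← Matrix.mulVec_mulVec]
      show (1 + X) *ᵥ (c *ᵥ ((1 - X) *ᵥ v1)) = _
      rw [Matrix.sub_mulVec, Matrix.one_mulVec, hX, hXv1, Matrix.mulVec_sub, Matrix.add_mulVec,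
        Matrix.one_mulVec, hX, map_sub, hXz _ (Submodule.subset_span (by simp)),
        hXz _ (Submodule.subset_span (by simp)), sub_zero, add_zero]
    obtain ⟨-, h2⟩ := hind (k' - c) (sub_mem hk hcK) c hcK (by rw [Matrix.sub_mulVec, hval]; abel)
    exact hcL (h2 ▸ zero_mem L)

/-- The intermediate subfield of a field subalgebra. -/
theorem exists_intermediate {r ℓ : ℕ} (hK : Cfsg.Geo.IsFieldSubalgebra r K) [Nonempty ι]
    (hℓ1 : 1 < ℓ) (hℓr : ℓ ∣ r) (hℓlt : ℓ < r) :
    ∃ L : Subalgebra F (Matrix ι ι F), ∃ s : ℕ, Cfsg.Geo.IsFieldSubalgebra s L ∧ ⊥ < L ∧ L < K ∧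
      Cfsg.Geo.subalgebraNormalizer K ≤ Cfsg.Geo.subalgebraNormalizer L := by
  classical
  letI : Field K := fieldOfSub K hK one_ne_zero
  haveI : Finite (Matrix ι ι F) := inferInstance
  haveI : Finite K := Finite.of_injective Subtype.val Subtype.val_injective
  letI : Fintype K := Fintype.ofFinite K
  haveI : FiniteDimensional F K := Module.Finite.of_finite
  let σ : K →ₐ[F] K := (FiniteField.frobeniusAlgHom F K) ^ ℓ
  have hσ : ∀ x : K, σ x = x ^ (Fintype.card F ^ ℓ) := fun x => by
    show ((FiniteField.frobeniusAlgHom F K) ^ ℓ) x = _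
    suffices h : ∀ k : ℕ, ((FiniteField.frobeniusAlgHom F K) ^ k) x = x ^ (Fintype.card F ^ k) from h ℓ
    intro k
    induction k with
    | zero => rw [pow_zero, pow_zero, pow_one]; rfl
    | succ k ih =>
      rw [pow_succ' (FiniteField.frobeniusAlgHom F K) k, AlgHom.mul_apply, ih, pow_succ, pow_mul]
      rfl
  let L0 : Subalgebra F K := AlgHom.equalizer σ (AlgHom.id F K)
  let L : Subalgebra F (Matrix ι ι F) := L0.map K.val
  have hmem : ∀ x, x ∈ L ↔ x ∈ K ∧ x ^ (Fintype.card F ^ ℓ) = x := by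
    intro x
    constructor
    · rintro ⟨y, hy, rfl⟩
      refine ⟨y.2, ?_⟩
      have : σ y = y := hy
      rw [hσ] at this
      exact congrArg Subtype.val this
    · rintro ⟨hxK, hx⟩
      refine ⟨⟨x, hxK⟩, ?_, rfl⟩
      show σ _ = _
      rw [hσ]
      exact Subtype.ext hx
  have hLK : L ≤ K := fun x hx => ((hmem x).1 hx).1
  refine ⟨L, Module.finrank F L, ⟨fun x hx y hy => hK.comm x (hLK hx) y (hLK hy), ?_, rfl⟩, ?_, ?_, ?_⟩
  · intro x hx hx0
    obtain ⟨y, hy, hxy⟩ := hK.inv x (hLK hx) hx0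
    refine ⟨y, (hmem y).2 ⟨hy, ?_⟩, hxy⟩
    have hxe := ((hmem x).1 hx).2
    have hc : Commute x y := hK.comm x (hLK hx) y hy
    have h1 : x * y ^ (Fintype.card F ^ ℓ) = 1 := by
      conv_lhs => rw [← hxe]
      rw [← hc.mul_pow, hxy, one_pow]
    calc y ^ (Fintype.card F ^ ℓ) = (y * x) * y ^ (Fintype.card F ^ ℓ) := by
          rw [← hc.eq, hxy, one_mul]
      _ = y := by rw [mul_assoc, h1, mul_one]
  · -- L is bigger than the scalars
    refine lt_of_le_of_ne bot_le fun hbot => ?_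
    have hr : Module.finrank F K = r := hK.finrank_eq
    haveI : NeZero ℓ := ⟨by omega⟩
    obtain ⟨p, hp⟩ := CharP.exists F
    haveI := hp
    haveI hpF : Fact p.Prime := ⟨CharP.char_is_prime F p⟩
    let E : Type _ := FiniteField.Extension F p ℓ
    have hEfr : Module.finrank F E = ℓ := FiniteField.finrank_extension F p ℓ
    obtain ⟨f⟩ : Nonempty (E →ₐ[F] K) := FiniteField.nonempty_algHom_of_finrank_dvd (by rw [hEfr, hr]; exact hℓr)
    haveI : Finite E := Finite.of_injective f f.injective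
    have hsub : (K.val.comp f).range ≤ L := by
      rintro _ ⟨e, rfl⟩
      refine (hmem _).2 ⟨(f e).2, ?_⟩
      have : e ^ (Fintype.card F ^ ℓ) = e := by
        letI := Fintype.ofFinite E
        have h2 : Fintype.card E = Fintype.card F ^ ℓ := by
          rw [← hEfr]; exact Module.card_eq_pow_finrank
        rw [← h2]; exact FiniteField.pow_card e
      calc ((K.val.comp f) e) ^ (Fintype.card F ^ ℓ) = (K.val.comp f) (e ^ (Fintype.card F ^ ℓ)) := (map_pow _ _ _).symm
        _ = _ := by rw [this]; rfl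
    rw [← hbot] at hsub
    have h3 := Submodule.finrank_mono (R := F) (show (K.val.comp f).range.toSubmodule ≤ (⊥ : Subalgebra F (Matrix ι ι F)).toSubmodule from hsub)
    rw [Subalgebra.finrank_toSubmodule, Subalgebra.finrank_toSubmodule, Subalgebra.finrank_bot,
      ← LinearEquiv.finrank_eq (AlgEquiv.ofInjective (K.val.comp f) (Subtype.val_injective.comp f.injective)).toLinearEquiv,
      hEfr] at h3
    omega
  · refine lt_of_le_of_ne hLK fun he => ?_
    have hall : σ = 1 := AlgHom.ext fun x => by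
      have := (hmem x.1).1 (he.symm ▸ x.2)
      rw [hσ]
      exact Subtype.ext this.2
    have h2 := orderOf_dvd_of_pow_eq_one hall
    rw [FiniteField.orderOf_frobeniusAlgHom, hK.finrank_eq] at h2
    have := Nat.le_of_dvd (by omega) h2
    omega
  · intro g hg x
    rw [hmem, hmem, ← hg x]
    refine and_congr_right fun _ => ?_
    rw [Units.conj_pow g x]
    constructor
    · intro h; rw [h]
    · intro h
      have h2 := congrArg (fun z => ((g⁻¹ : GL ι F) : Matrix ι ι F) * z * (g : Matrix ι ι F)) h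
      simpa [mul_assoc, ← Units.val_mul] using h2

end CfsgLib.Maximal
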