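import Mathlib
import Cfsg.Agent.Lib.Maximal.UnTv
import Cfsg.Agent.Lib.Maximal.RatBasic
import Cfsg.Agent.Lib.Geometry.MatrixEquiv

/-!
Unitary forms with a rational structure over a subfield: supply of rational isotropic vectors.
-/

set_option autoImplicit false
set_option linter.unusedSectionVars false
set_option linter.unusedSimpArgs false

namespace CfsgLib.Maximal

open scoped Matrix

variable {F : Type*} [Field F] {ι : Type} [Fintype ι] [DecidableEq ι] {τ : F ≃+* F}
  {h : (ι → F) → (ι → F) → F} {F₀ : Subfield F} {ζ : F}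

lemma RatV.addV {v w : ι → F} (hv : RatV F₀ v) (hw : RatV F₀ w) : RatV F₀ (v + w) :=
  fun i => F₀.add_mem (hv i) (hw i)

lemma ratV_zero : RatV F₀ (0 : ι → F) := fun _ => F₀.zero_mem

/-- A unitary form which is, up to the factor `ζ`, defined over the subfield. -/
structure RatForm (τ : F ≃+* F) (h : (ι → F) → (ι → F) → F) (F₀ : Subfield F) (ζ : F) : Prop where
  unit : Cfsg.Geo.IsUnitaryForm τ h
  ne : ζ ≠ 0
  rat : ∀ u v : ι → F, RatV F₀ u → RatV F₀ v → ζ * h u v ∈ F₀
  tau_mem : ∀ x ∈ F₀, τ x ∈ F₀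
  affine : ∀ (p : Fin 3 → ι → F) (x y : ι → F), (∀ i, RatV F₀ (p i)) → RatV F₀ x → RatV F₀ y →
    x ∉ Submodule.span F (Set.range p) → (∀ i, h y (p i) = 0) → ζ * h y x = 1 →
    ∃ a, RatV F₀ a ∧ h a a = 0 ∧ (∀ i, h a (p i) = 0) ∧ ζ * h a x = 1
  pick_four : ∀ p : Fin 4 → ι → F, (∀ i, RatV F₀ (p i)) →
    ((∃ i j, h (p i) (p j) ≠ 0) ∨ ∃ i, p i ∈ Submodule.span F (p '' {i}ᶜ)) →
    ∃ d, RatV F₀ d ∧ h d d = 0 ∧ (∀ i, h d (p i) = 0) ∧ d ∉ Submodule.span F (Set.range p)
  dim : 10 ≤ Fintype.card ι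

/-- A pair of independent orthogonal rational isotropic vectors. -/
structure RatPair (h : (ι → F) → (ι → F) → F) (F₀ : Subfield F) (a b : ι → F) : Prop where
  left : RatV F₀ a
  right : RatV F₀ b
  isoL : h a a = 0
  isoR : h b b = 0
  orth : h a b = 0
  ne : a ≠ 0
  indep : b ∉ Submodule.span F ({a} : Set (ι → F))

namespace RatForm

variable [Finite F] (hR : RatForm τ h F₀ ζ)
include hR

lemma isUnit_dim : 10 ≤ Fintype.card ι := by have := hR.dim; omega

omit [Finite F] in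
lemma skew0 {u v : ι → F} (huv : h u v = 0) : h v u = 0 := by rw [hR.unit.herm, huv, map_zero]

omit [Finite F] in
lemma tau_inv_mul (x : F) : τ x ∈ F₀ ↔ x ∈ F₀ :=
  ⟨fun hx => by have := hR.tau_mem _ hx; rwa [hR.unit.involutive] at this, hR.tau_mem x⟩

omit [Finite F] in
lemma dual_rat {u : ι → F} (hu : RatV F₀ u) : RatV F₀ (ζ • fvec h u) :=
  fun _ => hR.rat _ _ (ratV_single _ F₀.one_mem) hu

/-- Every rational functional is the pairing with a rational vector. -/
lemma exists_dual {φ : ι → F} (hφ : RatV F₀ φ) : ∃ x, RatV F₀ x ∧ ∀ y, ζ * h y x = φ ⬝ᵥ y := by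
  let G : {v : ι → F // RatV F₀ v} → {v : ι → F // RatV F₀ v} := fun v => ⟨ζ • fvec h v.1, hR.dual_rat v.2⟩
  have hinj : Function.Injective G := fun a b hab => Subtype.ext (un_fvec_injective hR.unit (by
    have := congrArg Subtype.val hab
    exact smul_right_injective _ hR.ne this))
  obtain ⟨x, hx⟩ := (Finite.injective_iff_surjective.1 hinj) ⟨φ, hφ⟩
  refine ⟨x.1, x.2, fun y => ?_⟩
  rw [← show ζ • fvec h x.1 = φ from congrArg Subtype.val hx, smul_dotProduct, un_dot hR.unit, smul_eq_mul]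

lemma ratV_of_pairing {z : ι → F} (hz : ∀ y, RatV F₀ y → ζ * h y z ∈ F₀) : RatV F₀ z := by
  obtain ⟨x, hx, hxy⟩ := hR.exists_dual (φ := ζ • fvec h z) (fun i => hz _ (ratV_single i F₀.one_mem))
  have : z = x := un_eq_of_forall hR.unit fun y => mul_left_cancel₀ hR.ne (by
    rw [hxy, smul_dotProduct, un_dot hR.unit, smul_eq_mul])
  exact this ▸ hx

omit [Finite F] in
lemma eps_mem : τ ζ / ζ ∈ F₀ := by
  classical
  have hcard := hR.dim
  obtain ⟨i⟩ : Nonempty ι := Fintype.card_pos_iff.1 (by omega)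
  obtain ⟨⟨x, hx⟩, -⟩ := hR.unit.nondegenerate (Pi.single i 1) (by simp)
  obtain ⟨j, hj⟩ : ∃ j, h (Pi.single j 1) (Pi.single i 1) ≠ 0 := by
    by_contra! hall
    apply hx
    rw [← un_dot hR.unit, show fvec h (Pi.single i 1) = 0 from funext fun j => hall j, zero_dotProduct]
  have hi : RatV F₀ (Pi.single i 1 : ι → F) := ratV_single i F₀.one_mem
  have hj' : RatV F₀ (Pi.single j 1 : ι → F) := ratV_single j F₀.one_mem
  have h1 := hR.rat _ _ hj' hi
  have h2 := hR.rat _ _ hi hj'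
  rw [hR.unit.herm (Pi.single i 1) (Pi.single j 1)] at h2
  have h3 := F₀.mul_mem (hR.tau_mem _ h1) (F₀.inv_mem h2)
  rw [map_mul] at h3
  convert h3 using 1
  have hne : τ (h (Pi.single j 1) (Pi.single i 1)) ≠ 0 := fun e => hj (τ.injective (by rw [e, map_zero]))
  have := hR.ne
  field_simp

omit [Finite F] in
lemma eps_ne : τ ζ / ζ ≠ 0 :=
  div_ne_zero (fun e => hR.ne (τ.injective (by rw [e, map_zero]))) hR.ne

omit [Finite F] in
lemma rat_swap {y z : ι → F} (hz : ζ * h z y ∈ F₀) : ζ * h y z ∈ F₀ := by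
  have h1 := F₀.mul_mem (F₀.inv_mem hR.eps_mem) (hR.tau_mem _ hz)
  rw [map_mul, ← hR.unit.herm y z] at h1
  convert h1 using 1
  have hne : τ ζ ≠ 0 := fun e => hR.ne (τ.injective (by rw [e, map_zero]))
  have := hR.ne
  field_simp

/-- Rational evaluation vectors. -/
lemma eval {κ : Type*} (p : κ → ι → F) (hp : ∀ i, RatV F₀ (p i)) {x : ι → F} (hx : RatV F₀ x)
    (hind : x ∉ Submodule.span F (Set.range p)) :
    ∃ y, RatV F₀ y ∧ (∀ i, h y (p i) = 0) ∧ ζ * h y x = 1 := by
  classical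
  let G : κ → ι → F₀ := fun i j => ⟨(ζ • fvec h (p i)) j, hR.dual_rat (hp i) j⟩
  let X : ι → F₀ := fun j => ⟨(ζ • fvec h x) j, hR.dual_rat hx j⟩
  have hX : X ∉ Submodule.span F₀ (Set.range G) := by
    intro hmem
    apply hind
    let S : Submodule F₀ (ι → F₀) :=
      { carrier := {φ | ∃ z ∈ Submodule.span F (Set.range p), (fun j => (φ j : F)) = ζ • fvec h z}
        zero_mem' := ⟨0, zero_mem _, funext fun j => by simp [un_fvec_zero hR.unit]⟩
        add_mem' := by
          rintro φ ψ ⟨z, hz, ez⟩ ⟨w, hw, ew⟩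
          refine ⟨z + w, add_mem hz hw, ?_⟩
          rw [un_fvec_add hR.unit, smul_add, ← ez, ← ew]; rfl
        smul_mem' := by
          rintro c φ ⟨z, hz, ez⟩
          refine ⟨τ (c : F) • z, Submodule.smul_mem _ _ hz, ?_⟩
          rw [un_fvec_smul hR.unit, hR.unit.involutive, smul_comm, ← ez]; rfl }
    obtain ⟨z, hz, ez⟩ := (Submodule.span_le (p := S)).2
      (by rintro _ ⟨i, rfl⟩; exact ⟨p i, Submodule.subset_span ⟨i, rfl⟩, rfl⟩) hmem
    have e : x = z := un_fvec_injective hR.unit (smul_right_injective _ hR.ne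
      (show ζ • fvec h x = ζ • fvec h z from ez))
    exact e ▸ hz
  obtain ⟨φ, hφ, hφx⟩ := exists_ann _ _ hX
  have cast : ∀ (q : ι → F₀), ((φ ⬝ᵥ q : F₀) : F) = (fun j => (φ j : F)) ⬝ᵥ (fun j => (q j : F)) := fun q => by
    simp [dotProduct]
  refine ⟨fun j => (φ j : F), fun j => (φ j).2, fun i => ?_, ?_⟩
  · have h1 := congrArg Subtype.val (hφ _ (Submodule.subset_span ⟨i, rfl⟩))
    rw [cast] at h1
    change (fun j => (φ j : F)) ⬝ᵥ (ζ • fvec h (p i)) = 0 at h1
    rw [dotProduct_smul, dotProduct_comm, un_dot hR.unit, smul_eq_mul] at h1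
    exact (mul_eq_zero.1 h1).resolve_left hR.ne
  · have h1 := congrArg Subtype.val hφx
    rw [cast] at h1
    change (fun j => (φ j : F)) ⬝ᵥ (ζ • fvec h x) = 1 at h1
    rwa [dotProduct_smul, dotProduct_comm, un_dot hR.unit, smul_eq_mul] at h1

omit [Finite F] in
lemma range_dup {p : Fin 4 → ι → F} (hdup : p 3 = p 1 ∨ p 3 = 0) :
    Submodule.span F (Set.range p) = Submodule.span F (Set.range ![p 0, p 1, p 2]) := by
  refine le_antisymm (Submodule.span_le.2 ?_) (Submodule.span_le.2 ?_)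
  · rintro _ ⟨i, rfl⟩
    fin_cases i
    · exact Submodule.subset_span ⟨0, rfl⟩
    · exact Submodule.subset_span ⟨1, rfl⟩
    · exact Submodule.subset_span ⟨2, rfl⟩
    · show p 3 ∈ _
      rcases hdup with e | e <;> rw [e]
      · exact Submodule.subset_span ⟨1, rfl⟩
      · exact zero_mem _
  · rintro _ ⟨i, rfl⟩
    fin_cases i
    exacts [Submodule.subset_span ⟨0, rfl⟩, Submodule.subset_span ⟨1, rfl⟩, Submodule.subset_span ⟨2, rfl⟩]

/-- Rational isotropic vectors orthogonal to three given vectors but not to another one. -/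
lemma supply (p : Fin 4 → ι → F) (hp : ∀ i, RatV F₀ (p i)) {x : ι → F} (hx : RatV F₀ x)
    (hind : x ∉ Submodule.span F (Set.range p))
    (hdup : p 3 = p 1 ∨ p 3 = 0 := by first | exact Or.inl rfl | exact Or.inr rfl) :
    ∃ a, RatV F₀ a ∧ h a a = 0 ∧ (∀ i, h a (p i) = 0) ∧ ζ * h a x = 1 := by
  obtain ⟨y, hy, hyp, hyx⟩ := hR.eval p hp hx hind
  obtain ⟨a, ha, haa, hap, hax⟩ := hR.affine ![p 0, p 1, p 2] x y (by intro i; fin_cases i <;> simp [hp]) hx hy
    (by rw [← hR.range_dup hdup]; exact hind) (by intro i; fin_cases i <;> simp [hyp]) hyx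
  refine ⟨a, ha, haa, fun i => ?_, hax⟩
  fin_cases i
  exacts [hap 0, hap 1, hap 2, by
    show h a (p 3) = 0
    rcases hdup with e | e <;> rw [e]
    exacts [hap 1, un_zero_right hR.unit a]]

omit [Finite F] in
/-- A rational isotropic vector orthogonal to three given vectors and outside their span. -/
lemma pick (p : Fin 4 → ι → F) (hp : ∀ i, RatV F₀ (p i))
    (hdup : p 3 = p 1 ∨ p 3 = 0 := by first | exact Or.inl rfl | exact Or.inr rfl) :
    ∃ d, RatV F₀ d ∧ h d d = 0 ∧ (∀ i, h d (p i) = 0) ∧ d ∉ Submodule.span F (Set.range p) := by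
  refine hR.pick_four p hp (Or.inr ⟨3, ?_⟩)
  rcases hdup with e | e <;> rw [e]
  · exact Submodule.subset_span ⟨1, by simp, rfl⟩
  · exact zero_mem _

omit [Finite F] in
/-- A rational isotropic vector orthogonal to four given vectors, outside the spans of any two of them. -/
lemma pick_two (p : Fin 4 → ι → F) (hp : ∀ i, RatV F₀ (p i)) :
    ∃ d, RatV F₀ d ∧ h d d = 0 ∧ (∀ i, h d (p i) = 0) ∧
      ∀ i j, d ∉ Submodule.span F ({p i, p j} : Set (ι → F)) := by
  classical
  by_cases hc : (∃ i j, h (p i) (p j) ≠ 0) ∨ ∃ i, p i ∈ Submodule.span F (p '' {i}ᶜ)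
  · obtain ⟨d, hd, hdd, hdp, hdi⟩ := hR.pick_four p hp hc
    exact ⟨d, hd, hdd, hdp, fun i j hmem => hdi ((Submodule.span_le (p := Submodule.span F (Set.range p))).2
      (Set.insert_subset (Submodule.subset_span ⟨i, rfl⟩)
        (Set.singleton_subset_iff.2 (Submodule.subset_span ⟨j, rfl⟩))) hmem)⟩
  push Not at hc
  obtain ⟨hiso, hind⟩ := hc
  have hperp : ∀ w, h (∑ l, p l) w = ∑ l, h (p l) w := fun w => un_sum_left hR.unit _ _ _
  have hperp' : ∀ i, h (∑ l, p l) (p i) = 0 := fun i => (hperp _).trans (Finset.sum_eq_zero fun l _ => hiso l i)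
  refine ⟨∑ l, p l, fun k => by rw [Finset.sum_apply]; exact sum_mem fun l _ => hp l k, ?_, hperp', fun i j hmem => ?_⟩
  · rw [hperp]
    exact Finset.sum_eq_zero fun l _ => by rw [hR.unit.herm, hperp', map_zero]
  · obtain ⟨k, hki, hkj⟩ := (by decide : ∀ i j : Fin 4, ∃ k, k ≠ i ∧ k ≠ j) i j
    refine hind k ?_
    have e : p k = ∑ l, p l - ∑ l ∈ Finset.univ.erase k, p l := by
      rw [← Finset.add_sum_erase _ _ (Finset.mem_univ k), add_sub_cancel_right]
    rw [e]
    refine sub_mem ?_ (Submodule.sum_mem _ fun l hl => Submodule.subset_span ⟨l, (Finset.mem_erase.1 hl).1, rfl⟩)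
    exact (Submodule.span_le (p := Submodule.span F (p '' {k}ᶜ))).2
      (Set.insert_subset (Submodule.subset_span ⟨i, hki.symm, rfl⟩)
        (Set.singleton_subset_iff.2 (Submodule.subset_span ⟨j, hkj.symm, rfl⟩))) hmem

omit [Finite F] in
lemma pair_symm {a b : ι → F} (P : RatPair h F₀ a b) : RatPair h F₀ b a where
  left := P.right
  right := P.left
  isoL := P.isoR
  isoR := P.isoL
  orth := hR.skew0 P.orth
  ne := fun e => P.indep (e ▸ zero_mem _)
  indep := fun hmem => by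
    obtain ⟨c, hc⟩ := Submodule.mem_span_singleton.1 hmem
    have hc0 : c ≠ 0 := fun e => P.ne (by rw [← hc, e, zero_smul])
    exact P.indep (Submodule.mem_span_singleton.2 ⟨c⁻¹, by rw [← hc, inv_smul_smul₀ hc0]⟩)

/-- A rational isotropic partner. -/
lemma exists_partner {a : ι → F} (ha : RatV F₀ a) (ha0 : a ≠ 0) :
    ∃ f, RatV F₀ f ∧ h f f = 0 ∧ ζ * h f a = 1 := by
  obtain ⟨f, hf, hff, -, hfa⟩ := hR.supply (fun _ => 0) (fun _ => ratV_zero) ha (by simpa using ha0)
  exact ⟨f, hf, hff, hfa⟩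

end RatForm

/-- A rational vector orthogonal to four rational vectors and outside their span. -/
lemma exists_perp_outside [Finite F] (hu : Cfsg.Geo.IsUnitaryForm τ h) (hζ : ζ ≠ 0)
    (hrat : ∀ u v : ι → F, RatV F₀ u → RatV F₀ v → ζ * h u v ∈ F₀) (hd : 9 ≤ Fintype.card ι)
    (p : Fin 4 → ι → F) (hp : ∀ i, RatV F₀ (p i)) :
    ∃ x : ι → F, RatV F₀ x ∧ (∀ i, h x (p i) = 0) ∧ x ∉ Submodule.span F (Set.range p) := by
  classical
  let G : (ι → F₀) →ₗ[F₀] (Fin 4 → F₀) :=
    { toFun := fun v i => ⟨ζ * h (fun j => (v j : F)) (p i), hrat _ _ (fun j => (v j).2) (hp i)⟩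
      map_add' := fun u v => funext fun i => Subtype.ext (by
        show ζ * h ((fun j => (u j : F)) + fun j => (v j : F)) (p i) = _
        rw [hu.add_left, mul_add]; rfl)
      map_smul' := fun c v => funext fun i => Subtype.ext (by
        show ζ * h ((c : F) • fun j => (v j : F)) (p i) = _
        rw [hu.smul_left, mul_left_comm]; rfl) }
  by_contra hcon
  push Not at hcon
  let b := Module.finBasis F₀ (LinearMap.ker G)
  have hv : ∀ k, (fun j => ((b k : ι → F₀) j : F)) ∈ Submodule.span F (Set.range p) := fun k =>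
    hcon _ (fun j => ((b k : ι → F₀) j).2) fun i => by
      have h1 := congrArg Subtype.val (congrFun (LinearMap.mem_ker.1 (b k).2) i)
      exact (mul_eq_zero.1 h1).resolve_left hζ
  have hli : LinearIndependent F fun k => (fun j => ((b k : ι → F₀) j : F)) := by
    have h1 : LinearIndependent F₀ fun k => (b k : ι → F₀) :=
      b.linearIndependent.map' (LinearMap.ker G).subtype (Submodule.ker_subtype _)
    rw [Fintype.linearIndependent_iff]
    intro c hc k
    obtain ⟨φ, hφ, hφk⟩ := exists_ann (Submodule.span F₀ ((fun k => (b k : ι → F₀)) '' (Set.univ \ {k})))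
      (b k : ι → F₀) (linearIndependent_iff_notMem_span.1 h1 k)
    have h2 : ∀ i, (fun j => (φ j : F)) ⬝ᵥ (fun j => ((b i : ι → F₀) j : F)) = if i = k then 1 else 0 := by
      intro i
      have e : ((φ ⬝ᵥ (b i : ι → F₀) : F₀) : F) = (fun j => (φ j : F)) ⬝ᵥ (fun j => ((b i : ι → F₀) j : F)) := by
        simp [dotProduct]
      rw [← e]
      split_ifs with hik
      · rw [hik, hφk]; rfl
      · rw [hφ _ (Submodule.subset_span ⟨i, ⟨Set.mem_univ i, hik⟩, rfl⟩)]; rfl
    have h3 := congrArg (fun v => (fun j => (φ j : F)) ⬝ᵥ v) hc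
    simpa [dotProduct_sum, h2] using h3
  have hle : Fintype.card (Fin (Module.finrank F₀ (LinearMap.ker G))) ≤ 4 := by
    have h2 : Set.range (fun k => (fun j => ((b k : ι → F₀) j : F))) ⊆ Submodule.span F (Set.range p) := by
      rintro _ ⟨k, rfl⟩; exact hv k
    have h3 := (linearIndependent_iff_card_eq_finrank_span.1 hli).le.trans
      (Submodule.finrank_mono (Submodule.span_le.2 h2))
    exact h3.trans ((finrank_range_le_card p).trans (by simp))
  have h4 := LinearMap.finrank_range_add_finrank_ker G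
  have h5 := (LinearMap.range G).finrank_le
  simp only [Module.finrank_fintype_fun_eq_card, Fintype.card_fin] at h4 h5 hle
  omega

omit [Fintype ι] in
/-- A vector pairing non-trivially with a common perpendicular is outside the span. -/
lemma notMem_span_of_pair {κ : Type*} (hu : Cfsg.Geo.IsUnitaryForm τ h) (p : κ → ι → F) {d x : ι → F}
    (hx : ∀ i, h x (p i) = 0) (hdx : h d x ≠ 0) : d ∉ Submodule.span F (Set.range p) := by
  have key : ∀ w ∈ Submodule.span F (Set.range p), h w x = 0 := fun w hw => by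
    induction hw using Submodule.span_induction with
    | mem w hw => obtain ⟨i, rfl⟩ := hw; rw [hu.herm, hx i, map_zero]
    | zero => rw [← zero_smul F x, hu.smul_left, zero_mul]
    | add u v _ _ hu' hv' => rw [hu.add_left, hu', hv', add_zero]
    | smul c u _ hu' => rw [hu.smul_left, hu', mul_zero]
  exact fun hmem => hdx (key d hmem)

/-- `H` contains an element acting as `M`. -/
def HasMap (H : Subgroup (GL ι F)) (M : (ι → F) → ι → F) : Prop :=
  ∃ g ∈ H, ∀ x, Units.val g *ᵥ x = M x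

variable {H : Subgroup (GL ι F)} {M N : (ι → F) → ι → F}

lemma HasMap.comp (h1 : HasMap H M) (h2 : HasMap H N) : HasMap H (M ∘ N) := by
  obtain ⟨g, hg, eg⟩ := h1; obtain ⟨k, hk, ek⟩ := h2
  exact ⟨g * k, mul_mem hg hk, fun x => by rw [Units.val_mul, ← Matrix.mulVec_mulVec, ek, eg]; rfl⟩

lemma HasMap.congr (h1 : HasMap H M) (e : ∀ x, M x = N x) : HasMap H N := by
  obtain ⟨g, hg, eg⟩ := h1
  exact ⟨g, hg, fun x => (eg x).trans (e x)⟩

lemma hasMap_id : HasMap H id := ⟨1, one_mem H, fun x => by simp⟩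

lemma HasMap.left_cancel (h1 : HasMap H M) (h12 : HasMap H (M ∘ N)) : HasMap H N := by
  obtain ⟨g, hg, eg⟩ := h1; obtain ⟨k, hk, ek⟩ := h12
  refine ⟨g⁻¹ * k, mul_mem (inv_mem hg) hk, fun x => mulVec_inj g ?_⟩
  show Units.val g *ᵥ _ = Units.val g *ᵥ _
  rw [Matrix.mulVec_mulVec, ← Units.val_mul, mul_inv_cancel_left, ek, eg]; rfl

lemma HasMap.right_cancel (h2 : HasMap H N) (h12 : HasMap H (M ∘ N)) (hN : Function.Surjective N) :
    HasMap H M := by
  obtain ⟨k, hk, ek⟩ := h2; obtain ⟨g, hg, eg⟩ := h12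
  refine ⟨g * k⁻¹, mul_mem hg (inv_mem hk), fun y => ?_⟩
  obtain ⟨x, rfl⟩ := hN y
  rw [← ek x, Matrix.mulVec_mulVec, ← Units.val_mul, inv_mul_cancel_right, eg, ek x]; rfl

lemma HasMap.surjective (h1 : HasMap H M) : Function.Surjective M := fun y => by
  obtain ⟨g, -, eg⟩ := h1
  obtain ⟨x, hx⟩ := mulVec_surj g y
  exact ⟨x, (eg x).symm.trans hx⟩

lemma HasMap.inj (h1 : HasMap H M) : Function.Injective M := fun x y hxy => by
  obtain ⟨g, -, eg⟩ := h1
  exact mulVec_inj g (show Units.val g *ᵥ x = Units.val g *ᵥ y by rw [eg, eg, hxy])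

end CfsgLib.Maximal
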