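import Mathlib
import Cfsg.Agent.Lib.Maximal.UnSubBasic
import Cfsg.Agent.Lib.Maximal.HermTv

/-!
Overgroups of the rational isometry group inside a special unitary group.
-/

set_option autoImplicit false
set_option linter.unusedSectionVars false
set_option linter.unusedSimpArgs false
set_option linter.style.haveILetI false

namespace CfsgLib.Maximal

open scoped Matrix

variable {F : Type*} [Field F] {ι : Type} [Fintype ι] [DecidableEq ι] {τ : F ≃+* F}
  {h : (ι → F) → (ι → F) → F} {F₀ : Subfield F} {ζ : F}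

/-- The special isometry group of a form given as a function. -/
def suH (h : (ι → F) → (ι → F) → F) : Subgroup (GL ι F) :=
  Cfsg.preserving (Units.coeHom (Matrix ι ι F)) h ⊓ Cfsg.Geo.specialLinear ι F

lemma suH_iso {g : GL ι F} (hg : g ∈ suH h) (u v : ι → F) : h (Units.val g *ᵥ u) (Units.val g *ᵥ v) = h u v :=
  hg.1 u v

/-- The short root map of an orthogonal isotropic pair. -/
def yMap (h : (ι → F) → (ι → F) → F) (τ : F ≃+* F) (μ : F) (a b x : ι → F) : ι → F :=
  x + (μ * h x b) • a - (τ μ * h x a) • b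

/-- The transvection map. -/
def tMap (h : (ι → F) → (ι → F) → F) (k : F) (a x : ι → F) : ι → F := x + (k * h x a) • a

/-- The Siegel map. -/
def eMap (h : (ι → F) → (ι → F) → F) (e w : ι → F) (c : F) (x : ι → F) : ι → F :=
  x + (c * h x e - h x w) • e + h x e • w

/-- A subgroup of the special unitary group containing all its elements that are rational up to a scalar. -/
structure SuOver (τ : F ≃+* F) (h : (ι → F) → (ι → F) → F) (F₀ : Subfield F) (ζ : F)
    (H : Subgroup (GL ι F)) : Prop where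
  form : RatForm τ h F₀ ζ
  le : H ≤ suH h
  mem : ∀ g, g ∈ suH h → RatUpToScalar F₀ g → g ∈ H

/-- The normalised short root parameter `x` occurs at the pair `a, b`. -/
def HasP (τ : F ≃+* F) (h : (ι → F) → (ι → F) → F) (ζ : F) (H : Subgroup (GL ι F)) (x : F) (a b : ι → F) : Prop :=
  HasMap H (yMap h τ (ζ * x) a b)

/-- No pair has an irrational short root parameter. -/
def SuSmall (τ : F ≃+* F) (h : (ι → F) → (ι → F) → F) (F₀ : Subfield F) (ζ : F) (H : Subgroup (GL ι F)) : Prop :=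
  ∀ a b, RatPair h F₀ a b → ∀ x, HasP τ h ζ H x a b → x ∈ F₀

lemma notMem_pair {x u v : ι → F} (hv : ∀ α β : F, α • u + β • v ≠ x) :
    x ∉ Submodule.span F ({u, v} : Set (ι → F)) := fun hmem => by
  obtain ⟨α, β, e⟩ := Submodule.mem_span_pair.1 hmem
  exact hv α β e

lemma range_four_le {p₁ p₂ p₃ p₄ : ι → F} {S : Submodule F (ι → F)} (h1 : p₁ ∈ S) (h2 : p₂ ∈ S) (h3 : p₃ ∈ S)
    (h4 : p₄ ∈ S) : Submodule.span F (Set.range ![p₁, p₂, p₃, p₄]) ≤ S :=
  Submodule.span_le.2 (by
    rintro _ ⟨i, rfl⟩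
    fin_cases i <;> assumption)

namespace RatForm

variable [Finite F] (hR : RatForm τ h F₀ ζ)
include hR

omit [Finite F] in
lemma sub_smul_left (t : F) (x y v : ι → F) : h (x - t • y) v = h x v - t * h y v := by
  rw [sub_eq_add_neg, ← neg_smul, hR.unit.add_left, hR.unit.smul_left]; ring

/-- Vectors orthogonal to a hyperbolic pair are spanned by rational isotropic vectors orthogonal to it. -/
lemma rat_mem_span_perp {e f : ι → F} (he : RatV F₀ e) (hf : RatV F₀ f)
    {w : ι → F} (hw : RatV F₀ w) (hwe : h w e = 0) (hwf : h w f = 0) :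
    w ∈ Submodule.span F {a : ι → F | RatV F₀ a ∧ h a a = 0 ∧ h a e = 0 ∧ h a f = 0} := by
  classical
  set I : Set (ι → F) := {a | RatV F₀ a ∧ h a a = 0 ∧ h a e = 0 ∧ h a f = 0} with hI
  let S₁ : Submodule F₀ (ι → F₀) := Submodule.span F₀ {v | (fun j => (v j : F)) ∈ I}
  have hS : ∀ v ∈ S₁, (fun j => (v j : F)) ∈ Submodule.span F I := by
    intro v hv
    induction hv using Submodule.span_induction with
    | mem v hv => exact Submodule.subset_span hv
    | zero => exact zero_mem (Submodule.span F I)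
    | add u v _ _ hu hv => exact add_mem hu hv
    | smul c u _ hu => exact Submodule.smul_mem _ (c : F) hu
  by_contra hcon
  have hw₁ : (fun j => (⟨w j, hw j⟩ : F₀)) ∉ S₁ := fun hmem => hcon (hS _ hmem)
  obtain ⟨φ, hφ, hφw⟩ := exists_ann _ _ hw₁
  obtain ⟨x, hx, hxy⟩ := hR.exists_dual (φ := fun j => (φ j : F)) fun j => (φ j).2
  have cast : ∀ q : ι → F₀, ζ * h (fun j => (q j : F)) x = ((φ ⬝ᵥ q : F₀) : F) := fun q => by
    rw [hxy]; simp [dotProduct]
  have hwx : ζ * h w x = 1 := by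
    have := cast fun j => ⟨w j, hw j⟩
    rw [hφw] at this
    exact this
  have hxI : ∀ a ∈ I, h a x = 0 := fun a ha => by
    have := cast fun j => ⟨a j, ha.1 j⟩
    rw [hφ _ (Submodule.subset_span (show (fun j => (⟨a j, ha.1 j⟩ : F₀)) ∈ {v : ι → F₀ | (fun j => (v j : F)) ∈ I}
      from ha))] at this
    exact (mul_eq_zero.1 this).resolve_left hR.ne
  have hxs : x ∉ Submodule.span F (Set.range ![e, f, e, f]) := fun hmem => by
    have hle := range_four_le (p₁ := e) (p₂ := f) (p₃ := e) (p₄ := f) (S := Submodule.span F {e, f})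
      (Submodule.subset_span (by simp)) (Submodule.subset_span (by simp)) (Submodule.subset_span (by simp))
      (Submodule.subset_span (by simp)) hmem
    obtain ⟨α, β, rfl⟩ := Submodule.mem_span_pair.1 hle
    rw [un_add_right hR.unit, un_smul_right hR.unit, un_smul_right hR.unit, hwe, hwf, mul_zero, mul_zero,
      add_zero, mul_zero] at hwx
    exact zero_ne_one hwx
  obtain ⟨a, ha, haa, hap, hax⟩ := hR.supply _ (by intro i; fin_cases i <;> simp [he, hf]) hx hxs
  rw [hxI a ⟨ha, haa, hap 0, hap 1⟩, mul_zero] at hax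
  exact zero_ne_one hax

lemma mem_span_perp {e f : ι → F} (he : RatV F₀ e) (hf : RatV F₀ f) (hee : h e e = 0) (hff : h f f = 0)
    (hfe : ζ * h f e = 1) {w : ι → F} (hwe : h w e = 0) (hwf : h w f = 0) :
    w ∈ Submodule.span F {a : ι → F | RatV F₀ a ∧ h a a = 0 ∧ h a e = 0 ∧ h a f = 0} := by
  classical
  have hef : ζ * h e f ∈ F₀ := hR.rat _ _ he hf
  have hef0 : h e f ≠ 0 := fun h0 => by rw [hR.skew0 h0, mul_zero] at hfe; exact zero_ne_one hfe
  let p : (ι → F) → ι → F := fun y => y - (h y f / h e f) • e - (ζ * h y e) • f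
  have hsub : ∀ a b v : ι → F, h (a - b) v = h a v - h b v := fun a b v => by
    rw [sub_eq_add_neg, ← neg_one_smul F b, hR.unit.add_left, hR.unit.smul_left]; ring
  have hp : ∀ y, RatV F₀ y → p y ∈ Submodule.span F
      {a : ι → F | RatV F₀ a ∧ h a a = 0 ∧ h a e = 0 ∧ h a f = 0} := by
    intro y hy
    refine hR.rat_mem_span_perp he hf ((hy.sub (he.smul ?_)).sub (hf.smul (hR.rat _ _ hy he))) ?_ ?_
    · have := F₀.mul_mem (hR.rat _ _ hy hf) (F₀.inv_mem hef)
      rwa [← div_eq_mul_inv, mul_div_mul_left _ _ hR.ne] at this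
    · simp only [p, hsub, hR.unit.smul_left, hee, mul_zero, sub_zero]
      rw [mul_assoc, mul_comm (h y e), ← mul_assoc, hfe, one_mul, sub_self]
    · simp only [p, hsub, hR.unit.smul_left, hff, mul_zero, sub_zero, div_mul_cancel₀ _ hef0, sub_self]
  have hw : w = ∑ i, w i • p (Pi.single i 1) := by
    have hlin : ∀ s : Finset ι, p (∑ i ∈ s, w i • Pi.single i 1) = ∑ i ∈ s, w i • p (Pi.single i 1) := by
      intro s
      induction s using Finset.induction with
      | empty => simp [p, un_zero_left hR.unit]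
      | @insert a s ha ih =>
        rw [Finset.sum_insert ha, Finset.sum_insert ha, ← ih]
        simp only [p, hR.unit.add_left, hR.unit.smul_left]
        module
    rw [← hlin, ← pi_eq_sum_univ' w]
    simp [p, hwe, hwf]
  rw [hw]
  exact Submodule.sum_mem _ fun i _ => Submodule.smul_mem _ _ (hp _ (ratV_single i F₀.one_mem))

/-- Rational isotropic vectors span. -/
lemma iso_span (y : ι → F) : y ∈ Submodule.span F {a : ι → F | RatV F₀ a ∧ h a a = 0} := by
  classical
  obtain ⟨e, he, hee, -, he0⟩ := hR.pick (fun _ => 0) (fun _ => ratV_zero)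
  have hne : e ≠ 0 := fun e0 => he0 (by rw [e0]; exact zero_mem _)
  obtain ⟨f, hf, hff, hfe⟩ := hR.exists_partner he hne
  have hfe0 : h f e ≠ 0 := fun h0 => by rw [h0, mul_zero] at hfe; exact zero_ne_one hfe
  have hef0 : h e f ≠ 0 := fun h0 => hfe0 (hR.skew0 h0)
  let α := h y f / h e f
  let β := h y e / h f e
  have hz : y - α • e - β • f ∈ Submodule.span F {a : ι → F | RatV F₀ a ∧ h a a = 0 ∧ h a e = 0 ∧ h a f = 0} := by
    refine hR.mem_span_perp he hf hee hff hfe ?_ ?_
    all_goals simp only [sub_eq_add_neg, ← neg_smul, hR.unit.add_left, hR.unit.smul_left, hee, hff, mul_zero,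
      add_zero, α, β, neg_mul, div_mul_cancel₀ _ hfe0, div_mul_cancel₀ _ hef0, add_neg_cancel]
  have h1 := Submodule.span_mono (fun a (ha : RatV F₀ a ∧ h a a = 0 ∧ h a e = 0 ∧ h a f = 0) =>
    (show a ∈ {a : ι → F | RatV F₀ a ∧ h a a = 0} from ⟨ha.1, ha.2.1⟩)) hz
  have := add_mem (add_mem h1 (Submodule.smul_mem _ β (Submodule.subset_span
      (show f ∈ {a : ι → F | RatV F₀ a ∧ h a a = 0} from ⟨hf, hff⟩))))
    (Submodule.smul_mem _ α (Submodule.subset_span (show e ∈ {a : ι → F | RatV F₀ a ∧ h a a = 0} from ⟨he, hee⟩)))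
  simpa using this

/-- Rationality of pairings extends along rational spans. -/
lemma pairing_of_span {I : Set (ι → F)} (hI : ∀ a ∈ I, RatV F₀ a) {z : ι → F}
    (hz : ∀ a ∈ I, ζ * h a z ∈ F₀) {y : ι → F} (hy : RatV F₀ y) (hmem : y ∈ Submodule.span F I) :
    ζ * h y z ∈ F₀ := by
  classical
  let S₁ : Submodule F₀ (ι → F₀) := Submodule.span F₀ {v | (fun j => (v j : F)) ∈ I}
  have hy₁ : (fun j => (⟨y j, hy j⟩ : F₀)) ∈ S₁ := by
    by_contra hcon
    obtain ⟨φ, hφ, hφy⟩ := exists_ann _ _ hcon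
    have hall : ∀ v ∈ Submodule.span F I, (fun j => (φ j : F)) ⬝ᵥ v = 0 := fun v hv => by
      induction hv using Submodule.span_induction with
      | mem a ha =>
        have h1 := congrArg Subtype.val (hφ _ (Submodule.subset_span
          (show (fun j => (⟨a j, hI a ha j⟩ : F₀)) ∈ {v : ι → F₀ | (fun j => (v j : F)) ∈ I} from ha)))
        simpa [dotProduct] using h1
      | zero => exact dotProduct_zero _
      | add u v _ _ hu hv => rw [dotProduct_add, hu, hv, add_zero]
      | smul c u _ hu => rw [dotProduct_smul, hu, smul_zero]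
    have h2 := congrArg Subtype.val hφy
    have h3 := hall y hmem
    simp [dotProduct] at h2 h3
    rw [h3] at h2
    exact zero_ne_one h2
  have key : ∀ v ∈ S₁, ζ * h (fun j => (v j : F)) z ∈ F₀ := fun v hv => by
    induction hv using Submodule.span_induction with
    | mem v hv => exact hz _ hv
    | zero =>
      rw [show (fun j => (((0 : ι → F₀) j : F₀) : F)) = (0 : ι → F) from rfl, un_zero_left hR.unit, mul_zero]
      exact F₀.zero_mem
    | add u v _ _ hu hv =>
      rw [show (fun j => (((u + v : ι → F₀) j : F₀) : F)) = (fun j => (u j : F)) + fun j => (v j : F) from rfl,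
        hR.unit.add_left, mul_add]
      exact F₀.add_mem hu hv
    | smul c u _ hu =>
      rw [show (fun j => (((c • u : ι → F₀) j : F₀) : F)) = (c : F) • fun j => (u j : F) from rfl,
        hR.unit.smul_left, mul_left_comm]
      exact F₀.mul_mem c.2 hu
  exact key _ hy₁

end RatForm

namespace SuOver

variable [Finite F] {H : Subgroup (GL ι F)} (hS : SuOver τ h F₀ ζ H)
include hS

omit [Finite F] in
lemma yMap_mem {y : F} (hy : y ∈ F₀) {a b : ι → F} (ha : RatV F₀ a) (hb : RatV F₀ b) (haa : h a a = 0)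
    (hbb : h b b = 0) (hab : h a b = 0) : HasP τ h ζ H y a b := by
  classical
  have hf := hS.form.unit
  set μ := ζ * y with hμ
  have hwd : h (-τ μ • b) a = 0 := by rw [hf.smul_left, hS.form.skew0 hab, mul_zero]
  have hc : (0 : F) + τ 0 + h (-τ μ • b) (-τ μ • b) = 0 := by
    rw [map_zero, hf.smul_left, un_smul_right hf, hbb]; simp
  have act : ∀ x, Units.val (unSiegel hf haa hwd 0) *ᵥ x = yMap h τ μ a b x := fun x => by
    rw [unSiegel_mulVec, yMap, un_smul_right hf, map_neg, hf.involutive]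
    module
  refine ⟨unSiegel hf haa hwd 0, hS.mem _ ⟨fun u v => ?_, unSiegel_mem_SL hf haa hwd 0⟩ ?_, act⟩
  · exact unSiegel_isometry hf haa hwd hc u v
  refine ⟨1, one_ne_zero, fun i j => ?_⟩
  have hj : RatV F₀ (Pi.single j 1 : ι → F) := ratV_single j F₀.one_mem
  have e : ((1 : F) • Units.val (unSiegel hf haa hwd 0)) i j = yMap h τ μ a b (Pi.single j 1) i := by
    rw [← act, Matrix.mulVec_single_one, one_smul]; rfl
  rw [e, yMap]
  refine F₀.sub_mem (F₀.add_mem (hj i) (F₀.mul_mem ?_ (ha i))) (F₀.mul_mem ?_ (hb i))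
  · have := F₀.mul_mem hy (hS.form.rat _ _ hj hb)
    rwa [hμ, mul_comm ζ y, mul_assoc]
  · have h1 := F₀.mul_mem (F₀.mul_mem (hS.form.tau_mem _ hy) hS.form.eps_mem) (hS.form.rat _ _ hj ha)
    convert h1 using 1
    rw [hμ, map_mul]
    have := hS.form.ne
    field_simp

omit [Finite F] in
lemma yMap_map {μ : F} {a b : ι → F} (hy : HasMap H (yMap h τ μ a b)) {g : GL ι F} (hg : g ∈ H) :
    HasMap H (yMap h τ μ (Units.val g *ᵥ a) (Units.val g *ᵥ b)) := by
  obtain ⟨k, hk, ek⟩ := hy
  refine ⟨g * k * g⁻¹, mul_mem (mul_mem hg hk) (inv_mem hg), fun y => ?_⟩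
  obtain ⟨x, rfl⟩ := mulVec_surj g y
  simp only [Units.val_mul, ← Matrix.mulVec_mulVec]
  rw [Matrix.mulVec_mulVec x, ← Units.val_mul, inv_mul_cancel, Units.val_one, Matrix.one_mulVec, ek]
  simp only [yMap, Matrix.mulVec_sub, Matrix.mulVec_add, Matrix.mulVec_smul, suH_iso (hS.le hg)]

lemma prod_rule {x y : F} {a b c d : ι → F} (P : RatPair h F₀ a b) (Q : RatPair h F₀ c d) (hcb : h c b = 0)
    (hda : h d a = 0) (hdb : h d b = 0) (hca : ζ * h c a = 1) (hx : HasP τ h ζ H x a b)
    (hy : HasP τ h ζ H y c d) : HasP τ h ζ H (-(τ ζ / ζ) * τ x * y) b d := by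
  have hf := hS.form.unit
  obtain ⟨g, hg, eg⟩ := hx
  have h1 := hS.yMap_map hy hg
  have hgd : Units.val g *ᵥ d = d := by rw [eg, yMap, hdb, hda]; simp
  have hgc : Units.val g *ᵥ c = c + (-(τ ζ / ζ) * τ x) • b := by
    rw [eg, yMap, hcb, mul_zero, zero_smul, add_zero, sub_eq_add_neg, ← neg_smul]
    congr 2
    rw [map_mul]
    have := hS.form.ne
    field_simp
    linear_combination -(τ ζ * τ x) * hca
  rw [hgd, hgc] at h1
  set s := -(τ ζ / ζ) * τ x with hs
  have hbd : h b d = 0 := hS.form.skew0 hdb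
  have e : ∀ z, yMap h τ (ζ * y) (c + s • b) d z =
      (yMap h τ (ζ * y) c d ∘ yMap h τ (ζ * (s * y)) b d) z := fun z => by
    simp only [yMap, Function.comp, sub_eq_add_neg, ← neg_smul, hf.add_left, hf.smul_left, un_add_right hf,
      un_smul_right hf, hbd, Q.isoR, hS.form.skew0 Q.orth, hS.form.skew0 hcb, mul_zero, add_zero, map_mul]
    module
  exact HasMap.left_cancel hy (h1.congr e)

/-- Moving a parameter to an adjacent pair. -/
lemma step {x : F} {a b d : ι → F} (P : RatPair h F₀ a b) (hd : RatPair h F₀ b d) (hda : h d a = 0)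
    (hind : d ∉ Submodule.span F ({a, b} : Set (ι → F))) (hx : HasP τ h ζ H x a b) : HasP τ h ζ H (τ x) b d := by
  have hR := hS.form
  have ha' : a ∉ Submodule.span F (Set.range ![b, d, b, d]) := fun hmem => by
    obtain ⟨α, β, e⟩ := Submodule.mem_span_pair.1 (range_four_le (S := Submodule.span F {b, d})
      (Submodule.subset_span (by simp)) (Submodule.subset_span (by simp)) (Submodule.subset_span (by simp))
      (Submodule.subset_span (by simp)) hmem)
    rcases eq_or_ne β 0 with rfl | hβ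
    · exact (hR.pair_symm P).indep (Submodule.mem_span_singleton.2 ⟨α, by simpa using e⟩)
    · refine hind (Submodule.mem_span_pair.2 ⟨β⁻¹, -(β⁻¹ * α), ?_⟩)
      rw [← e, smul_add, smul_smul, smul_smul, inv_mul_cancel₀ hβ]
      module
  obtain ⟨c, hc, hcc, hcp, hca⟩ := hR.supply _ (by intro i; fin_cases i <;> simp [P.right, hd.right]) P.left ha'
  have hcb : h c b = 0 := hcp 0
  have hcd : h c d = 0 := hcp 1
  have hc0 : c ≠ 0 := fun e => by rw [e, un_zero_left hR.unit, mul_zero] at hca; exact zero_ne_one hca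
  have hd0 : d ≠ 0 := (hR.pair_symm hd).ne
  have Q : RatPair h F₀ c d := ⟨hc, hd.right, hcc, hd.isoR, hcd, hc0, fun hmem => by
    obtain ⟨t, ht⟩ := Submodule.mem_span_singleton.1 hmem
    rw [← ht, hR.unit.smul_left] at hda
    rcases mul_eq_zero.1 hda with h0 | h0
    · exact hd0 (by rw [← ht, h0, zero_smul])
    · rw [h0, mul_zero] at hca; exact zero_ne_one hca⟩
  have h1 := hS.prod_rule P Q hcb hda (hR.skew0 hd.orth) hca hx
    (hS.yMap_mem (F₀.inv_mem (F₀.neg_mem hR.eps_mem)) hc hd.right hcc hd.isoR hcd)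
  rwa [mul_right_comm, mul_inv_cancel₀ (neg_ne_zero.2 hR.eps_ne), one_mul] at h1

lemma transport {x : F} {a b p q : ι → F} (P : RatPair h F₀ a b) (Q : RatPair h F₀ p q)
    (hx : HasP τ h ζ H x a b) : HasP τ h ζ H x p q := by
  have hR := hS.form
  obtain ⟨d, hd, hdd, hdp, hdi⟩ := hR.pick ![a, b, p, 0]
    (by intro i; fin_cases i <;> simp [P.left, P.right, Q.left, ratV_zero])
  obtain ⟨g, hg, hgg, hgp, hgi⟩ := hR.pick_two ![b, d, p, q]
    (by intro i; fin_cases i <;> simp [P.right, hd, Q.left, Q.right])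
  have inA : ∀ {i : Fin 4}, ![a, b, p, 0] i ∈ Submodule.span F (Set.range ![a, b, p, 0]) :=
    fun {i} => Submodule.subset_span ⟨i, rfl⟩
  have sub : ∀ {S : Submodule F (ι → F)} {u v w : ι → F}, u ∈ S → v ∈ S → w ∈ Submodule.span F ({u, v} : Set _) →
      w ∈ S := fun {S u v w} hu hv hw => (Submodule.span_le.2 (Set.insert_subset hu (by simpa using hv))) hw
  have sing : ∀ {S : Submodule F (ι → F)} {u w : ι → F}, u ∈ S → w ∈ Submodule.span F ({u} : Set _) → w ∈ S :=
    fun {S u w} hu hw => (Submodule.span_le.2 (by simpa using hu)) hw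
  have hb0 : b ≠ 0 := (hR.pair_symm P).ne
  have hd0 : d ≠ 0 := fun e => hdi (by rw [e]; exact zero_mem _)
  have Pbd : RatPair h F₀ b d := ⟨P.right, hd, P.isoR, hdd, hR.skew0 (hdp 1), hb0,
    fun hmem => hdi (sing (inA (i := 1)) hmem)⟩
  have Pdg : RatPair h F₀ d g := ⟨hd, hg, hdd, hgg, hR.skew0 (hgp 1), hd0,
    fun hmem => hgi 1 1 (by simpa using hmem)⟩
  have Pgp : RatPair h F₀ g p := hR.pair_symm ⟨Q.left, hg, Q.isoL, hgg, hR.skew0 (hgp 2), Q.ne,
    fun hmem => hgi 2 2 (by simpa using hmem)⟩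
  have h1 := hS.step P Pbd (hdp 0) (fun hmem => hdi (sub (inA (i := 0)) (inA (i := 1)) hmem)) hx
  have h2 := hS.step Pbd Pdg (hgp 0) (fun hmem => hgi 0 1 hmem) h1
  have h3 := hS.step Pdg Pgp (hR.skew0 (hdp 2)) (notMem_pair fun α β e => by
    rcases eq_or_ne β 0 with rfl | hβ
    · rcases eq_or_ne α 0 with rfl | hα
      · exact Q.ne (by simpa using e.symm)
      · exact hdi (sing (inA (i := 2)) (Submodule.mem_span_singleton.2 ⟨α⁻¹, by simp [← e, inv_smul_smul₀ hα]⟩))
    · refine hgi 1 2 ((Submodule.mem_span_pair.2 ⟨-(β⁻¹ * α), β⁻¹, ?_⟩))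
      show -(β⁻¹ * α) • d + β⁻¹ • p = g
      rw [← e, smul_add, smul_smul, smul_smul, inv_mul_cancel₀ hβ]; module) h2
  have h4 := hS.step Pgp Q (hR.skew0 (hgp 3)) (notMem_pair fun α β e => by
    rcases eq_or_ne α 0 with rfl | hα
    · exact Q.indep (Submodule.mem_span_singleton.2 ⟨β, by simpa using e⟩)
    · refine hgi 2 3 ((Submodule.mem_span_pair.2 ⟨-(α⁻¹ * β), α⁻¹, ?_⟩))
      show -(α⁻¹ * β) • p + α⁻¹ • q = g
      rw [← e, smul_add, smul_smul, smul_smul, inv_mul_cancel₀ hα]; module) h3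
  rwa [hR.unit.involutive, hR.unit.involutive] at h4

/-- An image of an orthogonal vector is rational up to the image of the base vector. -/
lemma shifted_line (hsm : SuSmall τ h F₀ ζ H) {g : GL ι F} (hg : g ∈ H) {c : F} (hc : c ≠ 0) {e a : ι → F}
    (hline : RatV F₀ (c • (Units.val g *ᵥ e))) (P : RatPair h F₀ e a) :
    ∃ (w : ι → F) (t : F), RatV F₀ w ∧
      (τ c)⁻¹ • (Units.val g *ᵥ a) = w + t • (c • (Units.val g *ᵥ e)) := by
  classical
  have hR := hS.form
  have hf := hR.unit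
  have hτc : τ c ≠ 0 := fun e0 => hc (τ.injective (by rw [e0, map_zero]))
  set u := c • (Units.val g *ᵥ e) with hu
  set z := (τ c)⁻¹ • (Units.val g *ᵥ a) with hz
  have hgi := suH_iso (hS.le hg)
  have huu : h u u = 0 := by rw [hu, hf.smul_left, un_smul_right hf, hgi, P.isoL]; simp
  have hzu : h z u = 0 := by
    rw [hu, hz, hf.smul_left, un_smul_right hf, hgi, hR.skew0 P.orth]; simp
  have hu0 : u ≠ 0 := fun h0 => by
    rw [hu, smul_eq_zero] at h0
    exact P.ne (mulVec_inj g (show Units.val g *ᵥ e = Units.val g *ᵥ 0 by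
      rw [Matrix.mulVec_zero]; exact h0.resolve_left hc))
  have hYz : HasMap H (yMap h τ ζ u z) := by
    have h1 := hS.yMap_map (hS.yMap_mem F₀.one_mem P.left P.right P.isoL P.isoR P.orth) hg
    refine h1.congr fun x => ?_
    simp only [yMap, mul_one, hu, hz, un_smul_right hf, map_inv₀, hf.involutive, smul_smul]
    congr 2 <;> field_simp
  -- elements acting like translations on the orthogonal space of `u`
  let W : (ι → F) → Prop := fun z' => ∃ g' ∈ H, ∀ x, h x u = 0 → Units.val g' *ᵥ x = x + (ζ * h x z') • u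
  have hWz : W z := by
    obtain ⟨g', hg', eg⟩ := hYz
    exact ⟨g', hg', fun x hx => by rw [eg, yMap, hx]; simp⟩
  have key : ∀ {d : ι → F}, RatV F₀ d → h d d = 0 → h d u = 0 → ζ * h z d ∈ F₀ := by
    intro d hd hdd hdu
    by_cases hdm : d ∈ Submodule.span F ({u} : Set (ι → F))
    · obtain ⟨t, rfl⟩ := Submodule.mem_span_singleton.1 hdm
      rw [un_smul_right hf, hzu, mul_zero, mul_zero]; exact F₀.zero_mem
    obtain ⟨p, hp, hpp, hpq, hpi⟩ := hR.pick ![u, d, u, d] (by intro i; fin_cases i <;> simp [hline, hd])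
    have inP : ∀ i : Fin 4, ![u, d, u, d] i ∈ Submodule.span F (Set.range ![u, d, u, d]) :=
      fun i => Submodule.subset_span ⟨i, rfl⟩
    have hpu : h p u = 0 := hpq 0
    have hpd : h p d = 0 := hpq 1
    obtain ⟨k, hk, ek⟩ := hS.yMap_mem F₀.one_mem hp hd hpp hdd hpd
    have hku : Units.val k *ᵥ u = u := by rw [ek, yMap, hR.skew0 hdu, hR.skew0 hpu]; simp
    set Δ := (ζ * h z d) • p - (τ ζ * h z p) • d with hΔ
    have hWΔ : W Δ := by
      obtain ⟨g₁, hg₁, e₁⟩ := hWz
      refine ⟨k * g₁ * k⁻¹ * g₁⁻¹, mul_mem (mul_mem (mul_mem hk hg₁) (inv_mem hk)) (inv_mem hg₁), fun x hx => ?_⟩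
      have huz : h u z = 0 := hR.skew0 hzu
      have hx1 : h (x - (ζ * h x z) • u) u = 0 := by
        rw [sub_eq_add_neg, ← neg_smul, hf.add_left, hf.smul_left, huu, hx]; simp
      have hinv : Units.val g₁⁻¹ *ᵥ x = x - (ζ * h x z) • u := by
        refine mulVec_inj g₁ ?_
        show Units.val g₁ *ᵥ _ = Units.val g₁ *ᵥ _
        rw [Matrix.mulVec_mulVec, ← Units.val_mul, mul_inv_cancel, Units.val_one, Matrix.one_mulVec, e₁ _ hx1,
          show h (x - (ζ * h x z) • u) z = h x z by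
            rw [sub_eq_add_neg, ← neg_smul, hf.add_left, hf.smul_left, huz, mul_zero, add_zero],
          sub_add_cancel]
      obtain ⟨x₀, hx₀⟩ := mulVec_surj k (x - (ζ * h x z) • u)
      have hx₀' : Units.val k *ᵥ x₀ = x - (ζ * h x z) • u := hx₀
      have hx₀u : h x₀ u = 0 := by
        rw [← suH_iso (hS.le hk) x₀ u, hx₀', hku]; exact hx1
      have hkinv : Units.val k⁻¹ *ᵥ (x - (ζ * h x z) • u) = x₀ := by
        rw [← hx₀', Matrix.mulVec_mulVec, ← Units.val_mul, inv_mul_cancel, Units.val_one, Matrix.one_mulVec]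
      have hkz : Units.val k *ᵥ z = z + Δ := by
        rw [ek, yMap, hΔ, mul_one]; module
      have h0z : h x₀ z = h x z + h x Δ := by
        rw [← suH_iso (hS.le hk) x₀ z, hx₀', hkz, un_add_right hf, sub_eq_add_neg, ← neg_smul]
        simp only [hf.add_left, hf.smul_left, huz, show h u Δ = 0 by
          rw [hΔ, sub_eq_add_neg, ← neg_smul]
          simp only [un_add_right hf, un_smul_right hf, hR.skew0 hpu, hR.skew0 hdu, mul_zero, add_zero]]
        ring
      simp only [Units.val_mul, ← Matrix.mulVec_mulVec]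
      rw [hinv, hkinv, e₁ _ hx₀u, Matrix.mulVec_add, Matrix.mulVec_smul, hku, hx₀', h0z]
      module
    have hpi' : p ∉ Submodule.span F (Set.range ![u, d, u, d]) := hpi
    obtain ⟨c₂, hc₂, hc₂c, hc₂q, hc₂p⟩ := hR.supply ![u, d, u, d]
      (by intro i; fin_cases i <;> simp [hline, hd]) hp hpi'
    obtain ⟨g₃, hg₃, hg₃g, hg₃q, hg₃i⟩ := hR.pick_four ![p, d, u, c₂]
      (by intro i; fin_cases i <;> simp [hp, hd, hline, hc₂])
      (Or.inl ⟨3, 0, fun e0 => by
        rw [show h c₂ p = 0 from e0, mul_zero] at hc₂p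
        exact zero_ne_one hc₂p⟩)
    have hc₂0 : c₂ ≠ 0 := fun e0 => by rw [e0, un_zero_left hf, mul_zero] at hc₂p; exact zero_ne_one hc₂p
    obtain ⟨g₄, hg₄, e₄⟩ := hWΔ
    have h5 := hS.yMap_map (hS.yMap_mem F₀.one_mem hc₂ hg₃ hc₂c hg₃g (hR.skew0 (hg₃q 3))) hg₄
    have hc₂Δ : ζ * h c₂ Δ = τ (ζ * h z d) := by
      rw [hΔ, sub_eq_add_neg, ← neg_smul]
      simp only [un_add_right hf, un_smul_right hf, show h c₂ d = 0 from hc₂q 1, mul_zero, add_zero]
      linear_combination τ (ζ * h z d) * hc₂p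
    have hg₃Δ : h g₃ Δ = 0 := by
      rw [hΔ, sub_eq_add_neg, ← neg_smul]
      simp only [un_add_right hf, un_smul_right hf, show h g₃ p = 0 from hg₃q 0, show h g₃ d = 0 from hg₃q 1,
        mul_zero, add_zero]
    rw [e₄ c₂ (hc₂q 0), e₄ g₃ (hg₃q 2), hg₃Δ, mul_zero, zero_smul, add_zero, hc₂Δ, mul_one] at h5
    have hug : h u g₃ = 0 := hR.skew0 (hg₃q 2)
    have h6 : HasP τ h ζ H (τ (ζ * h z d)) u g₃ := by
      refine HasMap.left_cancel (M := yMap h τ (ζ * 1) c₂ g₃)
        (hS.yMap_mem F₀.one_mem hc₂ hg₃ hc₂c hg₃g (hR.skew0 (hg₃q 3))) (h5.congr fun x => ?_)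
      generalize τ (ζ * h z d) = s
      simp only [yMap, Function.comp, sub_eq_add_neg, ← neg_smul, hf.add_left, hf.smul_left, un_add_right hf,
        un_smul_right hf, hug, hg₃g, hR.skew0 (show h c₂ u = 0 from hc₂q 0),
        show h g₃ c₂ = 0 from hg₃q 3, mul_zero, add_zero, map_mul, map_one, mul_one]
      module
    have h7 := hsm u g₃ ⟨hline, hg₃, huu, hg₃g, hug, hu0, fun hmem => hg₃i (by
      obtain ⟨t, ht⟩ := Submodule.mem_span_singleton.1 hmem
      rw [← ht]
      exact Submodule.smul_mem _ t (Submodule.subset_span ⟨2, rfl⟩))⟩ _ h6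
    exact (hR.tau_inv_mul _).1 h7
  obtain ⟨f, hf', hff, hfu⟩ := hR.exists_partner hline hu0
  have hfu0 : h f u ≠ 0 := fun h0 => by rw [h0, mul_zero] at hfu; exact zero_ne_one hfu
  have huf0 : h u f ≠ 0 := fun h0 => hfu0 (hR.skew0 h0)
  set t := h z f / h u f with ht
  refine ⟨z - t • u, t, hR.ratV_of_pairing fun y hy => hR.rat_swap ?_, by rw [sub_add_cancel]⟩
  apply hR.rat_swap
  have hzf : h (z - t • u) f = 0 := by
    rw [hR.sub_smul_left, ht, div_mul_cancel₀ _ huf0, sub_self]
  have hzu' : h (z - t • u) u = 0 := by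
    rw [hR.sub_smul_left, huu, hzu]; simp
  have hI : ∀ a' ∈ ({u, f} ∪ {a : ι → F | RatV F₀ a ∧ h a a = 0 ∧ h a u = 0 ∧ h a f = 0} : Set (ι → F)),
      RatV F₀ a' := by
    rintro a' ((rfl | rfl) | ha)
    exacts [hline, hf', ha.1]
  refine hR.pairing_of_span hI ?_ hy ?_
  · rintro a' ((rfl | rfl) | ha)
    · rw [hR.skew0 hzu', mul_zero]; exact F₀.zero_mem
    · rw [hR.skew0 hzf, mul_zero]; exact F₀.zero_mem
    · refine hR.rat_swap ?_
      rw [hR.sub_smul_left, hR.skew0 ha.2.2.1, mul_zero, sub_zero]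
      exact key ha.1 ha.2.1 ha.2.2.1
  · set α := h y f / h u f
    set β := h y u / h f u
    have h1 := hR.mem_span_perp hline hf' huu hff hfu (w := y - α • u - β • f)
      (by simp only [sub_eq_add_neg, ← neg_smul, hf.add_left, hf.smul_left, huu, mul_zero, add_zero, β, neg_mul,
        div_mul_cancel₀ _ hfu0, add_neg_cancel])
      (by simp only [sub_eq_add_neg, ← neg_smul, hf.add_left, hf.smul_left, hff, mul_zero, add_zero, α, neg_mul,
        div_mul_cancel₀ _ huf0, add_neg_cancel])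
    have h2 := Submodule.span_mono (Set.subset_union_right (s := ({u, f} : Set (ι → F)))) h1
    have h3 := add_mem (add_mem h2 (Submodule.smul_mem _ β (Submodule.subset_span (Or.inl (Or.inr rfl)))))
      (Submodule.smul_mem _ α (Submodule.subset_span (Or.inl (Or.inl rfl))))
    simpa using h3

/-- One rational isotropic line is enough. -/
lemma rigid (hsm : SuSmall τ h F₀ ζ H) {g : GL ι F} (hg : g ∈ H) {c : F} (hc : c ≠ 0) {e : ι → F}
    (he : RatV F₀ e) (hee : h e e = 0) (he0 : e ≠ 0) (hline : RatV F₀ (c • (Units.val g *ᵥ e))) :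
    RatM F₀ (c • Units.val g) := by
  classical
  have hR := hS.form
  have hf := hR.unit
  have hτc : τ c ≠ 0 := fun e0 => hc (τ.injective (by rw [e0, map_zero]))
  have hgi := suH_iso (hS.le hg)
  have step : ∀ {e a : ι → F}, RatPair h F₀ e a → RatV F₀ (c • (Units.val g *ᵥ e)) →
      RatV F₀ (c • (Units.val g *ᵥ a)) ∧ c * τ c ∈ F₀ := by
    intro e a P hline
    obtain ⟨b, hb, hbb, hbp, hbi⟩ := hR.pick ![e, a, e, a] (by intro i; fin_cases i <;> simp [P.left, P.right])
    have P' : RatPair h F₀ e b := ⟨P.left, hb, P.isoL, hbb, hR.skew0 (hbp 0), P.ne, fun hmem => hbi (by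
      obtain ⟨s, hs⟩ := Submodule.mem_span_singleton.1 hmem
      rw [← hs]; exact Submodule.smul_mem _ s (Submodule.subset_span ⟨0, rfl⟩))⟩
    obtain ⟨w₁, t₁, hw₁, e₁⟩ := hS.shifted_line hsm hg hc hline P
    obtain ⟨w₂, t₂, hw₂, e₂⟩ := hS.shifted_line hsm hg hc hline P'
    set u := c • (Units.val g *ᵥ e) with hu
    have hu' : u = Units.val g *ᵥ (c • e) := by rw [Matrix.mulVec_smul]
    have hw1 : w₁ = Units.val g *ᵥ ((τ c)⁻¹ • a - (t₁ * c) • e) := by
      rw [Matrix.mulVec_sub, Matrix.mulVec_smul, Matrix.mulVec_smul, e₁, hu, smul_smul, add_sub_cancel_right]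
    have hw2 : w₂ = Units.val g *ᵥ ((τ c)⁻¹ • b - (t₂ * c) • e) := by
      rw [Matrix.mulVec_sub, Matrix.mulVec_smul, Matrix.mulVec_smul, e₂, hu, smul_smul, add_sub_cancel_right]
    obtain ⟨d, hd, hdd, hdp, hdi⟩ := hR.pick ![u, w₁, w₂, 0]
      (by intro i; fin_cases i <;> simp [hline, hw₁, hw₂, ratV_zero])
    have hd0 : d ≠ 0 := fun e0 => hdi (by rw [e0]; exact zero_mem _)
    have inD : ∀ {i : Fin 4}, ![u, w₁, w₂, 0] i ∈ Submodule.span F (Set.range ![u, w₁, w₂, 0]) :=
      fun {i} => Submodule.subset_span ⟨i, rfl⟩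
    have solve : ∀ {x y : ι → F} {S : Submodule F (ι → F)} {γ : F}, γ ≠ 0 → x + γ • d = y → x ∈ S → y ∈ S →
        d ∈ S := by
      intro x y S γ hγ exy hx hy
      have : d = γ⁻¹ • (y - x) := by rw [← exy, add_sub_cancel_left, inv_smul_smul₀ hγ]
      rw [this]; exact S.smul_mem _ (S.sub_mem hy hx)
    have hw₂i : w₂ ∉ Submodule.span F (Set.range ![u, w₁, d, 0]) := fun hmem => by
      have hle : Submodule.span F (Set.range ![u, w₁, d, 0]) ≤
          Submodule.span F ({u, w₁} : Set (ι → F)) ⊔ Submodule.span F {d} :=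
        range_four_le (Submodule.mem_sup_left (Submodule.subset_span (by simp)))
          (Submodule.mem_sup_left (Submodule.subset_span (by simp)))
          (Submodule.mem_sup_right (Submodule.subset_span rfl)) (zero_mem _)
      obtain ⟨x, hx, y, hy, exy⟩ := Submodule.mem_sup.1 (hle hmem)
      obtain ⟨γ, rfl⟩ := Submodule.mem_span_singleton.1 hy
      obtain ⟨α, β, rfl⟩ := Submodule.mem_span_pair.1 hx
      rcases eq_or_ne γ 0 with rfl | hγ
      · rw [zero_smul, add_zero, hw2, hw1, hu', ← Matrix.mulVec_smul, ← Matrix.mulVec_smul,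
          ← Matrix.mulVec_add] at exy
        have h9 := mulVec_inj g exy
        refine hbi ?_
        have : b = (τ c) • (α • c • e + β • ((τ c)⁻¹ • a - (t₁ * c) • e) + (t₂ * c) • e) := by
          rw [h9, sub_add_cancel, smul_inv_smul₀ hτc]
        rw [this]
        have me : e ∈ Submodule.span F (Set.range ![e, a, e, a]) := Submodule.subset_span ⟨0, rfl⟩
        have ma : a ∈ Submodule.span F (Set.range ![e, a, e, a]) := Submodule.subset_span ⟨1, rfl⟩
        exact Submodule.smul_mem _ _ (add_mem (add_mem (Submodule.smul_mem _ _ (Submodule.smul_mem _ _ me))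
          (Submodule.smul_mem _ _ (sub_mem (Submodule.smul_mem _ _ ma) (Submodule.smul_mem _ _ me))))
          (Submodule.smul_mem _ _ me))
      · exact hdi (solve hγ exy (add_mem (Submodule.smul_mem _ _ (inD (i := 0)))
          (Submodule.smul_mem _ _ (inD (i := 1)))) (inD (i := 2)))
    obtain ⟨p, hp, hpp, hpq, hpw⟩ := hR.supply ![u, w₁, d, 0]
      (by intro i; fin_cases i <;> simp [hline, hw₁, hd, ratV_zero]) hw₂ hw₂i
    obtain ⟨R, hR', eR⟩ := hS.yMap_map (hS.yMap_mem F₀.one_mem P.right hb P.isoR hbb (hR.skew0 (hbp 1))) hg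
    have ega : Units.val g *ᵥ a = (τ c) • (w₁ + t₁ • u) := by rw [← e₁, smul_inv_smul₀ hτc]
    have egb : Units.val g *ᵥ b = (τ c) • (w₂ + t₂ • u) := by rw [← e₂, smul_inv_smul₀ hτc]
    have hdu : h d u = 0 := hdp 0
    have hdw₁ : h d w₁ = 0 := hdp 1
    have hdw₂ : h d w₂ = 0 := hdp 2
    have hpu : h p u = 0 := hpq 0
    have hpw₁ : h p w₁ = 0 := hpq 1
    have hRd : Units.val R *ᵥ d = d := by
      rw [eR, yMap, ega, egb]
      simp [un_smul_right hf, un_add_right hf, hdu, hdw₁, hdw₂]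
    have hp0 : p ≠ 0 := fun e0 => by rw [e0, un_zero_left hf, mul_zero] at hpw; exact zero_ne_one hpw
    have Pdp : RatPair h F₀ d p := ⟨hd, hp, hdd, hpp, hR.skew0 (hpq 2), hd0, fun hmem => by
      obtain ⟨s, hs⟩ := Submodule.mem_span_singleton.1 hmem
      rw [← hs, hf.smul_left, hdw₂, mul_zero, mul_zero] at hpw
      exact zero_ne_one hpw⟩
    obtain ⟨w, s, hw, ew⟩ := hS.shifted_line hsm hR' one_ne_zero (by rw [one_smul, hRd]; exact hd) Pdp
    rw [map_one, inv_one, one_smul, one_smul, hRd] at ew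
    have hRp : Units.val R *ᵥ p = p + (c * τ c) • w₁ + (c * τ c * t₁) • u := by
      rw [eR, yMap, ega, egb]
      simp only [un_smul_right hf, un_add_right hf, hpu, hpw₁, hf.involutive, mul_zero, add_zero, zero_smul,
        sub_zero, mul_one, smul_add, smul_smul]
      rw [← mul_assoc, mul_comm ζ c, mul_assoc c ζ, hpw, mul_one]
      module
    set ν := c * τ c with hν
    have hν0 : ν ≠ 0 := mul_ne_zero hc hτc
    have hdif : RatV F₀ (w - p) := hw.sub hp
    have hwp : w - p = ν • w₁ + (ν * t₁) • u + (-s) • d := by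
      rw [show w = Units.val R *ᵥ p - s • d by rw [ew, add_sub_cancel_right], hRp]
      module
    have ind2 : ∀ {x y : ι → F} {i j : Fin 4}, ![u, w₁, w₂, 0] i = x → ![u, w₁, w₂, 0] j = y →
        y ∉ Submodule.span F ({x} : Set (ι → F)) → y ∉ Submodule.span F (Set.range ![x, d, x, d]) := by
      intro x y i j hxi hyj hxy hmem
      obtain ⟨α, γ, exy⟩ := Submodule.mem_span_pair.1 (range_four_le (S := Submodule.span F {x, d})
        (Submodule.subset_span (by simp)) (Submodule.subset_span (by simp)) (Submodule.subset_span (by simp))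
        (Submodule.subset_span (by simp)) hmem)
      rcases eq_or_ne γ 0 with rfl | hγ
      · exact hxy (Submodule.mem_span_singleton.2 ⟨α, by simpa using exy⟩)
      · exact hdi (solve hγ exy (Submodule.smul_mem _ _ (hxi ▸ inD (i := i))) (hyj ▸ inD (i := j)))
    have hea : ∀ α β : F, α • e + β • a = 0 → β = 0 := fun α β h0 => by
      by_contra hβ
      exact P.indep (Submodule.mem_span_singleton.2 ⟨-(β⁻¹ * α), by
        rw [show a = β⁻¹ • ((α • e + β • a) - α • e) by rw [add_sub_cancel_left, inv_smul_smul₀ hβ], h0]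
        module⟩)
    obtain ⟨q₁, hq₁, -, hq₁p, hq₁w⟩ := hR.supply ![u, d, u, d]
      (by intro i; fin_cases i <;> simp [hline, hd]) hw₁ (ind2 (i := 0) (j := 1) rfl rfl (fun hmem => by
        obtain ⟨α, hα⟩ := Submodule.mem_span_singleton.1 hmem
        rw [hw1, hu', ← Matrix.mulVec_smul] at hα
        have := hea (α * c + t₁ * c) (-(τ c)⁻¹) (by linear_combination (norm := module) mulVec_inj g hα)
        simp [hτc] at this))
    obtain ⟨q₂, hq₂, -, hq₂p, hq₂u⟩ := hR.supply ![w₁, d, w₁, d]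
      (by intro i; fin_cases i <;> simp [hw₁, hd]) hline (ind2 (i := 1) (j := 0) rfl rfl (fun hmem => by
        obtain ⟨α, hα⟩ := Submodule.mem_span_singleton.1 hmem
        rw [hw1, hu', ← Matrix.mulVec_smul] at hα
        have := hea (-(α * (t₁ * c)) - c) (α * (τ c)⁻¹) (by linear_combination (norm := module) mulVec_inj g hα)
        simp [hτc] at this
        subst this
        have h9 := mulVec_inj g hα
        rw [zero_smul] at h9
        exact P.ne ((smul_eq_zero.1 h9.symm).resolve_left hc)))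
    have hνF : ν ∈ F₀ := by
      have h1 := hR.rat _ _ hq₁ hdif
      rw [hwp] at h1
      simp only [un_add_right hf, un_smul_right hf, show h q₁ u = 0 from hq₁p 0, show h q₁ d = 0 from hq₁p 1,
        mul_zero, add_zero] at h1
      rw [← mul_left_comm, hq₁w, mul_one] at h1
      exact (hR.tau_inv_mul _).1 h1
    have htF : t₁ ∈ F₀ := by
      have h1 := hR.rat _ _ hq₂ hdif
      rw [hwp] at h1
      simp only [un_add_right hf, un_smul_right hf, show h q₂ w₁ = 0 from hq₂p 0, show h q₂ d = 0 from hq₂p 1,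
        mul_zero, add_zero, zero_add] at h1
      rw [← mul_left_comm, hq₂u, mul_one, map_mul] at h1
      have h2 := F₀.mul_mem (F₀.inv_mem (hR.tau_mem _ hνF)) h1
      rw [← mul_assoc, inv_mul_cancel₀ (fun e0 => hν0 (τ.injective (by rw [e0, map_zero]))), one_mul] at h2
      exact (hR.tau_inv_mul _).1 h2
    refine ⟨?_, hνF⟩
    rw [ega, smul_smul]
    exact (hw₁.addV (hline.smul htF)).smul hνF
  obtain ⟨a₀, ha₀, ha₀a, ha₀p, ha₀i⟩ := hR.pick (fun _ => e) (fun _ => he)
  have hν : c * τ c ∈ F₀ := (step ⟨he, ha₀, hee, ha₀a, hR.skew0 (ha₀p 0), he0, fun hmem => ha₀i (by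
    obtain ⟨s, hs⟩ := Submodule.mem_span_singleton.1 hmem
    rw [← hs]; exact Submodule.smul_mem _ s (Submodule.subset_span ⟨0, rfl⟩))⟩ hline).2
  have hiso : ∀ a : ι → F, RatV F₀ a → h a a = 0 → RatV F₀ (c • (Units.val g *ᵥ a)) := by
    intro a ha haa
    rcases eq_or_ne a 0 with rfl | ha0
    · simp [ratV_zero]
    obtain ⟨e₂, he₂, he₂e, he₂p, he₂i⟩ := hR.pick ![e, a, e, a] (by intro i; fin_cases i <;> simp [he, ha])
    have hin : ∀ (i : Fin 4) (x : ι → F), ![e, a, e, a] i = x → e₂ ∉ Submodule.span F ({x} : Set (ι → F)) := by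
      intro i x hx hmem
      obtain ⟨s, hs⟩ := Submodule.mem_span_singleton.1 hmem
      exact he₂i (by rw [← hs, ← hx]; exact Submodule.smul_mem _ s (Submodule.subset_span ⟨i, rfl⟩))
    have h1 := (step ⟨he, he₂, hee, he₂e, hR.skew0 (he₂p 0), he0, hin 0 e rfl⟩ hline).1
    exact (step (hR.pair_symm ⟨ha, he₂, haa, he₂e, hR.skew0 (he₂p 1), ha0, hin 1 a rfl⟩) h1).1
  intro i j
  have hj : RatV F₀ (Pi.single j 1 : ι → F) := ratV_single j F₀.one_mem
  have hz : RatV F₀ (c • (Units.val g *ᵥ Pi.single j 1)) := by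
    refine hR.ratV_of_pairing fun y hy => hR.pairing_of_span
      (I := {x | ∃ a, (RatV F₀ a ∧ h a a = 0) ∧ c • (Units.val g *ᵥ a) = x}) ?_ ?_ hy ?_
    · rintro x ⟨a, ⟨ha, haa⟩, rfl⟩; exact hiso a ha haa
    · rintro x ⟨a, ⟨ha, haa⟩, rfl⟩
      rw [hf.smul_left, un_smul_right hf, hgi]
      have := F₀.mul_mem hν (hR.rat _ _ ha hj)
      convert this using 1
      ring
    · obtain ⟨x, hx⟩ := mulVec_surj g (c⁻¹ • y)
      have hy' : y = c • (Units.val g *ᵥ x) := by
        rw [show Units.val g *ᵥ x = c⁻¹ • y from hx, smul_inv_smul₀ hc]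
      rw [hy']
      clear hx hy'
      induction hR.iso_span x using Submodule.span_induction with
      | mem a ha => exact Submodule.subset_span ⟨a, ha, rfl⟩
      | zero => simp
      | add u v _ _ hu hv => rw [Matrix.mulVec_add, smul_add]; exact add_mem hu hv
      | smul s u _ hu => rw [Matrix.mulVec_smul, smul_comm]; exact Submodule.smul_mem _ s hu
  have := hz i
  rwa [Matrix.mulVec_single_one] at this

section big

variable [Fintype F] {r : ℕ}

/-- A larger short root group gives all transvections. -/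
lemma full_of_big (hr : r.Prime) (hcard : Fintype.card F = Nat.card F₀ ^ r) (hbig : ¬ SuSmall τ h F₀ ζ H) :
    ∀ (v : ι → F) (k : F), h v v = 0 → τ k = -k → HasMap H (tMap h k v) := by
  classical
  have hR := hS.form
  have hf := hR.unit
  unfold SuSmall at hbig
  push Not at hbig
  obtain ⟨a₀, b₀, P₀, x₀, hx₀, hx₀F⟩ := hbig
  have rule : ∀ {x y : F}, (∀ a b, RatPair h F₀ a b → HasP τ h ζ H x a b) →
      (∀ a b, RatPair h F₀ a b → HasP τ h ζ H y a b) →
      ∀ b d, RatPair h F₀ b d → HasP τ h ζ H (-(τ ζ / ζ) * τ x * y) b d := by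
    intro x y hx hy b d Pbd
    obtain ⟨a, ha, haa, hap, hai⟩ := hR.pick ![b, d, b, d] (by intro i; fin_cases i <;> simp [Pbd.left, Pbd.right])
    obtain ⟨c, hc, hcc, hcp, hca⟩ := hR.supply ![b, d, b, d]
      (by intro i; fin_cases i <;> simp [Pbd.left, Pbd.right]) ha hai
    have ha0 : a ≠ 0 := fun e => hai (by rw [e]; exact zero_mem _)
    have hd0 : d ≠ 0 := (hR.pair_symm Pbd).ne
    have hc0 : c ≠ 0 := fun e => by rw [e, un_zero_left hf, mul_zero] at hca; exact zero_ne_one hca
    have Pab : RatPair h F₀ a b := hR.pair_symm ⟨Pbd.left, ha, Pbd.isoL, haa, hR.skew0 (hap 0), Pbd.ne,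
      fun hmem => hai (by
        obtain ⟨s, hs⟩ := Submodule.mem_span_singleton.1 hmem
        rw [← hs]; exact Submodule.smul_mem _ s (Submodule.subset_span ⟨0, rfl⟩))⟩
    have hda : h d a = 0 := hR.skew0 (hap 1)
    have Pcd : RatPair h F₀ c d := ⟨hc, Pbd.right, hcc, Pbd.isoR, hcp 1, hc0, fun hmem => by
      obtain ⟨t, ht⟩ := Submodule.mem_span_singleton.1 hmem
      rw [← ht, hf.smul_left] at hda
      rcases mul_eq_zero.1 hda with h0 | h0
      · exact hd0 (by rw [← ht, h0, zero_smul])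
      · rw [h0, mul_zero] at hca; exact zero_ne_one hca⟩
    exact hS.prod_rule Pab Pcd (hcp 0) hda (hR.skew0 Pbd.orth) hca (hx a b Pab) (hy c d Pcd)
  have ratP : ∀ {y : F}, y ∈ F₀ → ∀ a b, RatPair h F₀ a b → HasP τ h ζ H y a b :=
    fun {y} hy a b P => hS.yMap_mem hy P.left P.right P.isoL P.isoR P.orth
  set e' := -(τ ζ / ζ) with he'
  have he'F : e' ∈ F₀ := F₀.neg_mem hR.eps_mem
  have he'0 : e' ≠ 0 := neg_ne_zero.2 hR.eps_ne
  have htau : ∀ {x}, (∀ a b, RatPair h F₀ a b → HasP τ h ζ H x a b) →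
      ∀ a b, RatPair h F₀ a b → HasP τ h ζ H (τ x) a b := fun {x} hx a b P => by
    have := rule hx (ratP (F₀.inv_mem he'F)) a b P
    rwa [mul_right_comm, mul_inv_cancel₀ he'0, one_mul] at this
  have hscal : ∀ {t x}, t ∈ F₀ → (∀ a b, RatPair h F₀ a b → HasP τ h ζ H x a b) →
      ∀ a b, RatPair h F₀ a b → HasP τ h ζ H (t * x) a b := fun {t x} ht hx a b P => by
    have h1 := rule (ratP (hR.tau_mem _ (F₀.mul_mem (F₀.inv_mem he'F) ht))) hx a b P
    rwa [hf.involutive, ← mul_assoc e', mul_inv_cancel₀ he'0, one_mul] at h1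
  let A : Subalgebra F₀ F :=
    { carrier := {x | ∀ a b, RatPair h F₀ a b → HasP τ h ζ H x a b}
      one_mem' := ratP F₀.one_mem
      zero_mem' := ratP F₀.zero_mem
      add_mem' := fun {x y} hx hy a b P => by
        refine ((hx a b P).comp (hy a b P)).congr fun z => ?_
        simp only [yMap, Function.comp, sub_eq_add_neg, ← neg_smul, hf.add_left, hf.smul_left, P.isoL, P.isoR,
          P.orth, hR.skew0 P.orth, mul_zero, add_zero, mul_add, map_add]
        module
      mul_mem' := fun {x y} hx hy a b P => by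
        have h1 := rule (htau hx) (hscal (F₀.inv_mem he'F) hy) a b P
        rwa [hf.involutive, show e' * x * (e'⁻¹ * y) = x * y by field_simp] at h1
      algebraMap_mem' := fun x => ratP x.2 }
  have hfr : Module.finrank F₀ F = r := by
    have h1 := Module.card_eq_pow_finrank (K := F₀) (V := F)
    rw [hcard, Nat.card_eq_fintype_card] at h1
    exact (Nat.pow_right_injective Fintype.one_lt_card h1).symm
  haveI := Subalgebra.isSimpleOrder_of_finrank_prime F₀ F (hfr ▸ hr)
  have hA : A = ⊤ := by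
    rcases eq_bot_or_eq_top A with hA | hA
    · exfalso
      have hmem : x₀ ∈ A := fun a b P => hS.transport P₀ P hx₀
      obtain ⟨x, hx⟩ := Algebra.mem_bot.1 (hA ▸ hmem : x₀ ∈ (⊥ : Subalgebra F₀ F))
      exact hx₀F (hx ▸ x.2)
    · exact hA
  have short : ∀ (μ : F) (a b : ι → F), RatPair h F₀ a b → HasMap H (yMap h τ μ a b) := fun μ a b P => by
    have h1 := (show μ / ζ ∈ A from hA ▸ Algebra.mem_top) a b P
    rwa [HasP, mul_div_cancel₀ _ hR.ne] at h1
  obtain ⟨u₀, hu₀⟩ : ∃ u : F, u + τ u ≠ 0 := by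
    by_contra hcon
    push Not at hcon
    refine hf.ne_refl (RingEquiv.ext fun x => ?_)
    have h1 := hcon 1
    rw [map_one] at h1
    show τ x = x
    linear_combination hcon x - x * h1
  have hu₀' : τ (u₀ + τ u₀) = u₀ + τ u₀ := by rw [map_add, hf.involutive, add_comm]
  have trans : ∀ {a : ι → F}, RatV F₀ a → h a a = 0 → ∀ k, τ k = -k → HasMap H (tMap h k a) := by
    intro a ha haa k hk
    rcases eq_or_ne a 0 with rfl | ha0
    · exact hasMap_id.congr fun x => by simp [tMap]
    obtain ⟨b, hb, hbb, hbp, hbi⟩ := hR.pick (fun _ => a) (fun _ => ha)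
    obtain ⟨c, hc, hcc, hcp, hcb⟩ := hR.supply (fun _ => a) (fun _ => ha) hb hbi
    have hba : h b a = 0 := hbp 0
    have hca : h c a = 0 := hcp 0
    have hc0 : c ≠ 0 := fun e => by rw [e, un_zero_left hf, mul_zero] at hcb; exact zero_ne_one hcb
    have hcbne : h c b ≠ 0 := fun e => by rw [e, mul_zero] at hcb; exact zero_ne_one hcb
    set μ := k * u₀ / (u₀ + τ u₀) with hμ
    have hkμ : k = μ - τ μ := by
      rw [hμ, map_div₀, map_mul, hu₀', hk]; field_simp; ring
    have Pab : RatPair h F₀ a b := ⟨ha, hb, haa, hbb, hR.skew0 hba, ha0, fun hmem => hbi (by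
      obtain ⟨s, hs⟩ := Submodule.mem_span_singleton.1 hmem
      rw [← hs]; exact Submodule.smul_mem _ s (Submodule.subset_span ⟨0, rfl⟩))⟩
    obtain ⟨g, hg, eg⟩ := short μ a b Pab
    have h1 := hS.yMap_map (hS.yMap_mem F₀.one_mem hc ha hcc haa hca) hg
    have hga : Units.val g *ᵥ a = a := by rw [eg, yMap, haa, hR.skew0 hba]; simp
    have hgc : Units.val g *ᵥ c = c + (μ / ζ) • a := by
      rw [eg, yMap, hca, mul_zero, zero_smul, sub_zero]
      congr 2
      have := hR.ne
      field_simp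
      linear_combination μ * hcb
    rw [hga, hgc, mul_one] at h1
    refine HasMap.left_cancel (M := yMap h τ (ζ * 1) c a) (hS.yMap_mem F₀.one_mem hc ha hcc haa hca)
      (h1.congr fun x => ?_)
    have hac : h a c = 0 := hR.skew0 hca
    have hζ := hR.ne
    have hτζ : τ ζ ≠ 0 := fun e0 => hζ (τ.injective (by rw [e0, map_zero]))
    simp only [yMap, tMap, Function.comp, sub_eq_add_neg, ← neg_smul, hf.add_left, hf.smul_left, un_add_right hf,
      un_smul_right hf, haa, hac, mul_zero, add_zero, map_div₀, mul_one, hkμ]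
    match_scalars <;> field_simp <;> ring
  -- every isotropic point
  intro v k hvv hk
  rcases eq_or_ne v 0 with rfl | hv0
  · exact hasMap_id.congr fun x => by simp [tMap]
  obtain ⟨e, ⟨he, hee⟩, hve⟩ : ∃ e : ι → F, (RatV F₀ e ∧ h e e = 0) ∧ h v e ≠ 0 := by
    by_contra! hall
    obtain ⟨⟨x, hx⟩, -⟩ := hf.nondegenerate v hv0
    apply hx
    clear hx
    induction hR.iso_span x using Submodule.span_induction with
    | mem a ha => exact hR.skew0 (hall a ha)
    | zero => exact un_zero_left hf v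
    | add a b _ _ p q => rw [hf.add_left, p, q, add_zero]
    | smul t a _ p => rw [hf.smul_left, p, mul_zero]
  have he0 : e ≠ 0 := fun e0 => hve (by rw [e0, un_zero_right hf])
  obtain ⟨f₀, hf₀, hf₀f, hf₀e⟩ := hR.exists_partner he he0
  let WOK : (ι → F) → Prop := fun w => h w e = 0 ∧ ∀ c, c + τ c + h w w = 0 → HasMap H (eMap h e w c)
  have hQ : ∀ w ∈ Submodule.span F {a : ι → F | RatV F₀ a ∧ h a a = 0 ∧ h a e = 0 ∧ h a f₀ = 0},
      ∀ t : F, WOK (t • w) := by
    intro w hw
    induction hw using Submodule.span_induction with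
    | mem a ha =>
      obtain ⟨ha, haa, hae, -⟩ := ha
      intro t
      refine ⟨by rw [hf.smul_left, hae, mul_zero], fun c hc => ?_⟩
      rw [hf.smul_left, un_smul_right hf, haa, mul_zero, mul_zero, add_zero] at hc
      have hc' : τ c = -c := eq_neg_of_add_eq_zero_right hc
      by_cases ham : a ∈ Submodule.span F ({e} : Set (ι → F))
      · obtain ⟨γ, rfl⟩ := Submodule.mem_span_singleton.1 ham
        refine (trans he hee (c - τ (t * γ) + t * γ) (by rw [map_add, map_sub, hf.involutive, hc']; ring)).congr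
          fun x => ?_
        simp only [tMap, eMap, un_smul_right hf, map_mul]
        module
      · refine ((short (-τ t) e a ⟨he, ha, hee, haa, hR.skew0 hae, he0, ham⟩).comp (trans he hee c hc')).congr
          fun x => ?_
        simp only [tMap, eMap, yMap, Function.comp, sub_eq_add_neg, ← neg_smul, hf.add_left, hf.smul_left,
          un_smul_right hf, hee, hR.skew0 hae, map_neg, hf.involutive, mul_zero, add_zero]
        module
    | zero =>
      intro t
      refine ⟨by rw [smul_zero, un_zero_left hf], fun c hc => ?_⟩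
      rw [smul_zero, un_zero_left hf, add_zero] at hc
      refine (trans he hee c (eq_neg_of_add_eq_zero_right hc)).congr fun x => ?_
      simp [tMap, eMap, smul_zero, un_zero_right hf]
    | add w₁ w₂ _ _ p q =>
      intro t
      obtain ⟨hw₁, hq₁⟩ := p t
      obtain ⟨hw₂, hq₂⟩ := q t
      rw [smul_add]
      set A₁ := t • w₁
      set A₂ := t • w₂
      refine ⟨by rw [hf.add_left, hw₁, hw₂, add_zero], fun c hc => ?_⟩
      set c₁ := -(h A₁ A₁) * u₀ / (u₀ + τ u₀) with hc₁
      have hv₁ : c₁ + τ c₁ + h A₁ A₁ = 0 := by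
        rw [hc₁, map_div₀, map_mul, map_neg, hu₀', ← hf.herm A₁ A₁]; field_simp; ring
      have hv₂ : (c - c₁ + h A₂ A₁) + τ (c - c₁ + h A₂ A₁) + h A₂ A₂ = 0 := by
        rw [map_add, map_sub, ← hf.herm A₁ A₂]
        rw [hf.add_left, un_add_right hf, un_add_right hf] at hc
        linear_combination hc - hv₁
      refine ((hq₁ c₁ hv₁).comp (hq₂ _ hv₂)).congr fun x => ?_
      simp only [eMap, Function.comp, sub_eq_add_neg, ← neg_smul, hf.add_left, hf.smul_left, un_add_right hf,
        hee, hw₂, hR.skew0 hw₁, mul_zero, add_zero]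
      module
    | smul s a _ p => intro t; rw [smul_smul]; exact p _
  have hef : h f₀ e ≠ 0 := fun e0 => by rw [e0, mul_zero] at hf₀e; exact zero_ne_one hf₀e
  set f₁ := ζ • f₀ with hf₁
  have hfe : h f₁ e = 1 := by rw [hf₁, hf.smul_left, hf₀e]
  have hff : h f₁ f₁ = 0 := by rw [hf₁, hf.smul_left, un_smul_right hf, hf₀f]; simp
  have hef₁ : h e f₁ = 1 := by rw [hf.herm, hfe, map_one]
  set ρ := h v e
  set v' := ρ⁻¹ • v with hv'
  have hv'e : h v' e = 1 := by rw [hv', hf.smul_left]; exact inv_mul_cancel₀ hve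
  set γ := h v' f₁ with hγ
  set w := v' - f₁ - γ • e with hw
  have hwe : h w e = 0 := by
    simp only [hw, sub_eq_add_neg, ← neg_one_smul F f₁, ← neg_smul, hf.add_left, hf.smul_left, hv'e, hfe, hee]
    ring
  have hwf : h w f₁ = 0 := by
    simp only [hw, sub_eq_add_neg, ← neg_one_smul F f₁, ← neg_smul, hf.add_left, hf.smul_left, ← hγ, hff, hef₁]
    ring
  have hwf₀ : h w f₀ = 0 := by
    rw [hf₁, un_smul_right hf] at hwf
    exact (mul_eq_zero.1 hwf).resolve_left fun e0 => hR.ne (τ.injective (by rw [e0, map_zero]))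
  have hval : γ + τ γ + h w w = 0 := by
    have h1 : h v' v' = 0 := by rw [hv', hf.smul_left, un_smul_right hf, hvv]; simp
    have e1 : v' = f₁ + γ • e + w := by rw [hw]; abel
    rw [e1] at h1
    simp only [hf.add_left, un_add_right hf, hf.smul_left, un_smul_right hf, hff, hee, hfe, hef₁, hwe, hwf,
      hR.skew0 hwe, hR.skew0 hwf] at h1
    linear_combination h1
  have hE := (one_smul F w ▸ hQ w (hR.mem_span_perp he hf₀ hee hf₀f hf₀e hwe hwf₀) 1 : WOK w).2 γ hval
  obtain ⟨g, hg, eg⟩ := hE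
  have hgf : Units.val g *ᵥ f₁ = v' := by
    rw [eg, eMap, hfe, hR.skew0 hwf, hw]; module
  have hk' : τ (k * ρ * τ ρ * (ζ * τ ζ)) = -(k * ρ * τ ρ * (ζ * τ ζ)) := by
    simp only [map_mul, hf.involutive, hk]; ring
  obtain ⟨g₂, hg₂, e₂⟩ := trans hf₀ hf₀f (k * ρ * τ ρ * (ζ * τ ζ)) hk'
  refine ⟨g * g₂ * g⁻¹, mul_mem (mul_mem hg hg₂) (inv_mem hg), fun y => ?_⟩
  obtain ⟨x, rfl⟩ := mulVec_surj g y
  simp only [Units.val_mul, ← Matrix.mulVec_mulVec]
  rw [Matrix.mulVec_mulVec x, ← Units.val_mul, inv_mul_cancel, Units.val_one, Matrix.one_mulVec, e₂]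
  simp only [tMap, Matrix.mulVec_add, Matrix.mulVec_smul]
  have hv : v = ρ • v' := by rw [hv', smul_inv_smul₀ hve]
  have hvf : Units.val g *ᵥ f₀ = ζ⁻¹ • v' := by
    rw [← hgf, hf₁, Matrix.mulVec_smul, inv_smul_smul₀ hR.ne]
  have hxf : h x f₀ = h (Units.val g *ᵥ x) (Units.val g *ᵥ f₀) := (suH_iso (hS.le hg) x f₀).symm
  rw [hxf, hvf, hv]
  simp only [un_smul_right hf, smul_smul, map_inv₀]
  have hτζ : τ ζ ≠ 0 := fun e0 => hR.ne (τ.injective (by rw [e0, map_zero]))
  have := hR.ne
  match_scalars <;> field_simp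

end big

end SuOver

end CfsgLib.Maximal
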