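import Mathlib
import Cfsg.Agent.Lib.Maximal.UnSubCore
import Cfsg.Agent.Lib.Maximal.SubfieldFinal

/-!
Subfield subgroups of special unitary groups: the general conclusion and the case of small degree.
-/

set_option autoImplicit false
set_option linter.unusedSectionVars false
set_option linter.unusedSimpArgs false
set_option linter.style.haveILetI false

namespace CfsgLib.Maximal

open scoped Matrix

variable {F : Type*} [Field F] {ι : Type} [Fintype ι] [DecidableEq ι] {τ : F ≃+* F}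
  {h : (ι → F) → (ι → F) → F} {F₀ : Subfield F} {ζ : F}

lemma exists_yMap (hf : Cfsg.Geo.IsUnitaryForm τ h) (μ : F) {a b : ι → F} (haa : h a a = 0) (hbb : h b b = 0)
    (hab : h a b = 0) : ∃ g ∈ suH h, ∀ x, Units.val g *ᵥ x = yMap h τ μ a b x := by
  have hwd : h (-τ μ • b) a = 0 := by rw [hf.smul_left, hf.herm, hab, map_zero, mul_zero]
  have hc : (0 : F) + τ 0 + h (-τ μ • b) (-τ μ • b) = 0 := by
    rw [map_zero, hf.smul_left, un_smul_right hf, hbb]; simp
  refine ⟨unSiegel hf haa hwd 0, ⟨fun u v => unSiegel_isometry hf haa hwd hc u v, unSiegel_mem_SL hf haa hwd 0⟩,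
    fun x => ?_⟩
  rw [unSiegel_mulVec, yMap, un_smul_right hf, map_neg, hf.involutive]
  module

variable [Finite F] {H : Subgroup (GL ι F)}

/-- If images of orthogonal pairs have rational isotropic perpendiculars then a line is found. -/
lemma SuOver.line_of_fix (hS : SuOver τ h F₀ ζ H) (hsm : SuSmall τ h F₀ ζ H)
    (hfix : ∀ g ∈ H, ∀ a b : ι → F, ∃ d, RatV F₀ d ∧ h d d = 0 ∧ d ≠ 0 ∧
      h d (Units.val g *ᵥ a) = 0 ∧ h d (Units.val g *ᵥ b) = 0)
    {g : GL ι F} (hg : g ∈ H) :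
    ∃ (e : ι → F) (c : F), RatV F₀ e ∧ h e e = 0 ∧ e ≠ 0 ∧ c ≠ 0 ∧ RatV F₀ (c • (Units.val g *ᵥ e)) := by
  classical
  have hR := hS.form
  have hf := hR.unit
  have hgi := suH_iso (hS.le hg)
  have ratR : ∀ {a b : ι → F}, RatV F₀ a → RatV F₀ b → h a a = 0 → h b b = 0 → h a b = 0 →
      ∃ R ∈ H, RatM F₀ (Units.val R) ∧ ∀ x, Units.val R *ᵥ x = yMap h τ ζ (Units.val g *ᵥ a) (Units.val g *ᵥ b) x := by
    intro a b ha hb haa hbb hab
    obtain ⟨R, hR', eR⟩ := hS.yMap_map (hS.yMap_mem F₀.one_mem ha hb haa hbb hab) hg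
    obtain ⟨d, hd, hdd, hd0, hda, hdb⟩ := hfix g hg a b
    have hRd : Units.val R *ᵥ d = d := by rw [eR, yMap, hdb, hda]; simp
    refine ⟨R, hR', ?_, fun x => by rw [eR, mul_one]⟩
    have := hS.rigid hsm hR' one_ne_zero hd hdd hd0 (by rw [one_smul, hRd]; exact hd)
    rwa [one_smul] at this
  obtain ⟨a, ha, haa, -, hai⟩ := hR.pick (fun _ => 0) (fun _ => ratV_zero)
  have ha0 : a ≠ 0 := fun e => hai (by rw [e]; exact zero_mem _)
  obtain ⟨b, hb, hbb, hbp, hbi⟩ := hR.pick (fun _ => a) (fun _ => ha)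
  obtain ⟨d', hd', hd'd, hd'p, hd'i⟩ := hR.pick ![a, b, a, b] (by intro i; fin_cases i <;> simp [ha, hb])
  have hb' : b ∉ Submodule.span F (Set.range ![d', a, d', a]) := fun hmem => by
    obtain ⟨α, β, e⟩ := Submodule.mem_span_pair.1 (range_four_le (S := Submodule.span F {d', a})
      (Submodule.subset_span (by simp)) (Submodule.subset_span (by simp)) (Submodule.subset_span (by simp))
      (Submodule.subset_span (by simp)) hmem)
    rcases eq_or_ne α 0 with rfl | hα
    · exact hbi (by rw [← e, zero_smul, zero_add]; exact Submodule.smul_mem _ β (Submodule.subset_span ⟨0, rfl⟩))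
    · refine hd'i ?_
      have : d' = α⁻¹ • (b - β • a) := by rw [← e, add_sub_cancel_right, inv_smul_smul₀ hα]
      rw [this]
      exact Submodule.smul_mem _ _ (sub_mem (Submodule.subset_span ⟨1, rfl⟩)
        (Submodule.smul_mem _ _ (Submodule.subset_span ⟨0, rfl⟩)))
  obtain ⟨c, hc, hcc, hcp, hcb⟩ := hR.supply _ (by intro i; fin_cases i <;> simp [ha, hd']) hb hb'
  have hcd : h c d' = 0 := hcp 0
  have hca : h c a = 0 := hcp 1
  have hd0 : d' ≠ 0 := fun e => hd'i (by rw [e]; exact zero_mem _)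
  have hab : h a b = 0 := hR.skew0 (hbp 0)
  obtain ⟨R, -, hRrat, eR⟩ := ratR ha hb haa hbb hab
  obtain ⟨R', -, hR'rat, eR'⟩ := ratR hc hd' hcc hd'd hcd
  set ga := Units.val g *ᵥ a with hga
  set gd := Units.val g *ᵥ d' with hgd
  have hcol : ∀ j, ((Units.val R - 1) * (Units.val R' - 1)) *ᵥ (Pi.single j 1) =
      (ζ * h (Pi.single j 1) gd) • ga := by
    intro j
    rw [← Matrix.mulVec_mulVec, Matrix.sub_mulVec (Units.val R'), Matrix.one_mulVec, eR']
    rw [yMap, show ∀ A B C : ι → F, A + B - C - A = B - C from fun A B C => by abel]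
    rw [Matrix.mulVec_sub, Matrix.mulVec_smul, Matrix.mulVec_smul, Matrix.sub_mulVec, Matrix.sub_mulVec,
      Matrix.one_mulVec, Matrix.one_mulVec, eR, eR]
    simp only [yMap, hga, hgd, hgi, hca, hcb, show h d' b = 0 from hd'p 1, show h d' a = 0 from hd'p 0,
      mul_zero, zero_smul, sub_zero, add_zero, add_sub_cancel_left, one_smul, sub_self, smul_zero]
  obtain ⟨j, hj⟩ : ∃ j, ζ * h (Pi.single j 1) gd ≠ 0 := by
    by_contra! hall
    have h0 : fvec h gd = 0 := funext fun j => (mul_eq_zero.1 (hall j)).resolve_left hR.ne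
    have h1 : gd = 0 := un_fvec_injective hf (h0.trans (un_fvec_zero hf).symm)
    exact hd0 (mulVec_inj g (show Units.val g *ᵥ d' = Units.val g *ᵥ 0 by rw [Matrix.mulVec_zero]; exact h1))
  refine ⟨a, _, ha, haa, ha0, hj, ?_⟩
  have e := hcol j
  rw [← e]
  exact ((hRrat.sub ratM_one).mul (hR'rat.sub ratM_one)).mulVec (ratV_single j F₀.one_mem)

end CfsgLib.Maximal

namespace CfsgLib.Maximal

open scoped Matrix

variable {F : Type*} [Field F] [Fintype F] {n q : ℕ}

/-- The standard Hermitian form in the coordinates given by `P`. -/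
def pullForm (q : ℕ) (P : Matrix.GeneralLinearGroup (Fin n) F) (u v : Fin n → F) : F :=
  Cfsg.hermForm n F q (Units.val P *ᵥ u) (Units.val P *ᵥ v)

lemma pullForm_unitary {τ : F ≃+* F} (hf : Cfsg.Geo.IsUnitaryForm τ (Cfsg.hermForm n F q))
    (P : Matrix.GeneralLinearGroup (Fin n) F) : Cfsg.Geo.IsUnitaryForm τ (pullForm q P) where
  ne_refl := hf.ne_refl
  involutive := hf.involutive
  add_left x y v := by simp only [pullForm, Matrix.mulVec_add]; exact hf.add_left _ _ _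
  smul_left c x v := by simp only [pullForm, Matrix.mulVec_smul]; exact hf.smul_left _ _ _
  herm v w := hf.herm _ _
  nondegenerate v hv := by
    have hne : Units.val P *ᵥ v ≠ 0 := fun e => hv (mulVec_inj P (show Units.val P *ᵥ v = Units.val P *ᵥ 0 by
      rw [Matrix.mulVec_zero]; exact e))
    obtain ⟨⟨x, hx⟩, ⟨y, hy⟩⟩ := hf.nondegenerate _ hne
    obtain ⟨x, rfl⟩ := mulVec_surj P x
    obtain ⟨y, rfl⟩ := mulVec_surj P y
    exact ⟨⟨x, hx⟩, ⟨y, hy⟩⟩

lemma conj_mem_suGL (P g : Matrix.GeneralLinearGroup (Fin n) F) :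
    P * g * P⁻¹ ∈ suGL n F q ↔ g ∈ suH (pullForm q P) := by
  have hdet : Matrix.GeneralLinearGroup.det (P * g * P⁻¹) = Matrix.GeneralLinearGroup.det g := by
    rw [map_mul, map_mul, mul_right_comm, ← map_mul, mul_inv_cancel, map_one, one_mul]
  have hval : ∀ x, Units.val (P * g * P⁻¹) *ᵥ (Units.val P *ᵥ x) = Units.val P *ᵥ (Units.val g *ᵥ x) := fun x => by
    rw [Matrix.mulVec_mulVec, Matrix.mulVec_mulVec, ← Units.val_mul, ← Units.val_mul, inv_mul_cancel_right]
  refine and_congr ⟨fun hg u v => ?_, fun hg u v => ?_⟩ ?_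
  · show pullForm q P (Units.val g *ᵥ u) (Units.val g *ᵥ v) = pullForm q P u v
    simp only [pullForm, ← hval]
    exact hg _ _
  · obtain ⟨u, rfl⟩ := mulVec_surj P u
    obtain ⟨v, rfl⟩ := mulVec_surj P v
    show Cfsg.hermForm n F q _ _ = _
    simp only [Units.coeHom_apply, hval]
    exact hg u v
  · show Matrix.GeneralLinearGroup.det _ = 1 ↔ Matrix.GeneralLinearGroup.det _ = 1
    rw [hdet]

/-- A subfield subgroup is maximal in SU as soon as lines can be found. -/
theorem unSub_maximal (hF : Fintype.card F = q ^ 2) {τ : F ≃+* F}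
    (hf : Cfsg.Geo.IsUnitaryForm τ (Cfsg.hermForm n F q)) {F₀ : Subfield F} {r : ℕ} (hr : r.Prime)
    (hcard : Fintype.card F = Nat.card F₀ ^ r) {ζ : F} (P : Matrix.GeneralLinearGroup (Fin n) F)
    (hR : RatForm τ (pullForm q P) F₀ ζ)
    (hline : ∀ H, SuOver τ (pullForm q P) F₀ ζ H → SuSmall τ (pullForm q P) F₀ ζ H → ∀ g ∈ H,
      ∃ (e : Fin n → F) (c : F), RatV F₀ e ∧ pullForm q P e e = 0 ∧ e ≠ 0 ∧ c ≠ 0 ∧
        RatV F₀ (c • (Units.val g *ᵥ e))) :
    Cfsg.Geo.IsMaximalIn (suGL n F q) (Cfsg.Geo.subfieldSubgroup F₀ P ⊓ suGL n F q) := by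
  classical
  have hn : 10 ≤ n := by simpa using hR.dim
  refine ⟨lt_of_le_of_ne inf_le_right fun heq => ?_, fun M hSM hMK => ?_⟩
  · obtain ⟨μ, hμ⟩ := exists_notMem_subfield hr hcard
    obtain ⟨a, ha, haa, -, hai⟩ := hR.pick (fun _ => 0) (fun _ => ratV_zero)
    have ha0 : a ≠ 0 := fun e => hai (by rw [e]; exact zero_mem _)
    obtain ⟨b, hb, hbb, hbp, hbi⟩ := hR.pick (fun _ => a) (fun _ => ha)
    obtain ⟨c₀, hc₀, -, hc₀p, hc₀b⟩ := hR.supply (fun _ => a) (fun _ => ha) hb hbi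
    obtain ⟨g, hg, eg⟩ := exists_yMap hR.unit (ζ * μ) haa hbb (hR.skew0 (hbp 0))
    have h1 := ((SetLike.ext_iff.1 heq _).2 ((conj_mem_suGL P g).2 hg)).1
    have h2 := (mem_subfieldSubgroup_iff P _).1 h1
    rw [show P⁻¹ * (P * g * P⁻¹) * P = g by group] at h2
    obtain ⟨c, hc, hrat⟩ := h2
    have hcF : c ∈ F₀ := by
      obtain ⟨l, hl⟩ := Function.ne_iff.1 ha0
      have h3 := hrat.mulVec ha l
      rw [Matrix.smul_mulVec, eg, yMap, haa, hR.skew0 (hbp 0)] at h3
      simp at h3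
      have h4 := F₀.mul_mem h3 (F₀.inv_mem (ha l))
      rwa [mul_assoc, mul_inv_cancel₀ (show a l ≠ 0 from hl), mul_one] at h4
    obtain ⟨l, hl⟩ := Function.ne_iff.1 ha0
    have h3 := hrat.mulVec hc₀ l
    rw [Matrix.smul_mulVec, eg, yMap, show pullForm q P c₀ a = 0 from hc₀p 0, mul_right_comm, hc₀b] at h3
    simp at h3
    have h4 := F₀.sub_mem (F₀.mul_mem (F₀.inv_mem hcF) h3) (hc₀ l)
    rw [← mul_assoc, inv_mul_cancel₀ hc, one_mul, add_sub_cancel_left] at h4
    have h5 := F₀.mul_mem h4 (F₀.inv_mem (ha l))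
    rw [mul_assoc, mul_inv_cancel₀ (show a l ≠ 0 from hl), mul_one] at h5
    exact hμ h5
  · let H : Subgroup (Matrix.GeneralLinearGroup (Fin n) F) := M.map (MulAut.conj P⁻¹).toMonoidHom
    have memH : ∀ g, g ∈ H ↔ P * g * P⁻¹ ∈ M := fun g => by
      constructor
      · rintro ⟨x, hx, rfl⟩
        simpa [MulAut.conj_apply, mul_assoc] using hx
      · intro hg; exact ⟨_, hg, by simp [MulAut.conj_apply, mul_assoc]⟩
    have hS : SuOver τ (pullForm q P) F₀ ζ H := ⟨hR,
      fun g hg => (conj_mem_suGL P g).1 (hMK ((memH g).1 hg)),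
      fun g hg hrat => (memH g).2 (hSM ⟨(mem_subfieldSubgroup_iff P _).2 (by
        rwa [show P⁻¹ * (P * g * P⁻¹) * P = g by group]), (conj_mem_suGL P g).2 hg⟩)⟩
    by_cases hsm : SuSmall τ (pullForm q P) F₀ ζ H
    · refine Or.inl (le_antisymm (fun g hg => ⟨(mem_subfieldSubgroup_iff P g).2 ?_, hMK hg⟩) hSM)
      have hgH : P⁻¹ * g * P ∈ H := (memH _).2 (by
        rwa [show P * (P⁻¹ * g * P) * P⁻¹ = g by group])
      obtain ⟨e, c, he, hee, he0, hc, hl⟩ := hline H hS hsm _ hgH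
      exact ⟨c, hc, hS.rigid hsm hgH hc he hee he0 hl⟩
    · refine Or.inr (le_antisymm hMK ?_)
      refine suGL_le_of_full hf hF (by omega) fun v hv k hk => ?_
      obtain ⟨u, rfl⟩ := mulVec_surj P v
      obtain ⟨g, hg, eg⟩ := hS.full_of_big hr hcard hsm u k hv hk
      refine ⟨un_tv_dot hf hv k, ?_⟩
      convert (memH g).1 hg using 1
      refine Units.ext (CfsgLib.Geometry.matrix_eq_of_mulVec fun x => ?_)
      obtain ⟨x, rfl⟩ := mulVec_surj P x
      show Units.val (tv _ _ _) *ᵥ (Units.val P *ᵥ x) = Units.val (P * g * P⁻¹) *ᵥ (Units.val P *ᵥ x)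
      rw [Matrix.mulVec_mulVec x (Units.val (P * g * P⁻¹)), ← Units.val_mul, inv_mul_cancel_right, Units.val_mul,
        ← Matrix.mulVec_mulVec, eg, tv_mulVec, un_dot hf, smul_smul]
      simp only [tMap, Matrix.mulVec_add, Matrix.mulVec_smul, pullForm]
      rw [mul_comm]

section quadratic

variable {F₀ : Subfield F} {τ : F ≃+* F} {h : (Fin n → F) → (Fin n → F) → F} {ζ : F}

/-- Over a quadratic extension there are rational isotropic vectors orthogonal to two given vectors. -/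
lemma RatForm.fix_two (hR : RatForm τ h F₀ ζ) (hcard : Fintype.card F = Nat.card F₀ ^ 2) (v w : Fin n → F) :
    ∃ d, RatV F₀ d ∧ h d d = 0 ∧ d ≠ 0 ∧ h d v = 0 ∧ h d w = 0 := by
  classical
  obtain ⟨ω, hω⟩ := exists_notMem_subfield Nat.prime_two hcard
  have hinj : Function.Injective (fun p : F₀ × F₀ => (p.1 : F) + ω * p.2) := by
    rintro ⟨a, b⟩ ⟨a', b'⟩ he
    simp only at he
    have hbb : (b : F) = b' := by
      by_contra hne
      have hne' : (b : F) - b' ≠ 0 := sub_ne_zero.2 hne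
      apply hω
      have : ω = ((a' : F) - a) / ((b : F) - b') := by field_simp; linear_combination he
      rw [this]
      exact F₀.div_mem (F₀.sub_mem a'.2 a.2) (F₀.sub_mem b.2 b'.2)
    have haa : (a : F) = a' := by rw [hbb] at he; linear_combination he
    exact Prod.ext (Subtype.ext haa) (Subtype.ext hbb)
  have hbij := (Fintype.bijective_iff_injective_and_card _).2 ⟨hinj, by
    rw [Fintype.card_prod, hcard, Nat.card_eq_fintype_card, pow_two]⟩
  have split : ∀ v : Fin n → F, ∃ v₁ v₂ : Fin n → F, RatV F₀ v₁ ∧ RatV F₀ v₂ ∧ v = v₁ + ω • v₂ := by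
    intro v
    choose p hp using fun i => hbij.2 (v i)
    exact ⟨fun i => (p i).1, fun i => (p i).2, fun i => (p i).1.2, fun i => (p i).2.2,
      funext fun i => (hp i).symm⟩
  obtain ⟨v₁, v₂, hv₁, hv₂, ev⟩ := split v
  obtain ⟨w₁, w₂, hw₁, hw₂, ew⟩ := split w
  obtain ⟨d, hd, hdd, hdp, hdi⟩ := hR.pick_two ![v₁, v₂, w₁, w₂]
    (by intro i; fin_cases i <;> simp [hv₁, hv₂, hw₁, hw₂])
  refine ⟨d, hd, hdd, fun e => hdi 0 0 (by rw [e]; exact zero_mem _), ?_, ?_⟩
  · rw [ev, un_add_right hR.unit, un_smul_right hR.unit, show h d v₁ = 0 from hdp 0, show h d v₂ = 0 from hdp 1]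
    simp
  · rw [ew, un_add_right hR.unit, un_smul_right hR.unit, show h d w₁ = 0 from hdp 2, show h d w₂ = 0 from hdp 3]
    simp

theorem unSub_maximal_quadratic (hF : Fintype.card F = q ^ 2) {F₀ : Subfield F}
    (hcard : Fintype.card F = Nat.card F₀ ^ 2) {ζ : F} (P : Matrix.GeneralLinearGroup (Fin n) F) {τ : F ≃+* F}
    (hf : Cfsg.Geo.IsUnitaryForm τ (Cfsg.hermForm n F q)) (hR : RatForm τ (pullForm q P) F₀ ζ) :
    Cfsg.Geo.IsMaximalIn (suGL n F q) (Cfsg.Geo.subfieldSubgroup F₀ P ⊓ suGL n F q) :=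
  unSub_maximal hF hf Nat.prime_two hcard P hR fun _ hS hsm _ hg =>
    hS.line_of_fix hsm (fun _ _ _ _ => hR.fix_two hcard _ _) hg

end quadratic

end CfsgLib.Maximal
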