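import Mathlib
import Cfsg.Agent.Lib.Maximal.UnSubMain
import Cfsg.Agent.Lib.Maximal.SubfieldMain

/-!
Subfield subgroups of odd degree in special unitary groups.
-/

set_option autoImplicit false
set_option linter.unusedSectionVars false
set_option linter.unusedSimpArgs false
set_option linter.style.haveILetI false

namespace CfsgLib.Maximal

open scoped Matrix

variable {F : Type*} [Field F] [Fintype F]

lemma le_rank_of_submatrix {ι : Type} [Fintype ι] [DecidableEq ι] {A : Matrix ι ι F} {m : ℕ} (f g : Fin m → ι)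
    {c : F} (hc : c ≠ 0) (h : A.submatrix f g = c • 1) : m ≤ A.rank := by
  have h1 := Matrix.rank_submatrix_le A f g
  have hu : IsUnit (c • (1 : Matrix (Fin m) (Fin m) F)) := by
    rw [Matrix.isUnit_iff_isUnit_det, Matrix.det_smul, Matrix.det_one, mul_one]
    exact (isUnit_iff_ne_zero.2 hc).pow _
  rwa [h, Matrix.rank_of_isUnit _ hu, Fintype.card_fin] at h1

lemma exists_two_rows {ι : Type} [Fintype ι] [DecidableEq ι] {A : Matrix ι ι F} (h : 2 ≤ A.rank) :
    ∃ i j, A i ≠ 0 ∧ A j ∉ Submodule.span F ({A i} : Set (ι → F)) := by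
  obtain ⟨i, hi⟩ : ∃ i, A i ≠ 0 := by
    by_contra! hall
    rw [show A = 0 from funext hall, Matrix.rank_zero] at h
    omega
  by_contra! hcon
  choose t ht using fun j => Submodule.mem_span_singleton.1 (hcon i j hi)
  have e : A = Matrix.vecMulVec t (A i) := Matrix.ext fun j l => by
    rw [Matrix.vecMulVec_apply, ← congrFun (ht j) l]; rfl
  have := Matrix.rank_vecMulVec_le t (A i)
  rw [← e] at this
  omega

lemma subfieldSubgroup_mul_rat' {ι : Type} [Fintype ι] [DecidableEq ι] {F₀ : Subfield F}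
    (P : GL ι F) (Q : GL ι F₀) :
    Cfsg.Geo.subfieldSubgroup F₀ (P * Matrix.GeneralLinearGroup.map F₀.subtype Q) =
      Cfsg.Geo.subfieldSubgroup F₀ P := by
  have hQ : RatM F₀ (Units.val (Matrix.GeneralLinearGroup.map F₀.subtype Q)) := fun i j => (Units.val Q i j).2
  ext g
  rw [mem_subfieldSubgroup_iff, mem_subfieldSubgroup_iff]
  generalize hq : Matrix.GeneralLinearGroup.map F₀.subtype Q = q at hQ ⊢
  constructor <;> rintro ⟨c, hc, h⟩ <;> refine ⟨c, hc, ?_⟩
  · have := (hQ.mul h).mul (RatM.inv hQ)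
    rwa [Matrix.mul_smul, Matrix.smul_mul, ← Units.val_mul, ← Units.val_mul,
      show q * ((P * q)⁻¹ * g * (P * q)) * q⁻¹ = P⁻¹ * g * P by group] at this
  · have := ((RatM.inv hQ).mul h).mul hQ
    rwa [Matrix.mul_smul, Matrix.smul_mul, ← Units.val_mul, ← Units.val_mul,
      show q⁻¹ * (P⁻¹ * g * P) * q = (P * q)⁻¹ * g * (P * q) by group] at this

variable {n q : ℕ} {F₀ : Subfield F} {τ : F ≃+* F}

local notation "hh" => Cfsg.hermForm n F q

section line

variable {H : Subgroup (Matrix.GeneralLinearGroup (Fin n) F)}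
  (hS : SuOver τ (Cfsg.hermForm n F q) F₀ 1 H) (hne : ∃ x ∈ F₀, τ x ≠ x)
include hS hne

lemma SuOver.skew_rat : ∃ k ∈ F₀, k ≠ 0 ∧ τ k = -k := by
  obtain ⟨x, hx, hx'⟩ := hne
  exact ⟨x - τ x, F₀.sub_mem hx (hS.form.tau_mem x hx), sub_ne_zero.2 (Ne.symm hx'),
    by rw [map_sub, hS.form.unit.involutive]; ring⟩

/-- An isotropic vector on the line of two independent rational vectors. -/
lemma SuOver.iso_two {x₁ x₂ : Fin n → F} (h1 : RatV F₀ x₁) (h2 : RatV F₀ x₂) (h10 : x₁ ≠ 0)
    (hind : x₂ ∉ Submodule.span F ({x₁} : Set (Fin n → F))) :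
    ∃ α β : F, RatV F₀ (α • x₁ + β • x₂) ∧ hh (α • x₁ + β • x₂) (α • x₁ + β • x₂) = 0 ∧ α • x₁ + β • x₂ ≠ 0 := by
  have hR := hS.form
  have hf := hR.unit
  have hne0 : ∀ α β : F, β ≠ 0 → α • x₁ + β • x₂ ≠ 0 := fun α β hβ e => hind (by
    refine Submodule.mem_span_singleton.2 ⟨-(β⁻¹ * α), ?_⟩
    rw [show x₂ = β⁻¹ • ((α • x₁ + β • x₂) - α • x₁) by rw [add_sub_cancel_left, inv_smul_smul₀ hβ], e]
    module)
  by_cases h11 : hh x₁ x₁ = 0
  · exact ⟨1, 0, by simpa using h1, by simpa using h11, by simpa using h10⟩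
  have hr : ∀ {u v : Fin n → F}, RatV F₀ u → RatV F₀ v → hh u v ∈ F₀ := fun hu hv => by
    have := hR.rat _ _ hu hv
    rwa [one_mul] at this
  set δ := hh x₂ x₁ / hh x₁ x₁ with hδ
  set y := x₂ - δ • x₁ with hy
  have hδF : δ ∈ F₀ := F₀.div_mem (hr h2 h1) (hr h1 h1)
  have hyr : RatV F₀ y := h2.sub (h1.smul hδF)
  have hy1 : hh y x₁ = 0 := by
    rw [hy, hR.sub_smul_left, hδ, div_mul_cancel₀ _ h11, sub_self]
  have h1y : hh x₁ y = 0 := hR.skew0 hy1
  let σ₀ : F₀ →+* F₀ := ((τ : F →+* F).comp F₀.subtype).codRestrict F₀ fun x => hR.tau_mem _ x.2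
  have hσ₀ : σ₀ ≠ RingHom.id F₀ := fun e => by
    obtain ⟨x, hx, hx'⟩ := hne
    exact hx' (congrArg Subtype.val (RingHom.congr_fun e ⟨x, hx⟩))
  obtain ⟨c, hc⟩ := CfsgLib.Geometry.exists_norm_eq hσ₀ (fun a => Subtype.ext (hf.involutive a.1))
    (c := ⟨-hh y y / hh x₁ x₁, F₀.div_mem (F₀.neg_mem (hr hyr hyr)) (hr h1 h1)⟩)
    (Subtype.ext (by
      show τ (-hh y y / hh x₁ x₁) = _
      rw [map_div₀, map_neg, ← hf.herm, ← hf.herm]))
  have hc' : (c : F) * τ c = -hh y y / hh x₁ x₁ := congrArg Subtype.val hc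
  have e : ((c : F) - δ) • x₁ + (1 : F) • x₂ = (c : F) • x₁ + y := by rw [hy]; module
  refine ⟨(c : F) - δ, 1, by rw [e]; exact (h1.smul c.2).addV hyr, ?_, hne0 _ _ one_ne_zero⟩
  rw [e]
  simp only [hf.add_left, un_add_right hf, hf.smul_left, un_smul_right hf, hy1, h1y, mul_zero, add_zero, zero_add]
  rw [← mul_assoc, hc', div_mul_cancel₀ _ h11]; ring

/-- A centre orthogonal to a rational isotropic vector lies on a rational line. -/
lemma SuOver.line_of_perp (hsm : SuSmall τ hh F₀ 1 H) {v : Fin n → F} (hv0 : v ≠ 0) {k : F} (hk : k ≠ 0)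
    (hX : HasMap H (tMap hh k v)) {d : Fin n → F} (hd : RatV F₀ d) (hdd : hh d d = 0) (hd0 : d ≠ 0)
    (hdv : hh d v = 0) : RatLine F₀ v := by
  classical
  have hf := hS.form.unit
  obtain ⟨X, hX, eX⟩ := hX
  have hXd : Units.val X *ᵥ d = d := by rw [eX, tMap, hdv]; simp
  have hrat := hS.rigid hsm hX one_ne_zero hd hdd hd0 (by rw [one_smul, hXd]; exact hd)
  rw [one_smul] at hrat
  obtain ⟨j, hj⟩ : ∃ j, hh (Pi.single j 1) v ≠ 0 := by
    by_contra! hall
    exact hv0 (un_fvec_injective hf ((show fvec hh v = 0 from funext hall).trans (un_fvec_zero hf).symm))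
  refine ⟨k * hh (Pi.single j 1) v, mul_ne_zero hk hj, ?_⟩
  have := (hrat.sub ratM_one).mulVec (ratV_single j F₀.one_mem)
  rwa [Matrix.sub_mulVec, Matrix.one_mulVec, eX, tMap, add_sub_cancel_left] at this

/-- A centre orthogonal to two independent rational vectors lies on a rational line. -/
lemma SuOver.line_of_two (hsm : SuSmall τ hh F₀ 1 H) {v : Fin n → F} (hv0 : v ≠ 0) {k : F} (hk : k ≠ 0)
    (hX : HasMap H (tMap hh k v)) {x₁ x₂ : Fin n → F} (h1 : RatV F₀ x₁) (h2 : RatV F₀ x₂) (h10 : x₁ ≠ 0)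
    (hind : x₂ ∉ Submodule.span F ({x₁} : Set (Fin n → F))) (hv1 : hh x₁ v = 0) (hv2 : hh x₂ v = 0) :
    RatLine F₀ v := by
  obtain ⟨α, β, hd, hdd, hd0⟩ := hS.iso_two hne h1 h2 h10 hind
  refine hS.line_of_perp hne hsm hv0 hk hX hd hdd hd0 ?_
  rw [hS.form.unit.add_left, hS.form.unit.smul_left, hS.form.unit.smul_left, hv1, hv2]; simp

/-- A centre in a rational plane lies on a rational line. -/
lemma SuOver.line_of_plane (hsm : SuSmall τ hh F₀ 1 H) {v : Fin n → F} (hv0 : v ≠ 0) {k : F} (hk : k ≠ 0)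
    (hX : HasMap H (tMap hh k v)) {w w' : Fin n → F} (hw : RatV F₀ w) (hw' : RatV F₀ w') {α β : F}
    (hv : v = α • w + β • w') : RatLine F₀ v := by
  obtain ⟨d, hd, hdd, hdp, hdi⟩ := hS.form.pick ![w, w', w, w'] (by intro i; fin_cases i <;> simp [hw, hw'])
  refine hS.line_of_perp hne hsm hv0 hk hX hd hdd (fun e => hdi (by rw [e]; exact zero_mem _)) ?_
  rw [hv, un_add_right hS.form.unit, un_smul_right hS.form.unit, un_smul_right hS.form.unit,
    show hh d w = 0 from hdp 0, show hh d w' = 0 from hdp 1]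
  simp

lemma hh_dot_single (hτ : ∀ x, τ x = x ^ q) (v : Fin n → F) (i : Fin n) : hh v (Pi.single i 1) = v i := by
  classical
  show ∑ l, v l * (Pi.single i (1 : F) : Fin n → F) l ^ q = v i
  rw [Finset.sum_eq_single i]
  · rw [← hτ, Pi.single_eq_same, map_one, mul_one]
  · intro l _ hl
    rw [← hτ, Pi.single_eq_of_ne hl, map_zero, mul_zero]
  · simp

/-- The image of a rational isotropic vector under an overgroup element lies on a rational line. -/
lemma SuOver.image_line (hsm : SuSmall τ hh F₀ 1 H) (hτ : ∀ x, τ x = x ^ q) {r : ℕ} (hr : r.Prime) (hr2 : r ≠ 2)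
    (hcard : Fintype.card F = Nat.card F₀ ^ r) {g : Matrix.GeneralLinearGroup (Fin n) F} (hg : g ∈ H)
    {e₀ : Fin n → F} (he₀ : RatV F₀ e₀) (he₀e : hh e₀ e₀ = 0) (he₀0 : e₀ ≠ 0) :
    RatLine F₀ (Units.val g *ᵥ e₀) := by
  classical
  have hR := hS.form
  have hf := hR.unit
  have hn : 10 ≤ n := by simpa using hR.dim
  have hr1 : ∀ {u v : Fin n → F}, RatV F₀ u → RatV F₀ v → hh u v ∈ F₀ := fun hu hv => by
    have := hR.rat _ _ hu hv
    rwa [one_mul] at this
  obtain ⟨k, hkF, hk, hkτ⟩ := hS.skew_rat hne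
  have ratT : ∀ {e : Fin n → F}, RatV F₀ e → hh e e = 0 → HasMap H (tMap hh k e) := by
    intro e he hee
    have act : ∀ x, Units.val (tv (k • e) (fvec hh e) (un_tv_dot hf hee k)) *ᵥ x = tMap hh k e x := fun x => by
      rw [tv_mulVec, un_dot hf, tMap, smul_smul, mul_comm]
    refine ⟨tv (k • e) (fvec hh e) (un_tv_dot hf hee k), hS.mem _ ⟨fun u v => un_tv_isometry hf hee hkτ u v, tv_mem_specialLinear _ _ _⟩
      ⟨1, one_ne_zero, ?_⟩, act⟩
    rw [one_smul, tv_val]
    exact ratM_one.add (ratM_vecMulVec (he.smul hkF) fun j => hr1 (ratV_single j F₀.one_mem) he)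
  have conjT : ∀ {u : Matrix.GeneralLinearGroup (Fin n) F}, u ∈ H → ∀ {e : Fin n → F}, RatV F₀ e → hh e e = 0 →
      HasMap H (tMap hh k (Units.val u *ᵥ e)) := by
    intro u hu e he hee
    obtain ⟨t, ht, et⟩ := ratT he hee
    refine ⟨u * t * u⁻¹, mul_mem (mul_mem hu ht) (inv_mem hu), fun y => ?_⟩
    obtain ⟨x, rfl⟩ := mulVec_surj u y
    simp only [Units.val_mul, ← Matrix.mulVec_mulVec]
    rw [Matrix.mulVec_mulVec x, ← Units.val_mul, inv_mul_cancel, Units.val_one, Matrix.one_mulVec, et]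
    simp only [tMap, Matrix.mulVec_add, Matrix.mulVec_smul, suH_iso (hS.le hu)]
  set v := Units.val g *ᵥ e₀ with hvdef
  have hv0 : v ≠ 0 := fun e => he₀0 (mulVec_inj g (show Units.val g *ᵥ e₀ = Units.val g *ᵥ 0 by
    rw [Matrix.mulVec_zero]; exact e))
  have hvv : hh v v = 0 := by rw [hvdef, suH_iso (hS.le hg)]; exact he₀e
  have hXm := conjT hg he₀ he₀e
  by_cases hrn : r + 1 < n
  · obtain ⟨ψ₁, hψ₁, hψ₁0, hψ₁v⟩ := exists_rat_dot_eq_zero F₀ hcard (by simp; omega) v
    obtain ⟨i, hi⟩ := Function.ne_iff.1 hψ₁0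
    obtain ⟨ψ, hψ, hψ0, hψv⟩ := exists_rat_dot_eq_zero (ι := {j : Fin n // j ≠ i}) F₀ hcard
      (by simp [Fintype.card_subtype_compl]; omega) (fun j => v j.1)
    let ψ₂ : Fin n → F := fun j => if hj : j ≠ i then ψ ⟨j, hj⟩ else 0
    have hψ₂ : RatV F₀ ψ₂ := fun j => by
      by_cases hj : j ≠ i
      · simp only [ψ₂, dif_pos hj]; exact hψ _
      · simp only [ψ₂, dif_neg hj]; exact F₀.zero_mem
    have hψ₂v : ψ₂ ⬝ᵥ v = 0 := by
      rw [dotProduct, ← Finset.add_sum_erase _ _ (Finset.mem_univ i),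
        ← Finset.sum_subtype (p := fun j => j ≠ i) (F := inferInstance) (Finset.univ.erase i) (by simp)
          (fun j => ψ₂ j * v j) |>.symm]
      simp only [ψ₂, ne_eq, not_true, dite_false, zero_mul, zero_add]
      refine Eq.trans (Finset.sum_congr rfl fun j _ => ?_) hψv
      simp [j.2]
    obtain ⟨x₁, hx₁, ex₁⟩ := hR.exists_dual hψ₁
    obtain ⟨x₂, hx₂, ex₂⟩ := hR.exists_dual hψ₂
    have hx₁0 : x₁ ≠ 0 := fun e => hψ₁0 (funext fun j => by
      have := ex₁ (Pi.single j 1)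
      rw [e, un_zero_right hf, mul_zero, dotProduct_single, mul_one] at this
      exact this.symm)
    refine hS.line_of_two hne hsm hv0 hk hXm hx₁ hx₂ hx₁0 (fun hmem => ?_) (hR.skew0 ?_) (hR.skew0 ?_)
    · obtain ⟨t, ht⟩ := Submodule.mem_span_singleton.1 hmem
      have hval : ∀ y, ψ₂ ⬝ᵥ y = τ t * (ψ₁ ⬝ᵥ y) := fun y => by
        rw [← ex₂, ← ex₁, ← ht, un_smul_right hf]; ring
      have h0 := hval (Pi.single i 1)
      simp [ψ₂] at h0
      rcases h0 with h0 | h0
      · apply hψ0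
        funext j
        have := hval (Pi.single j.1 1)
        simp [ψ₂, j.2, h0] at this
        simpa using this
      · exact hi h0
    · have := ex₁ v
      rwa [one_mul, hψ₁v] at this
    · have := ex₂ v
      rwa [one_mul, hψ₂v] at this
  obtain ⟨e⟩ : Nonempty (Fin 10 ↪ Fin n) := Function.Embedding.nonempty_of_card_le (by simp; omega)
  have ne : ∀ {i j : Fin 10}, i ≠ j → e i ≠ e j := fun h => e.injective.ne h
  set sj : Equiv.Perm (Fin n) := Equiv.swap (e 0) (e 1) * Equiv.swap (e 2) (e 3) with hsj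
  set st : Equiv.Perm (Fin n) := Equiv.swap (e 0) (e 1) * Equiv.swap (e 2) (e 3) *
    (Equiv.swap (e 4) (e 5) * Equiv.swap (e 6) (e 7)) with hst
  have sj_apply : ∀ i : Fin 10, sj (e i) = e ((Equiv.swap 0 1 * Equiv.swap 2 3 : Equiv.Perm (Fin 10)) i) :=
    fun i => by simp only [hsj, Equiv.Perm.mul_apply, Function.Embedding.swap_apply]
  have st_apply : ∀ i : Fin 10, st (e i) = e ((Equiv.swap 0 1 * Equiv.swap 2 3 *
      (Equiv.swap 4 5 * Equiv.swap 6 7) : Equiv.Perm (Fin 10)) i) :=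
    fun i => by simp only [hst, Equiv.Perm.mul_apply, Function.Embedding.swap_apply]
  have sj_sq : sj * sj = 1 := Equiv.ext fun x => by
    by_cases hx : x ∈ Set.range e
    · obtain ⟨i, rfl⟩ := hx
      rw [Equiv.Perm.mul_apply, sj_apply, sj_apply, Equiv.Perm.one_apply]
      congr 1; revert i; decide
    · have hne' : ∀ i, x ≠ e i := fun i h' => hx ⟨i, h'.symm⟩
      simp [hsj, Equiv.Perm.mul_apply, Equiv.swap_apply_of_ne_of_ne (hne' _) (hne' _)]
  have st_sq : st * st = 1 := Equiv.ext fun x => by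
    by_cases hx : x ∈ Set.range e
    · obtain ⟨i, rfl⟩ := hx
      rw [Equiv.Perm.mul_apply, st_apply, st_apply, Equiv.Perm.one_apply]
      congr 1; revert i; decide
    · have hne' : ∀ i, x ≠ e i := fun i h' => hx ⟨i, h'.symm⟩
      simp [hst, Equiv.Perm.mul_apply, Equiv.swap_apply_of_ne_of_ne (hne' _) (hne' _)]
  have hmem : ∀ σ : Equiv.Perm (Fin n), Equiv.Perm.sign σ = 1 → monoGL σ (fun _ => (1 : Fˣ)) ∈ H := fun σ hσ => by
    refine hS.mem _ ⟨fun u w => ?_, ?_⟩ ⟨1, one_ne_zero, by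
      rw [one_smul, monoGL_val]; exact ratM_monoMat _ fun _ => F₀.one_mem⟩
    · show hh (Units.val (monoGL σ fun _ => (1 : Fˣ)) *ᵥ u) (Units.val (monoGL σ fun _ => (1 : Fˣ)) *ᵥ w) = hh u w
      unfold Cfsg.hermForm
      refine Fintype.sum_equiv σ.symm _ _ fun i => ?_
      simp [monoGL_val, monoMat_mulVec']
    · exact (mem_specialLinear_iff _).2 (by rw [monoGL_val, monoMat_det, hσ]; simp)
  set J : Matrix.GeneralLinearGroup (Fin n) F := monoGL sj (fun _ => 1) with hJ
  set T : Matrix.GeneralLinearGroup (Fin n) F := monoGL st (fun _ => 1) with hT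
  have hJH : J ∈ H := hmem _ (by
    simp [hsj, Equiv.Perm.sign_swap (ne (show (0 : Fin 10) ≠ 1 by decide)),
      Equiv.Perm.sign_swap (ne (show (2 : Fin 10) ≠ 3 by decide))])
  have hTH : T ∈ H := hmem _ (by
    simp [hst, Equiv.Perm.sign_swap (ne (show (0 : Fin 10) ≠ 1 by decide)),
      Equiv.Perm.sign_swap (ne (show (2 : Fin 10) ≠ 3 by decide)),
      Equiv.Perm.sign_swap (ne (show (4 : Fin 10) ≠ 5 by decide)),
      Equiv.Perm.sign_swap (ne (show (6 : Fin 10) ≠ 7 by decide))])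
  have hJJ : J * J = 1 := by
    rw [hJ, monoGL_mul, sj_sq]
    exact Units.ext (by rw [monoGL_val, Units.val_one, ← monoMat_one]; congr 1; funext; simp)
  have hTT : T * T = 1 := by
    rw [hT, monoGL_mul, st_sq]
    exact Units.ext (by rw [monoGL_val, Units.val_one, ← monoMat_one]; congr 1; funext; simp)
  have hJv : Units.val J = monoMat sj (fun _ => 1) := by simp [hJ, monoGL_val]
  have hTv : Units.val T = monoMat st (fun _ => 1) := by simp [hT, monoGL_val]
  have entryJ : ∀ i l : Fin 10, Units.val J (e i) (e l) =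
      if i = (Equiv.swap 0 1 * Equiv.swap 2 3 : Equiv.Perm (Fin 10)) l then 1 else 0 := fun i l => by
    rw [hJv]; simp only [monoMat, Matrix.of_apply, sj_apply, e.injective.eq_iff]
  have entryT : ∀ i l : Fin 10, Units.val T (e i) (e l) =
      if i = (Equiv.swap 0 1 * Equiv.swap 2 3 * (Equiv.swap 4 5 * Equiv.swap 6 7) : Equiv.Perm (Fin 10)) l
      then 1 else 0 := fun i l => by
    rw [hTv]; simp only [monoMat, Matrix.of_apply, st_apply, e.injective.eq_iff]
  have rkJ : (Units.val J - 1).rank ≤ 2 := by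
    rw [hJv]
    exact rank_monoMat_swap_two (ne (by decide)) (ne (by decide)) (ne (by decide)) (ne (by decide))
  have rkT : 4 ≤ (Units.val T - 1).rank := by
    refine le_rank_of_submatrix (e ∘ ![0, 2, 4, 6]) (e ∘ ![1, 3, 5, 7]) one_ne_zero (Matrix.ext fun i l => ?_)
    simp only [Matrix.submatrix_apply, Function.comp_apply, Matrix.sub_apply, entryT, one_smul,
      Matrix.one_apply, e.injective.eq_iff]
    fin_cases i <;> fin_cases l <;> simp (decide := true)
  have rkT' : 4 ≤ (-Units.val T - 1).rank := by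
    refine le_rank_of_submatrix (e ∘ ![0, 2, 4, 6]) (e ∘ ![1, 3, 5, 7]) (neg_ne_zero.2 one_ne_zero)
      (Matrix.ext fun i l => ?_)
    simp only [Matrix.submatrix_apply, Function.comp_apply, Matrix.sub_apply, Matrix.neg_apply, entryT,
      Matrix.smul_apply, Matrix.one_apply, e.injective.eq_iff, smul_eq_mul]
    fin_cases i <;> fin_cases l <;> simp (decide := true)
  have rkJ' : (2 : F) ≠ 0 → 4 ≤ (-Units.val J - 1).rank := by
    intro h2
    refine le_rank_of_submatrix (e ∘ ![4, 5, 6, 7]) (e ∘ ![4, 5, 6, 7]) (neg_ne_zero.2 h2)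
      (Matrix.ext fun i l => ?_)
    simp only [Matrix.submatrix_apply, Function.comp_apply, Matrix.sub_apply, Matrix.neg_apply, entryJ,
      Matrix.smul_apply, Matrix.one_apply, e.injective.eq_iff, smul_eq_mul]
    fin_cases i <;> fin_cases l <;> simp (decide := true) <;> ring
  -- centralisers of the permutations
  have centr : ∀ {σ : Equiv.Perm (Fin n)} {u : Matrix.GeneralLinearGroup (Fin n) F} {p p' i i' : Fin n},
      σ * σ = 1 → σ p = p → σ p' = p' → p ≠ p' → σ i ≠ i → σ i' ≠ i' → i' ≠ i → i' ≠ σ i → u ∈ H →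
      u * monoGL σ (fun _ => 1) = monoGL σ (fun _ => 1) * u → RatUpToScalar F₀ u := by
    intro σ u p p' i i' hσσ hp hp' hpp hi hi' hii hii' hu hc
    set S : Matrix (Fin n) (Fin n) F := monoMat σ (fun _ => 1) with hSdef
    have hsgl : ∀ l : Fin n, RatV F₀ (Pi.single l 1 : Fin n → F) := fun l => ratV_single l F₀.one_mem
    obtain ⟨α, β, hd, hdd, hd0⟩ := hS.iso_two hne (hsgl p) (hsgl p') (by simp) (fun hmem => by
      obtain ⟨t, ht⟩ := Submodule.mem_span_singleton.1 hmem
      have := congrFun ht p'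
      simp [hpp.symm] at this)
    set d := α • (Pi.single p 1 : Fin n → F) + β • Pi.single p' 1 with hddef
    have hfixp : ∀ l, σ l = l → S *ᵥ Pi.single l 1 = Pi.single l 1 := fun l hl => funext fun x => by
      rw [hSdef, monoMat_mulVec', one_mul]
      have hiff : σ.symm x = l ↔ x = l := by rw [Equiv.symm_apply_eq, hl]
      simp [Pi.single_apply, hiff]
    have hSd : S *ᵥ d = d := by
      rw [hddef, Matrix.mulVec_add, Matrix.mulVec_smul, Matrix.mulVec_smul, hfixp p hp, hfixp p' hp']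
    have hSu : S * Units.val u = Units.val u * S := by
      have := congrArg Units.val hc
      simp only [Units.val_mul, monoGL_val, Units.val_one] at this
      exact this.symm
    set v' := Units.val u *ᵥ d with hv'
    have hv'0 : v' ≠ 0 := fun e => hd0 (mulVec_inj u (show Units.val u *ᵥ d = Units.val u *ᵥ 0 by
      rw [Matrix.mulVec_zero]; exact e))
    have hfix : ∀ l, v' (σ l) = v' l := fun l => by
      have h1 : S *ᵥ v' = v' := by rw [hv', Matrix.mulVec_mulVec, hSu, ← Matrix.mulVec_mulVec, hSd]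
      have h2 := congrFun h1 (σ l)
      rw [hSdef, monoMat_mulVec, one_mul] at h2
      exact h2.symm
    have horth : ∀ l, hh (Pi.single l 1 - Pi.single (σ l) 1) v' = 0 := fun l => hR.skew0 (by
      rw [sub_eq_add_neg, ← neg_one_smul F (Pi.single (σ l) (1 : F) : Fin n → F), un_add_right hf,
        un_smul_right hf, hh_dot_single hS hne hτ, hh_dot_single hS hne hτ, hfix]
      simp)
    obtain ⟨c, hc0, hcline⟩ := hS.line_of_two hne hsm hv'0 hk (conjT hu hd hdd)
      ((hsgl i).sub (hsgl (σ i))) ((hsgl i').sub (hsgl (σ i')))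
      (fun e => by have := congrFun e i; simp [Ne.symm hi] at this)
      (fun hmem => by
        obtain ⟨t, ht⟩ := Submodule.mem_span_singleton.1 hmem
        have := congrFun ht i'
        simp [hii, hii', Ne.symm hi'] at this) (horth i) (horth i')
    exact ⟨c, hc0, hS.rigid hsm hu hc0 hd hdd hd0 hcline⟩
  obtain ⟨X, hX, eX⟩ := hXm
  have hXm : HasMap H (tMap hh k v) := ⟨X, hX, eX⟩
  set x := X * J * X⁻¹ with hx
  have hxx : x * x = 1 := by rw [hx, conj_mul, hJJ, mul_one, mul_inv_cancel]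
  have rank_conj : ∀ (w : Matrix.GeneralLinearGroup (Fin n) F) (A : Matrix (Fin n) (Fin n) F),
      (Units.val w * A * Units.val w⁻¹).rank = A.rank := fun w A => by
    rw [Matrix.rank_mul_eq_left_of_isUnit_det _ _ ((Matrix.isUnit_iff_isUnit_det _).1 ⟨w⁻¹, rfl⟩),
      Matrix.rank_mul_eq_right_of_isUnit_det _ _ ((Matrix.isUnit_iff_isUnit_det _).1 ⟨w, rfl⟩)]
  have rank_neg' : ∀ A : Matrix (Fin n) (Fin n) F, (-A).rank = A.rank := fun A => by
    rw [show -A = A * (-1) by simp]
    exact Matrix.rank_mul_eq_left_of_isUnit_det _ _ ((Matrix.isUnit_iff_isUnit_det _).1 isUnit_one.neg)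
  have contra : ∀ (w : Matrix.GeneralLinearGroup (Fin n) F) (B : Matrix.GeneralLinearGroup (Fin n) F),
      w * x * w⁻¹ = B → (Units.val B - 1).rank ≤ 2 := by
    intro w B hB
    rw [← hB, show w * x * w⁻¹ = (w * X) * J * (w * X)⁻¹ by rw [hx]; group,
      show Units.val ((w * X) * J * (w * X)⁻¹) - 1 = Units.val (w * X) * (Units.val J - 1) * Units.val (w * X)⁻¹ by
        rw [mul_sub, sub_mul, mul_one, ← Units.val_mul, ← Units.val_mul, ← Units.val_mul, mul_inv_cancel,
          Units.val_one], rank_conj]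
    exact rkJ
  rcases exists_central_or_conj hxx hTT with ⟨w, hw⟩ | ⟨z, w, m, hz2, hz1, hxz, htz, hwdef, hzw, -⟩
  · have := contra w _ hw
    omega
  have hzH : z ∈ H := by
    rw [hzw, hwdef]
    exact pow_mem (mul_mem (mul_mem (mul_mem hX hJH) (inv_mem hX)) hTH) m
  set z' := X⁻¹ * z * X with hz'
  have hz'e : z = X * z' * X⁻¹ := by rw [hz']; group
  have hz'J : z' * J = J * z' := by
    calc z' * J = X⁻¹ * (z * x) * X := by rw [hz', hx]; group
      _ = X⁻¹ * (x * z) * X := by rw [hxz]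
      _ = J * z' := by rw [hz', hx]; group
  have ratz : RatUpToScalar F₀ z := centr (σ := st) (p := e 8) (p' := e 9) (i := e 0) (i' := e 2) st_sq
    (by rw [st_apply]; rfl) (by rw [st_apply]; rfl) (ne (by decide)) (by rw [st_apply]; exact ne (by decide))
    (by rw [st_apply]; exact ne (by decide)) (ne (by decide)) (by rw [st_apply]; exact ne (by decide))
    hzH (by rw [← hT]; exact htz.symm)
  have ratz' : RatUpToScalar F₀ z' := centr (σ := sj) (p := e 8) (p' := e 9) (i := e 0) (i' := e 2) sj_sq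
    (by rw [sj_apply]; rfl) (by rw [sj_apply]; rfl) (ne (by decide)) (by rw [sj_apply]; exact ne (by decide))
    (by rw [sj_apply]; exact ne (by decide)) (ne (by decide)) (by rw [sj_apply]; exact ne (by decide))
    (mul_mem (mul_mem (inv_mem hX) hzH) hX) (by rw [← hJ]; exact hz'J)
  have clear : ∀ {u : Matrix.GeneralLinearGroup (Fin n) F}, u * u = 1 → RatUpToScalar F₀ u →
      RatM F₀ (Units.val u) := by
    intro u huu ⟨c, hc0, hc⟩
    have hcc : c * c ∈ F₀ := by
      have h4 := hc.mul hc (e 0) (e 0)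
      rw [smul_mul_smul_comm, ← Units.val_mul, huu] at h4
      simpa using h4
    have h5 := mem_of_mul_self_mem hr hr2 hcard hcc
    have h6 := hc.smul (F₀.inv_mem h5)
    rwa [smul_smul, inv_mul_cancel₀ hc0, one_smul] at h6
  have hz'2 : z' * z' = 1 := by
    rw [hz', show X⁻¹ * z * X * (X⁻¹ * z * X) = X⁻¹ * (z * z) * X by group, hz2, mul_one, inv_mul_cancel]
  have hZ := clear hz2 ratz
  have hZ' := clear hz'2 ratz'
  set Z : Matrix (Fin n) (Fin n) F := Units.val z with hZdef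
  set Z' : Matrix (Fin n) (Fin n) F := Units.val z' with hZ'def
  have conjκ : ∀ κ : F, (Z - κ • 1).rank = (Z' - κ • 1).rank := fun κ => by
    rw [hZdef, hz'e, ← rank_conj X (Z' - κ • 1), mul_sub, sub_mul, Matrix.mul_smul, mul_one, Matrix.smul_mul,
      ← Units.val_mul X X⁻¹, mul_inv_cancel, Units.val_one, Units.val_mul, Units.val_mul]
  by_cases hZ1 : (Z - 1).rank ≤ 1
  · -- a transvection
    obtain ⟨j, hj⟩ : ∃ j, (Z - 1) *ᵥ Pi.single j 1 ≠ 0 := by
      by_contra! hall
      exact hz1 (Units.ext (sub_eq_zero.1 (Matrix.ext fun i j => by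
        have := congrFun (hall j) i
        rwa [Matrix.mulVec_single_one] at this)))
    set w₀ := (Z - 1) *ᵥ Pi.single j 1 with hw₀
    have hw₀r : RatV F₀ w₀ := (hZ.sub ratM_one).mulVec (ratV_single j F₀.one_mem)
    have hcolspan : ∀ y, (Z - 1) *ᵥ y ∈ Submodule.span F ({w₀} : Set (Fin n → F)) := by
      intro y
      by_contra hy
      have hle : Submodule.span F {w₀, (Z - 1) *ᵥ y} ≤ LinearMap.range (Z - 1).mulVecLin :=
        Submodule.span_le.2 (by rintro _ (rfl | rfl) <;> exact ⟨_, rfl⟩)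
      have hlt : Submodule.span F {w₀} < Submodule.span F {w₀, (Z - 1) *ᵥ y} :=
        lt_of_le_of_ne (Submodule.span_mono (by simp)) fun h => hy (h ▸ Submodule.subset_span (by simp))
      have h1 := Submodule.finrank_lt_finrank_of_lt hlt
      rw [finrank_span_singleton hj] at h1
      have h2 := Submodule.finrank_mono hle
      rw [← Matrix.rank] at h2
      omega
    obtain ⟨j', hj'⟩ : ∃ j', (Z' - 1) *ᵥ Pi.single j' 1 ≠ 0 := by
      by_contra! hall
      refine hz1 ?_
      rw [hz'e, show z' = 1 from Units.ext (sub_eq_zero.1 (Matrix.ext fun i j => by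
        have := congrFun (hall j) i
        rwa [Matrix.mulVec_single_one] at this)), mul_one, mul_inv_cancel]
    set w₁ := (Z' - 1) *ᵥ Pi.single j' 1 with hw₁
    have hw₁r : RatV F₀ w₁ := (hZ'.sub ratM_one).mulVec (ratV_single j' F₀.one_mem)
    have hXw : Units.val X *ᵥ w₁ = (Z - 1) *ᵥ (Units.val X *ᵥ Pi.single j' 1) := by
      rw [hw₁, Matrix.mulVec_mulVec, Matrix.mulVec_mulVec, mul_sub, sub_mul, mul_one, one_mul, hZdef, hZ'def,
        ← Units.val_mul, ← Units.val_mul, show X * z' = z * X by rw [hz']; group]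
    obtain ⟨s, hs⟩ := Submodule.mem_span_singleton.1 (hXw ▸ hcolspan _)
    rw [eX, tMap] at hs
    by_cases h0 : hh w₁ v = 0
    · refine hS.line_of_perp hne hsm hv0 hk hXm hw₁r ?_ hj' h0
      have hzw : ∀ u y, hh (Z' *ᵥ u) (Z' *ᵥ y) = hh u y :=
        suH_iso (hS.le (mul_mem (mul_mem (inv_mem hX) hzH) hX))
      have hdet : Z'.det = 1 := by
        exact (mem_specialLinear_iff _).1 (hS.le (mul_mem (mul_mem (inv_mem hX) hzH) hX)).2
      obtain ⟨φ, hφ⟩ : ∃ φ : Fin n → F, Z' - 1 = Matrix.vecMulVec w₁ φ := by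
        have hcol : ∀ l, ∃ t : F, t • w₁ = (Z' - 1) *ᵥ Pi.single l 1 := fun l => by
          refine Submodule.mem_span_singleton.1 ?_
          by_contra hl
          have hle : Submodule.span F {w₁, (Z' - 1) *ᵥ Pi.single l 1} ≤ LinearMap.range (Z' - 1).mulVecLin :=
            Submodule.span_le.2 (by rintro _ (rfl | rfl) <;> exact ⟨_, rfl⟩)
          have hlt : Submodule.span F {w₁} < Submodule.span F {w₁, (Z' - 1) *ᵥ Pi.single l 1} :=
            lt_of_le_of_ne (Submodule.span_mono (by simp)) fun h => hl (h ▸ Submodule.subset_span (by simp))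
          have h1 := Submodule.finrank_lt_finrank_of_lt hlt
          rw [finrank_span_singleton hj'] at h1
          have h2 := Submodule.finrank_mono hle
          rw [← Matrix.rank] at h2
          have h3 := conjκ 1
          rw [one_smul] at h3
          omega
        choose φ hφ using hcol
        refine ⟨φ, Matrix.ext fun i l => ?_⟩
        have := congrFun (hφ l) i
        rw [Matrix.mulVec_single_one] at this
        rw [Matrix.vecMulVec_apply, mul_comm]
        exact this.symm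
      have hφw : φ ⬝ᵥ w₁ = 0 := by
        rw [show Z' = 1 + Matrix.vecMulVec w₁ φ by rw [← hφ, add_sub_cancel], Matrix.vecMulVec_eq Unit,
          Matrix.det_one_add_replicateCol_mul_replicateRow] at hdet
        linear_combination hdet
      have hZy : ∀ y, Z' *ᵥ y = y + (φ ⬝ᵥ y) • w₁ := fun y => by
        rw [show Z' = 1 + Matrix.vecMulVec w₁ φ by rw [← hφ, add_sub_cancel], Matrix.add_mulVec, Matrix.one_mulVec,
          Matrix.vecMulVec_mulVec, op_smul_eq_smul]
      have hφ0 : φ (j') ≠ 0 := fun h0' => hj' (by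
        rw [hw₁, hφ, Matrix.vecMulVec_mulVec, op_smul_eq_smul, dotProduct_single, mul_one, h0', zero_smul])
      have := hzw (Pi.single j' 1) w₁
      rw [hZy, hZy, hφw, zero_smul, add_zero, dotProduct_single, mul_one, hf.add_left, hf.smul_left,
        add_eq_left] at this
      exact (mul_eq_zero.1 this).resolve_left hφ0
    · refine hS.line_of_plane hne hsm hv0 hk hXm hw₀r hw₁r (α := (k * hh w₁ v)⁻¹ * s) (β := -(k * hh w₁ v)⁻¹) ?_
      rw [mul_smul, hs, neg_smul, ← sub_eq_add_neg, ← smul_sub, add_sub_cancel_left,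
        inv_smul_smul₀ (mul_ne_zero hk h0)]
  by_cases hZneg : (Z + 1).rank ≤ 1
  · exfalso
    have h2 : (2 : F) ≠ 0 := fun h0 => hZ1 (by
      rw [show (Z - 1 : Matrix (Fin n) (Fin n) F) = Z + 1 from Matrix.ext fun i l => by
        simp only [Matrix.sub_apply, Matrix.add_apply]
        linear_combination -((1 : Matrix (Fin n) (Fin n) F) i l) * h0]
      exact hZneg)
    have bound : ∀ (B : Matrix (Fin n) (Fin n) F) (A : Matrix (Fin n) (Fin n) F), (A + 1).rank ≤ 1 →
        (-B - 1).rank ≤ (A * B - 1).rank + 1 := by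
      intro B A hA
      rw [show -B - 1 = (A * B - 1) + (-((A + 1) * B)) by noncomm_ring]
      refine (rank_add_le' _ _).trans (Nat.add_le_add le_rfl ?_)
      rw [rank_neg']
      exact (Matrix.rank_mul_le_left _ _).trans hA
    obtain ⟨u, hu | hu⟩ := conj_eq_neg hxx hTT (k := m) (ε := z) (by rw [← hwdef, hzw])
    · have h3 : (X⁻¹ * u) * x * (X⁻¹ * u)⁻¹ = z' * J := by
        rw [show (X⁻¹ * u) * x * (X⁻¹ * u)⁻¹ = X⁻¹ * (u * x * u⁻¹) * X by group, hu, hx, hz']
        group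
      have h4 := contra _ _ h3
      rw [Units.val_mul] at h4
      have hZ'neg : (Z' + 1).rank ≤ 1 := by
        have := conjκ (-1)
        rw [neg_smul, one_smul, sub_neg_eq_add, sub_neg_eq_add] at this
        omega
      have := bound (Units.val J) Z' hZ'neg
      have := rkJ' h2
      rw [hZ'def] at *
      omega
    · have h4 := contra _ _ hu
      rw [Units.val_mul] at h4
      have := bound (Units.val T) Z hZneg
      rw [hZdef] at *
      omega
  have rows : ∀ κ : F, κ = 1 ∨ κ = -1 → 2 ≤ (Z - κ • 1).rank := fun κ hκ => by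
    rcases hκ with rfl | rfl
    · rw [one_smul]; omega
    · rw [neg_smul, one_smul, sub_neg_eq_add]; omega
  have hκF : ∀ {κ : F}, κ = 1 ∨ κ = -1 → κ ∈ F₀ := fun hκ => by
    rcases hκ with rfl | rfl
    exacts [F₀.one_mem, F₀.neg_mem F₀.one_mem]
  have hκ2 : ∀ {A : Matrix (Fin n) (Fin n) F} {κ : F} {a : Fin n → F}, A * A = 1 → a ≠ 0 → A *ᵥ a = κ • a →
      κ = 1 ∨ κ = -1 := by
    intro A κ a hAA ha0 hA
    obtain ⟨i, hi⟩ := Function.ne_iff.1 ha0
    have h2 : a = (κ * κ) • a := by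
      conv_lhs => rw [← Matrix.one_mulVec a, ← hAA, ← Matrix.mulVec_mulVec, hA, Matrix.mulVec_smul, hA, smul_smul]
    have h3 := congrFun h2 i
    simp at h3
    exact mul_self_eq_one_iff.1 (mul_right_cancel₀ (show a i ≠ 0 from hi) (by linear_combination -h3))
  have hZZ : Z * Z = 1 := by rw [hZdef, ← Units.val_mul, hz2, Units.val_one]
  have hZ'Z' : Z' * Z' = 1 := by rw [hZ'def, ← Units.val_mul, hz'2, Units.val_one]
  set φ : Fin n → F := fvec hh v with hφ
  by_cases heig : ∃ κ : F, Z *ᵥ v = κ • v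
  · obtain ⟨κ, hκ⟩ := heig
    have hκ' := hκ2 hZZ hv0 hκ
    obtain ⟨i, i', hi, hi'⟩ := exists_two_rows (rows κ hκ')
    have hrat : RatM F₀ (Z - κ • 1) := hZ.sub (ratM_one.smul (hκF hκ'))
    obtain ⟨x₁, hx₁, ex₁⟩ := hR.exists_dual (φ := (Z - κ • 1) i) (hrat i)
    obtain ⟨x₂, hx₂, ex₂⟩ := hR.exists_dual (φ := (Z - κ • 1) i') (hrat i')
    have hzero : ∀ l, (Z - κ • 1) l ⬝ᵥ v = 0 := fun l => by
      show ((Z - κ • 1) *ᵥ v) l = 0
      rw [Matrix.sub_mulVec, Matrix.smul_mulVec, Matrix.one_mulVec, hκ, sub_self]; rfl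
    refine hS.line_of_two hne hsm hv0 hk hXm hx₁ hx₂ (fun e0 => hi (funext fun l => ?_)) (fun hmem => hi' ?_)
      (hR.skew0 ?_) (hR.skew0 ?_)
    · have := ex₁ (Pi.single l 1)
      rw [e0, un_zero_right hf, mul_zero, dotProduct_single, mul_one] at this
      exact this.symm
    · obtain ⟨t, ht⟩ := Submodule.mem_span_singleton.1 hmem
      refine Submodule.mem_span_singleton.2 ⟨τ t, dot_ext fun y => ?_⟩
      rw [smul_dotProduct, ← ex₁, ← ex₂, ← ht, un_smul_right hf, smul_eq_mul]; ring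
    · have := ex₁ v; rwa [one_mul, hzero] at this
    · have := ex₂ v; rwa [one_mul, hzero] at this
  by_cases heig' : φ ᵥ* Z' ∈ Submodule.span F {φ}
  · obtain ⟨κ, hκ⟩ := Submodule.mem_span_singleton.1 heig'
    have hφ0 : φ ≠ 0 := fun h0 => hv0 (un_fvec_injective hf (h0.trans (un_fvec_zero hf).symm))
    have hκ' := hκ2 (A := Z'ᵀ) (by rw [← Matrix.transpose_mul, hZ'Z', Matrix.transpose_one]) hφ0
      (κ := κ) (by rw [Matrix.mulVec_transpose, hκ])
    have hrk : 2 ≤ (Z' - κ • 1)ᵀ.rank := by rw [Matrix.rank_transpose, ← conjκ]; exact rows κ hκ'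
    obtain ⟨i, i', hi, hi'⟩ := exists_two_rows hrk
    have hrat : RatM F₀ (Z' - κ • 1)ᵀ := (hZ'.sub (ratM_one.smul (hκF hκ'))).transpose
    refine hS.line_of_two hne hsm hv0 hk hXm (hrat i) (hrat i') hi hi' ?_ ?_ <;>
    · rw [← un_dot hf, ← hφ]
      show (φ ᵥ* (Z' - κ • 1)) _ = 0
      rw [Matrix.vecMul_sub, Matrix.vecMul_smul, Matrix.vecMul_one, hκ, sub_self]; rfl
  have hXmat : Units.val X = 1 + Matrix.vecMulVec (k • v) φ := CfsgLib.Geometry.matrix_eq_of_mulVec fun y => by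
    rw [eX, tMap, Matrix.add_mulVec, Matrix.one_mulVec, Matrix.vecMulVec_mulVec, op_smul_eq_smul, hφ, un_dot hf,
      smul_smul, mul_comm]
  have hΔ : Z - Z' = Matrix.vecMulVec (k • v) (φ ᵥ* Z') - Matrix.vecMulVec (Z *ᵥ (k • v)) φ := by
    have h7 : z * X = X * z' := by rw [hz']; group
    have h8 := congrArg Units.val h7
    simp only [Units.val_mul, hXmat, mul_add, add_mul, mul_one, one_mul, Matrix.mul_vecMulVec,
      Matrix.vecMulVec_mul] at h8
    rw [sub_eq_sub_iff_add_eq_add, h8, add_comm]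
  have hrk2 : (Z - Z').rank ≤ 2 := by
    rw [hΔ, sub_eq_add_neg, ← Matrix.neg_vecMulVec]
    exact le_trans (rank_add_le' _ _) (Nat.add_le_add (Matrix.rank_vecMulVec_le _ _) (Matrix.rank_vecMulVec_le _ _))
  obtain ⟨u, hu, hu1⟩ := exists_ann _ _ heig'
  have hmemv : (Z - Z') *ᵥ u = k • v := by
    rw [hΔ, Matrix.sub_mulVec, Matrix.vecMulVec_mulVec, Matrix.vecMulVec_mulVec,
      dotProduct_comm (φ ᵥ* Z'), hu1, dotProduct_comm φ, hu φ (Submodule.mem_span_singleton_self φ)]
    simp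
  set Δ := Z - Z' with hΔdef
  have hΔr : RatM F₀ Δ := hZ.sub hZ'
  obtain ⟨j, hj⟩ : ∃ j, Δ *ᵥ Pi.single j 1 ≠ 0 := by
    by_contra! hall
    have h0 : Δ = 0 := Matrix.ext fun i l => by
      have := congrFun (hall l) i
      rwa [Matrix.mulVec_single_one] at this
    rw [h0, Matrix.zero_mulVec] at hmemv
    exact smul_ne_zero hk hv0 hmemv.symm
  set c₁ := Δ *ᵥ Pi.single j 1 with hc₁
  have hc₁r : RatV F₀ c₁ := hΔr.mulVec (ratV_single j F₀.one_mem)
  have hsum : Δ *ᵥ u = ∑ l, u l • (Δ *ᵥ Pi.single l 1) := by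
    conv_lhs => rw [pi_eq_sum_univ' u]
    rw [Matrix.mulVec_sum]
    exact Finset.sum_congr rfl fun l _ => Matrix.mulVec_smul _ _ _
  by_cases hone : ∀ l, Δ *ᵥ Pi.single l 1 ∈ Submodule.span F ({c₁} : Set (Fin n → F))
  · have hvs : k • v ∈ Submodule.span F ({c₁} : Set (Fin n → F)) := by
      rw [← hmemv, hsum]
      exact Submodule.sum_mem _ fun l _ => Submodule.smul_mem _ _ (hone l)
    obtain ⟨t, ht⟩ := Submodule.mem_span_singleton.1 hvs
    refine hS.line_of_plane hne hsm hv0 hk hXm hc₁r hc₁r (α := k⁻¹ * t) (β := 0) ?_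
    rw [zero_smul, add_zero, mul_smul, ht, inv_smul_smul₀ hk]
  · push Not at hone
    obtain ⟨l, hl⟩ := hone
    set c₂ := Δ *ᵥ Pi.single l 1
    have hle : Submodule.span F {c₁, c₂} ≤ LinearMap.range Δ.mulVecLin :=
      Submodule.span_le.2 (by rintro _ (rfl | rfl) <;> exact ⟨_, rfl⟩)
    have hlt : Submodule.span F {c₁} < Submodule.span F {c₁, c₂} :=
      lt_of_le_of_ne (Submodule.span_mono (by simp)) fun h => hl (h ▸ Submodule.subset_span (by simp))
    have h1 := Submodule.finrank_lt_finrank_of_lt hlt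
    rw [finrank_span_singleton hj] at h1
    have heq : Submodule.span F {c₁, c₂} = LinearMap.range Δ.mulVecLin :=
      Submodule.eq_of_le_of_finrank_le hle (by rw [← Matrix.rank]; omega)
    have hvs : k • v ∈ Submodule.span F {c₁, c₂} := heq ▸ ⟨u, hmemv⟩
    obtain ⟨α, β, hαβ⟩ := Submodule.mem_span_pair.1 hvs
    refine hS.line_of_plane hne hsm hv0 hk hXm hc₁r (hΔr.mulVec (ratV_single l F₀.one_mem))
      (α := k⁻¹ * α) (β := k⁻¹ * β) ?_
    rw [mul_smul, mul_smul, ← smul_add, hαβ, inv_smul_smul₀ hk]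

end line

theorem unSub_odd_maximal (hF : Fintype.card F = q ^ 2) (hn : 10 ≤ n) {r : ℕ} (hr : r.Prime) (hro : Odd r)
    (F₀ : Subfield F) (hcard : Fintype.card F = Nat.card F₀ ^ r) (P : Matrix.GeneralLinearGroup (Fin n) F)
    (hP : Cfsg.Geo.IsFormRationalStructure (Cfsg.hermForm n F q) F₀ 1 P) :
    Cfsg.Geo.IsMaximalIn (suGL n F q) (Cfsg.Geo.subfieldSubgroup F₀ P ⊓ suGL n F q) := by
  classical
  obtain ⟨τ, hτ, hf⟩ := exists_hermSigma hF n
  set q₀ := Nat.card F₀ with hq₀
  have hq₀1 : 1 < q₀ := Finite.one_lt_card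
  obtain ⟨kk, hk⟩ := hro
  obtain ⟨s, hs⟩ : ∃ s, q = q₀ ^ kk * s := by
    have h2 : (q₀ ^ kk) ^ 2 ∣ q ^ 2 := ⟨q₀, by rw [← hF, hcard, hk, ← pow_mul, ← pow_succ]; ring_nf⟩
    exact (Nat.pow_dvd_pow_iff two_ne_zero).1 h2
  have hs2 : s ^ 2 = q₀ := by
    have h1 : (q₀ ^ kk) ^ 2 * s ^ 2 = (q₀ ^ kk) ^ 2 * q₀ := by
      rw [← mul_pow, ← hs, ← hF, hcard, hk]; ring
    exact Nat.eq_of_mul_eq_mul_left (by positivity) h1
  have hpow : ∀ x : F₀, (x : F) ^ q = (x : F) ^ s := fun x => by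
    have h1 : x ^ (q₀ ^ kk) = x := by
      rw [hq₀, Nat.card_eq_fintype_card]; exact FiniteField.pow_card_pow kk x
    rw [hs, pow_mul]
    exact congrArg (fun y : F₀ => (y : F) ^ s) h1
  have hF₀ : Fintype.card F₀ = s ^ 2 := by rw [hs2, hq₀, Nat.card_eq_fintype_card]
  obtain ⟨τ₀, hτ₀, hf₀⟩ := exists_hermSigma (F := F₀) hF₀ n
  have hval : ∀ x : F₀, τ (x : F) = ((τ₀ x : F₀) : F) := fun x => by rw [hτ, hpow, hτ₀]; rfl
  have hne : ∃ x ∈ F₀, τ x ≠ x := by
    by_contra! hall
    exact hf₀.ne_refl (RingEquiv.ext fun x => Subtype.ext (by rw [← hval]; exact hall _ x.2))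
  let up : (Fin n → F₀) → Fin n → F := fun u i => (u i : F)
  have hherm : ∀ u w, Cfsg.hermForm n F q (up u) (up w) = ((Cfsg.hermForm n F₀ s u w : F₀) : F) := fun u w => by
    simp [Cfsg.hermForm, up, hpow]
  -- an orthonormal rational basis
  have hmem : ∀ u w, pullForm q P (up u) (up w) ∈ F₀ := fun u w => by
    have := hP (up u) (up w) (fun i => (u i).2) (fun i => (w i).2)
    rwa [one_mul] at this
  have hpf := pullForm_unitary hf P
  have upadd : ∀ u w, up (u + w) = up u + up w := fun u w => rfl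
  have upsmul : ∀ (c : F₀) u, up (c • u) = (c : F) • up u := fun c u => rfl
  let B : (Fin n → F₀) →ₛₗ[(τ₀ : F₀ →+* F₀)] (Fin n → F₀) →ₗ[F₀] F₀ :=
    LinearMap.mk₂'ₛₗ (τ₀ : F₀ →+* F₀) (RingHom.id F₀) (fun w u => ⟨_, hmem u w⟩)
      (fun w w' u => Subtype.ext (by push_cast; rw [upadd, un_add_right hpf]))
      (fun c w u => Subtype.ext (by
        push_cast [smul_eq_mul]
        rw [upsmul, un_smul_right hpf, hval]))
      (fun w u u' => Subtype.ext (by push_cast; rw [upadd, hpf.add_left]))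
      (fun c w u => Subtype.ext (by
        push_cast [smul_eq_mul, RingHom.id_apply]
        rw [upsmul, hpf.smul_left]))
  have hBv : ∀ w u, ((B w u : F₀) : F) = pullForm q P (up u) (up w) := fun w u => rfl
  have hBS : B.IsSymm := ⟨fun w u => Subtype.ext (by
    show ((τ₀ (B w u) : F₀) : F) = ((B u w : F₀) : F)
    rw [← hval, hBv, hBv, ← hpf.herm])⟩
  have hBn : B.Nondegenerate := by
    have hl : B.SeparatingLeft := fun w hw => by
      by_contra hw0
      have h1 : fvec (pullForm q P) (up w) = 0 := funext fun i => by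
        have h2 := congrArg Subtype.val (hw (Pi.single i 1))
        rw [hBv] at h2
        have e : up (Pi.single i 1) = (Pi.single i 1 : Fin n → F) := funext fun l => by
          rcases eq_or_ne l i with rfl | hl <;> simp [up, *]
        rw [e] at h2
        exact h2
      exact hw0 (funext fun i => Subtype.ext (congrFun (un_fvec_injective hpf (h1.trans (un_fvec_zero hpf).symm)) i))
    refine ⟨hl, fun u hu => hl u fun w => ?_⟩
    have := congrArg τ₀ (hu w)
    rw [map_zero] at this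
    rw [← this]
    exact (hBS.eq w u).symm
  obtain ⟨b, hb⟩ := CfsgLib.Geometry.exists_orthonormal (σ := (τ₀ : F₀ →+* F₀))
    (fun e => hf₀.ne_refl (RingEquiv.ext fun x => RingHom.congr_fun e x)) hf₀.involutive hBS hBn
  have hfin : Module.finrank F₀ (Fin n → F₀) = n := by simp
  let Q : Matrix (Fin n) (Fin n) F₀ := Matrix.of fun x i => b (Fin.cast hfin.symm i) x
  have hQcol : ∀ u, Q *ᵥ u = ∑ i, u i • b (Fin.cast hfin.symm i) := fun u => by
    funext x
    simp [Q, Matrix.mulVec, dotProduct, mul_comm]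
  have hQ : ∀ u w, B (Q *ᵥ w) (Q *ᵥ u) = Cfsg.hermForm n F₀ s u w := fun u w => by
    rw [hQcol, hQcol]
    simp only [map_sum, LinearMap.map_smulₛₗ, LinearMap.sum_apply, LinearMap.smul_apply, RingHom.id_apply,
      smul_eq_mul, hb, mul_ite, mul_one, mul_zero, Fin.cast_inj, Finset.sum_ite_eq', Finset.sum_ite_eq,
      Finset.mem_univ, if_true]
    simp [Cfsg.hermForm, ← hτ₀, mul_comm]
  have hQdet : Q.det ≠ 0 := fun h0 => by
    obtain ⟨u, hu0, hu⟩ := Matrix.exists_mulVec_eq_zero_iff.2 h0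
    obtain ⟨⟨w, hw⟩, -⟩ := hf₀.nondegenerate u hu0
    apply hw
    rw [← hQ, hu, map_zero, LinearMap.zero_apply]
  rw [← subfieldSubgroup_mul_rat' P (Matrix.GeneralLinearGroup.mkOfDetNeZero Q hQdet)]
  set P' := P * Matrix.GeneralLinearGroup.map F₀.subtype (Matrix.GeneralLinearGroup.mkOfDetNeZero Q hQdet) with hP'
  have hpf' := pullForm_unitary hf P'
  have hbase : ∀ u w, pullForm q P' (up u) (up w) = Cfsg.hermForm n F q (up u) (up w) := fun u w => by
    rw [hherm, ← hQ, hBv]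
    have hv : ∀ v, Units.val P' *ᵥ up v = Units.val P *ᵥ up (Q *ᵥ v) := fun v => by
      rw [hP', Units.val_mul, ← Matrix.mulVec_mulVec]
      congr 1
      funext i
      show ((Q.map F₀.subtype) *ᵥ up v) i = _
      simp [Matrix.mulVec, dotProduct, up]
    simp only [pullForm, hv]
  have hsgl : ∀ i, up (Pi.single i 1) = (Pi.single i 1 : Fin n → F) := fun i => funext fun l => by
    rcases eq_or_ne l i with rfl | hl <;> simp [up, *]
  have heq : pullForm q P' = Cfsg.hermForm n F q := by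
    funext u w
    have hfv : ∀ j, fvec (pullForm q P') (Pi.single j 1) = fvec (Cfsg.hermForm n F q) (Pi.single j 1) :=
      fun j => funext fun i => by
        show pullForm q P' (Pi.single i 1) (Pi.single j 1) = Cfsg.hermForm n F q (Pi.single i 1) (Pi.single j 1)
        rw [← hsgl, ← hsgl, hbase]
    have h1 : fvec (pullForm q P') w = fvec (Cfsg.hermForm n F q) w := funext fun i => by
      show pullForm q P' _ w = Cfsg.hermForm n F q _ w
      rw [hpf'.herm, hf.herm (Pi.single i 1) w]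
      congr 1
      rw [← un_dot hpf', ← un_dot hf, hfv]
    rw [← un_dot hpf', ← un_dot hf, h1]
  have sharp : ∀ {k : ℕ} (p : Fin k → Fin n → F), (∀ i, RatV F₀ (p i)) → ∀ {x : Fin n → F}, RatV F₀ x →
      x ∉ Submodule.span F (Set.range p) → 2 * (k + 1) ≤ n → ∃ a, RatV F₀ a ∧ Cfsg.hermForm n F q a a = 0 ∧
      (∀ i, Cfsg.hermForm n F q a (p i) = 0) ∧ Cfsg.hermForm n F q a x = 1 := by
    intro k p hp x hx hxs hk
    let p₀ : Fin k → Fin n → F₀ := fun i j => ⟨p i j, hp i j⟩
    let x₀ : Fin n → F₀ := fun j => ⟨x j, hx j⟩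
    have hnd : Cfsg.Geo.IsNondegenerateOn (Cfsg.hermForm n F₀ s) (⊤ : Submodule F₀ (Fin n → F₀)) :=
      fun w _ hw0 => ⟨(hf₀.nondegenerate w hw0).1.imp fun x hx => ⟨trivial, hx⟩,
        (hf₀.nondegenerate w hw0).2.imp fun x hx => ⟨trivial, hx⟩⟩
    have hxs₀ : x₀ ∉ Submodule.span F₀ (Set.range p₀) := fun hmem => hxs (by
      have : ∀ v ∈ Submodule.span F₀ (Set.range p₀), up v ∈ Submodule.span F (Set.range p) := fun v hv => by
        induction hv using Submodule.span_induction with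
        | mem v hv => obtain ⟨i, rfl⟩ := hv; exact Submodule.subset_span ⟨i, rfl⟩
        | zero => exact zero_mem _
        | add a b _ _ ha hb => exact add_mem ha hb
        | smul c a _ ha => exact Submodule.smul_mem _ (c : F) ha
      exact this x₀ hmem)
    obtain ⟨a, -, haa, hap, hax⟩ := un_supply_sharp hf₀ ⊤ hnd ⊥ (sup_bot_eq _)
      (fun q hq p _ => by rw [(Submodule.mem_bot F₀).1 hq]; exact un_zero_left hf₀ p) p₀ (fun i => trivial)
      (by simp; omega) (Submodule.mem_top : x₀ ∈ ⊤) hxs₀ (map_zero _)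
    refine ⟨up a, fun i => (a i).2, ?_, fun i => ?_, ?_⟩
    · rw [hherm, haa]; rfl
    · show Cfsg.hermForm n F q (up a) (up (p₀ i)) = 0
      rw [hherm, hap]; rfl
    · show Cfsg.hermForm n F q (up a) (up x₀) = 1
      rw [hherm, hax]; rfl
  have hR : RatForm τ (Cfsg.hermForm n F q) F₀ 1 := by
    refine ⟨hf, one_ne_zero, fun u w hu hw => ?_, fun x hx => by rw [hτ]; exact F₀.pow_mem hx q,
      fun p x y hp hx _ hxs _ _ => ?_, fun p hp _ => ?_, by simpa using hn⟩
    · rw [one_mul, show u = up (fun i => ⟨u i, hu i⟩) from rfl, show w = up (fun i => ⟨w i, hw i⟩) from rfl, hherm]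
      exact SetLike.coe_mem _
    · obtain ⟨a, ha, haa, hap, hax⟩ := sharp p hp hx hxs (by omega)
      exact ⟨a, ha, haa, hap, by rw [one_mul, hax]⟩
    · have hrat1 : ∀ u v : Fin n → F, RatV F₀ u → RatV F₀ v → 1 * Cfsg.hermForm n F q u v ∈ F₀ := fun u v hu hv => by
        rw [one_mul, show u = up (fun i => ⟨u i, hu i⟩) from rfl, show v = up (fun i => ⟨v i, hv i⟩) from rfl, hherm]
        exact SetLike.coe_mem _
      obtain ⟨x, hx, hxp, hxs⟩ := exists_perp_outside hf one_ne_zero hrat1 (by simp; omega) p hp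
      obtain ⟨a, ha, haa, hap, hax⟩ := sharp p hp hx hxs (by omega)
      exact ⟨a, ha, haa, hap, notMem_span_of_pair hf _ hxp (by rw [hax]; exact one_ne_zero)⟩
  refine unSub_maximal hF hf hr hcard P' (heq ▸ hR) (heq.symm ▸ fun H hS hsm g hg => ?_)
  obtain ⟨e, he, hee, -, hei⟩ := hS.form.pick (fun _ => 0) (fun _ => ratV_zero)
  have he0 : e ≠ 0 := fun e0 => hei (by rw [e0]; exact zero_mem _)
  have hr2 : r ≠ 2 := by omega
  obtain ⟨c, hc, hline⟩ := hS.image_line hne hsm hτ hr hr2 hcard hg he hee he0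
  exact ⟨e, c, he, hee, he0, hc, hline⟩

end CfsgLib.Maximal
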