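import Cfsg.Agent.Lib.Maximal.PartitionStab

/-!
The even stabilisers of uniform partitions are maximal in the alternating group, except for four
pairs in degree eight.

A subgroup above the stabiliser contains a 3-cycle meeting two parts; a block containing two of its
points contains all three, hence two whole parts, hence everything.
-/

set_option autoImplicit false

namespace CfsgLib.Maximal

open scoped Pointwise
open Equiv Equiv.Perm

variable {Ω : Type*} [Fintype Ω] [DecidableEq Ω] {b : ℕ}

theorem swap_mem_partStab {f : Ω → Fin b} {x y : Ω} (h : f x = f y) : swap x y ∈ partStab f := by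
  have hs : ∀ z, f (swap x y z) = f z := fun z => by
    rw [swap_apply_def]; split_ifs with h1 h2
    · rw [h1, h]
    · rw [h2, h]
    · rfl
  intro u v
  rw [hs, hs]

theorem swap_swap_mem_alt {x y z w : Ω} (h1 : x ≠ y) (h2 : z ≠ w) :
    swap x y * swap z w ∈ alternatingGroup Ω := by
  rw [mem_alternatingGroup, map_mul, sign_swap h1, sign_swap h2, Int.units_mul_self]

theorem exists_notMem {α : Type*} [Fintype α] {s : Finset α} (h : s.card < Fintype.card α) :
    ∃ x, x ∉ s := by
  by_contra hcon
  push Not at hcon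
  rw [Finset.eq_univ_iff_forall.2 hcon, Finset.card_univ] at h
  exact h.false

/-- A coordinatisation of a uniform partition. -/
theorem exists_coord (a : ℕ) (f : Ω → Fin b) (hf : ∀ i : Fin b, Nat.card {x : Ω // f x = i} = a) :
    ∃ E : Ω ≃ Fin b × Fin a, ∀ x, (E x).1 = f x := by
  let e : ∀ i, {x : Ω // f x = i} ≃ Fin a := fun i => Finite.equivFinOfCardEq (hf i)
  exact ⟨((Equiv.sigmaFiberEquiv f).symm.trans (Equiv.sigmaCongrRight e)).trans
    (Equiv.sigmaEquivProd _ _), fun x => rfl⟩

/-- An even permutation of four points without fixed points respects every pairing. -/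
theorem mem_partStab_four {f : Ω → Fin 2} (hf : ∀ i, Nat.card {x : Ω // f x = i} = 2)
    (h4 : Fintype.card Ω = 4) {g : Perm Ω} (hg : g ∈ alternatingGroup Ω) (hfix : ∀ x, g x ≠ x) :
    g ∈ partStab f := by
  have hsupp : g.support = Finset.univ :=
    Finset.eq_univ_iff_forall.2 fun x => mem_support.2 (hfix x)
  have hsq : ∀ x, g (g x) = x := by
    intro x
    have h2 : ∀ n ∈ g.cycleType, n = 2 := by
      have hsum : g.cycleType.sum = 4 := by rw [sum_cycleType, hsupp, Finset.card_univ, h4]
      have hsign : (-1 : ℤˣ) ^ (g.cycleType.sum + g.cycleType.card) = 1 :=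
        (sign_of_cycleType g).symm.trans (mem_alternatingGroup.1 hg)
      intro n hn
      have h2n := two_le_of_mem_cycleType hn
      obtain ⟨t, ht⟩ := Multiset.exists_cons_of_mem hn
      rw [ht, Multiset.sum_cons] at hsum hsign
      rcases Multiset.empty_or_exists_mem t with h0 | ⟨m, hm⟩
      · subst h0
        rw [Multiset.sum_zero] at hsum hsign
        rw [Multiset.card_cons, Multiset.card_zero] at hsign
        rw [show n = 4 by omega] at hsign
        exact absurd hsign (by decide)
      · have hm2 := two_le_of_mem_cycleType (show m ∈ g.cycleType by rw [ht]; simp [hm])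
        have := Multiset.single_le_sum (fun k _ => Nat.zero_le k) m hm
        omega
    have hpow : g ^ 2 = 1 := orderOf_dvd_iff_pow_eq_one.1
      (lcm_cycleType g ▸ Multiset.lcm_dvd.2 fun n hn => (h2 n hn).symm ▸ dvd_rfl)
    rw [← Perm.mul_apply, ← pow_two, hpow, Perm.one_apply]
  have key : ∀ h : Perm Ω, (∀ x, h (h x) = x) → (∀ x, h x ≠ x) → ∀ x y, f x = f y →
      f (h x) = f (h y) := by
    intro h hh hhf x y hxy
    rcases eq_or_ne x y with rfl | hne
    · rfl
    by_cases hx : h x = y
    · rw [show h y = x by rw [← hx, hh], hx]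
      exact hxy.symm
    have hy : h y ≠ x := fun e => hx (by rw [← e, hh])
    have hother : ∀ z, z ≠ x → z ≠ y → f z ≠ f x := by
      intro z hzx hzy e
      have hle : Finset.card ({x, y, z} : Finset Ω) ≤ Nat.card {w : Ω // f w = f x} := by
        rw [Nat.card_eq_fintype_card, Fintype.card_subtype]
        refine Finset.card_le_card fun w hw => ?_
        simp only [Finset.mem_insert, Finset.mem_singleton] at hw
        rcases hw with rfl | rfl | rfl <;> simp [hxy, e]
      rw [hf, Finset.card_insert_of_notMem (by simp [hne, hzx.symm]),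
        Finset.card_pair hzy.symm] at hle
      omega
    have h1 := hother _ (hhf x) hx
    have h2 := hother _ hy (hhf y)
    omega
  intro x y
  refine ⟨key g hsq hfix x y, fun h => ?_⟩
  simpa [hsq] using key g hsq hfix _ _ h

theorem threeCycle_eq_swaps {g : Perm Ω} (h : g.IsThreeCycle) {p : Ω} (hp : g p ≠ p) :
    ∃ p q r : Ω, p ≠ q ∧ q ≠ r ∧ p ≠ r ∧ g = swap p q * swap p r := by
  have h3 : g ^ 3 = 1 := by
    have := pow_orderOf_eq_one g
    rwa [h.orderOf] at this
  have hq : g (g (g p)) = p := by
    have := congrArg (fun σ : Perm Ω => σ p) h3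
    simpa [pow_succ, Perm.mul_apply] using this
  have h1 : g (g p) ≠ g p := fun e => hp (g.injective e)
  have h2 : g (g p) ≠ p := fun e => hp (by rw [e] at hq; exact hq)
  refine ⟨p, g (g p), g p, h2.symm, h1, Ne.symm hp, ?_⟩
  have hsupp : g.support = {p, g (g p), g p} := by
    refine (Finset.eq_of_subset_of_card_le (fun w hw => ?_) ?_).symm
    · simp only [Finset.mem_insert, Finset.mem_singleton] at hw
      rcases hw with rfl | rfl | rfl <;> simp [apply_mem_support, hp]
    · rw [h.card_support, Finset.card_insert_of_notMem (by simp [h2.symm, Ne.symm hp]),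
        Finset.card_pair h1]
  ext w
  by_cases hw : w ∈ g.support
  · rw [hsupp] at hw
    simp only [Finset.mem_insert, Finset.mem_singleton] at hw
    rcases hw with rfl | rfl | rfl
    · rw [Perm.mul_apply, swap_apply_left, swap_apply_of_ne_of_ne hp h1.symm]
    · rw [Perm.mul_apply, swap_apply_of_ne_of_ne h2 h1, swap_apply_right, hq]
    · rw [Perm.mul_apply, swap_apply_right, swap_apply_left]
  · rw [notMem_support.1 hw]
    rw [hsupp] at hw
    simp only [Finset.mem_insert, Finset.mem_singleton, not_or] at hw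
    rw [Perm.mul_apply, swap_apply_of_ne_of_ne hw.1 hw.2.2, swap_apply_of_ne_of_ne hw.1 hw.2.1]

theorem threeCycle_rotate {p q r : Ω} (hpq : p ≠ q) (hqr : q ≠ r) (hpr : p ≠ r) :
    swap p q * swap p r = swap r p * swap r q := by
  ext w
  simp only [Perm.mul_apply, swap_apply_def]
  split_ifs <;> simp_all

/-- A 3-cycle joining two parts in a subgroup above the even stabiliser. -/
theorem exists_crossing_three_cycle (a : ℕ) (ha : 2 ≤ a) (hb : 2 ≤ b) (f : Ω → Fin b)
    (hf : ∀ i : Fin b, Nat.card {x : Ω // f x = i} = a) (h8 : Fintype.card Ω ≠ 8)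
    (H : Subgroup (Perm Ω)) (hH : H ≤ alternatingGroup Ω)
    (hK : partStab f ⊓ alternatingGroup Ω ≤ H) {g : Perm Ω} (hgH : g ∈ H) (hg : g ∉ partStab f) :
    ∃ p q r : Ω, p ≠ q ∧ q ≠ r ∧ p ≠ r ∧ f p ≠ f q ∧ swap p q * swap p r ∈ H := by
  classical
  obtain ⟨E, hE⟩ := exists_coord a f hf
  have hn : Fintype.card Ω = b * a := by simp [Fintype.card_congr E]
  have hne : ∀ x, ∃ y, y ≠ x ∧ f y = f x := by
    intro x
    have : Nontrivial {y : Ω // f y = f x} := Finite.one_lt_card_iff_nontrivial.1 (by rw [hf]; omega)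
    obtain ⟨⟨y, hy⟩, hyx⟩ := exists_ne (⟨x, rfl⟩ : {y : Ω // f y = f x})
    exact ⟨y, fun h => hyx (Subtype.ext h), hy⟩
  -- a pair inside a part taken to two parts
  obtain ⟨x₀, y₀, h0, h0'⟩ : ∃ x y, f x = f y ∧ f (g x) ≠ f (g y) := by
    by_contra hcon
    push Not at hcon
    refine hg fun x y => ⟨hcon x y, fun h => ?_⟩
    by_contra hxy
    -- `g` maps parts into parts, so it permutes them
    let π : Fin b → Fin b := fun i => f (g (E.symm (i, ⟨0, by omega⟩)))
    have hπ : ∀ z, f (g z) = π (f z) := fun z => hcon z _ (by rw [← hE (E.symm _)]; simp)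
    have hinj : Function.Injective π := Finite.injective_iff_surjective.2 fun i => by
      obtain ⟨z, hz⟩ := g.surjective (E.symm (i, ⟨0, by omega⟩))
      exact ⟨f z, by rw [← hπ, hz, ← hE]; simp⟩
    exact hxy (hinj (by rw [← hπ, ← hπ, h]))
  have hxy₀ : x₀ ≠ y₀ := fun e => h0' (by rw [e])
  have conjH : ∀ {k : Perm Ω}, k ∈ H → g * k * g⁻¹ ∈ H := fun hk =>
    H.mul_mem (H.mul_mem hgH hk) (H.inv_mem hgH)
  rcases Nat.lt_or_ge a 3 with ha3 | ha3
  swap
  · obtain ⟨z₀, hz0, hzx, hzy⟩ : ∃ z, f z = f x₀ ∧ z ≠ x₀ ∧ z ≠ y₀ := by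
      by_contra hcon
      push Not at hcon
      have hle : Nat.card {w : Ω // f w = f x₀} ≤ 2 := by
        rw [Nat.card_eq_fintype_card, Fintype.card_subtype]
        refine le_trans (Finset.card_le_card (t := {x₀, y₀}) fun w hw => ?_)
          (Finset.card_insert_le _ _)
        simp only [Finset.mem_filter, Finset.mem_univ, true_and] at hw
        rcases eq_or_ne w x₀ with rfl | hw1
        · simp
        · simp [hcon w hw hw1]
      rw [hf] at hle
      omega
    refine ⟨g x₀, g y₀, g z₀, g.injective.ne hxy₀, g.injective.ne hzy.symm, g.injective.ne hzx.symm,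
      h0', ?_⟩
    rw [swap_apply_apply, swap_apply_apply,
      show g * swap x₀ y₀ * g⁻¹ * (g * swap x₀ z₀ * g⁻¹) = g * (swap x₀ y₀ * swap x₀ z₀) * g⁻¹ by
        group]
    exact conjH (hK ⟨mul_mem (swap_mem_partStab h0) (swap_mem_partStab hz0.symm),
      swap_swap_mem_alt hxy₀ hzx.symm⟩)
  -- parts of size two
  obtain rfl : a = 2 := by omega
  choose m hm1 hm2 using hne
  have huniq : ∀ {x y : Ω}, y ≠ x → f y = f x → y = m x := by
    intro x y hyx hfy
    by_contra hym
    have hle : Finset.card ({x, y, m x} : Finset Ω) ≤ Nat.card {w : Ω // f w = f x} := by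
      rw [Nat.card_eq_fintype_card, Fintype.card_subtype]
      refine Finset.card_le_card fun w hw => ?_
      simp only [Finset.mem_insert, Finset.mem_singleton] at hw
      rcases hw with rfl | rfl | rfl <;> simp [hfy, hm2]
    rw [hf, Finset.card_insert_of_notMem (by simp [hyx.symm, (hm1 x).symm]),
      Finset.card_pair hym] at hle
    omega
  have hmm : ∀ x, m (m x) = x := fun x => (huniq (hm1 x).symm (hm2 x).symm).symm
  have hK2 : ∀ x y : Ω, swap x (m x) * swap y (m y) ∈ H := fun x y =>
    hK ⟨mul_mem (swap_mem_partStab (hm2 x).symm) (swap_mem_partStab (hm2 y).symm),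
      swap_swap_mem_alt (hm1 x).symm (hm1 y).symm⟩
  rcases Nat.lt_or_ge b 3 with hb3 | hb3
  · obtain rfl : b = 2 := by omega
    have h4 : Fintype.card Ω = 4 := hn
    obtain ⟨w, hw⟩ : ∃ w, g w = w := by
      by_contra hcon
      push Not at hcon
      exact hg (mem_partStab_four hf h4 (hH hgH) hcon)
    have h3 : g.IsThreeCycle := by
      rw [← card_support_eq_three_iff]
      have hlt : g.support.card ≤ 3 := by
        have : g.support ⊆ Finset.univ.erase w := fun z hz =>
          Finset.mem_erase.2 ⟨fun e => mem_support.1 hz (e ▸ hw), Finset.mem_univ _⟩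
        have := Finset.card_le_card this
        rwa [Finset.card_erase_of_mem (Finset.mem_univ _), Finset.card_univ, h4] at this
      have h1 : g ≠ 1 := fun e => hg (e ▸ one_mem _)
      have h2 := g.two_le_card_support_of_ne_one h1
      rcases Nat.lt_or_ge g.support.card 3 with h | h
      · exfalso
        obtain ⟨x, y, hxy, rfl⟩ := card_support_eq_two.1 (by omega : g.support.card = 2)
        have := mem_alternatingGroup.1 (hH hgH)
        rw [sign_swap hxy] at this
        exact absurd this (by decide)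
      · omega
    obtain ⟨p, q, r, hpq, hqr, hpr, rfl⟩ : ∃ p q r : Ω, p ≠ q ∧ q ≠ r ∧ p ≠ r ∧
        g = swap p q * swap p r := by
      obtain ⟨p, hp, -⟩ := h3.isCycle
      exact threeCycle_eq_swaps h3 hp
    by_cases hfpq : f p = f q
    · -- another labelling of the same cycle
      have hfpr : f p ≠ f r := fun e => by
        have e1 := huniq hpq.symm hfpq.symm
        have e2 := huniq hpr.symm e.symm
        exact hqr (e1.trans e2.symm)
      refine ⟨r, p, q, hpr.symm, hpq, hqr.symm, hfpr.symm, ?_⟩
      rwa [← threeCycle_rotate hpq hqr hpr]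
    · exact ⟨p, q, r, hpq, hqr, hpr, hfpq, hgH⟩
  -- choose a second pair avoiding the mate of `g x₀`
  have hy₀ : y₀ = m x₀ := huniq hxy₀.symm h0.symm
  set p := g x₀
  set q := g y₀
  have hpq : p ≠ q := g.injective.ne hxy₀
  obtain ⟨z₀, hz0, hz1⟩ : ∃ z, f z ≠ f x₀ ∧ f z ≠ f (g⁻¹ (m p)) := by
    obtain ⟨i, hi⟩ : ∃ i : Fin b, i ∉ ({f x₀, f (g⁻¹ (m p))} : Finset (Fin b)) :=
      exists_notMem (by
        refine lt_of_le_of_lt (Finset.card_insert_le _ _) ?_
        simp; omega)
    simp only [Finset.mem_insert, Finset.mem_singleton, not_or] at hi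
    refine ⟨E.symm (i, ⟨0, by omega⟩), ?_, ?_⟩ <;>
      · rw [← hE (E.symm _), Equiv.apply_symm_apply]
        first | exact hi.1 | exact hi.2
  set i := g z₀
  set j := g (m z₀)
  have hij : i ≠ j := g.injective.ne (hm1 z₀).symm
  have hu : ∀ w : Ω, f w = f z₀ → g w ≠ p ∧ g w ≠ q ∧ g w ≠ m p := by
    intro w hw
    refine ⟨fun e => hz0 ?_, fun e => hz0 ?_, fun e => hz1 ?_⟩
    · rw [← hw, g.injective e]
    · rw [← hw, g.injective e, h0]
    · rw [← hw, ← e, Perm.inv_def, Equiv.symm_apply_apply]
  obtain ⟨hip, hiq, himp⟩ : i ≠ p ∧ i ≠ q ∧ i ≠ m p := hu z₀ rfl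
  obtain ⟨hjp, hjq, hjmp⟩ : j ≠ p ∧ j ≠ q ∧ j ≠ m p := hu (m z₀) (hm2 z₀)
  have he : swap p q * swap i j ∈ H := by
    have := conjH (hK2 x₀ z₀)
    rw [← hy₀] at this
    rwa [show g * (swap x₀ y₀ * swap z₀ (m z₀)) * g⁻¹ =
      (g * swap x₀ y₀ * g⁻¹) * (g * swap z₀ (m z₀) * g⁻¹) by group, ← swap_apply_apply,
      ← swap_apply_apply] at this
  -- a permutation of the stabiliser fixing `p`, moving `q` off `{p, q}` and fixing `{i, j}`
  suffices hk : ∃ k ∈ H, k p = p ∧ k q ≠ q ∧ swap (k i) (k j) = swap i j by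
    obtain ⟨k, hkH, hkp, hkq, hkij⟩ := hk
    have hkqp : k q ≠ p := fun e => hpq (k.injective (hkp.trans e.symm))
    refine ⟨p, q, k q, hpq, hkq.symm, hkqp.symm, h0', ?_⟩
    have h := H.mul_mem he (H.mul_mem (H.mul_mem hkH he) (H.inv_mem hkH))
    have hcomm : Commute (swap p q) (swap i j) :=
      (Equiv.Perm.Disjoint.commute (by
        intro w
        by_cases hw : w = p ∨ w = q
        · right
          rcases hw with rfl | rfl
          · exact swap_apply_of_ne_of_ne hip.symm hjp.symm
          · exact swap_apply_of_ne_of_ne hiq.symm hjq.symm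
        · left
          push Not at hw
          exact swap_apply_of_ne_of_ne hw.1 hw.2))
    rwa [show k * (swap p q * swap i j) * k⁻¹ = (k * swap p q * k⁻¹) * (k * swap i j * k⁻¹) by group,
      ← swap_apply_apply, ← swap_apply_apply, hkp, hkij, mul_assoc (swap p q), ← mul_assoc (swap i j),
      show swap i j * swap p (k q) * swap i j = swap p (k q) from ?_] at h
    rw [mul_assoc, (Equiv.Perm.Disjoint.commute (f := swap p (k q)) (g := swap i j) (by
      intro w
      by_cases hw : w = p ∨ w = k q
      · right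
        rcases hw with rfl | rfl
        · exact swap_apply_of_ne_of_ne hip.symm hjp.symm
        · refine swap_apply_of_ne_of_ne ?_ ?_
          · intro e
            have : k q = k i ∨ k q = k j := by
              rcases (show i = k i ∨ i = k j by
                by_contra hcon
                push Not at hcon
                have := congrArg (fun σ : Perm Ω => σ i) hkij
                simp only [swap_apply_left, swap_apply_of_ne_of_ne hcon.1 hcon.2] at this
                exact hij this) with h' | h'
              · exact Or.inl (e.trans h')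
              · exact Or.inr (e.trans h')
            rcases this with h' | h'
            · exact hiq (k.injective h').symm
            · exact hjq (k.injective h').symm
          · intro e
            have : k q = k i ∨ k q = k j := by
              rcases (show j = k i ∨ j = k j by
                by_contra hcon
                push Not at hcon
                have := congrArg (fun σ : Perm Ω => σ j) hkij
                simp only [swap_apply_right, swap_apply_of_ne_of_ne hcon.1 hcon.2] at this
                exact hij this.symm) with h' | h'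
              · exact Or.inl (e.trans h')
              · exact Or.inr (e.trans h')
            rcases this with h' | h'
            · exact hiq (k.injective h').symm
            · exact hjq (k.injective h').symm
      · left
        push Not at hw
        exact swap_apply_of_ne_of_ne hw.1 hw.2)).eq, ← mul_assoc, swap_mul_self, one_mul]
  have hqmp : q ≠ m p := fun e => h0' (by rw [e, hm2])
  have hmqp : m q ≠ p := fun e => hqmp (by rw [← e, hmm])
  by_cases hpair : j = m i
  · -- `{i, j}` is a part
    have hiv : i ≠ m q := fun e => hjq (by rw [hpair, e, hmm])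
    have hjv : j ≠ m q := fun e => hiq (by
      have := congrArg m (hpair.symm.trans e)
      rwa [hmm, hmm] at this)
    refine ⟨swap q (m q) * swap i (m i), hK2 q i, ?_, ?_, ?_⟩
    · rw [Perm.mul_apply, swap_apply_of_ne_of_ne hip.symm (hpair ▸ hjp.symm),
        swap_apply_of_ne_of_ne hpq hmqp.symm]
    · rw [Perm.mul_apply, swap_apply_of_ne_of_ne hiq.symm (hpair ▸ hjq.symm), swap_apply_left]
      exact hm1 q
    · rw [← hpair, Perm.mul_apply, Perm.mul_apply, swap_apply_left, swap_apply_right,
        swap_apply_of_ne_of_ne hjq hjv, swap_apply_of_ne_of_ne hiq hiv, swap_comm]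
  -- `i` and `j` lie in different parts
  by_cases hv : m q = i ∨ m q = j
  · -- interchange the part of `q` with that of the other point
    obtain ⟨i', j', hqi, hij', hp', hq', hs⟩ : ∃ i' j', m q = i' ∧ i' ≠ j' ∧ (j' ≠ p ∧ j' ≠ m p) ∧
        (j' ≠ q ∧ j' ≠ m q ∧ m j' ≠ i') ∧ swap i' j' = swap i j := by
      rcases hv with h | h
      · exact ⟨i, j, h, hij, ⟨hjp, hjmp⟩, ⟨hjq, h ▸ hij.symm, fun e => hpair (by rw [← e, hmm])⟩, rfl⟩
      · exact ⟨j, i, h, hij.symm, ⟨hip, himp⟩, ⟨hiq, h ▸ hij, fun e => hpair e.symm⟩, swap_comm j i⟩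
    subst hqi
    have hd1 : m j' ≠ q := fun e => hq'.2.1 (by rw [← e, hmm])
    have hd2 : m j' ≠ p := fun e => hp'.2 (by rw [← e, hmm])
    refine ⟨swap q (m j') * swap (m q) j', hK ⟨?_, swap_swap_mem_alt hd1.symm hij'⟩, ?_, ?_, ?_⟩
    · -- it maps the part of each point to a part
      have hval : ∀ w, f ((swap q (m j') * swap (m q) j') w) = swap (f q) (f j') (f w) := by
        intro w
        have hfne : f q ≠ f j' := fun e => hq'.2.1 (huniq hq'.1 e.symm)
        rcases eq_or_ne w q with rfl | hw1
        · rw [Perm.mul_apply, swap_apply_of_ne_of_ne (hm1 _).symm hq'.1.symm, swap_apply_left,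
            swap_apply_left, hm2]
        rcases eq_or_ne w (m q) with rfl | hw2
        · rw [Perm.mul_apply, swap_apply_left, swap_apply_of_ne_of_ne hq'.1 (hm1 j').symm, hm2 q,
            swap_apply_left]
        rcases eq_or_ne w j' with rfl | hw3
        · rw [Perm.mul_apply, swap_apply_right, swap_apply_of_ne_of_ne (hm1 q) hq'.2.2.symm, hm2,
            swap_apply_right]
        rcases eq_or_ne w (m j') with rfl | hw4
        · rw [Perm.mul_apply, swap_apply_of_ne_of_ne hw2 (hm1 _), swap_apply_right, hm2 j',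
            swap_apply_right]
        rw [Perm.mul_apply, swap_apply_of_ne_of_ne hw2 hw3, swap_apply_of_ne_of_ne hw1 hw4,
          swap_apply_of_ne_of_ne]
        · exact fun e => hw2 (huniq hw1 e)
        · exact fun e => hw4 (huniq hw3 e)
      intro u v
      rw [hval, hval]
      exact (swap (f q) (f j')).injective.eq_iff.symm
    · rw [Perm.mul_apply, swap_apply_of_ne_of_ne hmqp.symm hp'.1.symm,
        swap_apply_of_ne_of_ne hpq hd2.symm]
    · rw [Perm.mul_apply, swap_apply_of_ne_of_ne (hm1 _).symm hq'.1.symm, swap_apply_left]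
      exact hd1
    · rw [← hs]
      have e1 : (swap q (m j') * swap (m q) j') (m q) = j' := by
        rw [Perm.mul_apply, swap_apply_left, swap_apply_of_ne_of_ne hq'.1 (hm1 j').symm]
      have e2 : (swap q (m j') * swap (m q) j') j' = m q := by
        rw [Perm.mul_apply, swap_apply_right, swap_apply_of_ne_of_ne (hm1 q) hq'.2.2.symm]
      rcases hv with h | h
      · have hj : j' = j := by
          have := congrArg (fun σ : Perm Ω => σ (m q)) hs
          rwa [swap_apply_left, h, swap_apply_left] at this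
        rw [← h, ← hj, e1, e2, swap_comm]
      · have hi : j' = i := by
          have := congrArg (fun σ : Perm Ω => σ (m q)) hs
          rwa [swap_apply_left, h, swap_apply_right] at this
        rw [← h, ← hi, e1, e2]
  -- a fifth part
  push Not at hv
  obtain ⟨hvi, hvj⟩ := hv
  have hb5 : 5 ≤ b := by
    have h4 : ({f p, f q, f i, f j} : Finset (Fin b)).card = 4 := by
      have d1 : f p ≠ f i := fun e => himp (huniq hip e.symm)
      have d2 : f p ≠ f j := fun e => hjmp (huniq hjp e.symm)
      have d3 : f q ≠ f i := fun e => hvi (huniq hiq e.symm).symm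
      have d4 : f q ≠ f j := fun e => hvj (huniq hjq e.symm).symm
      have d5 : f i ≠ f j := fun e => hpair (huniq hij.symm e.symm)
      rw [Finset.card_insert_of_notMem (by simp [h0', d1, d2]),
        Finset.card_insert_of_notMem (by simp [d3, d4]), Finset.card_pair d5]
    have := Finset.card_le_univ ({f p, f q, f i, f j} : Finset (Fin b))
    rw [h4, Fintype.card_fin] at this
    omega
  obtain ⟨l, hl⟩ : ∃ l : Fin b, l ∉ ({f p, f q, f i, f j} : Finset (Fin b)) :=
    exists_notMem (by
      refine lt_of_le_of_lt ((Finset.card_insert_le _ _).trans (Nat.add_le_add_right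
        ((Finset.card_insert_le _ _).trans (Nat.add_le_add_right (Finset.card_insert_le _ _) 1)) 1)) ?_
      simp; omega)
  simp only [Finset.mem_insert, Finset.mem_singleton, not_or] at hl
  set w := E.symm (l, ⟨0, by omega⟩)
  have hwl : f w = l := by rw [← hE]; simp [w]
  have hwl' : f (m w) = l := (hm2 w).trans hwl
  have hne : ∀ z, f z ≠ l → z ≠ w ∧ z ≠ m w := fun z hz =>
    ⟨fun e => hz (e ▸ hwl), fun e => hz (e ▸ hwl')⟩
  obtain ⟨hpw, hpw'⟩ := hne p (Ne.symm hl.1)
  obtain ⟨hqw, hqw'⟩ := hne q (Ne.symm hl.2.1)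
  obtain ⟨hiw, hiw'⟩ := hne i (Ne.symm hl.2.2.1)
  obtain ⟨hjw, hjw'⟩ := hne j (Ne.symm hl.2.2.2)
  refine ⟨swap q (m q) * swap w (m w), hK2 q w, ?_, ?_, ?_⟩
  · rw [Perm.mul_apply, swap_apply_of_ne_of_ne hpw hpw', swap_apply_of_ne_of_ne hpq hmqp.symm]
  · rw [Perm.mul_apply, swap_apply_of_ne_of_ne hqw hqw', swap_apply_left]
    exact hm1 q
  · rw [Perm.mul_apply, Perm.mul_apply, swap_apply_of_ne_of_ne hiw hiw',
      swap_apply_of_ne_of_ne hiq hvi.symm, swap_apply_of_ne_of_ne hjw hjw',
      swap_apply_of_ne_of_ne hjq hvj.symm]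

/-- A group above the even stabiliser containing a 3-cycle that joins two parts has no proper
blocks. -/
theorem isPreprimitive_of_crossing (a : ℕ) (ha : 2 ≤ a) (hb : 2 ≤ b) (f : Ω → Fin b)
    (hf : ∀ i : Fin b, Nat.card {x : Ω // f x = i} = a)
    (H : Subgroup (Perm Ω)) (hK : partStab f ⊓ alternatingGroup Ω ≤ H) {p q r : Ω}
    (hpq : p ≠ q) (hqr : q ≠ r) (hpr : p ≠ r) (hfpq : f p ≠ f q) (hτ : swap p q * swap p r ∈ H) :
    MulAction.IsPreprimitive H Ω := by
  classical
  obtain ⟨E, hE⟩ := exists_coord a f hf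
  have hn : Fintype.card Ω = b * a := by simp [Fintype.card_congr E]
  have hother : ∀ P : Finset (Fin b), P.card < b → ∃ u v : Ω, u ≠ v ∧ f u = f v ∧ f u ∉ P := by
    intro P hP
    obtain ⟨i, hi⟩ := exists_notMem (s := P) (by rwa [Fintype.card_fin])
    refine ⟨E.symm (i, ⟨0, by omega⟩), E.symm (i, ⟨1, by omega⟩), fun e => ?_, ?_, ?_⟩
    · simpa [Fin.ext_iff] using congrArg (fun z => ((E z).2 : Fin a)) e
    · rw [← hE, ← hE (E.symm _)]; simp
    · rw [← hE]; simpa using hi
  -- transitivity, through block interchanges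
  let mk : Perm (Fin b) → Perm (Fin a) → Perm Ω := fun π τ => E.symm.permCongr (π.prodCongr τ)
  have mkf : ∀ π τ x, f (mk π τ x) = π (f x) := fun π τ x => by
    rw [← hE, ← hE x]
    simp [mk, Equiv.permCongr_apply]
  have mkmem : ∀ π τ, mk π τ ∈ partStab f := fun π τ x y => by
    rw [mkf, mkf]; exact π.injective.eq_iff.symm
  -- correct the parity away from finitely many parts
  have heven : ∀ (k : Perm Ω), k ∈ partStab f → ∀ P : Finset (Fin b), P.card < b →
      ∃ k' ∈ H, ∀ z, f (k z) ∈ P → k' z = k z := by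
    intro k hk P hP
    rcases Int.units_eq_one_or (sign k) with h | h
    · exact ⟨k, hK ⟨hk, mem_alternatingGroup.2 h⟩, fun z _ => rfl⟩
    · obtain ⟨u, v, huv, hfuv, hu⟩ := hother P hP
      refine ⟨swap u v * k, hK ⟨mul_mem (swap_mem_partStab hfuv) hk, ?_⟩, fun z hz => ?_⟩
      · show swap u v * k ∈ alternatingGroup Ω
        rw [mem_alternatingGroup, map_mul, sign_swap huv, h, Int.units_mul_self]
      · rw [Perm.mul_apply, swap_apply_of_ne_of_ne (fun e => hu (by rw [← e]; exact hz))
          (fun e => hu (by rw [hfuv, ← e]; exact hz))]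
  have htrans : MulAction.IsPretransitive H Ω := ⟨fun x y => by
    set k := mk (swap (f x) (f y)) (swap (E x).2 (E y).2)
    have hkx : k x = y := E.injective (by
      simp [k, mk, Equiv.permCongr_apply, Prod.ext_iff, hE])
    obtain ⟨k', hk', hk''⟩ := heven k (mkmem _ _) {f y} (by simp; omega)
    exact ⟨⟨k', hk'⟩, (hk'' x (by simp [hkx])).trans hkx⟩⟩
  refine ⟨fun {B} hB => ?_⟩
  by_contra hB'
  simp only [MulAction.IsTrivialBlock, not_or, Set.not_subsingleton_iff] at hB'
  obtain ⟨hnt, huniv⟩ := hB'
  obtain ⟨e, he⟩ := hnt.nonempty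
  obtain ⟨h₀, hh₀⟩ := MulAction.exists_smul_eq H e p
  -- the translate through `p`
  set B' := h₀ • B with hB'def
  have hB'b : MulAction.IsBlock H B' := hB.translate h₀
  have hpB : p ∈ B' := hh₀ ▸ Set.smul_mem_smul_set he
  have hcard' : B'.ncard = B.ncard := Set.ncard_smul_set h₀ B
  have hB'2 : 1 < B'.ncard := by
    rw [hcard']
    exact (Set.one_lt_ncard (Set.toFinite _)).2 (by obtain ⟨x, hx, y, hy, hxy⟩ := hnt; exact ⟨x, hx, y, hy, hxy⟩)
  have hB'univ : B' ≠ Set.univ := fun h => huniv (by
    rw [hB'def] at h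
    have := congrArg (fun s => h₀⁻¹ • s) h
    simpa using this)
  have fixB : ∀ g : Perm Ω, g ∈ H → ∀ {x}, x ∈ B' → g x ∈ B' → ∀ {y}, y ∈ B' → g y ∈ B' := by
    intro g hg x hx hgx y hy
    by_contra hgy
    have hne' : ((⟨g, hg⟩ : H) • B') ≠ (1 : H) • B' := fun h => hgy (by
      have : g y ∈ (⟨g, hg⟩ : H) • B' := ⟨y, hy, rfl⟩
      rwa [h, one_smul] at this)
    exact Set.disjoint_left.1 (hB'b hne') ⟨x, hx, rfl⟩ (by rw [one_smul]; exact hgx)
  set τ := swap p q * swap p r with hτdef
  have τp : τ p = r := by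
    rw [hτdef, Perm.mul_apply, swap_apply_left, swap_apply_of_ne_of_ne hpr.symm hqr.symm]
  have τr : τ r = q := by rw [hτdef, Perm.mul_apply, swap_apply_right, swap_apply_left]
  have τq : τ q = p := by
    rw [hτdef, Perm.mul_apply, swap_apply_of_ne_of_ne hpq.symm hqr, swap_apply_right]
  have τfix : ∀ z, z ≠ p → z ≠ q → z ≠ r → τ z = z := fun z h1 h2 h3 => by
    rw [hτdef, Perm.mul_apply, swap_apply_of_ne_of_ne h1 h3, swap_apply_of_ne_of_ne h1 h2]
  have hrB : r ∈ B' ∧ q ∈ B' := by
    obtain ⟨s, hs, hsp⟩ := Set.exists_ne_of_one_lt_ncard hB'2 p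
    by_cases hsq : s = q
    · subst hsq
      refine ⟨τp ▸ fixB τ hτ hs ?_ hpB, hs⟩
      rw [τq]; exact hpB
    by_cases hsr : s = r
    · subst hsr
      refine ⟨hs, τr ▸ fixB τ hτ hpB ?_ hs⟩
      rw [τp]; exact hs
    · have hrB : r ∈ B' := τp ▸ fixB τ hτ hs (by rw [τfix s hsp hsq hsr]; exact hs) hpB
      exact ⟨hrB, τr ▸ fixB τ hτ hs (by rw [τfix s hsp hsq hsr]; exact hs) hrB⟩
  obtain ⟨hrB, hqB⟩ := hrB
  -- divisibility
  have hdvd : B'.ncard ∣ b * a := by
    have := hB'b.ncard_dvd_card ⟨p, hpB⟩
    rwa [Nat.card_eq_fintype_card, hn] at this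
  have hlt : B'.ncard < b * a := by
    rw [← hn]
    rcases lt_or_eq_of_le (Set.ncard_le_card B') with h | h
    · exact Nat.card_eq_fintype_card (α := Ω) ▸ h
    · exact absurd (Set.eq_of_subset_of_ncard_le (Set.subset_univ _)
        (by rw [Set.ncard_univ, h])) hB'univ
  -- a part through one of two points in different parts
  have partIn : ∀ {x y z : Ω}, x ∈ B' → y ∈ B' → f x ≠ f y → f z = f y → z ∈ B' := by
    intro x y z hx hy hxy hz
    rcases eq_or_ne z y with rfl | hzy
    · exact hy
    rcases Nat.lt_or_ge a 3 with ha3 | ha3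
    · rcases Nat.lt_or_ge b 3 with hb3 | hb3
      · -- four points, three of them in the block
        exfalso
        have h3 : 3 ≤ B'.ncard := by
          have hsub : ({p, q, r} : Set Ω) ⊆ B' := by
            intro w hw
            rcases hw with rfl | rfl | rfl <;> assumption
          refine le_trans (le_of_eq ?_) (Set.ncard_le_ncard hsub)
          rw [Set.ncard_insert_of_notMem (by simp [hpq, hpr]), Set.ncard_pair hqr]
        obtain rfl : a = 2 := by omega
        obtain rfl : b = 2 := by omega
        rcases (show B'.ncard = 3 by omega) ▸ hdvd with ⟨c, hc⟩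
        omega
      · obtain ⟨k', hk', hk''⟩ := heven (swap y z) (swap_mem_partStab hz.symm) {f x, f z}
          (lt_of_le_of_lt (Finset.card_insert_le _ _) (by simp; omega))
        have e1 : k' x = x := by
          rw [hk'' x (by
            rw [swap_apply_of_ne_of_ne (fun e => hxy (by rw [e])) (fun e => hxy (by rw [e, hz]))]
            simp), swap_apply_of_ne_of_ne (fun e => hxy (by rw [e])) (fun e => hxy (by rw [e, hz]))]
        have e2 : k' y = z := by rw [hk'' y (by simp), swap_apply_left]
        exact e2 ▸ fixB k' hk' hx (by rwa [e1]) hy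
    · obtain ⟨s, hs, hsy, hsz⟩ : ∃ s, f s = f y ∧ s ≠ y ∧ s ≠ z := by
        by_contra hcon
        push Not at hcon
        have hle : Nat.card {w : Ω // f w = f y} ≤ 2 := by
          rw [Nat.card_eq_fintype_card, Fintype.card_subtype]
          refine le_trans (Finset.card_le_card (t := {y, z}) fun w hw => ?_)
            (Finset.card_insert_le _ _)
          simp only [Finset.mem_filter, Finset.mem_univ, true_and] at hw
          rcases eq_or_ne w y with rfl | hw1
          · simp
          · simp [hcon w hw hw1]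
        rw [hf] at hle
        omega
      have hk : swap y z * swap y s ∈ H := hK ⟨mul_mem (swap_mem_partStab hz.symm)
        (swap_mem_partStab hs.symm), swap_swap_mem_alt hzy.symm hsy.symm⟩
      have hxy' : ∀ w, f w = f y → x ≠ w := fun w hw e => hxy (by rw [e, hw])
      have e1 : (swap y z * swap y s) x = x := by
        rw [Perm.mul_apply, swap_apply_of_ne_of_ne (hxy' y rfl) (hxy' s hs),
          swap_apply_of_ne_of_ne (hxy' y rfl) (hxy' z hz)]
      have e2 : (swap y z * swap y s) s = z := by
        rw [Perm.mul_apply, swap_apply_right, swap_apply_left]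
      have e3 : (swap y z * swap y s) y = s := by
        rw [Perm.mul_apply, swap_apply_left, swap_apply_of_ne_of_ne hsy hsz]
      have hsB : s ∈ B' := e3 ▸ fixB _ hk hx (by rwa [e1]) hy
      exact e2 ▸ fixB _ hk hx (by rwa [e1]) hsB
  have hp' : ∀ z, f z = f p → z ∈ B' := fun z hz => partIn hqB hpB (Ne.symm hfpq) hz
  have hq' : ∀ z, f z = f q → z ∈ B' := fun z hz => partIn hpB hqB hfpq hz
  rcases Nat.lt_or_ge b 4 with hb4 | hb4
  · have h2a : 2 * a ≤ B'.ncard := by
      have hsub : ({z | f z = f p} ∪ {z | f z = f q} : Set Ω) ⊆ B' := by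
        rintro z (hz | hz)
        · exact hp' z hz
        · exact hq' z hz
      refine le_trans (le_of_eq ?_) (Set.ncard_le_ncard hsub)
      rw [Set.ncard_union_eq (Set.disjoint_left.2 fun z h1 h2 => hfpq (h1.symm.trans h2)),
        ← Nat.card_coe_set_eq, ← Nat.card_coe_set_eq]
      show 2 * a = Nat.card {z // f z = f p} + Nat.card {z // f z = f q}
      rw [hf, hf]
      omega
    obtain ⟨c, hc⟩ := hdvd
    rcases c with _ | _ | c
    · simp at hc; omega
    · simp at hc; omega
    · nlinarith
  · refine hB'univ (Set.eq_univ_of_forall fun z => ?_)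
    by_cases hzp : f z = f p
    · exact hp' z hzp
    by_cases hzq : f z = f q
    · exact hq' z hzq
    set y' := E.symm (f q, (E z).2)
    have hy' : f y' = f q := by rw [← hE]; simp [y']
    set k := mk (swap (f q) (f z)) 1
    have hky : k y' = z := E.injective (by simp [k, y', mk, Equiv.permCongr_apply, Prod.ext_iff, hE])
    have hkp : k p = p := E.injective (by
      simp [k, mk, Equiv.permCongr_apply, Prod.ext_iff, hE,
        swap_apply_of_ne_of_ne hfpq (Ne.symm hzp)])
    obtain ⟨k', hk', hk''⟩ := heven k (mkmem _ _) {f p, f z}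
      (lt_of_le_of_lt (Finset.card_insert_le _ _) (by simp; omega))
    have e1 : k' p = p := by rw [hk'' p (by simp [hkp]), hkp]
    have e2 : k' y' = z := by rw [hk'' y' (by simp [hky]), hky]
    exact e2 ▸ fixB k' hk' hpB (by rwa [e1]) (hq' y' hy')

/-- Maximality in the alternating group. -/
theorem partStab_alt_isCoatom (a : ℕ) (ha : 2 ≤ a) (hb : 2 ≤ b) (f : Ω → Fin b)
    (hf : ∀ i : Fin b, Nat.card {x : Ω // f x = i} = a) (h8 : Fintype.card Ω ≠ 8) :
    IsCoatom ((partStab f ⊓ alternatingGroup Ω).subgroupOf (alternatingGroup Ω)) := by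
  classical
  obtain ⟨E, hE⟩ := exists_coord a f hf
  constructor
  · intro htop
    let x := E.symm (⟨0, by omega⟩, ⟨0, by omega⟩)
    let x' := E.symm (⟨0, by omega⟩, ⟨1, by omega⟩)
    let y := E.symm (⟨1, by omega⟩, ⟨0, by omega⟩)
    have hd : ∀ i i' j j', (i, j) ≠ (i', j') → E.symm (i, j) ≠ E.symm (i', j') :=
      fun _ _ _ _ h => E.symm.injective.ne h
    -- a 3-cycle through two parts
    have hτ : swap x y * swap x x' ∈ alternatingGroup Ω :=
      swap_swap_mem_alt (hd _ _ _ _ (by simp [Fin.ext_iff])) (hd _ _ _ _ (by simp [Fin.ext_iff]))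
    rw [Subgroup.subgroupOf_eq_top] at htop
    have h := ((htop hτ).1 x x').1 (by rw [← hE, ← hE x']; simp [x, x'])
    have hxy : x ≠ y := hd _ _ _ _ (by simp [Fin.ext_iff])
    have hxx : x ≠ x' := hd _ _ _ _ (by simp [Fin.ext_iff])
    have hyx : x' ≠ y := hd _ _ _ _ (by simp [Fin.ext_iff])
    rw [Perm.mul_apply, Perm.mul_apply, swap_apply_left, swap_apply_of_ne_of_ne hxx.symm hyx,
      swap_apply_right, swap_apply_left, ← hE, ← hE y] at h
    simp [x', y] at h
  intro L hL
  obtain ⟨g, hgL, hgK⟩ := SetLike.exists_of_lt hL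
  set H := L.map (alternatingGroup Ω).subtype with hH
  have hHle : H ≤ alternatingGroup Ω := Subgroup.map_subtype_le L
  have hK : partStab f ⊓ alternatingGroup Ω ≤ H := fun k hk =>
    ⟨⟨k, hk.2⟩, hL.le (Subgroup.mem_subgroupOf.2 hk), rfl⟩
  obtain ⟨p, q, r, hpq, hqr, hpr, hfpq, hτ⟩ := exists_crossing_three_cycle a ha hb f hf h8 H hHle hK
    (Subgroup.mem_map_of_mem _ hgL) (fun h => hgK (Subgroup.mem_subgroupOf.2 ⟨h, g.2⟩))
  have hprim := isPreprimitive_of_crossing a ha hb f hf H hK hpq hqr hpr hfpq hτ
  have hA := alternatingGroup_le_of_isPreprimitive_of_isThreeCycle_mem hprim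
    (isThreeCycle_swap_mul_swap_same hpq hpr hqr) hτ
  refine eq_top_iff.2 fun z _ => ?_
  obtain ⟨z', hz', hzz⟩ := hA z.2
  rwa [← Subtype.ext hzz]

end CfsgLib.Maximal
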