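import Mathlib
import Cfsg.Agent.Lib.Maximal.Transvec

/-!
The group V ⋊ SL(V): the point stabiliser is maximal, and subspace stabilisers give subgroups that are
maximal in it but not in every maximal subgroup containing them.
-/

set_option autoImplicit false
set_option linter.style.haveILetI false

namespace CfsgLib.Maximal

open scoped Matrix

variable (p d : ℕ) [Fact p.Prime]

/-- The special linear group over the prime field as a subgroup of GL. -/
abbrev slP : Subgroup (GL (Fin d) (ZMod p)) := Cfsg.Geo.specialLinear (Fin d) (ZMod p)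

/-- Its action on the additive group of column vectors. -/
def slAct : slP p d →* MulAut (Multiplicative (Fin d → ZMod p)) where
  toFun g := AddEquiv.toMultiplicative
    { toFun := fun v => (g.1 : Matrix (Fin d) (Fin d) (ZMod p)) *ᵥ v
      invFun := fun v => ((g.1⁻¹ : GL (Fin d) (ZMod p)) : Matrix (Fin d) (Fin d) (ZMod p)) *ᵥ v
      left_inv := fun v => by
        simp only [Matrix.mulVec_mulVec, ← Units.val_mul, inv_mul_cancel, Units.val_one, Matrix.one_mulVec]
      right_inv := fun v => by
        simp only [Matrix.mulVec_mulVec, ← Units.val_mul, mul_inv_cancel, Units.val_one, Matrix.one_mulVec]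
      map_add' := fun v w => Matrix.mulVec_add _ v w }
  map_one' := by
    refine MulEquiv.ext fun v => ?_
    show Multiplicative.ofAdd (((1 : GL (Fin d) (ZMod p)) : Matrix (Fin d) (Fin d) (ZMod p)) *ᵥ v.toAdd) = v
    rw [Units.val_one, Matrix.one_mulVec]; rfl
  map_mul' g h := by
    refine MulEquiv.ext fun v => ?_
    show Multiplicative.ofAdd (((g * h : slP p d).1 : Matrix (Fin d) (Fin d) (ZMod p)) *ᵥ v.toAdd) =
      Multiplicative.ofAdd ((g.1 : Matrix (Fin d) (Fin d) (ZMod p)) *ᵥ ((h.1 : Matrix (Fin d) (Fin d) (ZMod p)) *ᵥ v.toAdd))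
    rw [Matrix.mulVec_mulVec]; rfl

/-- The affine special linear group. -/
abbrev aslP : Type := Multiplicative (Fin d → ZMod p) ⋊[slAct p d] slP p d

variable {p d}

lemma tv_move (v w : Fin d → ZMod p) (h : v ∉ Submodule.span (ZMod p) {w - v}) :
    ∃ g : slP p d, (g.1 : Matrix (Fin d) (Fin d) (ZMod p)) *ᵥ v = w := by
  obtain ⟨φ, hφ, hφv⟩ := exists_ann _ v h
  have h0 := hφ _ (Submodule.mem_span_singleton_self (w - v))
  refine ⟨⟨tv (w - v) φ h0, tv_mem_specialLinear _ _ _⟩, ?_⟩
  rw [tv_mulVec, hφv, one_smul, add_sub_cancel]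

lemma sl_transitive (hd : 2 ≤ d) (v w : Fin d → ZMod p) (hv : v ≠ 0) (hw : w ≠ 0) :
    ∃ g : slP p d, (g.1 : Matrix (Fin d) (Fin d) (ZMod p)) *ᵥ v = w := by
  have step : ∀ a b : Fin d → ZMod p, a ≠ 0 → b ∉ Submodule.span (ZMod p) {a} →
      ∃ g : slP p d, (g.1 : Matrix (Fin d) (Fin d) (ZMod p)) *ᵥ a = b := by
    intro a b ha hb
    refine tv_move a b fun hm => ?_
    obtain ⟨c, hc⟩ := Submodule.mem_span_singleton.1 hm
    rcases eq_or_ne c 0 with rfl | hc0
    · simp at hc; exact ha hc.symm
    · refine hb (Submodule.mem_span_singleton.2 ⟨c⁻¹ + 1, ?_⟩)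
      have h2 : b - a = c⁻¹ • a := by
        conv_rhs => rw [← hc, smul_smul, inv_mul_cancel₀ hc0, one_smul]
      rw [add_smul, ← h2, one_smul, sub_add_cancel]
  by_cases hb : w ∈ Submodule.span (ZMod p) {v}
  · obtain ⟨u, hu⟩ : ∃ u, u ∉ Submodule.span (ZMod p) {v} := by
      by_contra h
      push Not at h
      have : Submodule.span (ZMod p) {v} = ⊤ := eq_top_iff.2 fun x _ => h x
      have h2 := finrank_span_singleton (K := ZMod p) hv
      rw [this, finrank_top, Module.finrank_pi, Fintype.card_fin] at h2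
      omega
    have hu0 : u ≠ 0 := fun h => hu (h ▸ zero_mem _)
    obtain ⟨c, rfl⟩ := Submodule.mem_span_singleton.1 hb
    have hc : c ≠ 0 := fun h => hw (by rw [h, zero_smul])
    obtain ⟨g, hg⟩ := step v u hv hu
    obtain ⟨g', hg'⟩ := step u (c • v) hu0 fun hm => by
      obtain ⟨e, he⟩ := Submodule.mem_span_singleton.1 hm
      rcases eq_or_ne e 0 with rfl | he0
      · simp at he; exact hw (by simpa using he.symm)
      · refine hu (Submodule.mem_span_singleton.2 ⟨e⁻¹ * c, ?_⟩)
        rw [mul_smul, ← he, smul_smul, inv_mul_cancel₀ he0, one_smul]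
    refine ⟨g' * g, ?_⟩
    rw [Subgroup.coe_mul, Units.val_mul, ← Matrix.mulVec_mulVec, hg, hg']
  · exact step v w hv hb

instance aslP_finite : Finite (aslP p d) := Finite.of_equiv _ SemidirectProduct.equivProd.symm

theorem exists_not_second_maximal (hd : 2 ≤ d) :
    ∃ M H K : Subgroup (aslP p d), IsCoatom M ∧ M.index = p ^ d ∧ H ≤ M ∧
      IsCoatom (H.subgroupOf M) ∧ IsCoatom K ∧ H ≤ K ∧ ¬ IsCoatom (H.subgroupOf K) := by
  classical
  haveI : Finite (aslP p d) := Finite.of_equiv _ SemidirectProduct.equivProd.symm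
  open SemidirectProduct in
  let M : Subgroup (aslP p d) := (inr (φ := slAct p d)).range
  let e0 : Fin d → ZMod p := Pi.single ⟨0, by omega⟩ 1
  let W : Submodule (ZMod p) (Fin d → ZMod p) := Submodule.span (ZMod p) {e0}
  have he0 : e0 ≠ 0 := by
    intro h
    have := congrFun h ⟨0, by omega⟩
    simp [e0] at this
  have hW0 : W ≠ ⊥ := by simp [W, he0]
  have hW1 : W ≠ ⊤ := by
    intro h
    have h2 := finrank_span_singleton (K := ZMod p) he0
    rw [show Submodule.span (ZMod p) {e0} = ⊤ from h, finrank_top, Module.finrank_pi, Fintype.card_fin] at h2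
    omega
  let S : Subgroup (slP p d) := (Cfsg.Geo.subspaceStabilizer W).subgroupOf (slP p d)
  have hmax := subspaceStabilizer_maximal (ι := Fin d) W hW0 hW1
  have hS : IsCoatom S := by
    refine ⟨fun h => ?_, fun L hL => ?_⟩
    · exact hmax.1.ne (inf_eq_right.2 (Subgroup.subgroupOf_eq_top.1 h))
    · have h1 : Cfsg.Geo.subspaceStabilizer W ⊓ slP p d ≤ L.map (slP p d).subtype := by
        rw [← Subgroup.subgroupOf_map_subtype]; exact Subgroup.map_mono hL.le
      rcases hmax.2 _ h1 (Subgroup.map_subtype_le L) with h | h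
      · exfalso
        rw [← Subgroup.subgroupOf_map_subtype] at h
        exact hL.ne (Subgroup.map_injective (slP p d).subtype_injective h).symm
      · exact Subgroup.map_injective (slP p d).subtype_injective
          (h.trans ((Subgroup.range_subtype _).symm.trans (MonoidHom.range_eq_map _)))
  let H : Subgroup (aslP p d) := S.map SemidirectProduct.inr
  have hHM : H ≤ M := Subgroup.map_le_range _ _
  let K0 : Subgroup (aslP p d) := S.comap SemidirectProduct.rightHom
  have hK0 : K0 ≠ ⊤ := by
    intro h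
    refine hS.1 ?_
    rw [eq_top_iff]
    intro s _
    have : (SemidirectProduct.inr s : aslP p d) ∈ K0 := h ▸ Subgroup.mem_top _
    simpa [K0] using this
  obtain ⟨K, hK, hK0K⟩ := (eq_top_or_exists_le_coatom K0).resolve_left hK0
  have hHK0 : H ≤ K0 := by
    rintro _ ⟨s, hs, rfl⟩
    simpa [K0] using hs
  have hidx : M.index = p ^ d := by
    have h1 := M.index_mul_card
    rw [SemidirectProduct.card, Nat.card_congr (MonoidHom.ofInjective SemidirectProduct.inr_injective).symm.toEquiv] at h1
    have h2 : Nat.card (Multiplicative (Fin d → ZMod p)) = p ^ d := by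
      rw [Nat.card_congr Multiplicative.toAdd, Nat.card_fun, Nat.card_zmod, Nat.card_fin]
    rw [h2] at h1
    exact Nat.eq_of_mul_eq_mul_right Nat.card_pos h1
  have hM : IsCoatom M := by
    refine ⟨fun h => ?_, fun N hN => ?_⟩
    · rw [h, Subgroup.index_top] at hidx
      have := Nat.one_lt_pow (show d ≠ 0 by omega) (Fact.out : p.Prime).one_lt
      omega
    · obtain ⟨g, hgN, hgM⟩ := SetLike.exists_of_lt hN
      have hv : (SemidirectProduct.inl g.left : aslP p d) ∈ N := by
        have : (SemidirectProduct.inl g.left : aslP p d) = g * (SemidirectProduct.inr g.right)⁻¹ :=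
          eq_mul_inv_of_mul_eq (SemidirectProduct.inl_left_mul_inr_right g)
        rw [this]
        exact mul_mem hgN (inv_mem (hN.le ⟨_, rfl⟩))
      have hg0 : g.left.toAdd ≠ 0 := by
        intro h
        apply hgM
        refine ⟨g.right, ?_⟩
        conv_rhs => rw [← SemidirectProduct.inl_left_mul_inr_right g]
        rw [show g.left = 1 from h, map_one, one_mul]
      have hall : ∀ w : Multiplicative (Fin d → ZMod p), (SemidirectProduct.inl w : aslP p d) ∈ N := by
        intro w
        by_cases hw : w.toAdd = 0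
        · rw [show w = 1 from hw, map_one]; exact one_mem N
        obtain ⟨s, hs⟩ := sl_transitive hd _ _ hg0 hw
        have : (SemidirectProduct.inl w : aslP p d) = SemidirectProduct.inr s * SemidirectProduct.inl g.left * (SemidirectProduct.inr s)⁻¹ := by
          rw [← map_inv SemidirectProduct.inr, ← SemidirectProduct.inl_aut]
          exact congrArg _ hs.symm
        rw [this]
        exact mul_mem (mul_mem (hN.le ⟨_, rfl⟩) hv) (inv_mem (hN.le ⟨_, rfl⟩))
      rw [eq_top_iff]
      intro x _
      rw [← SemidirectProduct.inl_left_mul_inr_right x]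
      exact mul_mem (hall _) (hN.le ⟨_, rfl⟩)
  refine ⟨M, H, K, hM, hidx, hHM, ?_, hK, hHK0.trans hK0K, ?_⟩
  · let e : slP p d ≃* M := MonoidHom.ofInjective SemidirectProduct.inr_injective
    rw [← OrderIso.isCoatom_iff e.comapSubgroup]
    convert hS using 1
    ext s
    show (e s : aslP p d) ∈ H ↔ s ∈ S
    exact Subgroup.mem_map_iff_mem SemidirectProduct.inr_injective
  · intro hco
    have hline : ∀ (s : slP p d), s ∈ S → ∀ v ∈ W, (s.1 : Matrix (Fin d) (Fin d) (ZMod p)) *ᵥ v ∈ W :=
      fun s hs v hv => (hs v).1 hv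
    let K1 : Subgroup (aslP p d) :=
      { carrier := {g | g.left.toAdd ∈ W ∧ g.right ∈ S}
        one_mem' := ⟨W.zero_mem, one_mem S⟩
        mul_mem' := fun {a b} ha hb => ⟨W.add_mem ha.1 (hline _ ha.2 _ hb.1), mul_mem ha.2 hb.2⟩
        inv_mem' := fun {a} ha => ⟨hline _ (inv_mem ha.2) _ (W.neg_mem ha.1), inv_mem ha.2⟩ }
    have hK1 : K1 ≤ K := fun g hg => hK0K hg.2
    have hmemE : (SemidirectProduct.inl (Multiplicative.ofAdd e0) : aslP p d) ∈ K1 :=
      ⟨Submodule.mem_span_singleton_self e0, one_mem S⟩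
    have hlt : H.subgroupOf K < K1.subgroupOf K := by
      refine lt_of_le_of_ne (Subgroup.comap_mono ?_) fun h => ?_
      · rintro _ ⟨s, hs, rfl⟩
        exact ⟨W.zero_mem, hs⟩
      · have h2 : (⟨_, hK1 hmemE⟩ : K) ∈ K1.subgroupOf K := hmemE
        rw [← h] at h2
        obtain ⟨s, -, hs⟩ := h2
        exact he0 (congrArg (fun g : aslP p d => g.left.toAdd) hs).symm
    obtain ⟨u, -, huW⟩ := SetLike.exists_of_lt hW1.lt_top
    have hu : (SemidirectProduct.inl (Multiplicative.ofAdd u) : aslP p d) ∈ K := hK0K (one_mem S)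
    exact huW (Subgroup.subgroupOf_eq_top.1 (hco.2 _ hlt) hu).1

end CfsgLib.Maximal
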