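import Mathlib

/-!
A perfect group with a solvable maximal subgroup of large derived length: the elementary subgroup of
SL(3) over `ZMod (2^k)`, with the preimage of a point stabiliser of SL(3, 2).
-/

set_option autoImplicit false
set_option linter.style.haveILetI false

namespace CfsgLib.Maximal

open Matrix.SpecialLinearGroup
open scoped MatrixGroups Matrix

variable (k : ℕ)

/-- The elementary subgroup of SL(3) over `ZMod (2^k)`. -/
abbrev elem3 : Subgroup (SL(3, ZMod (2 ^ k))) :=
  Subgroup.closure {g | ∃ (i j : Fin 3) (h : i ≠ j) (a : ZMod (2 ^ k)), g = transvection h a}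

variable {k}

/-- An elementary matrix as an element of the elementary subgroup. -/
def et {i j : Fin 3} (h : i ≠ j) (a : ZMod (2 ^ k)) : elem3 k :=
  ⟨transvection h a, Subgroup.subset_closure ⟨i, j, h, a, rfl⟩⟩

open scoped commutatorElement in
lemma et_comm {i j l : Fin 3} (hij : i ≠ j) (hjl : j ≠ l) (hil : i ≠ l) (a b : ZMod (2 ^ k)) :
    ⁅et hij a, et hjl b⁆ = et hil (a * b) := by
  refine Subtype.ext ?_
  rw [commutatorElement_def]
  simp only [et, Subgroup.coe_mul, Subgroup.coe_inv, transvection_inv]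
  refine Subtype.ext ?_
  simp only [Matrix.SpecialLinearGroup.coe_mul, transvection_coe]
  simp only [mul_add, add_mul, one_mul, mul_one, Matrix.single_mul_single_same,
    Matrix.single_mul_single_of_ne _ _ _ _ hij.symm, Matrix.single_mul_single_of_ne _ _ _ _ hjl.symm,
    Matrix.single_mul_single_of_ne _ _ _ _ hil.symm, zero_mul, mul_zero, add_zero, zero_add]
  ext x y
  simp only [Matrix.add_apply, Matrix.single_apply]
  split_ifs <;> ring

theorem elem3_perfect : commutator (elem3 k) = ⊤ := by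
  rw [eq_top_iff, ← Subgroup.closure_closure_coe_preimage (k := {g : SL(3, ZMod (2 ^ k)) |
    ∃ (i j : Fin 3) (h : i ≠ j) (a : ZMod (2 ^ k)), g = transvection h a}), Subgroup.closure_le]
  rintro ⟨g, hg⟩ ⟨i, j, h, a, rfl⟩
  obtain ⟨l, hil, hlj⟩ : ∃ l : Fin 3, i ≠ l ∧ l ≠ j :=
    (show ∀ i j : Fin 3, ∃ l : Fin 3, i ≠ l ∧ l ≠ j by decide) i j
  have : (⟨transvection h a, hg⟩ : elem3 k) = et h (a * 1) := Subtype.ext (by rw [mul_one]; rfl)
  show _ ∈ commutator (elem3 k)
  rw [this, ← et_comm hil hlj h a 1, commutator_def]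
  exact Subgroup.commutator_mem_commutator (Subgroup.mem_top _) (Subgroup.mem_top _)

variable (hk : 1 ≤ k)

/-- Reduction modulo 2. -/
def red3 : elem3 k →* SL(3, ZMod 2) :=
  (Matrix.SpecialLinearGroup.map (ZMod.castHom (dvd_pow_self 2 (by omega : k ≠ 0)) (ZMod 2))).comp
    (elem3 k).subtype

lemma red3_et {i j : Fin 3} (h : i ≠ j) (a : ZMod (2 ^ k)) :
    red3 hk (et h a) = transvection h (ZMod.castHom (dvd_pow_self 2 (by omega : k ≠ 0)) (ZMod 2) a) := by
  refine Subtype.ext ?_
  ext x y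
  show ZMod.castHom (dvd_pow_self 2 (by omega : k ≠ 0)) (ZMod 2) ((transvection h a).1 x y) = _
  simp only [transvection_coe, Matrix.add_apply, Matrix.one_apply, Matrix.single_apply]
  split_ifs <;> simp only [map_add, map_one, map_zero]

lemma red3_surjective : Function.Surjective (red3 hk) := by
  intro g
  refine Matrix.SpecialLinearGroup.diagonal_transvection_induction'
    (P := fun g => g ∈ (red3 hk).range) g ?_ ?_ (fun A B => mul_mem)
  · intro i j hij c hc
    have : c = 1 := by revert c; decide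
    subst this
    have : diag2n hij (1 : ZMod 2) one_ne_zero = 1 := by
      refine Subtype.ext ?_
      rw [diag2n_coe]
      ext x y
      simp [Matrix.diagonal_apply, Matrix.one_apply]
    exact this ▸ one_mem _
  · intro i j hij a
    obtain ⟨b, rfl⟩ := ZMod.ringHom_surjective (ZMod.castHom (dvd_pow_self 2 (by omega : k ≠ 0)) (ZMod 2)) a
    exact ⟨et hij b, red3_et hk hij b⟩

/-- The stabiliser of the first basis vector in SL(3, 2). -/
def stab2 : Subgroup (SL(3, ZMod 2)) :=
  MulAction.stabilizer (SL(3, ZMod 2)) (Pi.single 0 1 : Fin 3 → ZMod 2)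

lemma stab2_index : stab2.index = 7 := by
  rw [stab2, MulAction.index_stabilizer]
  have horb : MulAction.orbit (SL(3, ZMod 2)) (Pi.single 0 1 : Fin 3 → ZMod 2) = {v | v ≠ 0} := by
    ext v
    constructor
    · rintro ⟨g, rfl⟩ h
      have h2 := congrArg (g⁻¹ • ·) h
      simp only [inv_smul_smul, smul_zero] at h2
      have := congrFun h2 0
      simp at this
    · intro hv
      -- a matrix with first column `v`
      have key : ∀ v : Fin 3 → ZMod 2, v ≠ 0 → ∃ (x y : Fin 3),
          Matrix.det (Matrix.of fun i j => (![v, Pi.single x 1, Pi.single y 1] : Fin 3 → Fin 3 → ZMod 2) j i) = 1 := by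
        decide
      obtain ⟨x, y, hxy⟩ := key v hv
      refine ⟨⟨_, hxy⟩, ?_⟩
      show (Matrix.of _) *ᵥ _ = v
      ext i
      simp
  rw [horb, Set.ncard_eq_toFinset_card']
  decide

lemma stab2_solvable : Group.IsSolvable stab2 := by
  have hcol : ∀ g : stab2, (g.1.1 0 0 = 1 ∧ g.1.1 1 0 = 0 ∧ g.1.1 2 0 = 0) := by
    intro g
    have h : g.1.1 *ᵥ (Pi.single 0 1 : Fin 3 → ZMod 2) = Pi.single 0 1 := g.2
    refine ⟨?_, ?_, ?_⟩
    · simpa using congrFun h 0
    · simpa using congrFun h 1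
    · simpa using congrFun h 2
  let φ : stab2 →* SL(2, ZMod 2) :=
    { toFun := fun g => ⟨!![g.1.1 1 1, g.1.1 1 2; g.1.1 2 1, g.1.1 2 2], by
        obtain ⟨h0, h1, h2⟩ := hcol g
        have hd := g.1.2
        rw [Matrix.det_fin_three, h0, h1, h2] at hd
        rw [Matrix.det_fin_two_of]
        linear_combination hd⟩
      map_one' := Subtype.ext (by simp [Matrix.one_fin_two])
      map_mul' := fun g h => Subtype.ext (by
        obtain ⟨g0, g1, g2⟩ := hcol g
        simp only [Matrix.SpecialLinearGroup.coe_mul, Subgroup.coe_mul, Matrix.mul_apply, Fin.sum_univ_three, g1, g2, zero_mul, zero_add]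
        exact (Matrix.mul_fin_two _ _ _ _ _ _ _ _).symm) }
  haveI : IsMulCommutative φ.ker := by
    refine ⟨⟨fun a b => Subtype.ext (Subtype.ext (Subtype.ext ?_))⟩⟩
    have hb : ∀ a : φ.ker, a.1.1.1 1 1 = 1 ∧ a.1.1.1 1 2 = 0 ∧ a.1.1.1 2 1 = 0 ∧ a.1.1.1 2 2 = 1 := by
      intro a
      have h := congrArg Subtype.val a.2
      refine ⟨?_, ?_, ?_, ?_⟩
      · exact congrFun (congrFun h 0) 0
      · exact congrFun (congrFun h 0) 1
      · exact congrFun (congrFun h 1) 0
      · exact congrFun (congrFun h 1) 1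
    obtain ⟨a0, a1, a2⟩ := hcol a.1
    obtain ⟨b0, b1, b2⟩ := hcol b.1
    obtain ⟨a3, a4, a5, a6⟩ := hb a
    obtain ⟨b3, b4, b5, b6⟩ := hb b
    show a.1.1.1 * b.1.1.1 = b.1.1.1 * a.1.1.1
    ext i j
    fin_cases i <;> fin_cases j <;>
      simp [Matrix.mul_apply, Fin.sum_univ_three, a0, a1, a2, b0, b1, b2, a3, a4, a5, a6, b3, b4, b5, b6, add_comm]
  haveI : Group.IsSolvable φ.ker :=
    Group.isSolvable_of_comm fun a b => mul_comm' a b
  haveI : IsZGroup (SL(2, ZMod 2)) := IsZGroup.of_squarefree (by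
    have h : Nat.card (SL(2, ZMod 2)) = 6 := by
      rw [Nat.card_eq_fintype_card]; decide
    rw [h, show (6 : ℕ) = 2 * 3 from rfl]
    exact Nat.squarefree_mul_iff.2 ⟨by decide, Nat.prime_two.squarefree, Nat.prime_three.squarefree⟩)
  exact Group.isSolvable_of_ker_le_range φ.ker.subtype φ (by rw [Subgroup.range_subtype])

/-- The solvable maximal subgroup. -/
def bigH : Subgroup (elem3 k) := stab2.comap (red3 hk)

theorem bigH_coatom : IsCoatom (bigH hk) := by
  have hidx : (bigH hk).index = 7 := by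
    rw [bigH, Subgroup.index_comap_of_surjective _ (red3_surjective hk), stab2_index]
  refine ⟨fun h => by simp [h] at hidx, fun L hL => ?_⟩
  have h1 := Subgroup.index_dvd_of_le hL.le
  rw [hidx] at h1
  rcases (Nat.dvd_prime (by norm_num)).1 h1 with h | h
  · exact Subgroup.index_eq_one.1 h
  · exfalso
    refine hL.ne ?_
    have hr := Subgroup.relIndex_mul_index hL.le
    rw [h, hidx] at hr
    exact le_antisymm hL.le (Subgroup.relIndex_eq_one.1 (by omega))

theorem bigH_solvable : Group.IsSolvable (bigH hk) := by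
  haveI := stab2_solvable
  let ψ : bigH hk →* stab2 := ((red3 hk).comp (bigH hk).subtype).codRestrict stab2 (fun x => x.2)
  have hp : IsPGroup 2 ψ.ker := by
    intro x
    refine ⟨k, ?_⟩
    have hx : red3 hk x.1.1 = 1 := congrArg Subtype.val x.2
    set A : Matrix (Fin 3) (Fin 3) (ZMod (2 ^ k)) := x.1.1.1.1 with hA
    obtain ⟨B, hB⟩ : ∃ B : Matrix (Fin 3) (Fin 3) (ZMod (2 ^ k)), A = 1 + (2 : ℕ) • B := by
      have hdiv : ∀ i j, ∃ b : ZMod (2 ^ k), A i j - (1 : Matrix (Fin 3) (Fin 3) (ZMod (2 ^ k))) i j = 2 * b := by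
        intro i j
        have h := congrFun (congrFun (congrArg Subtype.val hx) i) j
        set c := A i j - (1 : Matrix (Fin 3) (Fin 3) (ZMod (2 ^ k))) i j with hc
        have hc0 : ZMod.castHom (dvd_pow_self 2 (by omega : k ≠ 0)) (ZMod 2) c = 0 := by
          rw [hc, map_sub, sub_eq_zero]
          refine h.trans ?_
          rw [Matrix.SpecialLinearGroup.coe_one, Matrix.one_apply, Matrix.one_apply]
          split_ifs
          · exact (map_one (ZMod.castHom (dvd_pow_self 2 (by omega : k ≠ 0)) (ZMod 2))).symm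
          · exact (map_zero (ZMod.castHom (dvd_pow_self 2 (by omega : k ≠ 0)) (ZMod 2))).symm
        obtain ⟨n, hn⟩ := ZMod.natCast_zmod_surjective (n := 2 ^ k) c
        rw [← hn, map_natCast, ZMod.natCast_eq_zero_iff_even] at hc0
        obtain ⟨m, rfl⟩ := hc0
        exact ⟨(m : ZMod (2 ^ k)), by rw [← hn]; push_cast; ring⟩
      choose b hb using hdiv
      refine ⟨Matrix.of b, ?_⟩
      ext i j
      rw [Matrix.add_apply, Matrix.smul_apply, Matrix.of_apply, two_nsmul]
      linear_combination hb i j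
    have hpow : ∀ m : ℕ, ∃ C : Matrix (Fin 3) (Fin 3) (ZMod (2 ^ k)), A ^ 2 ^ m = 1 + (2 ^ (m + 1) : ℕ) • C := by
      intro m
      induction m with
      | zero => exact ⟨B, by simpa using hB⟩
      | succ m ih =>
        obtain ⟨C, hC⟩ := ih
        refine ⟨C + (2 ^ m : ℕ) • (C * C), ?_⟩
        rw [pow_succ (2 : ℕ) m, pow_mul, hC, pow_two, mul_add, mul_one, add_mul, one_mul,
          smul_mul_assoc, mul_smul_comm, smul_smul, smul_add, smul_smul]
        rw [show (2 : ℕ) ^ (m + 1 + 1) = 2 ^ (m + 1) + 2 ^ (m + 1) by ring, add_smul]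
        rw [show ((2 : ℕ) ^ (m + 1) + 2 ^ (m + 1)) * 2 ^ m = 2 ^ (m + 1) * 2 ^ (m + 1) by ring]
        abel
    obtain ⟨C, hC⟩ := hpow k
    have hzero : ((2 ^ (k + 1) : ℕ)) • C = 0 := by
      rw [← Nat.cast_smul_eq_nsmul (ZMod (2 ^ k))]
      have : ((2 ^ (k + 1) : ℕ) : ZMod (2 ^ k)) = 0 := (ZMod.natCast_eq_zero_iff _ _).2 ⟨2, pow_succ 2 k⟩
      rw [this, zero_smul]
    rw [hzero, add_zero] at hC
    refine Subtype.ext (Subtype.ext (Subtype.ext (Subtype.ext ?_)))
    simpa using hC
  haveI := hp.isNilpotent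
  haveI : Group.IsSolvable ψ.ker := inferInstance
  exact Group.isSolvable_of_ker_le_range ψ.ker.subtype ψ (by rw [Subgroup.range_subtype])

theorem et_mem_bigH {i j : Fin 3} (h : i ≠ j) (a : ZMod (2 ^ k)) : et h (2 * a) ∈ bigH hk := by
  show red3 hk (et h (2 * a)) ∈ stab2
  rw [red3_et, map_mul, map_ofNat, show (2 : ZMod 2) = 0 by decide, zero_mul, transvection_coeff_zero]
  exact one_mem _

open scoped commutatorElement in
theorem et_mem_derived (d : ℕ) : ∀ {i j : Fin 3} (h : i ≠ j) (a : ZMod (2 ^ k)),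
    et h ((2 : ZMod (2 ^ k)) ^ (2 ^ d) * a) ∈ (derivedSeries (bigH hk) d).map (bigH hk).subtype := by
  induction d with
  | zero =>
    intro i j h a
    rw [derivedSeries_zero, ← MonoidHom.range_eq_map, Subgroup.range_subtype, pow_zero, pow_one]
    exact et_mem_bigH hk h a
  | succ d ih =>
    intro i j h a
    obtain ⟨l, hil, hlj⟩ : ∃ l : Fin 3, i ≠ l ∧ l ≠ j := by
      revert i j; decide
    rw [derivedSeries_succ, Subgroup.map_commutator]
    have := Subgroup.commutator_mem_commutator (ih hil a) (ih hlj 1)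
    rw [et_comm hil hlj h] at this
    convert this using 2
    rw [pow_succ, pow_mul]; ring

theorem bigH_derived (d : ℕ) (hd : 2 ^ d < k) : derivedSeries (bigH hk) d ≠ ⊥ := by
  intro h
  have h1 := et_mem_derived hk d (show (0 : Fin 3) ≠ 1 by decide) 1
  rw [h, Subgroup.map_bot, Subgroup.mem_bot] at h1
  have h2 := congrFun (congrFun (congrArg (fun g : elem3 k => (g.1 : Matrix (Fin 3) (Fin 3) (ZMod (2 ^ k)))) h1) 0) 1
  simp [et, transvection_coe] at h2
  have h3 : ((2 ^ 2 ^ d : ℕ) : ZMod (2 ^ k)) = 0 := by push_cast; exact h2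
  rw [ZMod.natCast_eq_zero_iff] at h3
  have := (Nat.pow_dvd_pow_iff_le_right (by norm_num)).1 h3
  omega

end CfsgLib.Maximal
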