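import Mathlib

/-!
Counting fixed points: derangements in transitive groups.
-/

set_option autoImplicit false

namespace CfsgLib.Maximal

open MulAction

variable {G Ω : Type*} [Group G] [MulAction G Ω]

/-- The sum over the group of the fixed point numbers equals the sum of stabiliser orders. -/
lemma sum_fixed_eq_sum_stab [Fintype G] [Fintype Ω] :
    ∑ g : G, Nat.card (fixedBy Ω g) = ∑ ω : Ω, Nat.card (stabilizer G ω) := by
  classical
  have h1 : ∀ g : G, Nat.card (fixedBy Ω g) = ∑ ω : Ω, if g • ω = ω then 1 else 0 := by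
    intro g
    rw [Nat.card_eq_fintype_card, Finset.sum_boole, Fintype.card_subtype]
    simp [mem_fixedBy]
  have h2 : ∀ ω : Ω, Nat.card (stabilizer G ω) = ∑ g : G, if g • ω = ω then 1 else 0 := by
    intro ω
    rw [Nat.card_eq_fintype_card, Finset.sum_boole, Fintype.card_subtype]
    simp [mem_stabilizer_iff]
  simp_rw [h1, h2]
  exact Finset.sum_comm

/-- A Sylow subgroup of a transitive group has orbits of length divisible by the p-part of the degree. -/
lemma dvd_card_orbit_sylow [Finite G] [Fintype Ω] [IsPretransitive G Ω] {p k : ℕ} [hp : Fact p.Prime]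
    (hk : p ^ k ∣ Fintype.card Ω) (P : Sylow p G) (ω : Ω) :
    p ^ k ∣ Nat.card (orbit (P : Subgroup G) ω) := by
  have h1 : Nat.card (orbit (P : Subgroup G) ω) * Nat.card (stabilizer (P : Subgroup G) ω) = Nat.card (P : Subgroup G) := by
    have := (stabilizer (P : Subgroup G) ω).index_mul_card
    rwa [index_stabilizer, ← Nat.card_coe_set_eq] at this
  have h2 : Nat.card (stabilizer G ω) * Fintype.card Ω = Nat.card G := by
    rw [← Nat.card_eq_fintype_card, ← index_stabilizer_of_transitive G ω, Subgroup.card_mul_index]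
  have hle : Nat.card (stabilizer (P : Subgroup G) ω) ∣ Nat.card (stabilizer G ω) := by
    refine Subgroup.card_dvd_of_injective
      (((P : Subgroup G).subtype.comp (stabilizer (P : Subgroup G) ω).subtype).codRestrict _ fun x => x.2) ?_
    intro x y h
    exact Subtype.ext (Subtype.ext (congrArg (fun z : stabilizer G ω => (z : G)) h))
  obtain ⟨a, ha⟩ := P.2.exists_card_eq
  obtain ⟨b, -, hb⟩ := (Nat.dvd_prime_pow hp.out).1 (ha ▸ Subgroup.card_subgroup_dvd_card (stabilizer (P : Subgroup G) ω))
  obtain ⟨c, -, hc⟩ := (Nat.dvd_prime_pow hp.out).1 (ha ▸ Dvd.intro _ h1)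
  have h3 : p ^ (b + k) ∣ Nat.card G := by
    rw [pow_add, ← h2]; exact mul_dvd_mul (hb ▸ hle) hk
  have h4 : b + k ≤ a := by
    have hG : Nat.card G ≠ 0 := Nat.card_pos.ne'
    have := (hp.out.pow_dvd_iff_le_factorization hG).1 h3
    have ha2 := P.card_eq_multiplicity
    rw [ha] at ha2
    have := Nat.pow_right_injective hp.out.two_le ha2
    omega
  rw [hc]
  apply pow_dvd_pow
  have : p ^ (c + b) = p ^ a := by rw [pow_add, ← hc, ← hb, h1, ha]
  have := Nat.pow_right_injective hp.out.two_le this
  omega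

theorem exists_derangement_prime_pow [Finite G] [FaithfulSMul G Ω] [Fintype Ω] [IsPretransitive G Ω]
    (p k : ℕ) (hp : p.Prime) (hk : 1 ≤ k) (hΩ : Fintype.card Ω = p ^ k) :
    ∃ g : G, orderOf g = p ∧ ∀ ω : Ω, g • ω ≠ ω := by
  haveI := Fact.mk hp
  obtain ⟨P⟩ : Nonempty (Sylow p G) := inferInstance
  have horb : ∀ ω : Ω, orbit (P : Subgroup G) ω = Set.univ := by
    intro ω
    apply Set.eq_univ_of_forall
    have h1 := dvd_card_orbit_sylow (p := p) (k := k) (dvd_of_eq hΩ.symm) P ω
    have h2 : Nat.card (orbit (P : Subgroup G) ω) ≤ p ^ k := by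
      rw [← hΩ, ← Nat.card_eq_fintype_card]; exact Finite.card_subtype_le _
    have h3 : 0 < Nat.card (orbit (P : Subgroup G) ω) := by
      haveI : Nonempty (orbit (P : Subgroup G) ω) := ⟨⟨ω, mem_orbit_self ω⟩⟩
      exact Nat.card_pos
    have h4 := le_antisymm h2 (Nat.le_of_dvd h3 h1)
    have : orbit (P : Subgroup G) ω = Set.univ := by
      apply Set.eq_of_subset_of_ncard_le (Set.subset_univ _)
      rw [Set.ncard_univ, Nat.card_eq_fintype_card, hΩ, ← Nat.card_coe_set_eq, h4]
    intro x; rw [this]; trivial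
  have hne : Nontrivial (P : Subgroup G) := by
    rcases subsingleton_or_nontrivial (P : Subgroup G) with h | h
    · exfalso
      obtain ⟨ω⟩ : Nonempty Ω := Fintype.card_pos_iff.1 (hΩ ▸ pow_pos hp.pos k)
      have h2 : Fintype.card Ω ≤ 1 := by
        rw [Fintype.card_le_one_iff]
        intro a b
        obtain ⟨x, hx⟩ : b ∈ orbit (P : Subgroup G) a := by rw [horb]; trivial
        rw [← hx, Subsingleton.elim x 1]
        exact (one_smul _ a).symm
      have : p ≤ p ^ k := Nat.le_self_pow (by omega) p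
      have := hp.two_le
      omega
    · exact h
  haveI := P.2.center_nontrivial
  obtain ⟨z, hz⟩ : ∃ z : Subgroup.center (P : Subgroup G), orderOf z = p := by
    have hc := P.2.to_subgroup (Subgroup.center (P : Subgroup G))
    obtain ⟨n, hn⟩ := hc.exists_card_eq
    apply exists_prime_orderOf_dvd_card' p
    rw [hn]
    refine dvd_pow_self p ?_
    rintro rfl
    have := Finite.one_lt_card (α := Subgroup.center (P : Subgroup G))
    rw [hn, pow_zero] at this
    omega
  have hord : orderOf ((z : (P : Subgroup G)) : G) = p := by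
    rw [Subgroup.orderOf_coe, Subgroup.orderOf_coe, hz]
  refine ⟨((z : (P : Subgroup G)) : G), hord, fun ω hω => ?_⟩
  have : ((z : (P : Subgroup G)) : G) = 1 := by
    apply eq_of_smul_eq_smul (α := Ω)
    intro x
    obtain ⟨y, hy⟩ : x ∈ orbit (P : Subgroup G) ω := by rw [horb]; trivial
    have hc : y * (z : (P : Subgroup G)) = (z : (P : Subgroup G)) * y := Subgroup.mem_center_iff.1 z.2 y
    rw [one_smul, ← hy]
    show (z : (P : Subgroup G)) • y • ω = y • ω
    rw [smul_smul, ← hc, mul_smul]
    congr 1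
  rw [this, orderOf_one] at hord
  exact hp.ne_one hord.symm

theorem exists_derangement_mul_prime [Finite G] [FaithfulSMul G Ω] [Fintype Ω] [IsPretransitive G Ω]
    (p m : ℕ) (hp : p.Prime) (hm : 1 ≤ m) (hmp : m ≤ p) (hΩ : Fintype.card Ω = m * p) :
    ∃ g : G, orderOf g = p ∧ ∀ ω : Ω, g • ω ≠ ω := by
  classical
  rcases hmp.eq_or_lt with rfl | hlt
  · exact exists_derangement_prime_pow m 2 hp (by norm_num) (by rw [hΩ, pow_two])
  haveI := Fact.mk hp
  obtain ⟨P⟩ : Nonempty (Sylow p G) := inferInstance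
  have horb : ∀ ω : Ω, Nat.card (orbit (P : Subgroup G) ω) = p := by
    intro ω
    have h1 : p ∣ Nat.card (orbit (P : Subgroup G) ω) := by
      have h := dvd_card_orbit_sylow (p := p) (k := 1) (by rw [pow_one, hΩ]; exact dvd_mul_left p m) P ω
      rwa [pow_one] at h
    obtain ⟨c, hc⟩ := P.2.card_orbit ω
    have h2 : Nat.card (orbit (P : Subgroup G) ω) ≤ m * p := by
      rw [← hΩ, ← Nat.card_eq_fintype_card]; exact Finite.card_subtype_le _
    rw [hc] at h1 h2 ⊢
    have hc1 : c ≠ 0 := by
      rintro rfl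
      rw [pow_zero] at h1
      have := Nat.le_of_dvd (by norm_num) h1
      have := hp.two_le
      omega
    by_contra hne
    have h3 : p ^ 2 ≤ p ^ c := by
      apply Nat.pow_le_pow_right hp.pos
      rcases c with _ | _ | c <;> simp_all
    have h4 : m * p < p * p := Nat.mul_lt_mul_of_pos_right hlt hp.pos
    rw [pow_two] at h3
    omega
  have hidx : ∀ ω : Ω, (stabilizer (P : Subgroup G) ω).index = p := by
    intro ω; rw [index_stabilizer, ← Nat.card_coe_set_eq, horb]
  have hnorm : ∀ ω : Ω, (stabilizer (P : Subgroup G) ω).Normal := by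
    intro ω
    haveI : Group.IsNilpotent (P : Subgroup G) := P.2.isNilpotent
    refine Subgroup.normal_of_index_eq_minFac_card ?_
    rw [hidx]
    obtain ⟨a, ha⟩ := P.2.exists_card_eq
    have : a ≠ 0 := by
      rintro rfl
      have h := (stabilizer (P : Subgroup G) ω).index_mul_card
      rw [hidx, ha, pow_zero] at h
      exact hp.ne_one (Nat.eq_one_of_mul_eq_one_right h)
    rw [ha, Nat.pow_minFac this, hp.minFac_eq]
  have hcard : ∀ ω : Ω, p * Nat.card (stabilizer (P : Subgroup G) ω) = Nat.card (P : Subgroup G) := by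
    intro ω
    have := (stabilizer (P : Subgroup G) ω).index_mul_card
    rwa [hidx] at this
  obtain ⟨g, hg⟩ : ∃ g : (P : Subgroup G), ∀ ω : Ω, g • ω ≠ ω := by
    by_contra hcon
    push Not at hcon
    haveI := Fintype.ofFinite (P : Subgroup G)
    have hge : ∀ g : (P : Subgroup G), p ≤ Nat.card (fixedBy Ω g) := by
      intro g
      obtain ⟨ω, hω⟩ := hcon g
      refine (horb ω).symm.le.trans ?_
      apply Nat.card_mono (Set.toFinite _)
      rintro x ⟨y, rfl⟩
      have h := (hnorm ω).conj_mem g (mem_stabilizer_iff.2 hω) y⁻¹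
      rw [mem_stabilizer_iff, inv_inv, mul_smul, mul_smul, inv_smul_eq_iff] at h
      exact h
    have h1 : p * Nat.card (P : Subgroup G) ≤ ∑ g : (P : Subgroup G), Nat.card (fixedBy Ω g) := by
      rw [Nat.card_eq_fintype_card, ← Finset.card_univ, mul_comm, ← smul_eq_mul]
      exact Finset.card_nsmul_le_sum _ _ _ fun g _ => hge g
    have h2 : p * ∑ g : (P : Subgroup G), Nat.card (fixedBy Ω g) = (m * p) * Nat.card (P : Subgroup G) := by
      rw [sum_fixed_eq_sum_stab, Finset.mul_sum]
      simp_rw [hcard]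
      rw [Finset.sum_const, Finset.card_univ, hΩ, smul_eq_mul]
    have hpos : 0 < Nat.card (P : Subgroup G) := Nat.card_pos
    have h3 : p * (p * Nat.card (P : Subgroup G)) ≤ m * p * Nat.card (P : Subgroup G) := by
      rw [← h2]; exact Nat.mul_le_mul_left p h1
    have h4 : m * p * Nat.card (P : Subgroup G) < p * (p * Nat.card (P : Subgroup G)) := by
      rw [mul_assoc]
      exact Nat.mul_lt_mul_of_pos_right hlt (mul_pos hp.pos hpos)
    omega
  have hgp : g ^ p = 1 := by
    apply eq_of_smul_eq_smul (α := Ω)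
    intro x
    haveI := hnorm x
    rw [one_smul]
    have h := (stabilizer (P : Subgroup G) x).pow_index_mem g
    rw [hidx] at h
    exact h
  refine ⟨(g : G), ?_, hg⟩
  rw [Subgroup.orderOf_coe]
  refine orderOf_eq_prime hgp ?_
  rintro rfl
  obtain ⟨ω⟩ : Nonempty Ω := Fintype.card_pos_iff.1 (hΩ ▸ mul_pos (by omega) hp.pos)
  exact hg ω (one_smul _ ω)

/-- A transitive group of degree `n ≥ 3` has more than `|G|/n` derangements, unless it is sharply 2-transitive. -/
theorem derangement_bound [Finite G] [FaithfulSMul G Ω] [Fintype Ω] [htr : IsPretransitive G Ω]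
    (hn : 3 ≤ Fintype.card Ω) :
    (((∃ g : G, g ≠ 1 ∧ ∃ ω : Ω, g • ω = ω) ∧ ∀ g : G, g ≠ 1 → Nat.card (fixedBy Ω g) ≤ 1) ∧
      Nat.card G = Fintype.card Ω * (Fintype.card Ω - 1) ∧
      Fintype.card Ω * Nat.card {g : G // ∀ ω : Ω, g • ω ≠ ω} = Nat.card G) ∨
    Nat.card G < Fintype.card Ω * Nat.card {g : G // ∀ ω : Ω, g • ω ≠ ω} := by
  classical
  haveI := Fintype.ofFinite G
  set n := Fintype.card Ω with hndef
  set f : G → ℕ := fun g => Nat.card (fixedBy Ω g) with hf
  set D := Nat.card {g : G // ∀ ω : Ω, g • ω ≠ ω} with hD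
  have hfle : ∀ g, f g ≤ n := fun g => by
    rw [hndef, ← Nat.card_eq_fintype_card]; exact Finite.card_subtype_le _
  have hf0 : ∀ g, f g = 0 ↔ ∀ ω : Ω, g • ω ≠ ω := by
    intro g
    simp [hf, Finite.card_eq_zero_iff, isEmpty_subtype]
  have hs1 : ∑ g, f g = Fintype.card G := by
    rw [sum_fixed_eq_sum_stab (G := G) (Ω := Ω)]
    obtain ⟨a⟩ : Nonempty Ω := Fintype.card_pos_iff.1 (by omega)
    have hst : ∀ ω : Ω, Nat.card (stabilizer G ω) = Nat.card (stabilizer G a) := by
      intro ω
      obtain ⟨g, rfl⟩ := exists_smul_eq G a ω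
      exact Nat.card_congr (stabilizerEquivStabilizer (g := g) rfl).toEquiv.symm
    simp_rw [hst]
    rw [Finset.sum_const, Finset.card_univ, smul_eq_mul, ← hndef, ← Nat.card_eq_fintype_card (α := G),
      ← Subgroup.card_mul_index (stabilizer G a), index_stabilizer_of_transitive, Nat.card_eq_fintype_card (α := Ω),
      mul_comm]
  have hs2 : 2 * Fintype.card G ≤ ∑ g, f g * f g := by
    have h2 := sum_card_fixedBy_eq_card_orbits_mul_card_group G (Ω × Ω)
    have hff : ∀ g : G, Fintype.card (fixedBy (Ω × Ω) g) = f g * f g := by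
      intro g
      rw [hf, ← Nat.card_eq_fintype_card, ← Nat.card_prod]
      refine Nat.card_congr (Equiv.trans (Equiv.subtypeEquivRight fun x => ?_) Equiv.subtypeProdEquivProd)
      rw [mem_fixedBy, Prod.ext_iff]; rfl
    simp_rw [hff] at h2
    rw [h2]
    refine Nat.mul_le_mul_right _ ?_
    rw [Nat.succ_le_iff, Fintype.one_lt_card_iff_nontrivial]
    obtain ⟨a, b, hab⟩ := Fintype.one_lt_card_iff.1 (show 1 < Fintype.card Ω by omega)
    refine ⟨⟨Quotient.mk'' (a, a), Quotient.mk'' (a, b), fun h => ?_⟩⟩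
    obtain ⟨g, hg⟩ : (a, a) ∈ orbit G (a, b) := orbitRel_apply.1 (Quotient.eq''.1 h)
    simp only [Prod.smul_mk, Prod.mk.injEq] at hg
    exact hab (MulAction.injective g (hg.1.trans hg.2.symm))
  -- pointwise inequality
  have hpt : ∀ g, f g * f g + n ≤ (n + 1) * f g + (if f g = 0 then n else 0) := by
    intro g
    by_cases h : f g = 0
    · simp [h]
    · have := hfle g
      rw [if_neg h]
      have : 1 ≤ f g := Nat.one_le_iff_ne_zero.2 h
      nlinarith
  have hDsum : ∑ g, (if f g = 0 then n else 0) = n * D := by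
    rw [hD, Nat.card_eq_fintype_card, Fintype.card_subtype, Finset.sum_ite, Finset.sum_const_zero,
      add_zero, Finset.sum_const, smul_eq_mul, mul_comm]
    simp_rw [hf0]
  have hsum := Finset.sum_le_sum (s := Finset.univ) fun g _ => hpt g
  simp only [Finset.sum_add_distrib, Finset.sum_const, Finset.card_univ, smul_eq_mul,
    ← Finset.mul_sum, hs1, hDsum] at hsum
  by_cases hgt : Fintype.card G < n * D
  · right; rwa [Nat.card_eq_fintype_card]
  push Not at hgt
  left
  have hex : n * D = Fintype.card G := by nlinarith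
  have heq : ∀ g, f g * f g + n = (n + 1) * f g + (if f g = 0 then n else 0) := by
    have h := (Finset.sum_eq_sum_iff_of_le (s := Finset.univ) fun g _ => hpt g).1 ?_
    · exact fun g => h g (Finset.mem_univ g)
    simp only [Finset.sum_add_distrib, Finset.sum_const, Finset.card_univ, smul_eq_mul,
      ← Finset.mul_sum, hs1, hDsum]
    nlinarith
  have hsmall : ∀ g : G, g ≠ 1 → f g ≤ 1 := by
    intro g hg
    by_contra hc
    have h := heq g
    rw [if_neg (by omega)] at h
    have hfn : f g = n := by nlinarith [hfle g]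
    apply hg
    apply eq_of_smul_eq_smul (α := Ω)
    intro x
    have : fixedBy Ω g = Set.univ := by
      apply Set.eq_of_subset_of_ncard_le (Set.subset_univ _)
      rw [Set.ncard_univ, Nat.card_eq_fintype_card, ← Nat.card_coe_set_eq]
      exact hfn.ge
    have hx : x ∈ fixedBy Ω g := this ▸ Set.mem_univ x
    rw [one_smul]; exact hx
  -- count
  have hpart : ∀ g : G, f g + (if f g = 0 then 1 else 0) = 1 + (if g = 1 then n - 1 else 0) := by
    intro g
    by_cases hg : g = 1
    · subst hg
      have : f 1 = n := by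
        simp [hf, fixedBy_one_eq_univ, Nat.card_eq_fintype_card, hndef]
      rw [this, if_neg (by omega), if_pos rfl]; omega
    · have := hsmall g hg
      rw [if_neg hg]
      by_cases h0 : f g = 0
      · rw [if_pos h0, h0]
      · rw [if_neg h0]; omega
  have hD' : ∑ g, (if f g = 0 then 1 else 0) = D := by
    rw [hD, Nat.card_eq_fintype_card, Fintype.card_subtype, Finset.sum_boole]
    simp [hf0]
  have hcount := Finset.sum_congr (s₁ := Finset.univ) rfl fun g _ => hpart g
  simp only [Finset.sum_add_distrib, hs1, hD', Finset.sum_const, Finset.card_univ, smul_eq_mul,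
    mul_one, Finset.sum_ite_eq', Finset.mem_univ, if_true] at hcount
  have hDn : D = n - 1 := by omega
  refine ⟨⟨?_, hsmall⟩, ?_, ?_⟩
  · by_contra hcon
    push Not at hcon
    have : ∀ g : G, g ≠ 1 → f g = 0 := fun g hg => (hf0 g).2 (hcon g hg)
    have h5 : Fintype.card G = n := by
      rw [← hs1, Finset.sum_eq_single (1 : G) (fun g _ hg => this g hg) (by simp)]
      simp [hf, fixedBy_one_eq_univ, Nat.card_eq_fintype_card, hndef]
    rw [h5, hDn] at hex
    have : n * (n - 1) = n * 1 := by rw [hex, mul_one]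
    have := Nat.eq_of_mul_eq_mul_left (by omega) this
    omega
  · rw [Nat.card_eq_fintype_card, ← hex, hDn]
  · rw [Nat.card_eq_fintype_card, hex]

end CfsgLib.Maximal
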