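import Mathlib

/-!
Irredundant bases and reorderings (IBIS).
-/

set_option autoImplicit false
set_option linter.style.haveILetI false

namespace CfsgLib.Maximal

variable (G : Type*) {Ω : Type*} [Group G] [MulAction G Ω]

/-- An irredundant base. -/
def IsIrrBase {t : ℕ} (f : Fin t → Ω) : Prop :=
  (∀ g : G, (∀ i, g • f i = f i) → g = 1) ∧
    ∀ i, ∃ g : G, (∀ j, j < i → g • f j = f j) ∧ g • f i ≠ f i

/-- An irredundant base set: every point is needed. -/
def IsIndepBase (B : Set Ω) : Prop :=
  (∀ g : G, (∀ b ∈ B, g • b = b) → g = 1) ∧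
    ∀ b ∈ B, ∃ g : G, (∀ c ∈ B, c ≠ b → g • c = c) ∧ g • b ≠ b

variable {G}

lemma IsIrrBase.injective {t : ℕ} {f : Fin t → Ω} (h : IsIrrBase G f) : Function.Injective f := by
  intro a b hab
  by_contra hne
  rcases lt_or_gt_of_ne hne with hlt | hlt
  · obtain ⟨g, h1, h2⟩ := h.2 b
    exact h2 (hab ▸ h1 a hlt)
  · obtain ⟨g, h1, h2⟩ := h.2 a
    exact h2 (hab.symm ▸ h1 b hlt)

/-- A base that is not irredundant has a shorter irredundant base. -/
lemma exists_shorter_irrBase : ∀ (t : ℕ) (f : Fin t → Ω), (∀ g : G, (∀ i, g • f i = f i) → g = 1) →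
    IsIrrBase G f ∨ ∃ (t' : ℕ) (f' : Fin t' → Ω), t' < t ∧ IsIrrBase G f' := by
  intro t
  induction t with
  | zero => intro f hf; exact Or.inl ⟨hf, fun i => i.elim0⟩
  | succ t ih =>
    intro f hf
    by_cases hirr : IsIrrBase G f
    · exact Or.inl hirr
    right
    simp only [IsIrrBase, not_and, not_forall, not_exists] at hirr
    obtain ⟨i, hi⟩ := hirr hf
    have hf' : ∀ g : G, (∀ k, g • (f ∘ i.succAbove) k = (f ∘ i.succAbove) k) → g = 1 := by
      intro g hg
      have hne : ∀ j, j ≠ i → g • f j = f j := by
        intro j hj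
        obtain ⟨k, rfl⟩ := Fin.exists_succAbove_eq hj
        exact hg k
      refine hf g fun j => ?_
      by_cases hj : j = i
      · subst hj; exact not_ne_iff.1 (hi g (fun j' hj' => hne j' hj'.ne))
      · exact hne j hj
    rcases ih _ hf' with h | ⟨t', f', h1, h2⟩
    · exact ⟨t, _, Nat.lt_succ_self t, h⟩
    · exact ⟨t', f', by omega, h2⟩

theorem reorder_of_equal_size
    (hsize : ∀ (t t' : ℕ) (f : Fin t → Ω) (f' : Fin t' → Ω), IsIrrBase G f → IsIrrBase G f' → t = t')
    {t : ℕ} {f : Fin t → Ω} (σ : Equiv.Perm (Fin t)) (hf : IsIrrBase G f) : IsIrrBase G (f ∘ σ) := by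
  have hb : ∀ g : G, (∀ i, g • (f ∘ σ) i = (f ∘ σ) i) → g = 1 :=
    fun g hg => hf.1 g fun i => by simpa using hg (σ.symm i)
  rcases exists_shorter_irrBase t (f ∘ σ) hb with h | ⟨t', f', h1, h2⟩
  · exact h
  · exact absurd (hsize t t' f f' hf h2) (by omega)

lemma IsIrrBase.indep
    (hre : ∀ (t : ℕ) (f : Fin t → Ω) (σ : Equiv.Perm (Fin t)), IsIrrBase G f → IsIrrBase G (f ∘ σ))
    {t : ℕ} {f : Fin t → Ω} (hf : IsIrrBase G f) : IsIndepBase G (Set.range f) := by
  refine ⟨fun g hg => hf.1 g fun i => hg _ ⟨i, rfl⟩, ?_⟩
  rintro _ ⟨i, rfl⟩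
  rcases t with _ | t
  · exact i.elim0
  have h := hre _ f (Equiv.swap i (Fin.last t)) hf
  obtain ⟨g, h1, h2⟩ := h.2 (Fin.last t)
  refine ⟨g, ?_, ?_⟩
  · rintro _ ⟨j, rfl⟩ hji
    have hj : j ≠ i := fun hh => hji (by rw [hh])
    have h3 := h1 (Equiv.swap i (Fin.last t) j) (lt_of_le_of_ne (Fin.le_last _) ?_)
    · simpa using h3
    · intro hh
      apply hj
      have := congrArg (Equiv.swap i (Fin.last t)) hh
      simpa using this
  · simpa using h2

lemma IsIndepBase.irr {B : Finset Ω} (hB : IsIndepBase G (B : Set Ω)) :
    ∃ f : Fin B.card → Ω, IsIrrBase G f ∧ Set.range f = (B : Set Ω) := by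
  let f : Fin B.card → Ω := fun i => (B.equivFin.symm i).1
  have hr : Set.range f = (B : Set Ω) := by
    ext x
    exact ⟨fun ⟨i, hi⟩ => hi ▸ (B.equivFin.symm i).2, fun hx => ⟨B.equivFin ⟨x, hx⟩, by simp [f]⟩⟩
  refine ⟨f, ⟨fun g hg => hB.1 g fun b hb => ?_, fun i => ?_⟩, hr⟩
  · obtain ⟨i, hi⟩ : b ∈ Set.range f := by rw [hr]; exact hb
    exact hi ▸ hg i
  · obtain ⟨g, h1, h2⟩ := hB.2 (f i) (B.equivFin.symm i).2
    exact ⟨g, fun j hj => h1 _ (B.equivFin.symm j).2 fun h => hj.ne (B.equivFin.symm.injective (Subtype.ext h)), h2⟩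

theorem equal_size_of_reorder
    (hre : ∀ (t : ℕ) (f : Fin t → Ω) (σ : Equiv.Perm (Fin t)), IsIrrBase G f → IsIrrBase G (f ∘ σ))
    {t t' : ℕ} {f : Fin t → Ω} {f' : Fin t' → Ω} (hf : IsIrrBase G f) (hf' : IsIrrBase G f') : t = t' := by
  classical
  suffices key : ∀ (k : ℕ) (A B : Finset Ω), IsIndepBase G (A : Set Ω) → IsIndepBase G (B : Set Ω) →
      (A \ B).card = k → A.card = B.card by
    have h := key _ (Finset.univ.image f) (Finset.univ.image f') (by simpa using hf.indep hre)
      (by simpa using hf'.indep hre) rfl
    rwa [Finset.card_image_of_injective _ hf.injective, Finset.card_image_of_injective _ hf'.injective,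
      Finset.card_fin, Finset.card_fin] at h
  intro k
  induction k using Nat.strong_induction_on with
  | _ k ih =>
    intro A B hA hB hk
    by_cases hsub : A ⊆ B
    · congr 1
      refine Finset.Subset.antisymm hsub fun b hb => ?_
      by_contra hbA
      obtain ⟨g, h1, h2⟩ := hB.2 b hb
      have hg1 : g = 1 := hA.1 g fun a ha => h1 a (hsub ha) (fun h => hbA (h ▸ ha))
      exact h2 (by rw [hg1, one_smul])
    obtain ⟨x, hxA, hxB⟩ := Finset.not_subset.1 hsub
    obtain ⟨g₀, hg₀, hg₀x⟩ := hA.2 x hxA
    obtain ⟨b, hbB, hg₀b⟩ : ∃ b ∈ B, g₀ • b ≠ b := by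
      by_contra hc
      push Not at hc
      exact hg₀x (by rw [hB.1 g₀ hc, one_smul])
    have hbA' : b ∉ A.erase x := fun h =>
      hg₀b (hg₀ b (Finset.mem_of_mem_erase h) (Finset.ne_of_mem_erase h))
    have hbx : b ≠ x := fun h => hxB (h ▸ hbB)
    set A' := insert b (A.erase x) with hA'
    have hbase : ∀ g : G, (∀ a ∈ A', g • a = a) → g = 1 := by
      by_contra hc
      push Not at hc
      obtain ⟨g₁, hg₁, hne⟩ := hc
      -- list the points in the order: others, b, x
      let oth : Fin (A.erase x).card → Ω := fun i => ((A.erase x).equivFin.symm i).1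
      let F : Fin ((A.erase x).card + 1 + 1) → Ω := Fin.snoc (Fin.snoc oth b) x
      have hoth : ∀ a ∈ A.erase x, ∃ i, oth i = a :=
        fun a ha => ⟨(A.erase x).equivFin ⟨a, ha⟩, by simp [oth]⟩
      have hF : IsIrrBase G F := by
        refine ⟨fun g hg => hA.1 g fun a ha => ?_, fun i => ?_⟩
        · by_cases hax : a = x
          · subst hax; simpa [F] using hg (Fin.last _)
          · obtain ⟨i, rfl⟩ := hoth a (Finset.mem_erase.2 ⟨hax, ha⟩)
            simpa [F] using hg i.castSucc.castSucc
        · induction i using Fin.lastCases with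
          | last =>
            refine ⟨g₁, fun j hj => ?_, ?_⟩
            · induction j using Fin.lastCases with
              | last => exact absurd hj (lt_irrefl _)
              | cast j =>
                induction j using Fin.lastCases with
                | last => simpa [F] using hg₁ b (Finset.mem_insert_self _ _)
                | cast j => simpa [F, oth] using hg₁ _ (Finset.mem_insert_of_mem ((A.erase x).equivFin.symm j).2)
            · simp only [F, Fin.snoc_last]
              intro hx
              apply hne
              refine hA.1 g₁ fun a ha => ?_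
              by_cases hax : a = x
              · subst hax; exact hx
              · exact hg₁ a (Finset.mem_insert_of_mem (Finset.mem_erase.2 ⟨hax, ha⟩))
          | cast i =>
            induction i using Fin.lastCases with
            | last =>
              refine ⟨g₀, fun j hj => ?_, by simpa [F] using hg₀b⟩
              induction j using Fin.lastCases with
              | last => exact absurd hj (not_lt.2 (Fin.le_last _))
              | cast j =>
                induction j using Fin.lastCases with
                | last => exact absurd hj (lt_irrefl _)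
                | cast j =>
                  have hm := ((A.erase x).equivFin.symm j).2
                  simpa [F, oth] using hg₀ _ (Finset.mem_of_mem_erase hm) (Finset.ne_of_mem_erase hm)
            | cast i =>
              have hm := ((A.erase x).equivFin.symm i).2
              obtain ⟨g, h1, h2⟩ := hA.2 _ (Finset.mem_of_mem_erase hm)
              refine ⟨g, fun j hj => ?_, by simpa [F, oth] using h2⟩
              induction j using Fin.lastCases with
              | last => exact absurd hj (not_lt.2 (Fin.le_last _))
              | cast j =>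
                induction j using Fin.lastCases with
                | last =>
                  exact absurd hj (not_lt.2 (Fin.castSucc_le_castSucc_iff.2 (Fin.le_last _)))
                | cast j =>
                  have hm' := ((A.erase x).equivFin.symm j).2
                  have hji : j ≠ i := fun h => hj.ne (by rw [h])
                  simpa [F, oth] using h1 _ (Finset.mem_of_mem_erase hm')
                    (fun h => hji ((A.erase x).equivFin.symm.injective (Subtype.ext h)))
      obtain ⟨g, h1, h2⟩ := (hF.indep hre).2 b ⟨(Fin.last _).castSucc, by simp [F]⟩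
      have hg1 : g = 1 := hA.1 g fun a ha => by
        by_cases hax : a = x
        · subst hax; exact h1 a ⟨Fin.last _, by simp [F]⟩ hbx.symm
        · obtain ⟨i, hi⟩ := hoth a (Finset.mem_erase.2 ⟨hax, ha⟩)
          refine h1 a ⟨i.castSucc.castSucc, by simpa [F] using hi⟩ ?_
          intro h; exact hbA' (h ▸ Finset.mem_erase.2 ⟨hax, ha⟩)
      exact h2 (by rw [hg1, one_smul])
    -- the new set is an independent base
    let oth : Fin (A.erase x).card → Ω := fun i => ((A.erase x).equivFin.symm i).1
    have hoth : ∀ a ∈ A.erase x, ∃ i, oth i = a :=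
      fun a ha => ⟨(A.erase x).equivFin ⟨a, ha⟩, by simp [oth]⟩
    have hF : IsIrrBase G (Fin.snoc oth b : Fin ((A.erase x).card + 1) → Ω) := by
      refine ⟨fun g hg => hbase g fun a ha => ?_, fun i => ?_⟩
      · rcases Finset.mem_insert.1 ha with rfl | ha
        · simpa using hg (Fin.last _)
        · obtain ⟨i, rfl⟩ := hoth a ha
          simpa using hg i.castSucc
      · induction i using Fin.lastCases with
        | last =>
          refine ⟨g₀, fun j hj => ?_, by simpa using hg₀b⟩
          induction j using Fin.lastCases with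
          | last => exact absurd hj (lt_irrefl _)
          | cast j =>
            have hm := ((A.erase x).equivFin.symm j).2
            simpa [oth] using hg₀ _ (Finset.mem_of_mem_erase hm) (Finset.ne_of_mem_erase hm)
        | cast i =>
          have hm := ((A.erase x).equivFin.symm i).2
          obtain ⟨g, h1, h2⟩ := hA.2 _ (Finset.mem_of_mem_erase hm)
          refine ⟨g, fun j hj => ?_, by simpa [oth] using h2⟩
          induction j using Fin.lastCases with
          | last => exact absurd hj (not_lt.2 (Fin.le_last _))
          | cast j =>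
            have hm' := ((A.erase x).equivFin.symm j).2
            have hji : j ≠ i := fun h => hj.ne (by rw [h])
            simpa [oth] using h1 _ (Finset.mem_of_mem_erase hm')
              (fun h => hji ((A.erase x).equivFin.symm.injective (Subtype.ext h)))
    have hrange : Set.range (Fin.snoc oth b : Fin ((A.erase x).card + 1) → Ω) = (A' : Set Ω) := by
      rw [Fin.range_snoc, hA', Finset.coe_insert]
      congr 1
      ext a
      exact ⟨fun ⟨i, hi⟩ => hi ▸ ((A.erase x).equivFin.symm i).2, fun ha => hoth a ha⟩
    have hA'ind : IsIndepBase G (A' : Set Ω) := hrange ▸ hF.indep hre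
    have hcard : A'.card = A.card := by
      rw [hA', Finset.card_insert_of_notMem hbA', Finset.card_erase_add_one hxA]
    have hlt : (A' \ B).card < k := by
      rw [← hk]
      apply Finset.card_lt_card
      rw [Finset.ssubset_iff_of_subset]
      · exact ⟨x, Finset.mem_sdiff.2 ⟨hxA, hxB⟩, fun h => by
          rcases Finset.mem_insert.1 (Finset.mem_sdiff.1 h).1 with h | h
          · exact hbx h.symm
          · exact Finset.notMem_erase x A h⟩
      · intro a ha
        obtain ⟨h1, h2⟩ := Finset.mem_sdiff.1 ha
        rcases Finset.mem_insert.1 h1 with rfl | h1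
        · exact absurd hbB h2
        · exact Finset.mem_sdiff.2 ⟨Finset.mem_of_mem_erase h1, h2⟩
    rw [← hcard]
    exact ih _ hlt A' B hA'ind hB rfl

end CfsgLib.Maximal
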