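import Mathlib

/-!
Complements in subgroup lattices from a subgroup lying in a unique maximal subgroup.
-/

set_option autoImplicit false
set_option linter.style.haveILetI false
set_option linter.unusedSectionVars false

namespace CfsgLib.Maximal

variable {G : Type*} [Group G] [Finite G]

theorem exists_compl_of_unique_max (T X M : Subgroup G)
    (hTX : T ≤ X)
    (hint : ∀ Y : Subgroup G, T ≤ Y → Y ≤ X → ∃ C : Subgroup G, T ≤ C ∧ C ≤ X ∧ Y ⊔ C = X ∧ Y ⊓ C = T)
    (huniq : ∀ M' : Subgroup G, IsCoatom M' → X ≤ M' → M' = M)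
    (H : Subgroup G) (hH : ¬ H ≤ M) (hHT : H ⊓ T = ⊥) :
    ∃ C : Subgroup G, H ⊔ C = ⊤ ∧ H ⊓ C = ⊥ := by
  obtain ⟨C, hTC, hCX, hsup, hinf⟩ := hint (T ⊔ (H ⊓ X)) le_sup_left (sup_le hTX inf_le_right)
  refine ⟨C, ?_, ?_⟩
  · rcases eq_top_or_exists_le_coatom (H ⊔ C) with h | ⟨M', hM', hle⟩
    · exact h
    · exfalso
      have hX' : X ≤ M' := by
        rw [← hsup]
        exact sup_le (sup_le (hTC.trans (le_sup_right.trans hle)) (inf_le_left.trans (le_sup_left.trans hle)))
          (le_sup_right.trans hle)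
      exact hH ((huniq M' hM' hX') ▸ le_sup_left.trans hle)
  · refine le_bot_iff.1 (le_trans ?_ hHT.le)
    refine le_inf inf_le_left (le_trans ?_ hinf.le)
    exact le_inf (le_trans (le_inf inf_le_left (inf_le_right.trans hCX)) le_sup_right) inf_le_right

/-- Complements are preserved by conjugation. -/
lemma exists_compl_conj (H : Subgroup G) (g : G)
    (h : ∃ C : Subgroup G, H.map (MulAut.conj g).toMonoidHom ⊔ C = ⊤ ∧ H.map (MulAut.conj g).toMonoidHom ⊓ C = ⊥) :
    ∃ C : Subgroup G, H ⊔ C = ⊤ ∧ H ⊓ C = ⊥ := by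
  obtain ⟨C, h1, h2⟩ := h
  refine ⟨(MulAut.conj g).mapSubgroup.symm C, ?_, ?_⟩
  · apply (MulAut.conj g).mapSubgroup.injective
    rw [OrderIso.map_sup, OrderIso.apply_symm_apply, OrderIso.map_top]
    exact h1
  · apply (MulAut.conj g).mapSubgroup.injective
    rw [OrderIso.map_inf, OrderIso.apply_symm_apply, OrderIso.map_bot]
    exact h2

theorem exists_compl_of_core (X M : Subgroup G) (hK : ComplementedLattice (Subgroup X))
    (huniq : ∀ M' : Subgroup G, IsCoatom M' → X ≤ M' → M' = M)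
    (H : Subgroup G) (hH : ¬ H ≤ M.normalCore) :
    ∃ C : Subgroup G, H ⊔ C = ⊤ ∧ H ⊓ C = ⊥ := by
  obtain ⟨h, hh, hh'⟩ := SetLike.not_le_iff_exists.1 hH
  obtain ⟨g, hg⟩ : ∃ g : G, g * h * g⁻¹ ∉ M := by
    by_contra hc
    push Not at hc
    exact hh' hc
  refine exists_compl_conj H g (exists_compl_of_unique_max ⊥ X M bot_le ?_ huniq _ ?_ (inf_bot_eq _))
  · intro Y _ hYX
    obtain ⟨C, hC⟩ := exists_isCompl (Y.subgroupOf X)
    have hY : (Y.subgroupOf X).map X.subtype = Y := by
      rw [Subgroup.subgroupOf_map_subtype, inf_eq_left.2 hYX]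
    refine ⟨C.map X.subtype, bot_le, Subgroup.map_subtype_le C, ?_, ?_⟩
    · rw [← hY, ← Subgroup.map_sup, hC.sup_eq_top, ← MonoidHom.range_eq_map, Subgroup.range_subtype]
    · rw [← hY, ← Subgroup.map_inf _ _ _ X.subtype_injective, hC.inf_eq_bot, Subgroup.map_bot]
  · exact fun hle => hg (hle ⟨h, hh, rfl⟩)

theorem compl_quotient_core (M : Subgroup G)
    (h : ∀ H : Subgroup G, ¬ H ≤ M.normalCore → ∃ C : Subgroup G, H ⊔ C = ⊤ ∧ H ⊓ C = ⊥) :
    ComplementedLattice (Subgroup (G ⧸ M.normalCore)) := by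
  refine ⟨fun H => ?_⟩
  set π := QuotientGroup.mk' M.normalCore with hπ
  have hs : Function.Surjective π := QuotientGroup.mk'_surjective _
  by_cases hle : H.comap π ≤ M.normalCore
  · refine ⟨⊤, ?_⟩
    have : H = ⊥ := by
      rw [eq_bot_iff, ← Subgroup.map_comap_eq_self_of_surjective hs H]
      refine (Subgroup.map_mono hle).trans ?_
      rw [hπ, QuotientGroup.map_mk'_self]
    rw [this]; exact isCompl_bot_top
  obtain ⟨C, h1, h2⟩ := h _ hle
  refine ⟨C.map π, IsCompl.of_eq ?_ ?_⟩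
  · rw [eq_bot_iff]
    rintro x ⟨hxH, c, hc, rfl⟩
    have : c ∈ H.comap π ⊓ C := ⟨hxH, hc⟩
    rw [h2, Subgroup.mem_bot] at this
    rw [this, map_one]; exact one_mem _
  · rw [← Subgroup.map_comap_eq_self_of_surjective hs H, ← Subgroup.map_sup, h1,
      Subgroup.map_top_of_surjective _ hs]

theorem complemented_of_simple [IsSimpleGroup G] (X M N : Subgroup G)
    (hM : IsCoatom M) (hXM : X ≤ M) (huniq : ∀ M' : Subgroup G, IsCoatom M' → X ≤ M' → M' = M)
    (hNX : N ≤ X) (hN : (Nat.card N).Prime) (hcen : ∀ n ∈ N, ∀ m ∈ M, m * n = n * m)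
    [(N.subgroupOf X).Normal] (hK : ComplementedLattice (Subgroup (X ⧸ N.subgroupOf X))) :
    ComplementedLattice (Subgroup G) := by
  refine ⟨fun H => ?_⟩
  by_cases hb : H = ⊥
  · exact ⟨⊤, hb ▸ isCompl_bot_top⟩
  by_cases ht : H = ⊤
  · exact ⟨⊥, ht ▸ isCompl_top_bot⟩
  suffices h : ∃ C : Subgroup G, H ⊔ C = ⊤ ∧ H ⊓ C = ⊥ by
    obtain ⟨C, h1, h2⟩ := h
    exact ⟨C, IsCompl.of_eq h2 h1⟩
  have hNb : N ≠ ⊥ := by
    rintro rfl
    simp [Nat.not_prime_one] at hN
  -- find a conjugate of H outside M and not containing N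
  obtain ⟨g, hgM, hgN⟩ : ∃ g : G, ¬ H.map (MulAut.conj g).toMonoidHom ≤ M ∧
      ¬ N ≤ H.map (MulAut.conj g).toMonoidHom := by
    by_contra hcon
    push Not at hcon
    have hnorm : ∀ g : G, ∀ n ∈ N, g⁻¹ * n * g ∈ Subgroup.normalizer (H : Set G) := by
      intro g n hn
      by_cases hle : H.map (MulAut.conj g).toMonoidHom ≤ M
      · refine Subgroup.centralizer_le_normalizer (H : Set G) ?_
        refine Subgroup.mem_centralizer_iff.2 fun h hh => ?_
        have h1 := hcen n hn _ (hle ⟨h, hh, rfl⟩)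
        simp only [MulEquiv.coe_toMonoidHom, MulAut.conj_apply] at h1
        calc h * (g⁻¹ * n * g) = g⁻¹ * ((g * h * g⁻¹) * n) * g := by group
          _ = g⁻¹ * (n * (g * h * g⁻¹)) * g := by rw [h1]
          _ = (g⁻¹ * n * g) * h := by group
      · obtain ⟨h, hh, hhn⟩ := hcon g hle hn
        simp only [MulEquiv.coe_toMonoidHom, MulAut.conj_apply] at hhn
        refine Subgroup.le_normalizer ?_
        rw [← hhn]
        simpa [mul_assoc] using hh
    have htop : Subgroup.normalizer (H : Set G) = ⊤ := by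
      have hcl : Subgroup.normalClosure (N : Set G) = ⊤ := by
        rcases Subgroup.Normal.eq_bot_or_eq_top (Subgroup.normalClosure_normal (s := (N : Set G))) with h | h
        · exact absurd (le_bot_iff.1 (h ▸ Subgroup.le_normalClosure)) hNb
        · exact h
      rw [eq_top_iff, ← hcl, Subgroup.normalClosure, Subgroup.closure_le]
      intro x hx
      obtain ⟨n, hn, hc⟩ := Group.mem_conjugatesOfSet_iff.1 hx
      obtain ⟨c, rfl⟩ := isConj_iff.1 hc
      simpa using hnorm c⁻¹ n hn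
    haveI : H.Normal := Subgroup.normalizer_eq_top_iff.1 htop
    rcases Subgroup.Normal.eq_bot_or_eq_top (show H.Normal from inferInstance) with h | h
    · exact hb h
    · exact ht h
  refine exists_compl_conj H g (exists_compl_of_unique_max N X M hNX ?_ huniq _ hgM ?_)
  · intro Y hNY hYX
    set π := QuotientGroup.mk' (N.subgroupOf X) with hπ
    have hs : Function.Surjective π := QuotientGroup.mk'_surjective _
    have hker : π.ker = N.subgroupOf X := QuotientGroup.ker_mk' _
    obtain ⟨C, hC⟩ := exists_isCompl ((Y.subgroupOf X).map π)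
    have hY : (Y.subgroupOf X).map X.subtype = Y := by
      rw [Subgroup.subgroupOf_map_subtype, inf_eq_left.2 hYX]
    refine ⟨(C.comap π).map X.subtype, ?_, Subgroup.map_subtype_le _, ?_, ?_⟩
    · intro n hn
      refine ⟨⟨n, hNX hn⟩, Subgroup.ker_le_comap π C ?_, rfl⟩
      rw [hker]; exact hn
    · rw [← hY, ← Subgroup.map_sup]
      have : Y.subgroupOf X ⊔ C.comap π = ⊤ := by
        have hYk : π.ker ≤ Y.subgroupOf X := by rw [hker]; exact fun x hx => hNY hx
        rw [← Subgroup.comap_map_eq_self hYk, Subgroup.comap_sup_eq _ _ _ hs, hC.sup_eq_top, Subgroup.comap_top]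
      rw [this, ← MonoidHom.range_eq_map, Subgroup.range_subtype]
    · rw [← hY, ← Subgroup.map_inf _ _ _ X.subtype_injective]
      have : Y.subgroupOf X ⊓ C.comap π = N.subgroupOf X := by
        have hYk : π.ker ≤ Y.subgroupOf X := by rw [hker]; exact fun x hx => hNY hx
        rw [← Subgroup.comap_map_eq_self hYk, ← Subgroup.comap_inf, hC.inf_eq_bot, MonoidHom.comap_bot, hker]
      rw [this, Subgroup.subgroupOf_map_subtype, inf_eq_left.2 hNX]
  · haveI := Fact.mk hN
    rcases (H.map (MulAut.conj g).toMonoidHom).subgroupOf N |>.eq_bot_or_eq_top_of_prime_card with h | h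
    · rw [Subgroup.subgroupOf_eq_bot, disjoint_iff] at h
      exact h
    · exact absurd (Subgroup.subgroupOf_eq_top.1 h) hgN

end CfsgLib.Maximal
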