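import Mathlib

/-!
Babai's lower bound for the minimal degree of a primitive group.
-/

set_option autoImplicit false
set_option linter.unusedSectionVars false

namespace CfsgLib.Maximal.MinDegree

open Equiv MulAction Finset

variable {Ω : Type*} [Fintype Ω] [DecidableEq Ω] (K : Subgroup (Equiv.Perm Ω))

/-- The pairs `(γ, x)` and `(γ, y)` are conjugate. -/
def SameAt (γ x y : Ω) : Prop := ∃ h ∈ K, h γ = γ ∧ h x = y

theorem SameAt.symm {γ x y : Ω} (h : SameAt K γ x y) : SameAt K γ y x := by
  obtain ⟨g, hg, h1, h2⟩ := h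
  exact ⟨g⁻¹, K.inv_mem hg, by rw [Equiv.Perm.inv_eq_iff_eq, h1], by rw [Equiv.Perm.inv_eq_iff_eq, h2]⟩

theorem SameAt.trans {γ x y z : Ω} (h : SameAt K γ x y) (h' : SameAt K γ y z) : SameAt K γ x z := by
  obtain ⟨g, hg, h1, h2⟩ := h
  obtain ⟨g', hg', h1', h2'⟩ := h'
  exact ⟨g' * g, K.mul_mem hg' hg, by simp [h1, h1'], by simp [h2, h2']⟩

theorem SameAt.map {γ x y : Ω} (h : SameAt K γ x y) {g : Equiv.Perm Ω} (hg : g ∈ K) :
    SameAt K (g γ) (g x) (g y) := by
  obtain ⟨u, hu, h1, h2⟩ := h
  exact ⟨g * u * g⁻¹, K.mul_mem (K.mul_mem hg hu) (K.inv_mem hg), by simp [h1], by simp [h2]⟩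

open Classical in
/-- The points distinguishing two points. -/
noncomputable def Dist (x y : Ω) : Finset Ω := univ.filter fun γ => ¬ SameAt K γ x y

theorem mem_dist {γ x y : Ω} : γ ∈ Dist K x y ↔ ¬ SameAt K γ x y := by simp [Dist]

theorem dist_comm (x y : Ω) : Dist K x y = Dist K y x := by
  ext γ; simp only [mem_dist]; exact not_congr ⟨SameAt.symm K, SameAt.symm K⟩

theorem card_dist_map {g : Equiv.Perm Ω} (hg : g ∈ K) (x y : Ω) :
    (Dist K (g x) (g y)).card = (Dist K x y).card := by
  have : Dist K (g x) (g y) = (Dist K x y).image g := by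
    ext γ
    simp only [mem_dist, mem_image]
    refine ⟨fun h => ⟨g⁻¹ γ, fun h' => h ?_, by simp⟩, ?_⟩
    · simpa using h'.map K hg
    · rintro ⟨δ, hδ, rfl⟩ h'
      exact hδ (by simpa using h'.map K (K.inv_mem hg))
  rw [this, card_image_of_injective _ g.injective]

theorem dist_triangle (x y z : Ω) : (Dist K x z).card ≤ (Dist K x y).card + (Dist K y z).card := by
  refine (card_le_card fun γ h => ?_).trans (card_union_le _ _)
  simp only [mem_union, mem_dist] at h ⊢
  by_contra h'
  push Not at h'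
  exact h (h'.1.trans K h'.2)

theorem dist_self (x : Ω) : Dist K x x = ∅ := by
  ext γ; simp only [mem_dist, notMem_empty, iff_false, not_not]; exact ⟨1, K.one_mem, rfl, rfl⟩

variable [IsPreprimitive K Ω]

theorem exists_move (x y : Ω) : ∃ h ∈ K, h x = y := by
  obtain ⟨⟨h, hh⟩, he⟩ := exists_smul_eq K x y
  exact ⟨h, hh, he⟩

/-- An invariant graph with an edge is connected. -/
theorem connected_of_invariant (G : SimpleGraph Ω)
    (hinv : ∀ h ∈ K, ∀ x y, G.Adj x y → G.Adj (h x) (h y)) {a b : Ω} (hab : G.Adj a b) : G.Connected := by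
  let B : Set Ω := {y | G.Reachable a y}
  have hmap : ∀ h ∈ K, ∀ x y, G.Reachable x y → G.Reachable (h x) (h y) := fun h hh x y hr =>
    hr.map (⟨h, fun {u v} huv => hinv h hh u v huv⟩ : G →g G)
  have hB : IsBlock K B := by
    refine isBlock_iff_smul_eq_or_disjoint.2 fun g => or_iff_not_imp_right.2 fun hd => ?_
    obtain ⟨z, hzg, hz⟩ := Set.not_disjoint_iff.1 hd
    obtain ⟨u, hu, rfl⟩ := hzg
    have h1 : G.Reachable a (g.1 a) := SimpleGraph.Reachable.trans hz (hmap g.1 g.2 _ _ hu).symm
    ext w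
    constructor
    · rintro ⟨v, hv, rfl⟩
      exact h1.trans (hmap g.1 g.2 _ _ hv)
    · intro hw
      refine ⟨g.1⁻¹ w, ?_, show g.1 (g.1⁻¹ w) = w by simp⟩
      have h2 := hmap g.1⁻¹ (K.inv_mem g.2) _ _ (h1.symm.trans hw)
      show G.Reachable a (g.1⁻¹ w)
      simpa using h2
  rcases IsPreprimitive.isTrivialBlock_of_isBlock hB with h | h
  · exact absurd (h (show a ∈ B from SimpleGraph.Reachable.refl a) (show b ∈ B from hab.reachable)) hab.ne
  · exact (SimpleGraph.connected_iff _).2 ⟨fun x y =>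
      ((h ▸ Set.mem_univ x : x ∈ B)).symm.trans (h ▸ Set.mem_univ y : y ∈ B), ⟨a⟩⟩

theorem dist_eq_of_invariant (G : SimpleGraph Ω) (hc : G.Connected)
    (hinv : ∀ h ∈ K, ∀ x y, G.Adj x y → G.Adj (h x) (h y)) {h : Equiv.Perm Ω} (hh : h ∈ K) (x y : Ω) :
    G.dist (h x) (h y) = G.dist x y := by
  have key : ∀ u ∈ K, ∀ a b, G.dist (u a) (u b) ≤ G.dist a b := fun u hu a b => by
    obtain ⟨p, hp⟩ := hc.exists_walk_length_eq_dist a b
    rw [← hp]
    exact (SimpleGraph.dist_le (p.map (⟨u, fun {v w} huv => hinv u hu v w huv⟩ : G →g G))).trans_eq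
      (SimpleGraph.Walk.length_map _ _)
  refine le_antisymm (key h hh x y) ?_
  have := key h⁻¹ (K.inv_mem hh) (h x) (h y)
  simpa using this

/-- Counting transporters. -/
theorem card_transporter [Fintype K] (a b : Ω) :
    (univ.filter fun h : K => (h : Equiv.Perm Ω) a = b).card * Fintype.card Ω = Fintype.card K := by
  have hsum : (univ : Finset K).card = ∑ b' : Ω, (univ.filter fun h : K => (h : Equiv.Perm Ω) a = b').card :=
    card_eq_sum_card_fiberwise fun _ _ => mem_univ _
  have hconst : ∀ b' : Ω, (univ.filter fun h : K => (h : Equiv.Perm Ω) a = b').card =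
      (univ.filter fun h : K => (h : Equiv.Perm Ω) a = b).card := fun b' => by
    obtain ⟨u, hu, hub⟩ := exists_move K b' b
    refine card_bij (fun h _ => (⟨u, hu⟩ : K) * h) (fun h hh => ?_) (fun _ _ _ _ e => mul_left_cancel e)
      fun h hh => ⟨(⟨u, hu⟩ : K)⁻¹ * h, ?_, by simp⟩
    · simp only [mem_filter, mem_univ, true_and] at hh ⊢
      simp [hh, hub]
    · simp only [mem_filter, mem_univ, true_and] at hh ⊢
      simp [hh, ← hub]
  rw [card_univ, sum_congr rfl fun b' _ => hconst b', sum_const, card_univ, smul_eq_mul] at hsum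
  rw [hsum, mul_comm]

/-- Supports meeting in one point give a three-cycle. -/
theorem isThreeCycle_of_meet {g h : Equiv.Perm Ω} {b : Ω} (hg : g b ≠ b) (hh : h b ≠ b)
    (hone : ∀ x, g x ≠ x → h x ≠ x → x = b) : (g * h * g⁻¹ * h⁻¹).IsThreeCycle := by
  have hgfix : ∀ x, h x ≠ x → x ≠ b → g x = x := fun x h1 h2 => by_contra fun hc => h2 (hone x hc h1)
  have hhfix : ∀ x, g x ≠ x → x ≠ b → h x = x := fun x h1 h2 => by_contra fun hc => h2 (hone x h1 hc)
  have hgb2 : g (g b) ≠ g b := fun e => hg (g.injective e)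
  have hhb2 : h (h b) ≠ h b := fun e => hh (h.injective e)
  have hgbh : g b ≠ h b := fun e => hhb2 (by
    have := hgfix (h b) hhb2 hh
    rw [← e] at this; exact absurd this hgb2)
  have h1 : h (g b) = g b := hhfix _ hgb2 hg
  have h2 : g (h b) = h b := hgfix _ hhb2 hh
  have hswap : g * h * g⁻¹ * h⁻¹ = Equiv.swap b (h b) * Equiv.swap b (g b) := by
    rw [mul_inv_eq_iff_eq_mul, mul_inv_eq_iff_eq_mul]
    refine Equiv.ext fun x => ?_
    simp only [Equiv.Perm.mul_apply]
    by_cases hxb : x = b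
    · rw [hxb, h2, h1, Equiv.swap_apply_right, Equiv.swap_apply_left]
    by_cases hxg : g x = x
    · by_cases hxh : h x = x
      · rw [hxh, hxg, hxh, Equiv.swap_apply_of_ne_of_ne hxb (fun e => hgb2 (by rw [← e]; exact hxg)),
          Equiv.swap_apply_of_ne_of_ne hxb (fun e => hhb2 (by rw [← e]; exact hxh))]
      · rw [hxg]
        have hx2 : h (h x) ≠ h x := fun e => hxh (h.injective e)
        by_cases hxhb : h x = b
        · rw [hxhb, Equiv.swap_apply_left, Equiv.swap_apply_of_ne_of_ne hg hgbh]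
        · have hne : h x ≠ g b := fun e => hxh (by
            have e' := h.injective (e.trans h1.symm)
            rw [e', h1])
          rw [hgfix _ hx2 hxhb, Equiv.swap_apply_of_ne_of_ne hxhb hne,
            Equiv.swap_apply_of_ne_of_ne hxhb fun e => hxb (h.injective e)]
    · have hxh : h x = x := hhfix x hxg hxb
      rw [hxh]
      have hx2 : g (g x) ≠ g x := fun e => hxg (g.injective e)
      by_cases hxgb : g x = b
      · rw [hxgb, Equiv.swap_apply_of_ne_of_ne (x := h b) hh hgbh.symm, Equiv.swap_apply_right]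
      · rw [hhfix _ hx2 hxgb, Equiv.swap_apply_of_ne_of_ne hxgb (fun e => hxb (g.injective e)),
          Equiv.swap_apply_of_ne_of_ne hxgb fun e => hx2 (by rw [e, h2])]
  rw [hswap]
  exact Equiv.Perm.isThreeCycle_swap_mul_swap_same hh.symm hg.symm fun e => hgb2 (by rw [← e, h2])

open Classical in
/-- The bound. -/
theorem card_le (hA : ¬ alternatingGroup Ω ≤ K) {g : Equiv.Perm Ω} (hgK : g ∈ K) (hg : g ≠ 1) :
    Fintype.card Ω ≤ (2 * g.support.card + 1) ^ 2 := by
  haveI : Fintype K := Fintype.ofFinite K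
  set n := Fintype.card Ω with hn
  set m := g.support.card with hm
  obtain ⟨a₀, ha₀⟩ : ∃ a, g a ≠ a := by
    by_contra hc; push Not at hc; exact hg (Equiv.ext hc)
  let G : SimpleGraph Ω :=
    { Adj := fun x y => x ≠ y ∧ ∃ h ∈ K, (h a₀ = x ∧ h (g a₀) = y) ∨ (h a₀ = y ∧ h (g a₀) = x)
      symm := ⟨fun x y ⟨h1, h, hh, h2⟩ => ⟨h1.symm, h, hh, h2.symm⟩⟩
      loopless := ⟨fun x h => h.1 rfl⟩ }
  have hinv : ∀ h ∈ K, ∀ x y, G.Adj x y → G.Adj (h x) (h y) := fun u hu x y ⟨h1, h, hh, h2⟩ =>
    ⟨u.injective.ne h1, u * h, K.mul_mem hu hh, h2.imp (fun e => by simp [e.1, e.2]) fun e => by simp [e.1, e.2]⟩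
  have hab : G.Adj a₀ (g a₀) := ⟨Ne.symm ha₀, 1, K.one_mem, Or.inl ⟨rfl, rfl⟩⟩
  have hc : G.Connected := connected_of_invariant K G hinv hab
  have hD1 : ∀ x y, G.Adj x y → (Dist K x y).card ≤ m := by
    have h0 : (Dist K a₀ (g a₀)).card ≤ m := card_le_card fun γ h => by
      rw [Equiv.Perm.mem_support]
      exact fun hγ => mem_dist K |>.1 h ⟨g, hgK, hγ, rfl⟩
    rintro x y ⟨-, h, hh, ⟨rfl, rfl⟩ | ⟨rfl, rfl⟩⟩
    · rwa [card_dist_map K hh]
    · rwa [dist_comm, card_dist_map K hh]
  have hDwalk : ∀ x y, (Dist K x y).card ≤ G.dist x y * m := by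
    have key : ∀ {x y : Ω} (p : G.Walk x y), (Dist K x y).card ≤ p.length * m := by
      intro x y p
      induction p with
      | nil => simp [dist_self]
      | @cons x y z hxy p ih =>
        rw [SimpleGraph.Walk.length_cons, add_mul, one_mul, add_comm]
        exact (dist_triangle K x y z).trans (Nat.add_le_add (hD1 x y hxy) ih)
    intro x y
    obtain ⟨p, hp⟩ := hc.exists_walk_length_eq_dist x y
    exact hp ▸ key p
  have hdinv := fun (h : Equiv.Perm Ω) (hh : h ∈ K) => dist_eq_of_invariant K G hc hinv hh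
  have hgeo : ∀ {x y : Ω} (p : G.Walk x y), p.length = G.dist x y → ∀ t ≤ p.length, G.dist x (p.getVert t) = t := by
    intro x y p hp t ht
    have h1 : G.dist x (p.getVert t) ≤ t :=
      (SimpleGraph.dist_le (p.take t)).trans (by rw [SimpleGraph.Walk.take_length]; exact Nat.min_le_left _ _)
    have h2 : G.dist (p.getVert t) y ≤ p.length - t :=
      (SimpleGraph.dist_le (p.drop t)).trans (by rw [SimpleGraph.Walk.drop_length])
    have h3 := hc.dist_triangle (u := x) (v := p.getVert t) (w := y)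
    omega
  have hdiam : ∀ x y, G.dist x y ≤ m := by
    intro x y
    obtain ⟨p, hp⟩ := hc.exists_walk_length_eq_dist x y
    rcases Nat.eq_zero_or_pos p.length with h0 | hpos
    · rw [← hp, h0]; exact Nat.zero_le _
    have hadj : G.Adj x (p.getVert 1) := by
      have := p.adj_getVert_succ (i := 0) hpos
      simpa using this
    refine hp ▸ le_trans ?_ (hD1 x _ hadj)
    refine le_trans (le_of_eq (Nat.card_Icc 1 p.length).symm |>.trans' (by omega)) ?_
    refine card_le_card_of_injOn p.getVert (fun t ht => ?_) fun t ht t' ht' e => ?_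
    · rw [Finset.mem_coe, mem_Icc] at ht
      rw [Finset.mem_coe, mem_dist]
      rintro ⟨h, hh, h1, h2⟩
      have e1 := hdinv h hh x (p.getVert t)
      rw [h1, h2, hgeo p hp t ht.2] at e1
      have e2 : G.dist (p.getVert 1) (p.getVert t) ≤ t - 1 := by
        refine (SimpleGraph.dist_le (((p.take t).drop 1).copy ?_ rfl)).trans ?_
        · rw [SimpleGraph.Walk.take_getVert, Nat.min_eq_right ht.1]
        · rw [SimpleGraph.Walk.length_copy, SimpleGraph.Walk.drop_length, SimpleGraph.Walk.take_length]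
          omega
      omega
    · rw [Finset.mem_coe, mem_Icc] at ht ht'
      have := congrArg (G.dist x) e
      rwa [hgeo p hp t ht.2, hgeo p hp t' ht'.2] at this
  -- a largest class
  let Cl : Ω → Ω → Finset Ω := fun γ x => univ.filter (SameAt K γ x)
  haveI : Nonempty Ω := ⟨a₀⟩
  obtain ⟨⟨γ₀, x₀⟩, -, hmax⟩ := exists_max_image (univ : Finset (Ω × Ω)) (fun q => (Cl q.1 q.2).card) univ_nonempty
  set k := (Cl γ₀ x₀).card with hk
  have hkn : k ≤ n := card_le_univ _
  have hm2 : n - k ≤ m * m := by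
    have hsum : n * n * (n - k) ≤ n * n * (m * m) := by
      calc n * n * (n - k) = ∑ γ : Ω, ∑ _x : Ω, (n - k) := by simp [n, mul_assoc]
        _ ≤ ∑ γ : Ω, ∑ x : Ω, ∑ y : Ω, (if γ ∈ Dist K x y then 1 else 0) := sum_le_sum fun γ _ => sum_le_sum fun x _ => by
            rw [sum_boole, Nat.cast_id]
            have : (univ.filter fun y => γ ∈ Dist K x y) = (Cl γ x)ᶜ := by ext y; simp [Cl, mem_dist]
            rw [this, card_compl]
            have := hmax (γ, x) (mem_univ _)
            simp only at this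
            omega
        _ = ∑ x : Ω, ∑ y : Ω, (Dist K x y).card := by
            rw [sum_comm]
            refine sum_congr rfl fun x _ => ?_
            rw [sum_comm]
            refine sum_congr rfl fun y _ => ?_
            simp
        _ ≤ ∑ _x : Ω, ∑ _y : Ω, m * m := sum_le_sum fun x _ => sum_le_sum fun y _ =>
            (hDwalk x y).trans (Nat.mul_le_mul_right m (hdiam x y))
        _ = n * n * (m * m) := by simp [n, mul_assoc]
    have hnpos : 0 < n := Fintype.card_pos
    exact Nat.le_of_mul_le_mul_left hsum (Nat.mul_pos hnpos hnpos)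
  by_cases hbig : n ≤ 4 * (n - k)
  · nlinarith
  -- the dominant relation
  let P : Ω → Ω → Prop := fun x y => ∃ h ∈ K, h γ₀ = x ∧ h x₀ = y
  have hPinv : ∀ u ∈ K, ∀ x y, P x y → P (u x) (u y) := fun u hu x y ⟨h, hh, h1, h2⟩ =>
    ⟨u * h, K.mul_mem hu hh, by simp [h1], by simp [h2]⟩
  let T : Ω → Finset Ω := fun x => univ.filter (P x)
  have hT : ∀ x, (T x).card = k := fun x => by
    obtain ⟨u, hu, rfl⟩ := exists_move K γ₀ x
    have : T (u γ₀) = (Cl γ₀ x₀).image u := by
      ext y
      simp only [T, Cl, mem_filter, mem_univ, true_and, mem_image]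
      refine ⟨fun ⟨h, hh, h1, h2⟩ => ⟨u⁻¹ y, ⟨u⁻¹ * h, K.mul_mem (K.inv_mem hu) hh, by simp [h1], by simp [h2]⟩,
        by simp⟩, ?_⟩
      rintro ⟨z, ⟨h, hh, h1, h2⟩, rfl⟩
      exact ⟨u * h, K.mul_mem hu hh, by simp [h1], by simp [h2]⟩
    rw [this, card_image_of_injective _ u.injective]
  have hself : ∀ x, ¬ P x x := by
    rintro x ⟨h, hh, h1, h2⟩
    have e : γ₀ = x₀ := h.injective (h1.trans h2.symm)
    have : Cl γ₀ x₀ ⊆ {γ₀} := fun y hy => by
      simp only [Cl, mem_filter, mem_univ, true_and] at hy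
      obtain ⟨u, -, u1, u2⟩ := hy
      rw [← e] at u2
      exact mem_singleton.2 (u2.symm.trans u1)
    have := card_le_card this
    rw [card_singleton] at this
    have : 1 < n := Fintype.one_lt_card_iff.2 ⟨_, _, ha₀⟩
    omega
  have hsymm : ∀ x y, P x y → P y x := by
    let B : Ω → Finset Ω := fun x => univ.filter fun y => P y x
    have hB : (B γ₀).card = k := by
      have hconst : ∀ x, (B x).card = (B γ₀).card := fun x => by
        obtain ⟨u, hu, rfl⟩ := exists_move K γ₀ x
        have : B (u γ₀) = (B γ₀).image u := by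
          ext y
          simp only [B, mem_filter, mem_univ, true_and, mem_image]
          refine ⟨fun hy => ⟨u⁻¹ y, by simpa using hPinv u⁻¹ (K.inv_mem hu) _ _ hy, by simp⟩, ?_⟩
          rintro ⟨z, hz, rfl⟩
          exact hPinv u hu _ _ hz
        rw [this, card_image_of_injective _ u.injective]
      have h1 := sum_card_bipartiteAbove_eq_sum_card_bipartiteBelow (s := (univ : Finset Ω)) (t := univ) P
      simp only [bipartiteAbove, bipartiteBelow] at h1
      rw [sum_congr rfl fun x _ => hT x, sum_congr rfl fun x _ => hconst x] at h1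
      simp only [sum_const, smul_eq_mul, card_univ] at h1
      exact (Nat.eq_of_mul_eq_mul_left Fintype.card_pos h1).symm
    obtain ⟨z, hz⟩ : (T γ₀ ∩ B γ₀).Nonempty := by
      refine card_pos.1 ?_
      have h1 := card_union_add_card_inter (T γ₀) (B γ₀)
      have h2 := card_le_univ (T γ₀ ∪ B γ₀)
      have := hT γ₀
      omega
    simp only [mem_inter, T, B, mem_filter, mem_univ, true_and] at hz
    obtain ⟨⟨u, hu, u1, u2⟩, ⟨v, hv, v1, v2⟩⟩ := hz
    rintro x y ⟨h, hh, rfl, rfl⟩
    refine ⟨h * u⁻¹ * v, K.mul_mem (K.mul_mem hh (K.inv_mem hu)) hv, ?_, ?_⟩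
    · simp only [Equiv.Perm.mul_apply, v1]; rw [← u2]; simp
    · simp only [Equiv.Perm.mul_apply, v2]; nth_rewrite 1 [← u1]; simp
  let N : Ω → Finset Ω := fun x => (T x)ᶜ
  set ν := n - k with hν
  have hN : ∀ x, (N x).card = ν := fun x => by rw [card_compl, hT]
  have hmemN : ∀ {x y}, y ∈ N x ↔ ¬ P x y := fun {x y} => by simp [N, T]
  obtain ⟨y₀, hy₀⟩ : (T a₀).Nonempty := card_pos.1 (by rw [hT]; omega)
  have hy₀' : P a₀ y₀ := by simpa [T] using hy₀
  -- two-transitivity
  by_cases hν1 : ν = 1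
  · have hall : ∀ x y, x ≠ y → P x y := fun x y hxy => by
      by_contra hc'
      have h1 : ({x, y} : Finset Ω) ⊆ N x := by
        intro z hz
        rcases mem_insert.1 hz with rfl | hz
        · exact hmemN.2 (hself _)
        · rw [mem_singleton.1 hz]; exact hmemN.2 hc'
      have := card_le_card h1
      rw [card_pair hxy, hN, hν1] at this
      omega
    set S := g.support
    set q := Fintype.card K with hq
    let X : K → Finset Ω := fun h => S.filter fun a => (h : Equiv.Perm Ω) a ∈ S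
    have hnone : ∀ h : K, (X h).card ≠ 1 := by
      intro h h1
      obtain ⟨a, ha⟩ := card_eq_one.1 h1
      have hmemX : a ∈ X h := by rw [ha]; exact mem_singleton_self a
      simp only [X, mem_filter, S, Equiv.Perm.mem_support] at hmemX
      refine hA (Equiv.Perm.alternatingGroup_le_of_isPreprimitive_of_isThreeCycle_mem (G := K) inferInstance
        (g := g * ((h : Equiv.Perm Ω)⁻¹ * g * h) * g⁻¹ * ((h : Equiv.Perm Ω)⁻¹ * g * h)⁻¹) ?_ ?_)
      · refine isThreeCycle_of_meet hmemX.1 (fun e => hmemX.2 ?_) fun x h2 h3 => ?_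
        · simp only [Equiv.Perm.mul_apply, Equiv.Perm.inv_eq_iff_eq] at e; exact e
        · have : x ∈ X h := by
            simp only [X, mem_filter, S, Equiv.Perm.mem_support]
            exact ⟨h2, fun e => h3 (by simp [e])⟩
          rw [ha] at this
          exact mem_singleton.1 this
      · have := K.mul_mem (K.mul_mem (K.inv_mem h.2) hgK) h.2
        exact K.mul_mem (K.mul_mem (K.mul_mem hgK this) (K.inv_mem hgK)) (K.inv_mem this)
    have hle : (∑ h : K, (X h).card) ≤ ∑ h : K, (X h).offDiag.card := sum_le_sum fun h _ => by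
      rw [offDiag_card]
      have := hnone h
      rcases Nat.lt_or_ge (X h).card 2 with h2 | h2
      · have : (X h).card = 0 := by omega
        omega
      · have := Nat.mul_le_mul_right (X h).card h2
        omega
    have hX1 : (∑ h : K, (X h).card) * n = m * m * q := by
      have : ∑ h : K, (X h).card = ∑ a ∈ S, ∑ b ∈ S, (univ.filter fun h : K => (h : Equiv.Perm Ω) a = b).card := by
        simp only [X, card_filter]
        rw [sum_comm]
        refine sum_congr rfl fun a _ => ?_
        rw [sum_comm (s := S)]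
        refine sum_congr rfl fun h _ => ?_
        rw [sum_ite_eq]
      rw [this, sum_mul, sum_congr rfl fun a _ => by
        rw [sum_mul, sum_congr rfl fun b _ => card_transporter K a b, sum_const, smul_eq_mul]]
      rw [sum_const, smul_eq_mul, mul_assoc]
    have hX2 : (∑ h : K, (X h).offDiag.card) * (n * (n - 1)) = S.offDiag.card * S.offDiag.card * q := by
      have hfib : ∀ p ∈ S.offDiag, ∀ p' ∈ S.offDiag, (univ.filter fun h : K =>
          ((h : Equiv.Perm Ω) p.1, (h : Equiv.Perm Ω) p.2) = p').card * (n * (n - 1)) = q := by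
        intro p hp p' _
        have hp' : p.1 ≠ p.2 := (mem_offDiag.1 hp).2.2
        have hp'2 : p'.1 ≠ p'.2 := (mem_offDiag.1 ‹p' ∈ S.offDiag›).2.2
        have hconst : ∀ r ∈ (univ : Finset Ω).offDiag, (univ.filter fun h : K =>
            ((h : Equiv.Perm Ω) p.1, (h : Equiv.Perm Ω) p.2) = r).card = (univ.filter fun h : K =>
            ((h : Equiv.Perm Ω) p.1, (h : Equiv.Perm Ω) p.2) = p').card := by
          intro r hr
          obtain ⟨u, hu, u1, u2⟩ := hall r.1 r.2 (mem_offDiag.1 hr).2.2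
          obtain ⟨v, hv, v1, v2⟩ := hall p'.1 p'.2 hp'2
          refine card_bij (fun h _ => (⟨v * u⁻¹, K.mul_mem hv (K.inv_mem hu)⟩ : K) * h) (fun h hh => ?_)
            (fun _ _ _ _ e => mul_left_cancel e) fun h hh => ⟨(⟨v * u⁻¹, K.mul_mem hv (K.inv_mem hu)⟩ : K)⁻¹ * h, ?_, by simp⟩
          · simp only [mem_filter, mem_univ, true_and] at hh ⊢
            simp only [Prod.ext_iff] at hh ⊢
            refine ⟨?_, ?_⟩ <;> simp only [Subgroup.coe_mul, Equiv.Perm.mul_apply]
            · rw [hh.1, Equiv.Perm.inv_eq_iff_eq.2 u1.symm, v1]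
            · rw [hh.2, Equiv.Perm.inv_eq_iff_eq.2 u2.symm, v2]
          · simp only [mem_filter, mem_univ, true_and] at hh ⊢
            simp only [Prod.ext_iff] at hh ⊢
            refine ⟨?_, ?_⟩ <;> simp only [Subgroup.coe_mul, Subgroup.coe_inv, mul_inv_rev, inv_inv, Equiv.Perm.mul_apply]
            · rw [hh.1, Equiv.Perm.inv_eq_iff_eq.2 v1.symm, u1]
            · rw [hh.2, Equiv.Perm.inv_eq_iff_eq.2 v2.symm, u2]
        have hs := card_eq_sum_card_fiberwise (f := fun h : K => ((h : Equiv.Perm Ω) p.1, (h : Equiv.Perm Ω) p.2))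
          (s := univ) (t := (univ : Finset Ω).offDiag) fun h _ => by
            simp [hp']
        rw [sum_congr rfl hconst, sum_const, smul_eq_mul, offDiag_card, card_univ, card_univ] at hs
        rw [← hn, ← hq] at hs
        rw [Nat.mul_sub_one, hs, mul_comm]
      have : ∑ h : K, (X h).offDiag.card = ∑ p ∈ S.offDiag, ∑ p' ∈ S.offDiag, (univ.filter fun h : K =>
          ((h : Equiv.Perm Ω) p.1, (h : Equiv.Perm Ω) p.2) = p').card := by
        have hoff : ∀ h : K, (X h).offDiag = S.offDiag.filter fun p =>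
            ((h : Equiv.Perm Ω) p.1, (h : Equiv.Perm Ω) p.2) ∈ S.offDiag := fun h => by
          ext p; simp only [X, mem_offDiag, mem_filter]
          constructor
          · exact fun ⟨⟨h1, h2⟩, ⟨h3, h4⟩, h5⟩ => ⟨⟨h1, h3, h5⟩, h2, h4, (h : Equiv.Perm Ω).injective.ne h5⟩
          · exact fun ⟨⟨h1, h3, h5⟩, h2, h4, _⟩ => ⟨⟨h1, h2⟩, ⟨h3, h4⟩, h5⟩
        simp only [hoff, card_filter]
        rw [sum_comm]
        refine sum_congr rfl fun a _ => ?_
        rw [sum_comm (s := S.offDiag)]
        refine sum_congr rfl fun h _ => ?_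
        rw [sum_ite_eq]
      rw [this, sum_mul, sum_congr rfl fun p hp => by
        rw [sum_mul, sum_congr rfl fun p' hp' => hfib p hp p' hp', sum_const, smul_eq_mul]]
      rw [sum_const, smul_eq_mul, mul_assoc]
    have hqpos : 0 < q := Fintype.card_pos
    have hmpos : 0 < m := card_pos.2 ⟨a₀, Equiv.Perm.mem_support.2 ha₀⟩
    rw [offDiag_card] at hX2
    obtain ⟨m', hm'⟩ : ∃ m', m = m' + 1 := ⟨m - 1, by omega⟩
    have hSm : S.card * S.card - S.card = m * m' := by
      rw [← hm, hm', add_mul, one_mul, Nat.add_sub_cancel, mul_comm]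
    rw [hSm] at hX2
    have h3 := Nat.mul_le_mul_right (n * (n - 1)) hle
    rw [hX2, ← mul_assoc, hX1] at h3
    have h4 : (m * m * q) * (n - 1) ≤ (m * m * q) * (m' * m') := h3.trans (le_of_eq (by ring))
    have h5 := Nat.le_of_mul_le_mul_left h4 (by positivity)
    have : n ≤ m' * m' + 1 := by omega
    nlinarith
  -- a pair of the dominant relation at large distance
  have hν2 : 2 ≤ ν := by
    have : 1 ≤ ν := by
      rw [← hN a₀]; exact card_pos.2 ⟨a₀, hmemN.2 (hself _)⟩
    omega
  have hPdist : ∀ {x y x' y'}, P x y → P x' y' →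
      G.dist x y = G.dist x' y' ∧ (Dist K x y).card = (Dist K x' y').card := by
    rintro x y x' y' ⟨h, hh, rfl, rfl⟩ ⟨h', hh', rfl, rfl⟩
    exact ⟨by rw [hdinv h hh, hdinv h' hh'], by rw [card_dist_map K hh, card_dist_map K hh']⟩
  set L := G.dist a₀ y₀ with hL
  have hLd : ∀ {x y}, P x y → G.dist x y = L := fun hxy => (hPdist hxy hy₀').1
  have hDi : ∀ {x y}, P x y → (Dist K x y).card ≤ L * m := fun {x y} hxy =>
    hLd hxy ▸ hDwalk x y
  have hνk : 3 * ν < k := by omega
  have hD : 4 * ν ≤ 3 * (L * m) := by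
    have hcount : ∑ y ∈ T a₀, (N a₀ ∩ N y).card ≤ ν * ν := by
      calc ∑ y ∈ T a₀, (N a₀ ∩ N y).card ≤ ∑ y : Ω, (N a₀ ∩ N y).card :=
            sum_le_sum_of_subset (subset_univ _)
        _ = ∑ γ ∈ N a₀, (univ.filter fun y => γ ∈ N y).card := by
            simp only [card_filter]
            rw [sum_comm]
            refine sum_congr rfl fun y _ => ?_
            rw [← filter_mem_eq_inter, card_filter]
        _ = ν * ν := by
            rw [sum_congr rfl fun γ _ => show (univ.filter fun y => γ ∈ N y).card = ν from ?_, sum_const, hN,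
              smul_eq_mul]
            rw [← hN γ]
            congr 1
            ext y
            simp only [mem_filter, mem_univ, true_and, hmemN]
            exact not_congr ⟨hsymm y γ, hsymm γ y⟩
    obtain ⟨y, hy, hy'⟩ : ∃ y ∈ T a₀, 3 * (N a₀ ∩ N y).card ≤ ν := by
      by_contra hc'
      push Not at hc'
      have h1 : ∑ _y ∈ T a₀, (ν + 1) ≤ ∑ y ∈ T a₀, 3 * (N a₀ ∩ N y).card := sum_le_sum fun y hy => hc' y hy
      rw [sum_const, hT, smul_eq_mul, ← mul_sum] at h1
      nlinarith
    have hP' : P a₀ y := by simpa [T] using hy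
    have hsub : (N a₀ \ N y) ∪ (N y \ N a₀) ⊆ Dist K a₀ y := by
      intro γ hγ
      rw [mem_dist]
      rintro ⟨u, hu, u1, u2⟩
      simp only [mem_union, mem_sdiff, hmemN, not_not] at hγ
      rcases hγ with ⟨h1, h2⟩ | ⟨h1, h2⟩
      · have := hPinv u⁻¹ (K.inv_mem hu) _ _ h2
        rw [← u2] at this
        nth_rewrite 1 [← u1] at this
        exact h1 (by simpa [Equiv.Perm.inv_eq_iff_eq.2 u1.symm] using this)
      · have := hPinv u hu _ _ h2
        rw [u1, u2] at this
        exact h1 this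
    have h1 := card_le_card hsub
    rw [card_union_of_disjoint disjoint_sdiff_sdiff] at h1
    have h2 := card_sdiff_add_card_inter (N a₀) (N y)
    have h3 := card_sdiff_add_card_inter (N y) (N a₀)
    rw [inter_comm (N y)] at h3
    rw [hN] at h2 h3
    have := hDi hP'
    omega
  by_cases hL1 : L ≤ 1
  · -- the complementary graph
    let G' : SimpleGraph Ω :=
      { Adj := fun x y => x ≠ y ∧ ¬ P x y
        symm := ⟨fun x y ⟨h1, h2⟩ => ⟨h1.symm, fun e => h2 (hsymm _ _ e)⟩⟩
        loopless := ⟨fun x h => h.1 rfl⟩ }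
    have hinv' : ∀ u ∈ K, ∀ x y, G'.Adj x y → G'.Adj (u x) (u y) := fun u hu x y ⟨h1, h2⟩ =>
      ⟨u.injective.ne h1, fun e => h2 (by simpa using hPinv u⁻¹ (K.inv_mem hu) _ _ e)⟩
    obtain ⟨b, hb, hb'⟩ : ∃ b ∈ N a₀, b ≠ a₀ := exists_mem_ne (by rw [hN]; omega) a₀
    have hc' : G'.Connected := connected_of_invariant K G' hinv' ⟨Ne.symm hb', hmemN.1 hb⟩
    obtain ⟨p⟩ := hc'.preconnected a₀ y₀
    obtain ⟨d, -, hd1, hd2⟩ := p.exists_boundary_dart {y | ¬ P a₀ y} (hself _) (fun e => e hy₀')
    have hz : P a₀ d.snd := not_not.1 hd2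
    have hsub : T a₀ ⊆ ((N a₀).erase a₀).biUnion fun w => ((N w).erase w).erase a₀ := by
      intro y hy
      have hy' : P a₀ y := by simpa [T] using hy
      obtain ⟨h₁, hh₁, e1, e2⟩ := hz
      obtain ⟨h₂, hh₂, f1, f2⟩ := hy'
      obtain ⟨u, hu, hua, hud⟩ : ∃ u ∈ K, u a₀ = a₀ ∧ u d.snd = y :=
        ⟨h₂ * h₁⁻¹, K.mul_mem hh₂ (K.inv_mem hh₁), by simp only [Equiv.Perm.mul_apply]; rw [Equiv.Perm.inv_eq_iff_eq.2 e1.symm, f1],
          by simp only [Equiv.Perm.mul_apply]; rw [Equiv.Perm.inv_eq_iff_eq.2 e2.symm, f2]⟩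
      have hadj := hinv' u hu _ _ d.adj
      rw [hud] at hadj
      have hw : ¬ P a₀ (u d.fst) := fun e => hd1 (by
        have := hPinv u⁻¹ (K.inv_mem hu) _ _ e
        rw [Equiv.Perm.inv_eq_iff_eq.2 hua.symm] at this
        simpa using this)
      have hya : y ≠ a₀ := fun e => hself a₀ (by simpa [T, e] using hy)
      have hP' : P a₀ y := by simpa [T] using hy
      have hwa : u d.fst ≠ a₀ := fun e => hadj.2 (by rw [e]; exact hP')
      refine mem_biUnion.2 ⟨u d.fst, mem_erase.2 ⟨hwa, hmemN.2 hw⟩, ?_⟩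
      exact mem_erase.2 ⟨hya, mem_erase.2 ⟨Ne.symm hadj.1, hmemN.2 hadj.2⟩⟩
    have h1 : k ≤ (ν - 1) * (ν - 1) := by
      rw [← hT a₀]
      refine (card_le_card hsub).trans ((card_biUnion_le_card_mul _ _ (ν - 1) fun w _ => ?_).trans ?_)
      · refine (card_le_card (erase_subset _ _)).trans ?_
        rw [card_erase_of_mem (hmemN.2 (hself _)), hN]
      · rw [card_erase_of_mem (hmemN.2 (hself _)), hN]
    obtain ⟨ν', hν'⟩ : ∃ ν', ν = ν' + 1 := ⟨ν - 1, by omega⟩
    rw [hν', Nat.add_sub_cancel] at h1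
    have hLm : L * m ≤ m := (Nat.mul_le_mul_right m hL1).trans_eq (one_mul m)
    have h2 : ν ≤ m := by omega
    have h3 : n ≤ ν * ν + 1 := by
      have : n = k + ν := by omega
      rw [this, hν']; nlinarith
    nlinarith
  push Not at hL1
  obtain ⟨p, hp⟩ := hc.exists_walk_length_eq_dist a₀ y₀
  set d := (univ.filter fun y => G.Adj a₀ y).card with hd
  have hdeg : ∀ x, (univ.filter fun y => G.Adj x y).card = d := fun x => by
    obtain ⟨u, hu, rfl⟩ := exists_move K a₀ x
    have : (univ.filter fun y => G.Adj (u a₀) y) = (univ.filter fun y => G.Adj a₀ y).image u := by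
      ext y
      simp only [mem_filter, mem_univ, true_and, mem_image]
      refine ⟨fun hy => ⟨u⁻¹ y, by simpa using hinv u⁻¹ (K.inv_mem hu) _ _ hy, by simp⟩, ?_⟩
      rintro ⟨z, hz, rfl⟩
      exact hinv u hu _ _ hz
    rw [this, card_image_of_injective _ u.injective]
  have hpack : d * (L - 1) ≤ 3 * ν := by
    set t := (L + 1) / 3
    have hdisj : (↑(range t) : Set ℕ).PairwiseDisjoint fun s => univ.filter fun y => G.Adj (p.getVert (3 * s)) y := by
      intro s hs s' hs' hne
      simp only [Function.onFun]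
      rw [disjoint_left]
      intro y hy hy'
      simp only [mem_filter, mem_univ, true_and] at hy hy'
      simp only [coe_range, Set.mem_Iio] at hs hs'
      have e1 := hgeo p hp (3 * s) (by omega)
      have e2 := hgeo p hp (3 * s') (by omega)
      have a1 := hc.dist_triangle (u := a₀) (v := p.getVert (3 * s)) (w := y)
      have a2 := hc.dist_triangle (u := a₀) (v := y) (w := p.getVert (3 * s'))
      have b1 := hc.dist_triangle (u := a₀) (v := p.getVert (3 * s')) (w := y)
      have b2 := hc.dist_triangle (u := a₀) (v := y) (w := p.getVert (3 * s))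
      have c1 := SimpleGraph.dist_eq_one_iff_adj.2 hy
      have c2 := SimpleGraph.dist_eq_one_iff_adj.2 hy'
      rw [SimpleGraph.dist_comm] at c1 c2
      rw [SimpleGraph.dist_comm (u := y)] at c1 c2
      have c3 := SimpleGraph.dist_comm (G := G) (u := y) (v := p.getVert (3 * s))
      have c4 := SimpleGraph.dist_comm (G := G) (u := y) (v := p.getVert (3 * s'))
      omega
    have hsub : ((range t).biUnion fun s => univ.filter fun y => G.Adj (p.getVert (3 * s)) y) ⊆ N a₀ := by
      intro y hy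
      simp only [mem_biUnion, mem_range, mem_filter, mem_univ, true_and] at hy
      obtain ⟨s, hs, hy⟩ := hy
      refine hmemN.2 fun e => ?_
      have e0 := hLd e
      have e1 := hgeo p hp (3 * s) (by omega)
      have a1 := hc.dist_triangle (u := a₀) (v := p.getVert (3 * s)) (w := y)
      have c1 := SimpleGraph.dist_eq_one_iff_adj.2 hy
      omega
    have h1 := card_le_card hsub
    rw [card_biUnion hdisj, sum_congr rfl fun s _ => hdeg _, sum_const, card_range, smul_eq_mul, hN] at h1
    have : L - 1 ≤ 3 * t := by omega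
    calc d * (L - 1) ≤ d * (3 * t) := Nat.mul_le_mul_left _ this
      _ ≤ 3 * ν := by rw [mul_left_comm]; exact Nat.mul_le_mul_left 3 (by rw [mul_comm]; exact h1)
  have hbound : 2 * k ≤ d * m := by
    have hz : ∀ q : Ω × Ω, P q.1 q.2 → ∃ z, G.Adj q.2 z ∧ ¬ P q.1 z := by
      rintro ⟨x, y⟩ hxy
      obtain ⟨w, hw⟩ := hc.exists_walk_length_eq_dist x y
      rw [hLd hxy] at hw
      refine ⟨w.getVert (L - 1), ?_, fun e => ?_⟩
      · have := w.adj_getVert_succ (i := L - 1) (by omega)
        rw [Nat.sub_add_cancel (by omega)] at this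
        rw [← hw, SimpleGraph.Walk.getVert_length] at this
        rw [← hw]; exact this.symm
      · have := hgeo w (by rw [hw, hLd hxy]) (L - 1) (by omega)
        rw [hLd e] at this
        omega
    choose z hz1 hz2 using hz
    let PP : Finset (Ω × Ω) := univ.filter fun q => P q.1 q.2
    let TR : Finset (Ω × Ω × Ω) := univ.filter fun q => G.Adj q.1 q.2.1 ∧ q.2.2 ∈ Dist K q.1 q.2.1
    have hTR : TR.card ≤ n * (d * m) := by
      have : TR.card = ∑ a : Ω, ∑ b ∈ (univ.filter fun y => G.Adj a y), (Dist K a b).card := by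
        simp only [TR, card_filter, Fintype.sum_prod_type]
        refine sum_congr rfl fun a _ => ?_
        rw [sum_filter]
        refine sum_congr rfl fun b _ => ?_
        by_cases hab : G.Adj a b
        · simp [hab]
        · simp [hab]
      rw [this]
      calc ∑ a : Ω, ∑ b ∈ (univ.filter fun y => G.Adj a y), (Dist K a b).card
          ≤ ∑ a : Ω, ∑ _b ∈ (univ.filter fun y => G.Adj a y), m := sum_le_sum fun a _ => sum_le_sum fun b hb =>
            hD1 a b (mem_filter.1 hb).2
        _ = n * (d * m) := by simp only [sum_const, smul_eq_mul, hdeg, card_univ, n]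
    have hPP : PP.card = n * k := by
      simp only [PP, card_filter, Fintype.sum_prod_type]
      rw [sum_congr rfl fun x _ => ?_, sum_const, smul_eq_mul, card_univ]
      exact (card_filter _ _).symm.trans (hT x)
    let f : {q // q ∈ PP} × Bool → Ω × Ω × Ω := fun r =>
      cond r.2 (r.1.1.2, z r.1.1 (mem_filter.1 r.1.2).2, r.1.1.1) (z r.1.1 (mem_filter.1 r.1.2).2, r.1.1.2, r.1.1.1)
    have hf : Function.Injective f := by
      rintro ⟨⟨⟨x, y⟩, hxy⟩, b⟩ ⟨⟨⟨x', y'⟩, hxy'⟩, b'⟩ e
      have h1 := (mem_filter.1 hxy).2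
      have h1' := (mem_filter.1 hxy').2
      have g1 := hz2 (x, y) h1
      have g1' := hz2 (x', y') h1'
      cases b <;> cases b' <;> simp only [f, cond_true, cond_false, Prod.mk.injEq] at e <;>
        obtain ⟨e1, e2, e3⟩ := e
      · subst e3; subst e2; rfl
      · subst e3; exact absurd h1' (e1 ▸ g1)
      · subst e3; exact absurd h1 (e1.symm ▸ g1')
      · subst e3; subst e1; rfl
    have himg : (univ.image f) ⊆ TR := by
      intro q hq
      obtain ⟨⟨⟨⟨x, y⟩, hxy⟩, b⟩, -, rfl⟩ := mem_image.1 hq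
      have h1 := (mem_filter.1 hxy).2
      have g2 := hz2 (x, y) h1
      have g1 := hz1 (x, y) h1
      have hd' : x ∈ Dist K y (z (x, y) h1) := by
        rw [mem_dist]
        rintro ⟨u, hu, u1, u2⟩
        refine g2 ?_
        have := hPinv u hu _ _ h1
        rwa [u1, u2] at this
      cases b <;> simp only [f, cond_true, cond_false, TR, mem_filter, mem_univ, true_and]
      · exact ⟨g1.symm, by rwa [dist_comm]⟩
      · exact ⟨g1, hd'⟩
    have := card_le_card himg
    rw [card_image_of_injective _ hf, card_univ, Fintype.card_prod, Fintype.card_coe, Fintype.card_bool, hPP] at this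
    have h4 : n * (2 * k) ≤ n * (d * m) := le_trans (le_of_eq (by ring)) (this.trans hTR)
    exact Nat.le_of_mul_le_mul_left h4 Fintype.card_pos
  obtain ⟨L', hL'⟩ : ∃ L', L = L' + 1 := ⟨L - 1, by omega⟩
  rw [hL', Nat.add_sub_cancel] at hpack
  have h1 : 2 * k * L' ≤ m * (3 * ν) := (Nat.mul_le_mul_right L' hbound).trans (by
    rw [mul_comm d m, mul_assoc]; exact Nat.mul_le_mul_left m hpack)
  have h2 : 8 * k * L' ≤ 9 * (m * m) * (2 * L') := by
    have : 4 * ν * (3 * m) ≤ 3 * (L * m) * (3 * m) := Nat.mul_le_mul_right _ hD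
    have hL2 : L ≤ 2 * L' := by omega
    nlinarith [Nat.mul_le_mul_right (m * m) hL2]
  have h3 : 4 * k ≤ 9 * (m * m) := Nat.le_of_mul_le_mul_right (show 4 * k * (2 * L') ≤ 9 * (m * m) * (2 * L') by linarith) (by omega)
  have : n = k + ν := by omega
  nlinarith

end CfsgLib.Maximal.MinDegree
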