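import Mathlib
import Cfsg.Agent.Lib.Maximal.OrthSing
import Cfsg.Agent.Lib.Maximal.MonoBasic

/-!
The similitudes of a quadratic form in odd characteristic form a maximal subgroup of SL.
-/

set_option autoImplicit false
set_option linter.unusedSectionVars false
set_option linter.unusedSimpArgs false

namespace CfsgLib.Maximal

open scoped Matrix
open QuadraticMap CfsgLib.Geometry

variable {ι : Type} [Fintype ι] [DecidableEq ι] {F : Type*} [Field F] [Fintype F]
variable {Q : QuadraticForm F (ι → F)}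

/-- The standing hypotheses. -/
structure SimOver (Q : QuadraticForm F (ι → F)) (M : Subgroup (GL ι F)) : Prop where
  nd : (polarBilin Q).Nondegenerate
  two : (2 : F) ≠ 0
  dim : 6 ≤ Fintype.card ι
  le : Cfsg.Geo.quadSimilarityGroup ⇑Q ⊓ Cfsg.Geo.specialLinear ι F ≤ M

variable {M : Subgroup (GL ι F)}

lemma SimOver.sieg_mem (h : SimOver Q M) {e w : ι → F} (he : Q e = 0) (hw : polar Q e w = 0) :
    sieg e w he hw ∈ M :=
  h.le ⟨⟨1, fun v => by rw [sieg_isometry, Units.val_one, one_mul]⟩, sieg_mem_specialLinear he hw⟩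

/-- Conjugating a product of two transvections by a Siegel element centralising part of it. -/
lemma SimOver.has_shift (h : SimOver Q M) {a α b β : ι → F} (hα : α ⬝ᵥ a = 0) (hβ : β ⬝ᵥ b = 0)
    {X : GL ι F} (hX : X ∈ M) (hXv : (X : Matrix ι ι F) = 1 + Matrix.vecMulVec a α + Matrix.vecMulVec b β)
    {u w : ι → F} (hu : Q u = 0) (huw : polar Q u w = 0) (hαu : α ⬝ᵥ u = 0) (hαw : α ⬝ᵥ w = 0)
    (hβu : β ⬝ᵥ u = 0) (hβw : β ⬝ᵥ w = 0) (hau : polar Q a u = 0) (haw : polar Q a w = 0) :
    Has M ((sieg u w hu huw : Matrix ι ι F) *ᵥ b - b) β := by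
  set Y := sieg u w hu huw with hY
  set z := (Y : Matrix ι ι F) *ᵥ b - b with hz
  have hYM : Y ∈ M := h.sieg_mem hu huw
  have hz' : z = polar Q b u • w - (polar Q b w + Q w * polar Q b u) • u := by
    rw [hz, hY, sieg_mulVec]; abel
  have hαz : α ⬝ᵥ z = 0 := by
    rw [hz', dotProduct_sub, dotProduct_smul, dotProduct_smul, hαu, hαw]; simp
  have hβz : β ⬝ᵥ z = 0 := by
    rw [hz', dotProduct_sub, dotProduct_smul, dotProduct_smul, hβu, hβw]; simp
  refine ⟨hβz, ?_⟩
  have hYa : (Y : Matrix ι ι F) *ᵥ a = a := by rw [hY, sieg_mulVec, hau, haw]; simp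
  have e1 : ((Y * X * Y⁻¹ : GL ι F) : Matrix ι ι F) =
      1 + Matrix.vecMulVec a α + Matrix.vecMulVec (b + z) β := by
    rw [Units.val_mul, Units.val_mul, hXv, mul_add, mul_add, add_mul, add_mul, mul_one, ← Units.val_mul,
      mul_inv_cancel, Units.val_one, Matrix.mul_vecMulVec, Matrix.vecMulVec_mul, Matrix.mul_vecMulVec,
      Matrix.vecMulVec_mul, hYa, sieg_vecMul_inv hu huw hαu hαw, sieg_vecMul_inv hu huw hβu hβw,
      hz, add_sub_cancel]
  have e2 : X * tv z β hβz = Y * X * Y⁻¹ := by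
    refine Units.ext ?_
    rw [Units.val_mul, e1, hXv, tv_val, mul_add, mul_one, add_mul, add_mul, one_mul,
      Matrix.vecMulVec_mul_vecMulVec, Matrix.vecMulVec_mul_vecMulVec, hαz, hβz]
    simp [Matrix.add_vecMulVec]; abel
  have e3 : tv z β hβz = X⁻¹ * (Y * X * Y⁻¹) := by rw [← e2, inv_mul_cancel_left]
  rw [e3]
  exact mul_mem (inv_mem hX) (mul_mem (mul_mem hYM hX) (inv_mem hYM))

/-- Without a transvection every element of the group preserves singular vectors. -/
lemma SimOver.exists_pair_of_moved (h : SimOver Q M) {g : GL ι F} (hgM : g ∈ M) {u : ι → F}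
    (hu : Q u ≠ 0) (hGu : Q ((g : Matrix ι ι F) *ᵥ u) = 0) :
    ∃ c d, c ≠ 0 ∧ d ≠ 0 ∧ Has M c (pv Q d) := by
  classical
  set G : Matrix ι ι F := (g : Matrix ι ι F)
  obtain ⟨t, ht⟩ : ∃ t, ∀ x, polar Q x t = polar Q (G *ᵥ x) (G *ᵥ u) := by
    obtain ⟨t, ht⟩ := pv_surj h.nd (pv Q (G *ᵥ u) ᵥ* G)
    exact ⟨t, fun x => by rw [← pv_dot, ht, ← Matrix.dotProduct_mulVec, pv_dot]⟩
  have hut : polar Q u t = 0 := by rw [ht, polar_self', hGu, mul_zero]
  have huu : polar Q u u ≠ 0 := by rw [polar_self']; exact mul_ne_zero h.two hu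
  have hGu0 : G *ᵥ u ≠ 0 := fun h0 => hu (by
    rw [mulVec_inj g (h0.trans (Matrix.mulVec_zero G).symm)]; simp)
  have ht0 : t ≠ 0 := fun h0 => hGu0 (h.nd.2 _ fun y => by
    obtain ⟨x, rfl⟩ := mulVec_surj g y
    show polar Q _ _ = 0
    rw [← ht, h0, polar_zero_right])
  -- a singular vector outside the plane and orthogonal to it
  obtain ⟨e, heu, het, heP, he⟩ : ∃ e, polar Q e u = 0 ∧ polar Q e t = 0 ∧
      e ∉ Submodule.span F {u, t} ∧ Q e = 0 := by
    let W : Submodule F (ι → F) := LinearMap.ker (polarLeft Q u) ⊓ LinearMap.ker (polarLeft Q t)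
    have hW : ∀ x, x ∈ W ↔ polar Q x u = 0 ∧ polar Q x t = 0 := fun x => by simp [W]
    obtain ⟨C, hC⟩ := Submodule.exists_isCompl (W ⊓ Submodule.span F {u, t})
    have hle : W ⊓ Submodule.span F {u, t} ≤ Submodule.span F {t} := by
      rintro x ⟨hxW, hx⟩
      obtain ⟨r, s, rfl⟩ := Submodule.mem_span_pair.1 hx
      have h1 := ((hW _).1 hxW).1
      rw [polar_add_left, polar_smul_left', polar_smul_left', polar_comm Q t u, hut, mul_zero, add_zero] at h1
      rw [(mul_eq_zero.1 h1).resolve_right huu, zero_smul, zero_add]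
      exact Submodule.smul_mem _ _ (Submodule.mem_span_singleton_self t)
    have h1 : Module.finrank F ↥(W ⊓ Submodule.span F {u, t}) ≤ 1 :=
      (Submodule.finrank_mono hle).trans ((finrank_span_le_card _).trans (by simp))
    have h3 : Fintype.card ι ≤ Module.finrank F W + 2 := by
      have e1 := Submodule.finrank_sup_add_finrank_inf_eq (LinearMap.ker (polarLeft Q u)) (LinearMap.ker (polarLeft Q t))
      have e2 := (LinearMap.ker (polarLeft Q u) ⊔ LinearMap.ker (polarLeft Q t)).finrank_le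
      have e3 := (polarLeft Q u).finrank_range_add_finrank_ker
      have e4 := (polarLeft Q t).finrank_range_add_finrank_ker
      have e5 := (LinearMap.range (polarLeft Q u)).finrank_le
      have e6 := (LinearMap.range (polarLeft Q t)).finrank_le
      rw [Module.finrank_fintype_fun_eq_card] at e2 e3 e4
      rw [Module.finrank_self] at e5 e6
      change _ + Module.finrank F W = _ at e1
      omega
    have hsplit : W ⊓ Submodule.span F {u, t} ⊔ C ⊓ W = W := by
      rw [← sup_inf_assoc_of_le C (inf_le_left : W ⊓ Submodule.span F {u, t} ≤ W), hC.sup_eq_top, top_inf_eq]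
    have hdis : W ⊓ Submodule.span F {u, t} ⊓ (C ⊓ W) = ⊥ := eq_bot_iff.2 fun x hx => by
      have : x ∈ W ⊓ Submodule.span F {u, t} ⊓ C := ⟨hx.1, hx.2.1⟩
      rwa [hC.inf_eq_bot] at this
    have h4 := Submodule.finrank_sup_add_finrank_inf_eq (W ⊓ Submodule.span F {u, t}) (C ⊓ W)
    rw [hsplit, hdis, finrank_bot] at h4
    obtain ⟨e, he, he0, heQ⟩ := exists_singular_in (Q := Q) h.two (C ⊓ W) (by have := h.dim; omega)
    obtain ⟨heu, het⟩ := (hW e).1 he.2
    refine ⟨e, heu, het, fun hm => he0 ?_, heQ⟩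
    have : e ∈ W ⊓ Submodule.span F {u, t} ⊓ (C ⊓ W) := ⟨⟨he.2, hm⟩, he⟩
    rwa [hdis, Submodule.mem_bot] at this
  have he0 : e ≠ 0 := fun h0 => heP (h0 ▸ zero_mem _)
  have hte : t ∉ Submodule.span F {e, u} := by
    intro hm
    obtain ⟨r, s, hrs⟩ := Submodule.mem_span_pair.1 hm
    rcases eq_or_ne r 0 with rfl | hr
    · rw [zero_smul, zero_add] at hrs
      have h1 := hut
      rw [← hrs, polar_smul_right'] at h1
      exact ht0 (by rw [← hrs, (mul_eq_zero.1 h1).resolve_right huu, zero_smul])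
    · refine heP (Submodule.mem_span_pair.2 ⟨-(r⁻¹ * s), r⁻¹, ?_⟩)
      rw [← hrs, smul_add, smul_smul, inv_mul_cancel₀ hr, one_smul]; module
  obtain ⟨w, hw', hwt⟩ := exists_polar h.nd _ hte 1
  have hw : polar Q e w = 0 := by rw [polar_comm]; exact hw' e (Submodule.subset_span (by simp))
  have hwu : polar Q u w = 0 := by rw [polar_comm]; exact hw' u (Submodule.subset_span (by simp))
  -- the conjugated Siegel element
  set φ₀ := Q w • pv Q e - pv Q w with hφ₀
  set α' := (φ₀ + (φ₀ ⬝ᵥ w) • pv Q e) ᵥ* ((g⁻¹ : GL ι F) : Matrix ι ι F) with hα'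
  set β := pv Q e ᵥ* ((g⁻¹ : GL ι F) : Matrix ι ι F) with hβ
  set a := G *ᵥ e
  set b := G *ᵥ w
  have hXM : g * sieg e w he hw * g⁻¹ ∈ M := mul_mem (mul_mem hgM (h.sieg_mem he hw)) (inv_mem hgM)
  have hee : polar Q e e = 0 := by rw [polar_self', he, mul_zero]
  have hα'a : α' ⬝ᵥ a = 0 := by
    rw [hα', dot_vecMul_inv, add_dotProduct, smul_dotProduct, hφ₀, sieg_dot₁ he hw, pv_dot, hee]
    simp
  have hβb : β ⬝ᵥ b = 0 := by rw [hβ, dot_vecMul_inv]; exact sieg_dot₂ hw
  have hXv : ((g * sieg e w he hw * g⁻¹ : GL ι F) : Matrix ι ι F) =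
      1 + Matrix.vecMulVec a α' + Matrix.vecMulVec b β := by
    have hE : (sieg e w he hw : Matrix ι ι F) =
        1 + Matrix.vecMulVec e (φ₀ + (φ₀ ⬝ᵥ w) • pv Q e) + Matrix.vecMulVec w (pv Q e) := by
      rw [sieg, Units.val_mul, tv_val, tv_val, add_mul, one_mul, mul_add, mul_one,
        Matrix.vecMulVec_mul_vecMulVec, Matrix.vecMulVec_add]
      abel
    rw [Units.val_mul, Units.val_mul, hE, mul_add, mul_add, add_mul, add_mul, mul_one, ← Units.val_mul,
      mul_inv_cancel, Units.val_one, Matrix.mul_vecMulVec, Matrix.vecMulVec_mul, Matrix.mul_vecMulVec,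
      Matrix.vecMulVec_mul]
  obtain ⟨d₁, hd₁⟩ := pv_surj h.nd α'
  obtain ⟨d₂, hd₂⟩ := pv_surj h.nd β
  have hd₂0 : d₂ ≠ 0 := fun h0 => he0 (h.nd.2 e fun x => by
    show polar Q x e = 0
    rw [← pv_dot, ← dot_vecMul_inv g, ← hβ, ← hd₂, h0, pv_zero, zero_dotProduct])
  set u₁ := G *ᵥ u
  have hα'u : α' ⬝ᵥ u₁ = 0 := by
    rw [hα', dot_vecMul_inv, add_dotProduct, smul_dotProduct, hφ₀, sub_dotProduct, smul_dotProduct, pv_dot,
      pv_dot, polar_comm Q u e, heu, hwu]
    simp
  have hβu : β ⬝ᵥ u₁ = 0 := by rw [hβ, dot_vecMul_inv, pv_dot, polar_comm, heu]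
  have hau : polar Q a u₁ = 0 := by rw [← ht, het]
  have hbu : polar Q b u₁ ≠ 0 := by rw [← ht, hwt]; exact one_ne_zero
  obtain ⟨y, hyv, hyu⟩ := exists_perp_notMem h.nd ![a, d₁, d₂, u₁] ![u₁] (by have := h.dim; omega)
  have huy : polar Q u₁ y = 0 := by rw [polar_comm]; exact hyv 3
  have hp := h.has_shift hα'a hβb hXM hXv hGu huy hα'u (by rw [← hd₁, pv_dot]; exact hyv 1)
    hβu (by rw [← hd₂, pv_dot]; exact hyv 2) hau (by rw [polar_comm]; exact hyv 0)
  rw [← hd₂] at hp
  refine ⟨_, d₂, fun h0 => hyu ?_, hd₂0, hp⟩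
  rw [sieg_mulVec] at h0
  refine (Submodule.mem_span_range_iff_exists_fun F).2
    ⟨fun _ => (polar Q b y + Q y * polar Q b u₁) / polar Q b u₁, ?_⟩
  have h0' : polar Q b u₁ • y = (polar Q b y + Q y * polar Q b u₁) • u₁ := by
    rw [← sub_eq_zero, ← h0]; abel
  simp only [Fin.sum_univ_one, Matrix.cons_val_zero]
  rw [div_eq_inv_mul, mul_smul, ← h0', inv_smul_smul₀ hbu]

/-- An element outside the similitude group produces a transvection. -/
lemma SimOver.exists_pair (h : SimOver Q M) {g : GL ι F} (hgM : g ∈ M)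
    (hg : g ∉ Cfsg.Geo.quadSimilarityGroup ⇑Q) : ∃ c d, c ≠ 0 ∧ d ≠ 0 ∧ Has M c (pv Q d) := by
  classical
  by_contra hno
  apply hg
  set G : Matrix ι ι F := (g : Matrix ι ι F)
  have hrep : ∀ v, ∃ y, ∀ x, polar Q (G *ᵥ x) y = polar Q x v := fun v => by
    obtain ⟨y, hy⟩ := pv_surj h.nd (pv Q v ᵥ* ((g⁻¹ : GL ι F) : Matrix ι ι F))
    exact ⟨y, fun x => by rw [← pv_dot, hy, dot_vecMul_inv, pv_dot]⟩
  choose D hD using hrep
  let S : (ι → F) → (ι → F) := fun v => ((g⁻¹ : GL ι F) : Matrix ι ι F) *ᵥ D v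
  have hGS : ∀ v, G *ᵥ S v = D v := fun v => by simp [S, G, Matrix.mulVec_mulVec, ← Units.val_mul]
  have hS : ∀ v x, polar Q (G *ᵥ x) (G *ᵥ S v) = polar Q x v := fun v x => by rw [hGS]; exact hD v x
  have huniq : ∀ v y, (∀ x, polar Q (G *ᵥ x) (G *ᵥ y) = polar Q x v) → S v = y := fun v y hy => by
    refine mulVec_inj g (sub_eq_zero.1 (h.nd.2 _ fun z => ?_))
    obtain ⟨x, rfl⟩ := mulVec_surj g z
    show polar Q (G *ᵥ x) (G *ᵥ S v - G *ᵥ y) = 0
    rw [polar_sub_right, hS, hy, sub_self]
  have hSadd : ∀ u v, S (u + v) = S u + S v := fun u v => huniq _ _ fun x => by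
    rw [Matrix.mulVec_add, polar_add_right, hS, hS, polar_add_right]
  have hSsmul : ∀ (c : F) v, S (c • v) = c • S v := fun c v => huniq _ _ fun x => by
    rw [Matrix.mulVec_smul, polar_smul_right', hS, polar_smul_right']
  have hsing : ∀ y, Q y = 0 → Q (G *ᵥ y) = 0 := fun y hy => by
    by_contra hne
    refine hno (h.exists_pair_of_moved (g := g⁻¹) (inv_mem hgM) hne ?_)
    rw [Matrix.mulVec_mulVec, ← Units.val_mul, inv_mul_cancel, Units.val_one, Matrix.one_mulVec, hy]
  have hline : ∀ e, Q e = 0 → e ≠ 0 → ∃ l : F, S e = l • e := by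
    intro e he he0
    obtain ⟨t, ht⟩ : ∃ t, ∀ x, polar Q x t = polar Q (G *ᵥ x) (G *ᵥ e) := by
      obtain ⟨t, ht⟩ := pv_surj h.nd (pv Q (G *ᵥ e) ᵥ* G)
      exact ⟨t, fun x => by rw [← pv_dot, ht, ← Matrix.dotProduct_mulVec, pv_dot]⟩
    have htm : t ∈ Submodule.span F {e} := by
      by_contra htn
      obtain ⟨v, hv, hve, hvt⟩ := sing_supply h.nd h.two ![e] (by have := h.dim; omega) (b := t)
        (by simpa using htn)
      have hve : polar Q v e = 0 := hve 0
      have h1 := hsing (v + e) (by rw [CfsgLib.Geometry.map_add', hv, he, hve]; ring)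
      rw [Matrix.mulVec_add, CfsgLib.Geometry.map_add', hsing v hv, hsing e he, ← ht] at h1
      exact hvt (by simpa using h1)
    obtain ⟨r, hr⟩ := Submodule.mem_span_singleton.1 htm
    have hr0 : r ≠ 0 := fun h0 => he0 (mulVec_inj g (by
      show G *ᵥ e = G *ᵥ 0
      rw [Matrix.mulVec_zero]
      refine h.nd.2 _ fun y => ?_
      obtain ⟨x, rfl⟩ := mulVec_surj g y
      show polar Q _ _ = 0
      rw [← ht, ← hr, h0, zero_smul, polar_zero_right]))
    refine ⟨r⁻¹, huniq _ _ fun x => ?_⟩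
    rw [Matrix.mulVec_smul, polar_smul_right', ← ht, ← hr, polar_smul_right', ← mul_assoc, inv_mul_cancel₀ hr0,
      one_mul]
  choose! l hl using hline
  have hpol : ∀ e, Q e = 0 → e ≠ 0 → ∀ x, polar Q x e = l e * polar Q (G *ᵥ x) (G *ᵥ e) := fun e he he0 x => by
    rw [← hS e x, hl e he he0, Matrix.mulVec_smul, polar_smul_right']
  have hconst : ∀ e e', Q e = 0 → e ≠ 0 → Q e' = 0 → e' ≠ 0 → l e = l e' := by
    intro e e' he he0 he' he0'
    by_cases hp : polar Q e e' = 0
    swap
    · have h1 := hpol e' he' he0' e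
      have h2 := hpol e he he0 e'
      rw [polar_comm Q e' e, polar_comm Q (G *ᵥ e')] at h2
      have : polar Q (G *ᵥ e) (G *ᵥ e') ≠ 0 := fun h0 => hp (by rw [h1, h0, mul_zero])
      exact mul_right_cancel₀ this (h2.symm.trans h1)
    by_cases hdep : e' ∈ Submodule.span F {e}
    · obtain ⟨c, rfl⟩ := Submodule.mem_span_singleton.1 hdep
      have h1 := hl _ he' he0'
      rw [hSsmul, hl e he he0, smul_smul, smul_smul] at h1
      have hc : c ≠ 0 := fun h0 => he0' (by rw [h0, zero_smul])
      have h3 := smul_left_injective F he0 h1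
      exact mul_left_cancel₀ hc (by simpa [mul_comm] using h3)
    · have hsum : Q (e + e') = 0 := by
        rw [CfsgLib.Geometry.map_add', he, he', hp]; ring
      have hsum0 : e + e' ≠ 0 := fun h0 => hdep (Submodule.mem_span_singleton.2 ⟨-1, by
        rw [neg_one_smul, neg_eq_of_add_eq_zero_right h0]⟩)
      have h1 := hl _ hsum hsum0
      rw [hSadd, hl e he he0, hl e' he' he0', smul_add] at h1
      have h3 : (l e - l (e + e')) • e + (l e' - l (e + e')) • e' = 0 := by
        rw [sub_smul, sub_smul, sub_add_sub_comm, h1, sub_self]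
      obtain ⟨h4, h5⟩ := LinearIndependent.pair_iff.1 ((LinearIndependent.pair_iff' he0).2 fun r hr =>
        hdep (Submodule.mem_span_singleton.2 ⟨r, hr⟩)) _ _ h3
      linear_combination h4 - h5
  obtain ⟨e₀, -, he₀0, he₀⟩ := exists_singular_in (Q := Q) h.two ⊤ (by
    rw [finrank_top, Module.finrank_fintype_fun_eq_card]; have := h.dim; omega)
  have hall : ∀ v, S v = l e₀ • v := by
    let W : Submodule F (ι → F) :=
      { carrier := {v | S v = l e₀ • v}
        zero_mem' := by simpa using hSsmul 0 0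
        add_mem' := fun {a b} ha hb => by
          show S (a + b) = _
          rw [hSadd, smul_add, show S a = _ from ha, show S b = _ from hb]
        smul_mem' := fun c a ha => by
          show S (c • a) = _
          rw [hSsmul, show S a = _ from ha, smul_comm] }
    by_contra hcon
    push Not at hcon
    obtain ⟨v, hv⟩ := hcon
    obtain ⟨z, hz, hzv⟩ := exists_polar h.nd W (x := v) hv 1
    have hz0 : z ∉ Submodule.span F (Set.range (![] : Fin 0 → ι → F)) := by
      simp only [Matrix.range_empty, Submodule.span_empty, Submodule.mem_bot]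
      intro h0; rw [h0, polar_zero_left] at hzv; exact zero_ne_one hzv
    obtain ⟨u, hu, -, huz⟩ := sing_supply h.nd h.two ![] (by have := h.dim; omega) hz0
    have hu0 : u ≠ 0 := fun h0 => huz (by rw [h0, polar_zero_left])
    have huW : u ∈ W := by
      show S u = _
      rw [hl u hu hu0, hconst u e₀ hu hu0 he₀ he₀0]
    exact huz (by rw [polar_comm]; exact hz u huW)
  have hl0 : l e₀ ≠ 0 := fun h0 => he₀0 (h.nd.2 _ fun x => by
    show polar Q x e₀ = 0
    rw [hpol e₀ he₀ he₀0, h0, zero_mul])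
  refine ⟨Units.mk0 (l e₀)⁻¹ (inv_ne_zero hl0), fun v => ?_⟩
  have h1 : polar Q v v = l e₀ * polar Q (G *ᵥ v) (G *ᵥ v) := by
    rw [← hS v v, hall v, Matrix.mulVec_smul, polar_smul_right']
  rw [polar_self', polar_self'] at h1
  rw [Units.val_mk0, eq_inv_mul_iff_mul_eq₀ hl0]
  exact mul_left_cancel₀ h.two (by linear_combination -h1)

/-- A transvection inside gives a full centre. -/
lemma SimOver.centre_of_pair (h : SimOver Q M) {c d : ι → F} (hc : c ≠ 0) (hd : d ≠ 0) (hcd : Has M c (pv Q d)) :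
    ∃ c, c ≠ 0 ∧ TvCentre M c := by
  classical
  wlog hind : d ∉ Submodule.span F {c} generalizing c d
  · obtain ⟨k, rfl⟩ := Submodule.mem_span_singleton.1 (not_not.1 hind)
    have hk : k ≠ 0 := fun h0 => hd (by rw [h0, zero_smul])
    have hcc : polar Q c c = 0 := by
      have := hcd.dot
      rw [pv_dot, polar_smul_right'] at this
      exact (mul_eq_zero.1 this).resolve_left hk
    have hQc : Q c = 0 := by rw [polar_self'] at hcc; exact (mul_eq_zero.1 hcc).resolve_left h.two
    obtain ⟨u, hu, -, huc⟩ := sing_supply h.nd h.two ![] (by have := h.dim; omega) (b := c) (by simpa using hc)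
    obtain ⟨w, hw, hwQ⟩ : ∃ w, polar Q u w = 0 ∧ Q w ≠ 0 := by
      obtain ⟨w, hw1, hw2⟩ := exists_perp_notMem h.nd ![u] ![u] (by have := h.dim; omega)
      obtain ⟨w', hw1', hw2'⟩ := exists_polar h.nd (Submodule.span F {u}) (x := w) (by simpa using hw2) 1
      have e1 : polar Q u w' = 0 := by rw [polar_comm]; exact hw1' u (Submodule.mem_span_singleton_self u)
      have e2 : polar Q u w = 0 := by rw [polar_comm]; exact hw1 0
      by_cases h1 : Q w = 0
      · by_cases h3 : Q w' = 0
        · refine ⟨w' + w, by rw [polar_add_right, e1, e2, add_zero], ?_⟩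
          rw [CfsgLib.Geometry.map_add', h1, h3, hw2']; simp
        · exact ⟨w', e1, h3⟩
      · exact ⟨w, e2, h1⟩
    set Y := sieg u w hu hw
    set c' := (Y : Matrix ι ι F) *ᵥ c with hc'
    have hcc' : polar Q c c' = -(Q w * polar Q c u * polar Q c u) := by
      rw [hc', sieg_mulVec, polar_sub_right, polar_add_right, polar_smul_right', polar_smul_right', hcc]; ring
    have hne : polar Q c c' ≠ 0 := by
      rw [hcc', neg_ne_zero]
      exact mul_ne_zero (mul_ne_zero hwQ (by rwa [polar_comm])) (by rwa [polar_comm])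
    have hY : Has M c' (pv Q (k • c')) := by
      refine (hcd.conj (h.sieg_mem hu hw)).congr rfl (dot_ext fun y => ?_)
      obtain ⟨x, rfl⟩ := mulVec_surj Y y
      rw [dot_vecMul_inv, pv_dot, pv_dot, polar_smul_right', polar_smul_right']
      have h5 := sieg_isometry hu hw
      congr 1
      simp only [c', polar, ← Matrix.mulVec_add]
      rw [h5, h5, h5]
    have h4 := hcd.conj_tv' hY
    set t := k * polar Q c' c with ht
    have ht0 : t ≠ 0 := mul_ne_zero hk (by rwa [polar_comm])
    have eC : c' + (pv Q (k • c) ⬝ᵥ c') • c = c' + t • c := by rw [pv_dot, polar_smul_right']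
    have eA : pv Q (k • c') - (pv Q (k • c') ⬝ᵥ c) • pv Q (k • c) = pv Q (k • (c' - t • c)) := by
      rw [pv_dot, polar_smul_right', ← pv_smul, ← pv_sub, polar_comm Q c c', ← ht]
      congr 1; module
    rw [eC, eA] at h4
    have hc'c : ∀ r : F, c' ≠ r • c := fun r hr => hne (by rw [hr, polar_smul_right', hcc, mul_zero])
    refine this ?_ ?_ h4 ?_
    · intro h0; exact hc'c (-t) (by rw [neg_smul]; exact eq_neg_of_add_eq_zero_left h0)
    · refine smul_ne_zero hk fun h0 => hc'c t (sub_eq_zero.1 h0)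
    · intro hm
      obtain ⟨r, hr⟩ := Submodule.mem_span_singleton.1 hm
      have h5 : (r - k) • c' + ((r + k) * t) • c = 0 := by
        rw [show (r - k) • c' + ((r + k) * t) • c = r • (c' + t • c) - k • (c' - t • c) by module, hr, sub_self]
      obtain ⟨h6, h7⟩ := LinearIndependent.pair_iff.1 ((LinearIndependent.pair_iff' hc).2 fun r hr =>
        hc'c r hr.symm) _ _ (by rwa [add_comm] at h5)
      rcases mul_eq_zero.1 h6 with h8 | h8
      · exact mul_ne_zero h.two hk (by linear_combination h8 - h7)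
      · exact ht0 h8
  refine ⟨c, hc, tvCentre_iff.2 fun φ hφ => ?_⟩
  let L : Submodule F (ι → F) :=
    { carrier := {y | ∀ μ : F, Has M c (pv Q (μ • y))}
      zero_mem' := fun μ => has_of_zero (Or.inr (by rw [smul_zero, pv_zero]))
      add_mem' := fun {y z} hy hz μ => by rw [smul_add, pv_add]; exact (hy μ).add_right (hz μ)
      smul_mem' := fun a y hy μ => by rw [smul_smul]; exact hy _ }
  have hsing : ∀ u, Q u = 0 → polar Q u c = 0 → polar Q u d ≠ 0 → u ∈ L := by
    intro u hu huc hud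
    obtain ⟨w, hw, hwQ⟩ : ∃ w, (∀ i, polar Q w ((![u, c, d] : Fin 3 → ι → F) i) = 0) ∧ Q w ≠ 0 := by
      by_contra hcon
      push Not at hcon
      set T := Submodule.span F (Set.range ![u, c, d])
      let L' : (ι → F) →ₗ[F] (Fin 3 → F) := LinearMap.pi fun i => polarLeft Q (![u, c, d] i)
      have hker : ∀ x, x ∈ LinearMap.ker L' ↔ ∀ i, polar Q x ((![u, c, d] : Fin 3 → ι → F) i) = 0 := fun x => by
        simp [L', funext_iff]
      have hts : ∀ x ∈ LinearMap.ker L', ∀ y ∈ LinearMap.ker L', polar Q x y = 0 := fun x hx y hy => by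
        have := hcon (x + y) fun i => by rw [polar_add_left, (hker x).1 hx, (hker y).1 hy, add_zero]
        rw [CfsgLib.Geometry.map_add', hcon x ((hker x).1 hx), hcon y ((hker y).1 hy)] at this
        simpa using this
      have hle : LinearMap.ker L' ≤ T := fun x hx => by
        by_contra hxT
        obtain ⟨y, hy, hyx⟩ := exists_polar h.nd T hxT 1
        rw [hts y ((hker y).2 fun i => hy _ (Submodule.subset_span ⟨i, rfl⟩)) x hx] at hyx
        exact zero_ne_one hyx
      have heq : LinearMap.ker L' = T := Submodule.eq_of_le_of_finrank_le hle (by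
        have h1 := L'.finrank_range_add_finrank_ker
        have h3 := (LinearMap.range L').finrank_le
        have h4 : Module.finrank F T ≤ 3 := (finrank_range_le_card _).trans (by simp)
        have h5 := h.dim
        rw [Module.finrank_fintype_fun_eq_card] at h1
        simp [Module.finrank_fintype_fun_eq_card] at h3
        omega)
      exact hud (hts u (heq ▸ Submodule.subset_span ⟨0, rfl⟩) d (heq ▸ Submodule.subset_span ⟨2, rfl⟩))
    have huw : polar Q u w = 0 := by rw [polar_comm]; exact hw 0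
    -- square multiples
    have hsq : ∀ s : F, Has M c (pv Q ((s * s * Q w * polar Q d u) • u)) := by
      intro s
      have hsw : polar Q u (s • w) = 0 := by rw [polar_smul_right', huw, mul_zero]
      set Y := sieg u (s • w) hu hsw
      have hYc : (Y : Matrix ι ι F) *ᵥ c = c := by
        rw [sieg_mulVec, polar_comm Q c u, huc, polar_smul_right', polar_comm Q c w,
          show polar Q w c = 0 from hw 1]
        simp
      set dY := (Y : Matrix ι ι F) *ᵥ d with hdY
      have hYd : pv Q d ᵥ* ((Y⁻¹ : GL ι F) : Matrix ι ι F) = pv Q dY := by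
        refine dot_ext fun y => ?_
        obtain ⟨x, rfl⟩ := mulVec_surj Y y
        rw [dot_vecMul_inv, pv_dot, pv_dot]
        have h5 := sieg_isometry hu hsw
        simp only [dY, polar, ← Matrix.mulVec_add]
        rw [h5, h5, h5]
      have h5 := hcd.conj (h.sieg_mem hu hsw)
      rw [hYc, hYd] at h5
      -- the same with the opposite parameter
      have hsw' : polar Q u ((-s) • w) = 0 := by rw [polar_smul_right', huw, mul_zero]
      set Y' := sieg u ((-s) • w) hu hsw'
      have hYc' : (Y' : Matrix ι ι F) *ᵥ c = c := by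
        rw [sieg_mulVec, polar_comm Q c u, huc, polar_smul_right', polar_comm Q c w,
          show polar Q w c = 0 from hw 1]
        simp
      set dY' := (Y' : Matrix ι ι F) *ᵥ d with hdY'
      have hYd' : pv Q d ᵥ* ((Y'⁻¹ : GL ι F) : Matrix ι ι F) = pv Q dY' := by
        refine dot_ext fun y => ?_
        obtain ⟨x, rfl⟩ := mulVec_surj Y' y
        rw [dot_vecMul_inv, pv_dot, pv_dot]
        have h5 := sieg_isometry hu hsw'
        simp only [dY', polar, ← Matrix.mulVec_add]
        rw [h5, h5, h5]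
      have h6 := hcd.conj (h.sieg_mem hu hsw')
      rw [hYc', hYd'] at h6
      have h7 := ((hcd.add_right hcd).sub_right (h5.add_right h6))
      rw [← pv_add, ← pv_add, ← pv_sub] at h7
      have h8 : d + d - (dY + dY') = (2 * (s * s * Q w * polar Q d u)) • u := by
        rw [hdY, hdY', sieg_mulVec, sieg_mulVec, polar_smul_right', polar_smul_right',
          polar_comm Q d w, show polar Q w d = 0 from hw 2, CfsgLib.Geometry.map_smul',
          CfsgLib.Geometry.map_smul']
        module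
      rw [h8] at h7
      -- halve the parameter
      obtain ⟨q, hq⟩ : ∃ q : ℕ, (q : F) * 2 = 1 := by
        obtain ⟨p, hp⟩ := CharP.exists F
        haveI : Fact p.Prime := ⟨(CharP.char_is_prime_or_zero F p).resolve_right
          (CharP.char_ne_zero_of_finite F p)⟩
        have hp2 : p ≠ 2 := fun h2 => h.two (by rw [← Nat.cast_two, ← h2, CharP.cast_eq_zero])
        refine ⟨(p + 1) / 2, ?_⟩
        obtain ⟨r, hr⟩ := (Fact.out (p := p.Prime)).odd_of_ne_two hp2
        rw [hr, show (2 * r + 1 + 1) / 2 = r + 1 by omega, ← Nat.cast_two, ← Nat.cast_mul,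
          show (r + 1) * 2 = p + 1 by omega, Nat.cast_add, CharP.cast_eq_zero, Nat.cast_one, zero_add]
      have h9 : ∀ m : ℕ, Has M c (pv Q (((m : F) * (2 * (s * s * Q w * polar Q d u))) • u)) := by
        intro m
        induction m with
        | zero => exact has_of_zero (Or.inr (by simp [pv_zero]))
        | succ m ih => rw [Nat.cast_succ, add_mul, one_mul, add_smul, pv_add]; exact ih.add_right h7
      have h10 := h9 q
      rwa [← mul_assoc, hq, one_mul] at h10
    intro μ
    have hr0 : Q w * polar Q d u ≠ 0 := mul_ne_zero hwQ (by rwa [polar_comm])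
    set ν := μ / (Q w * polar Q d u)
    have h2' : (2 : F) ≠ 0 := h.two
    have h11 := (hsq ((1 + ν) / 2)).sub_right (hsq ((1 - ν) / 2))
    rw [← pv_sub, ← sub_smul] at h11
    convert h11 using 3
    have hν : ν * (Q w * polar Q d u) = μ := div_mul_cancel₀ _ hr0
    field_simp
    linear_combination -4 * hν
  obtain ⟨y, rfl⟩ := pv_surj h.nd φ
  rw [pv_dot] at hφ
  suffices hy : y ∈ L by simpa using hy 1
  by_contra hy
  obtain ⟨z, hz, hzy⟩ := exists_polar h.nd L hy 1
  have hzc : z ∉ Submodule.span F {c} := by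
    intro hm
    obtain ⟨r, rfl⟩ := Submodule.mem_span_singleton.1 hm
    rw [polar_smul_left', hφ, mul_zero] at hzy
    exact zero_ne_one hzy
  obtain ⟨u, hu, huc, hud, huz⟩ := sing_supply₂ h.nd h.two h.dim hind hzc
  exact huz (by rw [polar_comm]; exact hz u (hsing u hu huc hud))

/-- The similitude group is maximal. -/
theorem quadSimilarity_maximal (hQ : (polarBilin Q).Nondegenerate) (h2 : (2 : F) ≠ 0)
    (hn : 6 ≤ Fintype.card ι) :
    Cfsg.Geo.IsMaximalIn (Cfsg.Geo.specialLinear ι F)
      (Cfsg.Geo.quadSimilarityGroup ⇑Q ⊓ Cfsg.Geo.specialLinear ι F) := by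
  classical
  constructor
  · refine lt_of_le_of_ne inf_le_right fun heq => ?_
    obtain ⟨e, -, he0, he⟩ := exists_singular_in (Q := Q) h2 ⊤ (by
      rw [finrank_top, Module.finrank_fintype_fun_eq_card]; omega)
    obtain ⟨f, hf, hef, -⟩ := exists_partner hQ ⊥ (by simpa using he0) he (fun h hh => by
      rw [(Submodule.mem_bot F).1 hh, polar_zero_right])
    have h0 : pv Q e ⬝ᵥ e = 0 := by rw [pv_dot, polar_self', he, mul_zero]
    have hmem : tv e (pv Q e) h0 ∈ Cfsg.Geo.quadSimilarityGroup ⇑Q ⊓ Cfsg.Geo.specialLinear ι F := by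
      rw [heq]; exact tv_mem_specialLinear _ _ _
    obtain ⟨k, hk⟩ := hmem.1
    have hfe : polar Q f e = 1 := by rw [polar_comm]; exact hef
    have h3 := hk f
    rw [tv_mulVec, pv_dot, hfe, one_smul, CfsgLib.Geometry.map_add', hf, he, hfe, mul_zero] at h3
    simp at h3
  intro M hHM hMS
  refine or_iff_not_imp_left.2 fun hne => le_antisymm hMS (specialLinear_le_of_tv M ?_)
  have h : SimOver Q M := ⟨hQ, h2, hn, hHM⟩
  obtain ⟨g, hgM, hg⟩ : ∃ g ∈ M, g ∉ Cfsg.Geo.quadSimilarityGroup ⇑Q := by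
    by_contra hcon
    push Not at hcon
    exact hne (le_antisymm (fun g hg => ⟨hcon g hg, hMS hg⟩) hHM)
  obtain ⟨c₁, d₁, hc₁, hd₁, hp⟩ := h.exists_pair hgM hg
  obtain ⟨c, hc, hC⟩ := h.centre_of_pair hc₁ hd₁ hp
  -- centres are closed under the plane spanned by two of them
  have hpair : ∀ {x y}, TvCentre M x → TvCentre M y → y ∉ Submodule.span F {x} → ∀ t : F, TvCentre M (y + t • x) := by
    intro x y hx hy hyx t
    obtain ⟨φ, hφ, hφy⟩ := exists_ann _ y hyx
    have h0 : (t • φ) ⬝ᵥ x = 0 := by rw [smul_dotProduct, hφ x (Submodule.mem_span_singleton_self x), smul_zero]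
    have h1 := hy.map (g := tv x (t • φ) h0) (hx _ h0)
    rwa [tv_mulVec, smul_dotProduct, hφy, smul_eq_mul, mul_one] at h1
  let W : Submodule F (ι → F) :=
    { carrier := {x | TvCentre M x}
      zero_mem' := by simpa using hC.smul 0
      smul_mem' := fun a x hx => hx.smul a
      add_mem' := fun {x y} hx hy => by
        by_cases hyx : y ∈ Submodule.span F {x}
        · obtain ⟨r, rfl⟩ := Submodule.mem_span_singleton.1 hyx
          show TvCentre M (x + r • x)
          rw [show x + r • x = (1 + r) • x by module]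
          exact TvCentre.smul hx _
        · show TvCentre M (x + y)
          rw [show x + y = y + (1 : F) • x by module]
          exact hpair hx hy hyx 1 }
  intro v
  show v ∈ W
  by_contra hv
  obtain ⟨z, hz, hzv⟩ := exists_polar hQ W hv 1
  have hz0 : z ∉ Submodule.span F {(0 : ι → F)} := by
    rw [Submodule.span_zero_singleton, Submodule.mem_bot]
    intro h0; rw [h0, polar_zero_left] at hzv; exact zero_ne_one hzv
  have hc0 : c ∉ Submodule.span F {(0 : ι → F)} := by simpa using hc
  obtain ⟨u, hu, -, huc, huz⟩ := sing_supply₂ hQ h2 hn hc0 hz0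
  have huW : u ∈ W := by
    obtain ⟨w, hw, hwQ⟩ : ∃ w, (∀ i, polar Q w ((![u, c] : Fin 2 → ι → F) i) = 0) ∧ Q w ≠ 0 := by
      obtain ⟨w, hw1, hw2⟩ := exists_perp_notMem hQ ![u, c] ![u, c] (by omega)
      obtain ⟨w', hw1', hw2'⟩ := exists_polar hQ (Submodule.span F (Set.range ![u, c])) hw2 1
      have e1 : ∀ i, polar Q w' ((![u, c] : Fin 2 → ι → F) i) = 0 := fun i =>
        hw1' _ (Submodule.subset_span ⟨i, rfl⟩)
      by_cases h1 : Q w = 0
      · by_cases h3 : Q w' = 0
        · refine ⟨w' + w, fun i => by rw [polar_add_left, e1, hw1, add_zero], ?_⟩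
          rw [CfsgLib.Geometry.map_add', h1, h3, hw2']; simp
        · exact ⟨w', e1, h3⟩
      · exact ⟨w, hw1, h1⟩
    have huw : polar Q u w = 0 := by rw [polar_comm]; exact hw 0
    have hw' : polar Q u (-w) = 0 := by rw [polar_neg_right, huw, neg_zero]
    have hcu : polar Q c u ≠ 0 := by rwa [polar_comm]
    have hCW : c ∈ W := hC
    have hmem : c + c - ((sieg u w hu huw : Matrix ι ι F) *ᵥ c + (sieg u (-w) hu hw' : Matrix ι ι F) *ᵥ c) ∈ W :=
      W.sub_mem (W.add_mem hCW hCW)
        (W.add_mem (hC.map (h.sieg_mem hu huw)) (hC.map (h.sieg_mem hu hw')))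
    have h8 : c + c - ((sieg u w hu huw : Matrix ι ι F) *ᵥ c + (sieg u (-w) hu hw' : Matrix ι ι F) *ᵥ c) =
        (2 * (Q w * polar Q c u)) • u := by
      rw [sieg_mulVec, sieg_mulVec, polar_neg_right, QuadraticMap.map_neg]
      module
    rw [h8] at hmem
    exact (W.smul_mem_iff (mul_ne_zero h2 (mul_ne_zero hwQ hcu))).1 hmem
  exact huz (by rw [polar_comm]; exact hz u huW)

end CfsgLib.Maximal
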