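import Mathlib
import Cfsg.Agent.Lib.Maximal.OrthSim

/-!
The similitudes of a quadratic form form a maximal subgroup of `SL₄` in odd characteristic, for both types of
form and every odd field.
-/

set_option autoImplicit false
set_option linter.unusedSectionVars false
set_option linter.unusedSimpArgs false

namespace CfsgLib.Maximal.OrthFour

open scoped Matrix
open QuadraticMap CfsgLib.Geometry

variable {ι : Type} [Fintype ι] [DecidableEq ι] {F : Type*} [Field F] [Fintype F]
variable {Q : QuadraticForm F (ι → F)} {M : Subgroup (GL ι F)}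

/-- The standing hypotheses. -/
structure Over (Q : QuadraticForm F (ι → F)) (M : Subgroup (GL ι F)) : Prop where
  nd : (polarBilin Q).Nondegenerate
  two : (2 : F) ≠ 0
  dim : Fintype.card ι = 4
  le : Cfsg.Geo.quadSimilarityGroup ⇑Q ⊓ Cfsg.Geo.specialLinear ι F ≤ M

lemma Over.sieg_mem (h : Over Q M) {e w : ι → F} (he : Q e = 0) (hw : polar Q e w = 0) : sieg e w he hw ∈ M :=
  h.le ⟨⟨1, fun v => by rw [sieg_isometry, Units.val_one, one_mul]⟩, sieg_mem_specialLinear he hw⟩

lemma polar_eq (x y : ι → F) : polar Q x y = polar Q y x := polar_comm Q x y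

/-- A vector that pairs trivially with everything vanishes. -/
lemma Over.eq_zero (h : Over Q M) {x : ι → F} (hx : ∀ y, polar Q y x = 0) : x = 0 :=
  h.nd.2 x fun y => hx y

/-- A nonsingular vector orthogonal to a hyperbolic pair. -/
lemma Over.exists_nonsing (h : Over Q M) {e f : ι → F} (he : Q e = 0) (hf : Q f = 0) (hef : polar Q e f = 1) :
    ∃ w, polar Q w e = 0 ∧ polar Q w f = 0 ∧ Q w ≠ 0 := by
  by_contra hcon
  push Not at hcon
  obtain ⟨p, hp, hp0⟩ := exists_perp_notMem h.nd ![e, f] (![] : Fin 0 → ι → F) (by rw [h.dim]; norm_num)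
  have hpe : polar Q p e = 0 := hp 0
  have hpf : polar Q p f = 0 := hp 1
  simp only [Matrix.range_empty, Submodule.span_empty, Submodule.mem_bot] at hp0
  refine hp0 (h.eq_zero fun y => ?_)
  set y' := y - polar Q y f • e - polar Q y e • f
  have hee : polar Q e e = 0 := by rw [polar_self', he, mul_zero]
  have hff : polar Q f f = 0 := by rw [polar_self', hf, mul_zero]
  have h1 : polar Q y' e = 0 := by
    simp only [y', polar_sub_left, polar_smul_left', hee, polar_eq f e, hef]; ring
  have h2 : polar Q y' f = 0 := by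
    simp only [y', polar_sub_left, polar_smul_left', hff, hef]; ring
  have h3 := hcon (y' + p) (by rw [polar_add_left, h1, hpe, add_zero]) (by rw [polar_add_left, h2, hpf, add_zero])
  rw [CfsgLib.Geometry.map_add', hcon y' h1 h2, hcon p hpe hpf, zero_add, zero_add] at h3
  have h4 : y = y' + polar Q y f • e + polar Q y e • f := by simp only [y']; module
  rw [h4, polar_add_left, polar_add_left, polar_smul_left', polar_smul_left', h3, polar_eq e p, polar_eq f p,
    hpe, hpf]
  ring

/-- A singular vector with a partner. -/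
lemma Over.exists_pair' (h : Over Q M) {e x : ι → F} (he : Q e = 0) (hx : polar Q e x ≠ 0) :
    ∃ f, Q f = 0 ∧ polar Q e f = 1 ∧ ∃ r s : F, x = r • e + s • f := by
  set c := polar Q e x with hc
  refine ⟨c⁻¹ • x - (c⁻¹ * c⁻¹ * Q x) • e, ?_, ?_, c⁻¹ * Q x, c, ?_⟩
  · rw [CfsgLib.Geometry.map_sub', CfsgLib.Geometry.map_smul', CfsgLib.Geometry.map_smul', he, polar_smul_left',
      polar_smul_right', polar_eq x e, ← hc]
    field_simp; ring
  · rw [polar_sub_right, polar_smul_right', polar_smul_right', polar_self', he, ← hc, mul_zero, mul_zero, sub_zero,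
      inv_mul_cancel₀ hx]
  · rw [smul_sub, smul_smul, smul_smul, mul_inv_cancel₀ hx, one_smul]
    rw [show c * (c⁻¹ * c⁻¹ * Q x) = c⁻¹ * Q x by field_simp]
    abel

/-- A frame for the hyperplane orthogonal to a nonsingular vector. -/
lemma Over.frame3 (h : Over Q M) {c e : ι → F} (hc : Q c ≠ 0) (he : Q e = 0) (he0 : e ≠ 0)
    (hec : polar Q e c = 0) : ∃ f n, Q f = 0 ∧ polar Q f c = 0 ∧ polar Q e f = 1 ∧ polar Q n c = 0 ∧
      polar Q n e = 0 ∧ polar Q n f = 0 ∧ Q n ≠ 0 ∧
      ∀ x, polar Q x c = 0 → ∃ r s t : F, x = r • e + s • f + t • n := by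
  have hcc : polar Q c c ≠ 0 := by rw [polar_self']; exact mul_ne_zero h.two hc
  have hens : e ∉ Submodule.span F {c} := fun hm => by
    obtain ⟨r, hr⟩ := Submodule.mem_span_singleton.1 hm
    rw [← hr, polar_smul_left'] at hec
    exact he0 (by rw [← hr, (mul_eq_zero.1 hec).resolve_right hcc, zero_smul])
  obtain ⟨x, hx, hxe⟩ := exists_polar h.nd (Submodule.span F {c}) hens 1
  have hxc : polar Q x c = 0 := hx c (Submodule.mem_span_singleton_self c)
  set f := x - Q x • e with hf
  have hee : polar Q e e = 0 := by rw [polar_self', he, mul_zero]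
  have hfc : polar Q f c = 0 := by rw [hf, polar_sub_left, polar_smul_left', hxc, hec]; ring
  have hef : polar Q e f = 1 := by rw [hf, polar_sub_right, polar_smul_right', hee, polar_eq e x, hxe]; ring
  have hfQ : Q f = 0 := by
    rw [hf, CfsgLib.Geometry.map_sub', CfsgLib.Geometry.map_smul', he, polar_smul_right', hxe]; ring
  have hff : polar Q f f = 0 := by rw [polar_self', hfQ, mul_zero]
  obtain ⟨n, hn, hn0⟩ := exists_perp_notMem h.nd ![c, e, f] (![] : Fin 0 → ι → F) (by rw [h.dim]; norm_num)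
  have hnc : polar Q n c = 0 := hn 0
  have hne : polar Q n e = 0 := hn 1
  have hnf : polar Q n f = 0 := hn 2
  simp only [Matrix.range_empty, Submodule.span_empty, Submodule.mem_bot] at hn0
  let L : (ι → F) →ₗ[F] (Fin 3 → F) := LinearMap.pi fun i => polarLeft Q (![c, e, f] i)
  have hker : ∀ x, x ∈ LinearMap.ker L ↔ polar Q x c = 0 ∧ polar Q x e = 0 ∧ polar Q x f = 0 := fun x => by
    simp [L, funext_iff, Fin.forall_fin_succ]
  have hsurj : Function.Surjective L := fun v => by
    refine ⟨(v 0 / polar Q c c) • c + v 2 • e + v 1 • f, funext fun i => ?_⟩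
    have hLi : ∀ z, L z i = polar Q z (![c, e, f] i) := fun z => by simp [L]
    rw [hLi]
    fin_cases i <;>
      simp [polar_add_left, polar_smul_left', hec, hfc, hee, hff, hef, polar_eq c e, polar_eq c f,
        polar_eq f e, div_mul_cancel₀ _ hcc, -polar_self, -polar_self']
  have hdim : Module.finrank F (LinearMap.ker L) = 1 := by
    have h1 := L.finrank_range_add_finrank_ker
    rw [LinearMap.range_eq_top.2 hsurj, finrank_top, Module.finrank_fintype_fun_eq_card,
      Module.finrank_fintype_fun_eq_card, Fintype.card_fin, h.dim] at h1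
    omega
  have hline : ∀ z, polar Q z c = 0 → polar Q z e = 0 → polar Q z f = 0 → ∃ t : F, z = t • n := by
    intro z h1 h2 h3
    obtain ⟨t, ht⟩ := (finrank_eq_one_iff_of_nonzero' (⟨n, (hker n).2 ⟨hnc, hne, hnf⟩⟩ : LinearMap.ker L)
      (fun e0 => hn0 (congrArg Subtype.val e0))).1 hdim ⟨z, (hker z).2 ⟨h1, h2, h3⟩⟩
    exact ⟨t, (congrArg Subtype.val ht).symm⟩
  have hexp : ∀ x, ∃ a r s t : F, x = a • c + r • e + s • f + t • n := by
    intro x
    obtain ⟨t, ht⟩ := hline (x - (polar Q x c / polar Q c c) • c - polar Q x f • e - polar Q x e • f)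
      (by simp only [polar_sub_left, polar_smul_left', hec, hfc]; rw [div_mul_cancel₀ _ hcc]; ring)
      (by simp only [polar_sub_left, polar_smul_left', hee, polar_eq c e, hec, polar_eq f e, hef]; ring)
      (by simp only [polar_sub_left, polar_smul_left', hff, polar_eq c f, hfc, hef]; ring)
    exact ⟨polar Q x c / polar Q c c, polar Q x f, polar Q x e, t, by rw [← ht]; module⟩
  have hQn : Q n ≠ 0 := fun h0 => hn0 (h.eq_zero fun y => by
    obtain ⟨a, r, s, t, rfl⟩ := hexp y
    simp [polar_add_left, polar_smul_left', polar_eq c n, hnc, polar_eq e n, hne, polar_eq f n, hnf, polar_self', h0])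
  refine ⟨f, n, hfQ, hfc, hef, hnc, hne, hnf, hQn, fun x hx => ?_⟩
  obtain ⟨a, r, s, t, rfl⟩ := hexp x
  simp only [polar_add_left, polar_smul_left', hec, hfc, hnc, mul_zero, add_zero] at hx
  exact ⟨r, s, t, by rw [(mul_eq_zero.1 hx).resolve_right hcc, zero_smul, zero_add]⟩

/-- The singular vectors of the hyperplane separate its points. -/
lemma Over.exists_sing_ne (h : Over Q M) {c z : ι → F} (hc : Q c ≠ 0) (hz : polar Q z c = 0) (hz0 : z ≠ 0) :
    ∃ e, Q e = 0 ∧ e ≠ 0 ∧ polar Q e c = 0 ∧ polar Q z e ≠ 0 := by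
  by_contra hcon
  push Not at hcon
  have hcc : polar Q c c ≠ 0 := by rw [polar_self']; exact mul_ne_zero h.two hc
  obtain ⟨e, he, he0, heQ⟩ := exists_singular_in (Q := Q) h.two (LinearMap.ker (polarLeft Q c)) (by
    have h1 := (polarLeft Q c).finrank_range_add_finrank_ker
    have h3 := (LinearMap.range (polarLeft Q c)).finrank_le
    rw [Module.finrank_fintype_fun_eq_card, h.dim] at h1
    rw [Module.finrank_self] at h3
    omega)
  have hec : polar Q e c = 0 := by simpa using he
  obtain ⟨f, n, hfQ, hfc, hef, hnc, hne, hnf, hQn, hexp⟩ := h.frame3 hc heQ he0 hec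
  have hf0 : f ≠ 0 := fun e0 => by rw [e0, polar_zero_right] at hef; exact zero_ne_one hef
  have z1 : polar Q z e = 0 := hcon e heQ he0 hec
  have z2 : polar Q z f = 0 := hcon f hfQ hf0 hfc
  have z3 : polar Q z (f + n - Q n • e) = 0 := by
    refine hcon _ ?_ (fun e0 => ?_) ?_
    · rw [CfsgLib.Geometry.map_sub', CfsgLib.Geometry.map_add', CfsgLib.Geometry.map_smul', hfQ, heQ,
        polar_add_left, polar_smul_right', polar_smul_right', polar_eq f e, hef, polar_eq f n, hnf, hne]
      ring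
    · have := congrArg (fun v => polar Q e v) e0
      simp [polar_add_right, polar_sub_right, polar_smul_right', hef, polar_eq e n, hne, polar_self', heQ] at this
    · simp [polar_sub_left, polar_add_left, polar_smul_left', hfc, hnc, hec]
  rw [polar_sub_right, polar_add_right, polar_smul_right', z1, z2] at z3
  have z4 : polar Q z n = 0 := by linear_combination z3
  refine hz0 (h.eq_zero fun y => ?_)
  obtain ⟨r, s, t, hy⟩ := hexp (y - (polar Q y c / polar Q c c) • c)
    (by rw [polar_sub_left, polar_smul_left']; field_simp; ring)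
  rw [show y = (polar Q y c / polar Q c c) • c + (r • e + s • f + t • n) by rw [← hy]; module]
  simp [polar_add_left, polar_smul_left', polar_eq c z, hz, polar_eq e z, z1, polar_eq f z, z2, polar_eq n z, z4]

/-- Orthogonal singular vectors of the hyperplane are dependent. -/
lemma Over.dep_of_orth (h : Over Q M) {c e e' : ι → F} (hc : Q c ≠ 0) (he : Q e = 0) (he0 : e ≠ 0)
    (hec : polar Q e c = 0) (he' : Q e' = 0) (hec' : polar Q e' c = 0) (hee' : polar Q e e' = 0) :
    ∃ r : F, e' = r • e := by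
  obtain ⟨f, n, hfQ, hfc, hef, hnc, hne, hnf, hQn, hexp⟩ := h.frame3 hc he he0 hec
  obtain ⟨r, s, t, rfl⟩ := hexp e' hec'
  have hee : polar Q e e = 0 := by rw [polar_self', he, mul_zero]
  simp [polar_add_right, polar_smul_right', hee, hef, polar_eq e n, hne] at hee'
  rw [hee'] at he' ⊢
  simp [CfsgLib.Geometry.map_add', CfsgLib.Geometry.map_smul', polar_smul_left', polar_smul_right', he,
    polar_eq e n, hne, mul_self_eq_zero, hQn] at he'
  exact ⟨r, by simp [he']⟩

/-- A submodule with one non-zero vector of the hyperplane, closed under passing to the singular vectors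
not orthogonal to one of its members, contains the hyperplane. -/
lemma Over.sweep (h : Over Q M) {c d : ι → F} (hc : Q c ≠ 0) (hd : polar Q d c = 0) (hd0 : d ≠ 0)
    (L : Submodule F (ι → F)) (hL : d ∈ L)
    (hclose : ∀ z ∈ L, polar Q z c = 0 → ∀ e, Q e = 0 → e ≠ 0 → polar Q e c = 0 → polar Q z e ≠ 0 → e ∈ L) :
    ∀ x, polar Q x c = 0 → x ∈ L := by
  obtain ⟨e, he, he0, hec, hde⟩ := h.exists_sing_ne hc hd hd0
  have heL : e ∈ L := hclose d hL hd e he he0 hec hde
  have hall : ∀ v, Q v = 0 → polar Q v c = 0 → v ∈ L := by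
    intro v hv hvc
    by_cases hev : polar Q e v = 0
    · obtain ⟨r, rfl⟩ := h.dep_of_orth hc he he0 hec hv hvc hev
      exact L.smul_mem r heL
    · exact hclose e heL hec v hv (fun e0 => hev (by rw [e0, polar_zero_right])) hvc hev
  obtain ⟨f, n, hfQ, hfc, hef, hnc, hne, hnf, hQn, hexp⟩ := h.frame3 hc he he0 hec
  have hfL : f ∈ L := hall f hfQ hfc
  have hnL : n ∈ L := by
    have h1 : f + n - Q n • e ∈ L := by
      refine hall _ ?_ ?_
      · rw [CfsgLib.Geometry.map_sub', CfsgLib.Geometry.map_add', CfsgLib.Geometry.map_smul', hfQ, he,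
          polar_add_left, polar_smul_right', polar_smul_right', polar_eq f e, hef, polar_eq f n, hnf, hne]
        ring
      · simp [polar_sub_left, polar_add_left, polar_smul_left', hfc, hnc, hec]
    have h2 := L.add_mem (L.sub_mem h1 hfL) (L.smul_mem (Q n) heL)
    convert h2 using 1
    module
  intro x hx
  obtain ⟨r, s, t, rfl⟩ := hexp x hx
  exact L.add_mem (L.add_mem (L.smul_mem r heL) (L.smul_mem s hfL)) (L.smul_mem t hnL)

/-- A transvection with a nonsingular centre gives all of that centre. -/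
lemma Over.centre_of_pair (h : Over Q M) {c d : ι → F} (hc : Q c ≠ 0) (hd : d ≠ 0) (hcd : Has M c (pv Q d)) :
    TvCentre M c := by
  classical
  have hdc : polar Q d c = 0 := by rw [polar_eq]; have := hcd.dot; rwa [pv_dot] at this
  let L : Submodule F (ι → F) :=
    { carrier := {y | polar Q y c = 0 ∧ ∀ μ : F, Has M c (pv Q (μ • y))}
      zero_mem' := ⟨polar_zero_left Q c, fun μ => has_of_zero (Or.inr (by rw [smul_zero, pv_zero]))⟩
      add_mem' := fun {y z} hy hz => ⟨by rw [polar_add_left, hy.1, hz.1, add_zero],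
        fun μ => by rw [smul_add, pv_add]; exact (hy.2 μ).add_right (hz.2 μ)⟩
      smul_mem' := fun a y hy => ⟨by rw [polar_smul_left', hy.1, mul_zero],
        fun μ => by rw [smul_smul]; exact hy.2 _⟩ }
  have hsing : ∀ d : ι → F, polar Q d c = 0 → Has M c (pv Q d) →
      ∀ u, Q u = 0 → u ≠ 0 → polar Q u c = 0 → polar Q d u ≠ 0 → u ∈ L := by
    intro d hdc hcd u hu hu0 huc hdu
    obtain ⟨f, n, -, -, -, hnc, hnu, -, hQn, -⟩ := h.frame3 hc hu hu0 huc
    set w := n - (polar Q n d / polar Q u d) • u with hwdef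
    have huu : polar Q u u = 0 := by rw [polar_self', hu, mul_zero]
    have hud : polar Q u d ≠ 0 := by rwa [polar_eq]
    have hwc : polar Q w c = 0 := by rw [hwdef, polar_sub_left, polar_smul_left', hnc, huc]; ring
    have hwd : polar Q w d = 0 := by rw [hwdef, polar_sub_left, polar_smul_left']; field_simp; ring
    have huw : polar Q u w = 0 := by
      rw [hwdef, polar_sub_right, polar_smul_right', huu, polar_eq u n, hnu]; ring
    have hwQ : Q w ≠ 0 := by
      rw [hwdef, CfsgLib.Geometry.map_sub', CfsgLib.Geometry.map_smul', hu, polar_smul_right', hnu]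
      simpa using hQn
    have hstep : ∀ s : F, ∃ dY, dY = (1 : F) • d + (s * polar Q d u) • w - (s * s * Q w * polar Q d u) • u ∧
        Has M c (pv Q dY) := by
      intro s
      have hsw : polar Q u (s • w) = 0 := by rw [polar_smul_right', huw, mul_zero]
      set Y := sieg u (s • w) hu hsw
      have hYc : (Y : Matrix ι ι F) *ᵥ c = c := by
        rw [sieg_mulVec, polar_eq c u, huc, polar_smul_right', polar_eq c w, hwc]
        simp
      have hYd : pv Q d ᵥ* ((Y⁻¹ : GL ι F) : Matrix ι ι F) = pv Q ((Y : Matrix ι ι F) *ᵥ d) := by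
        refine dot_ext fun y => ?_
        obtain ⟨x, rfl⟩ := mulVec_surj Y y
        rw [dot_vecMul_inv, pv_dot, pv_dot]
        have h5 := sieg_isometry hu hsw
        simp only [polar, ← Matrix.mulVec_add]
        rw [h5, h5, h5]
      have h5 := hcd.conj (h.sieg_mem hu hsw)
      rw [hYc, hYd] at h5
      refine ⟨_, ?_, h5⟩
      rw [sieg_mulVec, polar_smul_right', polar_eq d w, hwd, CfsgLib.Geometry.map_smul']
      module
    have hsq : ∀ s : F, Has M c (pv Q ((s * s * (2 * (Q w * polar Q d u))) • u)) := by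
      intro s
      obtain ⟨y₁, e₁, h₁⟩ := hstep s
      obtain ⟨y₂, e₂, h₂⟩ := hstep (-s)
      have h7 := (hcd.add_right hcd).sub_right (h₁.add_right h₂)
      rw [← pv_add, ← pv_add, ← pv_sub] at h7
      convert h7 using 2
      rw [e₁, e₂]; module
    refine ⟨huc, fun μ => ?_⟩
    have hr0 : 2 * (Q w * polar Q d u) ≠ 0 := mul_ne_zero h.two (mul_ne_zero hwQ hdu)
    set ν := μ / (2 * (Q w * polar Q d u))
    have h11 := (hsq ((1 + ν) / 2)).sub_right (hsq ((1 - ν) / 2))
    rw [← pv_sub, ← sub_smul] at h11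
    convert h11 using 3
    have hν : ν * (2 * (Q w * polar Q d u)) = μ := div_mul_cancel₀ _ hr0
    have h2 := h.two
    have hsqd : (1 + ν) / 2 * ((1 + ν) / 2) - (1 - ν) / 2 * ((1 - ν) / 2) = ν := by field_simp; ring
    rw [← sub_mul, hsqd, hν]
  obtain ⟨e, he, he0, hec, hde⟩ := h.exists_sing_ne hc hdc hd
  have heL : e ∈ L := hsing d hdc hcd e he he0 hec hde
  have hall := h.sweep hc hec he0 L heL fun z hz hzc u hu hu0 huc hzu =>
    hsing z hzc (by simpa using hz.2 1) u hu hu0 huc hzu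
  refine tvCentre_iff.2 fun φ hφ => ?_
  obtain ⟨y, rfl⟩ := pv_surj h.nd φ
  rw [pv_dot] at hφ
  simpa using (hall y (by rw [polar_eq]; exact hφ)).2 1

/-- A transvection gives one with a nonsingular centre. -/
lemma Over.exists_nonsing_pair (h : Over Q M) {c d : ι → F} (hc : c ≠ 0) (hd : d ≠ 0) (hcd : Has M c (pv Q d)) :
    ∃ c d, Q c ≠ 0 ∧ d ≠ 0 ∧ Has M c (pv Q d) := by
  by_cases hQc : Q c = 0
  swap
  · exact ⟨c, d, hQc, hd, hcd⟩
  have hdc : polar Q c d = 0 := by have := hcd.dot; rwa [pv_dot] at this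
  obtain ⟨z, hz⟩ : ∃ z, polar Q z c ≠ 0 := by
    by_contra hcon; push Not at hcon; exact hc (h.eq_zero hcon)
  obtain ⟨u, hu, hcu, -⟩ := h.exists_pair' hQc (x := z) (by rwa [polar_eq])
  obtain ⟨p, hpu, hpc, hQp⟩ : ∃ p, polar Q p u = 0 ∧ polar Q p c = 0 ∧ Q p ≠ 0 := by
    obtain ⟨w, h1, h2, h3⟩ := h.exists_nonsing hQc hu hcu
    exact ⟨w, h2, h1, h3⟩
  -- the axis must not annihilate the moved centre
  obtain ⟨q, hqu, hqc, hQq, hq⟩ : ∃ q, polar Q q u = 0 ∧ polar Q q c = 0 ∧ Q q ≠ 0 ∧
      polar Q q d - Q q * polar Q u d ≠ 0 := by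
    by_contra hcon
    push Not at hcon
    have key : ∀ q, polar Q q u = 0 → polar Q q c = 0 → Q q ≠ 0 → polar Q q d = 0 ∧ polar Q u d = 0 := by
      intro q h1 h2 h3
      have e1 := hcon q h1 h2 h3
      have e2 := hcon (-q) (by rw [polar_neg_left, h1, neg_zero]) (by rw [polar_neg_left, h2, neg_zero])
        (by rwa [QuadraticMap.map_neg])
      rw [polar_neg_left, QuadraticMap.map_neg] at e2
      have h4 : 2 * polar Q q d = 0 := by linear_combination e1 - e2
      have h5 := (mul_eq_zero.1 h4).resolve_left h.two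
      rw [h5] at e1
      exact ⟨h5, (mul_eq_zero.1 (by linear_combination -e1)).resolve_left h3⟩
    obtain ⟨hpd, hud⟩ := key p hpu hpc hQp
    refine hd (h.eq_zero fun y => ?_)
    set y' := y - polar Q y u • c - polar Q y c • u with hy'
    have e1 : polar Q y' c = 0 := by
      simp only [hy', polar_sub_left, polar_smul_left', polar_self', hQc, polar_eq u c, hcu]; ring
    have e2 : polar Q y' u = 0 := by
      simp only [hy', polar_sub_left, polar_smul_left', polar_self', hu, hcu]; ring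
    have h6 : polar Q y' d = 0 := by
      by_cases hy : Q y' = 0
      · by_cases h7 : Q (y' + p) = 0
        · have h8 : Q (y' - p) ≠ 0 := by
            rw [CfsgLib.Geometry.map_add', hy] at h7
            rw [CfsgLib.Geometry.map_sub', hy]
            intro h9
            exact mul_ne_zero h.two hQp (by linear_combination h7 + h9)
          have := (key (y' - p) (by rw [polar_sub_left, e2, hpu, sub_zero])
            (by rw [polar_sub_left, e1, hpc, sub_zero]) h8).1
          rwa [polar_sub_left, hpd, sub_zero] at this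
        · have := (key (y' + p) (by rw [polar_add_left, e2, hpu, add_zero])
            (by rw [polar_add_left, e1, hpc, add_zero]) h7).1
          rwa [polar_add_left, hpd, add_zero] at this
      · exact (key y' e2 e1 hy).1
    have h4 : y = y' + polar Q y u • c + polar Q y c • u := by simp only [hy']; module
    rw [h4, polar_add_left, polar_add_left, polar_smul_left', polar_smul_left', h6, hdc, hud]
    ring
  have huq : polar Q u q = 0 := by rwa [polar_eq]
  set Y := sieg u q hu huq
  set c' := (Y : Matrix ι ι F) *ᵥ c with hc'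
  have hc'eq : c' = c + q - Q q • u := by
    rw [hc', sieg_mulVec, hcu, polar_eq c q, hqc]; module
  set ψ := pv Q d ᵥ* ((Y⁻¹ : GL ι F) : Matrix ι ι F)
  have h2 : Has M c' ψ := hcd.conj (h.sieg_mem hu huq)
  have h3 := hcd.conj_tv' h2
  rw [pv_dot] at h3
  have hc'c : polar Q c' c = -Q q := by
    rw [hc'eq]
    simp only [polar_sub_left, polar_add_left, polar_smul_left', polar_self', hQc, hqc, polar_eq u c, hcu]; ring
  have hc'd : polar Q c' d = polar Q q d - Q q * polar Q u d := by
    rw [hc'eq]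
    simp only [polar_sub_left, polar_add_left, polar_smul_left', hdc]; ring
  obtain ⟨d', hd'⟩ := pv_surj h.nd (ψ - (ψ ⬝ᵥ c) • pv Q d)
  rw [← hd'] at h3
  refine ⟨_, d', ?_, fun e0 => ?_, h3⟩
  · have hQc' : Q c' = 0 := by rw [hc', sieg_isometry, hQc]
    rw [CfsgLib.Geometry.map_add', hQc', CfsgLib.Geometry.map_smul', hQc, polar_smul_right', hc'c, hc'd]
    simpa [hQq] using hq
  · rw [e0, pv_zero] at hd'
    have h4 : ψ = (ψ ⬝ᵥ c) • pv Q d := sub_eq_zero.1 hd'.symm
    have h5 : ψ ⬝ᵥ c = 0 := by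
      have := congrArg (fun v => v ⬝ᵥ c) h4
      simp only [smul_dotProduct, pv_dot, hdc, smul_zero] at this
      exact this
    rw [h5, zero_smul] at h4
    apply hd
    refine h.eq_zero fun y => ?_
    rw [← pv_dot, ← dot_vecMul_inv Y, show pv Q d ᵥ* ((Y⁻¹ : GL ι F) : Matrix ι ι F) = ψ from rfl, h4,
      zero_dotProduct]

/-- An element carrying a nonsingular vector to a singular one gives a transvection. -/
lemma Over.exists_pair_of_moved (h : Over Q M) {g : GL ι F} (hgM : g ∈ M) {u : ι → F} (hu : Q u ≠ 0)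
    (hGu : Q ((g : Matrix ι ι F) *ᵥ u) = 0) : ∃ c d, c ≠ 0 ∧ d ≠ 0 ∧ Has M c (pv Q d) := by
  classical
  set u₁ := (g : Matrix ι ι F) *ᵥ u with hu₁
  have hu0 : u ≠ 0 := fun e => hu (by rw [e]; simp)
  have hu₁0 : u₁ ≠ 0 := fun e => hu0 (mulVec_inj g (e.trans (Matrix.mulVec_zero _).symm))
  have huu : polar Q u u ≠ 0 := by rw [polar_self']; exact mul_ne_zero h.two hu
  -- elements fixing the singular vector separate the points
  have hsep : ∀ m : ι → F, (∀ r : F, m ≠ r • u₁) →
      ∃ k ∈ M, (k : Matrix ι ι F) *ᵥ u₁ = u₁ ∧ polar Q ((k : Matrix ι ι F) *ᵥ m) u₁ ≠ 0 := by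
    intro m hm
    by_contra hcon
    push Not at hcon
    let Z : Submodule F (ι → F) :=
      { carrier := {v | ∀ s ∈ M, (s : Matrix ι ι F) *ᵥ u = u →
          polar Q ((g : Matrix ι ι F) *ᵥ ((s : Matrix ι ι F) *ᵥ v)) u₁ = 0}
        zero_mem' := fun s _ _ => by simp [Matrix.mulVec_zero]
        add_mem' := fun {a b} ha hb s hs hsu => by
          rw [Matrix.mulVec_add, Matrix.mulVec_add, polar_add_left, ha s hs hsu, hb s hs hsu, add_zero]
        smul_mem' := fun r a ha s hs hsu => by
          rw [Matrix.mulVec_smul, Matrix.mulVec_smul, polar_smul_left', ha s hs hsu, mul_zero] }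
    have huZ : u ∈ Z := fun s _ hsu => by
      rw [hsu]
      show polar Q u₁ u₁ = 0
      rw [polar_self', hGu, mul_zero]
    obtain ⟨v, hv⟩ := mulVec_surj g m
    have hvZ : v ∈ Z := fun s hs hsu => by
      have e : ∀ x, ((g * s * g⁻¹ : GL ι F) : Matrix ι ι F) *ᵥ ((g : Matrix ι ι F) *ᵥ x) =
          (g : Matrix ι ι F) *ᵥ ((s : Matrix ι ι F) *ᵥ x) := fun x => by
        rw [Matrix.mulVec_mulVec, ← Units.val_mul, inv_mul_cancel_right, Units.val_mul, ← Matrix.mulVec_mulVec]
      have := hcon (g * s * g⁻¹) (mul_mem (mul_mem hgM hs) (inv_mem hgM)) (by rw [hu₁, e, hsu])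
      rwa [← hv, e] at this
    set z := v - (polar Q v u / polar Q u u) • u with hz
    have hzu : polar Q z u = 0 := by rw [hz, polar_sub_left, polar_smul_left']; field_simp; ring
    have hz0 : z ≠ 0 := fun e => hm (polar Q v u / polar Q u u) (by
      rw [← hv]
      exact (congrArg ((g : Matrix ι ι F) *ᵥ ·) (sub_eq_zero.1 e)).trans (Matrix.mulVec_smul _ _ _))
    have hzZ : z ∈ Z := Z.sub_mem hvZ (Z.smul_mem _ huZ)
    have hclose : ∀ z ∈ Z, polar Q z u = 0 → ∀ e, Q e = 0 → e ≠ 0 → polar Q e u = 0 → polar Q z e ≠ 0 → e ∈ Z := by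
      intro z hz _ e he he0 heu hze
      obtain ⟨f, n, -, -, -, hnu, hne, -, hQn, -⟩ := h.frame3 hu he he0 heu
      have hinv : ∀ (w : ι → F) (hw : polar Q e w = 0), polar Q u w = 0 →
          (sieg e w he hw : Matrix ι ι F) *ᵥ z ∈ Z := by
        intro w hw hwu s hs hsu
        rw [Matrix.mulVec_mulVec, Matrix.mulVec_mulVec, mul_assoc, ← Units.val_mul, ← Matrix.mulVec_mulVec]
        refine hz _ (mul_mem hs (h.sieg_mem he hw)) ?_
        rw [Units.val_mul, ← Matrix.mulVec_mulVec, sieg_mulVec, polar_eq u e, heu, hwu]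
        simp [hsu]
      have hw : polar Q e n = 0 := by rwa [polar_eq]
      have hw' : polar Q e (-n) = 0 := by rw [polar_neg_right, hw, neg_zero]
      have h1 := hinv n hw (by rwa [polar_eq])
      have h2 := hinv (-n) hw' (by rw [polar_neg_right, polar_eq, hnu, neg_zero])
      have h3 := Z.sub_mem (Z.add_mem hz hz) (Z.add_mem h1 h2)
      rw [sieg_mulVec, sieg_mulVec, polar_neg_right, QuadraticMap.map_neg] at h3
      have h4 : (2 * (Q n * polar Q z e)) • e ∈ Z := by convert h3 using 1; module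
      exact (Z.smul_mem_iff (mul_ne_zero h.two (mul_ne_zero hQn hze))).1 h4
    have hall := h.sweep hu hzu hz0 Z hzZ hclose
    apply hu₁0
    refine h.eq_zero fun y => ?_
    obtain ⟨x, rfl⟩ := mulVec_surj g y
    have hx : x ∈ Z := by
      have h1 := hall (x - (polar Q x u / polar Q u u) • u) (by
        rw [polar_sub_left, polar_smul_left']; field_simp; ring)
      have h2 := Z.add_mem h1 (Z.smul_mem (polar Q x u / polar Q u u) huZ)
      simpa using h2
    have := hx 1 (one_mem M) (by simp)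
    simpa using this
  have hfix : ∀ {k : GL ι F}, (k : Matrix ι ι F) *ᵥ u₁ = u₁ → ((k⁻¹ : GL ι F) : Matrix ι ι F) *ᵥ u₁ = u₁ :=
    fun {k} hk => by
      conv_lhs => rw [← hk]
      rw [Matrix.mulVec_mulVec, ← Units.val_mul, inv_mul_cancel, Units.val_one, Matrix.one_mulVec]
  have hii : ∀ (k : GL ι F) (x : ι → F),
      ((k⁻¹ : GL ι F) : Matrix ι ι F) *ᵥ ((k : Matrix ι ι F) *ᵥ x) = x := fun k x => by
    rw [Matrix.mulVec_mulVec, ← Units.val_mul, inv_mul_cancel, Units.val_one, Matrix.one_mulVec]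
  have hii' : ∀ (k : GL ι F) (x : ι → F),
      (k : Matrix ι ι F) *ᵥ (((k⁻¹ : GL ι F) : Matrix ι ι F) *ᵥ x) = x := fun k x => by
    rw [Matrix.mulVec_mulVec, ← Units.val_mul, mul_inv_cancel, Units.val_one, Matrix.one_mulVec]
  -- two conjugate Siegel elements with the same nonsingular centre commute up to a transvection
  have extract : ∀ k ∈ M, (k : Matrix ι ι F) *ᵥ u₁ = u₁ → ∀ l, Q l ≠ 0 → polar Q l u₁ = 0 →
      polar Q (((k⁻¹ : GL ι F) : Matrix ι ι F) *ᵥ l) u₁ = 0 →
      ∀ x, polar Q x u₁ = 0 → polar Q (((k⁻¹ : GL ι F) : Matrix ι ι F) *ᵥ x) u₁ ≠ 0 →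
      ∃ c d, c ≠ 0 ∧ d ≠ 0 ∧ Has M c (pv Q d) := by
    intro k hk hku l hl hlu hlk x hxu hxk
    set w := ((k⁻¹ : GL ι F) : Matrix ι ι F) *ᵥ l with hwdef
    have hkw : (k : Matrix ι ι F) *ᵥ w = l := hii' k l
    have hul : polar Q u₁ l = 0 := by rwa [polar_eq]
    have huw : polar Q u₁ w = 0 := by rwa [polar_eq]
    set A := sieg u₁ l hGu hul
    set B := k * sieg u₁ w hGu huw * k⁻¹ with hB
    have hAM : A ∈ M := h.sieg_mem hGu hul
    have hBM : B ∈ M := mul_mem (mul_mem hk (h.sieg_mem hGu huw)) (inv_mem hk)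
    set ki : Matrix ι ι F := ((k⁻¹ : GL ι F) : Matrix ι ι F)
    have hBv : ∀ z, (B : Matrix ι ι F) *ᵥ z = z + polar Q (ki *ᵥ z) u₁ • l -
        (polar Q (ki *ᵥ z) w + Q w * polar Q (ki *ᵥ z) u₁) • u₁ := fun z => by
      rw [hB, Units.val_mul, Units.val_mul, ← Matrix.mulVec_mulVec, ← Matrix.mulVec_mulVec, sieg_mulVec,
        Matrix.mulVec_sub, Matrix.mulVec_add, Matrix.mulVec_smul, Matrix.mulVec_smul, hkw, hku, hii' k z]
    have hAu : (A : Matrix ι ι F) *ᵥ u₁ = u₁ := by
      rw [sieg_mulVec, polar_self', hGu, hul]; simp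
    have hBu : (B : Matrix ι ι F) *ᵥ u₁ = u₁ := by
      rw [hBv, hfix hku, polar_self', hGu, huw]; simp
    have hAl : (A : Matrix ι ι F) *ᵥ l = l - (2 * Q l) • u₁ := by
      rw [sieg_mulVec, hlu, polar_self']; simp
    have hBl : (B : Matrix ι ι F) *ᵥ l = l - (2 * Q w) • u₁ := by
      rw [hBv, show ki *ᵥ l = w from rfl, hlk, polar_self']; simp
    set ψ : (ι → F) → F := fun z => 2 * Q w * polar Q z u₁ - 2 * Q l * polar Q (ki *ᵥ z) u₁
    have hdiff : ∀ z, (A : Matrix ι ι F) *ᵥ ((B : Matrix ι ι F) *ᵥ z) =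
        (B : Matrix ι ι F) *ᵥ ((A : Matrix ι ι F) *ᵥ z) + ψ z • u₁ := by
      intro z
      rw [hBv z, Matrix.mulVec_sub, Matrix.mulVec_add, Matrix.mulVec_smul, Matrix.mulVec_smul, hAl, hAu,
        sieg_mulVec, Matrix.mulVec_sub, Matrix.mulVec_add, Matrix.mulVec_smul, Matrix.mulVec_smul, hBl, hBu, hBv z]
      simp only [ψ]
      module
    set D := A * B * (B * A)⁻¹ with hD
    have hDM : D ∈ M := mul_mem (mul_mem hAM hBM) (inv_mem (mul_mem hBM hAM))
    have hDv : ∀ z, (D : Matrix ι ι F) *ᵥ z =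
        z + ψ ((((B * A)⁻¹ : GL ι F) : Matrix ι ι F) *ᵥ z) • u₁ := fun z => by
      rw [hD, Units.val_mul, Units.val_mul, ← Matrix.mulVec_mulVec, ← Matrix.mulVec_mulVec, hdiff]
      congr 1
      rw [Matrix.mulVec_mulVec, ← Units.val_mul, hii']
    obtain ⟨d, hd⟩ := pv_surj h.nd fun i => ψ ((((B * A)⁻¹ : GL ι F) : Matrix ι ι F) *ᵥ Pi.single i 1)
    let Ψ : (ι → F) →ₗ[F] F :=
      { toFun := fun z => ψ ((((B * A)⁻¹ : GL ι F) : Matrix ι ι F) *ᵥ z)
        map_add' := fun a b => by simp [ψ, Matrix.mulVec_add, polar_add_left]; ring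
        map_smul' := fun r a => by simp [ψ, Matrix.mulVec_smul, polar_smul_left']; ring }
    have hdz : ∀ z, polar Q z d = Ψ z := by
      intro z
      rw [← pv_dot, hd]
      conv_rhs => rw [pi_eq_sum_univ' z, map_sum]
      rw [dotProduct]
      refine Finset.sum_congr rfl fun i _ => ?_
      rw [map_smul, smul_eq_mul, mul_comm]
      rfl
    have hBAu : (((B * A)⁻¹ : GL ι F) : Matrix ι ι F) *ᵥ u₁ = u₁ := hfix (by
      rw [Units.val_mul, ← Matrix.mulVec_mulVec, hAu, hBu])
    have hdot : pv Q d ⬝ᵥ u₁ = 0 := by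
      rw [pv_dot, hdz]
      show ψ _ = 0
      rw [hBAu]
      simp only [ψ, show ki *ᵥ u₁ = u₁ from hfix hku, polar_self', hGu, mul_zero, sub_zero]
    refine ⟨u₁, d, hu₁0, fun e0 => ?_, hdot, ?_⟩
    · have h1 := hdz (((B * A : GL ι F) : Matrix ι ι F) *ᵥ x)
      rw [e0, polar_zero_right] at h1
      change 0 = ψ _ at h1
      rw [hii] at h1
      simp only [ψ, hxu, mul_zero, zero_sub, zero_eq_neg, mul_eq_zero, h.two, hl, false_or] at h1
      exact hxk h1
    · convert hDM using 1
      refine Units.ext (CfsgLib.Geometry.matrix_eq_of_mulVec fun z => ?_)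
      rw [tv_mulVec, pv_dot, hdz, hDv]
      rfl
  obtain ⟨f, hf, hfu, -⟩ := h.exists_pair' (e := u₁) hGu
    (x := Classical.choose (show ∃ z, polar Q z u₁ ≠ 0 from by
      by_contra hcon; push Not at hcon; exact hu₁0 (h.eq_zero hcon)))
    (by rw [polar_eq]; exact Classical.choose_spec (show ∃ z, polar Q z u₁ ≠ 0 from by
      by_contra hcon; push Not at hcon; exact hu₁0 (h.eq_zero hcon)))
  obtain ⟨l, hlu, -, hl⟩ := h.exists_nonsing hGu hf hfu
  have hlne : ∀ r : F, l ≠ r • u₁ := fun r e => hl (by rw [e, CfsgLib.Geometry.map_smul', hGu]; ring)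
  -- an element moving the hyperplane
  obtain ⟨k, hkM, hku, hkl⟩ := hsep l hlne
  set k₁ := k⁻¹ with hk₁
  have hk₁M : k₁ ∈ M := inv_mem hkM
  have hk₁u : (k₁ : Matrix ι ι F) *ᵥ u₁ = u₁ := hfix hku
  have hμl : polar Q (((k₁⁻¹ : GL ι F) : Matrix ι ι F) *ᵥ l) u₁ ≠ 0 := by rwa [hk₁, inv_inv]
  obtain ⟨t, ht⟩ := pv_surj h.nd (pv Q u₁ ᵥ* ((k₁⁻¹ : GL ι F) : Matrix ι ι F))
  have ht' : ∀ z, polar Q z t = polar Q (((k₁⁻¹ : GL ι F) : Matrix ι ι F) *ᵥ z) u₁ := fun z => by
    rw [← pv_dot, ht, ← Matrix.dotProduct_mulVec, pv_dot]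
  obtain ⟨m, hm, hm'⟩ := exists_perp_notMem h.nd ![u₁, t] ![u₁] (by rw [h.dim]; norm_num)
  have hmu : polar Q m u₁ = 0 := hm 0
  have hmk : polar Q (((k₁⁻¹ : GL ι F) : Matrix ι ι F) *ᵥ m) u₁ = 0 := by rw [← ht']; exact hm 1
  obtain ⟨k₂, hk₂M, hk₂u, hk₂m⟩ := hsep m fun r e => hm' (by
    rw [e]; exact Submodule.smul_mem _ _ (Submodule.subset_span ⟨0, rfl⟩))
  set v := ((k₂⁻¹ : GL ι F) : Matrix ι ι F) *ᵥ l with hv
  by_cases hvu : polar Q v u₁ = 0
  · -- the second element already works
    by_contra hcon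
    apply hk₂m
    obtain ⟨f', hf', hfu', -⟩ := h.exists_pair' (e := u₁) hGu (x := f) (by rw [hfu]; exact one_ne_zero)
    have hker : ∀ x, polar Q x u₁ = 0 → polar Q (((k₂⁻¹ : GL ι F) : Matrix ι ι F) *ᵥ x) u₁ = 0 := fun x hx =>
      by_contra fun hne => hcon (extract k₂ hk₂M hk₂u l hl hlu hvu x hx hne)
    by_contra hne
    have h1 := hker ((k₂ : Matrix ι ι F) *ᵥ m - polar Q ((k₂ : Matrix ι ι F) *ᵥ m) u₁ • f)
      (by rw [polar_sub_left, polar_smul_left', polar_eq f, hfu]; ring)
    rw [Matrix.mulVec_sub, Matrix.mulVec_smul, hii, polar_sub_left, polar_smul_left', hmu, zero_sub, neg_eq_zero,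
      mul_eq_zero] at h1
    have h2 := h1.resolve_left hne
    apply hu₁0
    refine h.eq_zero fun y => ?_
    obtain ⟨z, rfl⟩ := mulVec_surj k₂⁻¹ y
    have h3 := hker (z - polar Q z u₁ • f) (by rw [polar_sub_left, polar_smul_left', polar_eq f, hfu]; ring)
    rw [Matrix.mulVec_sub, Matrix.mulVec_smul, polar_sub_left, polar_smul_left', h2, mul_zero, sub_zero] at h3
    exact h3
  · set y := (polar Q (((k₁⁻¹ : GL ι F) : Matrix ι ι F) *ᵥ v) u₁ /
      (polar Q v u₁ * polar Q (((k₁⁻¹ : GL ι F) : Matrix ι ι F) *ᵥ l) u₁)) • l with hy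
    have huy : polar Q u₁ y = 0 := by rw [hy, polar_smul_right', polar_eq u₁ l, hlu, mul_zero]
    have hμy : polar Q (((k₁⁻¹ : GL ι F) : Matrix ι ι F) *ᵥ y) u₁ * polar Q v u₁ =
        polar Q (((k₁⁻¹ : GL ι F) : Matrix ι ι F) *ᵥ v) u₁ := by
      rw [hy, Matrix.mulVec_smul, polar_smul_left']
      field_simp
    set s := sieg u₁ (-y) hGu (by rw [polar_neg_right, huy, neg_zero]) with hs
    set K := k₂ * s⁻¹ * k₁ with hK
    have hsu : (s : Matrix ι ι F) *ᵥ u₁ = u₁ := by
      rw [hs, sieg_mulVec, polar_self', hGu, polar_neg_right, huy]; simp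
    have hKM : K ∈ M := mul_mem (mul_mem hk₂M (inv_mem (h.sieg_mem hGu _))) hk₁M
    have hKu : (K : Matrix ι ι F) *ᵥ u₁ = u₁ := by
      rw [hK, Units.val_mul, Units.val_mul, ← Matrix.mulVec_mulVec, ← Matrix.mulVec_mulVec, hk₁u, hfix hsu, hk₂u]
    have hKi : ∀ z, ((K⁻¹ : GL ι F) : Matrix ι ι F) *ᵥ z = ((k₁⁻¹ : GL ι F) : Matrix ι ι F) *ᵥ
        ((s : Matrix ι ι F) *ᵥ (((k₂⁻¹ : GL ι F) : Matrix ι ι F) *ᵥ z)) := fun z => by
      rw [hK, mul_inv_rev, mul_inv_rev, Units.val_mul, Units.val_mul, ← Matrix.mulVec_mulVec,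
        ← Matrix.mulVec_mulVec, inv_inv s]
    have hki : ∀ r : F, polar Q (((k₁⁻¹ : GL ι F) : Matrix ι ι F) *ᵥ (r • u₁)) u₁ = 0 := fun r => by
      rw [Matrix.mulVec_smul, hfix hk₁u, polar_smul_left', polar_self', hGu]; ring
    have hlK : polar Q (((K⁻¹ : GL ι F) : Matrix ι ι F) *ᵥ l) u₁ = 0 := by
      rw [hKi, ← hv, hs, sieg_mulVec, Matrix.mulVec_sub, Matrix.mulVec_add, Matrix.mulVec_smul, Matrix.mulVec_neg,
        polar_sub_left, polar_add_left, polar_smul_left', polar_neg_left, hki]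
      linear_combination -hμy
    by_contra hcon
    apply hk₂m
    have hker : ∀ x, polar Q x u₁ = 0 → polar Q (((K⁻¹ : GL ι F) : Matrix ι ι F) *ᵥ x) u₁ = 0 := fun x hx =>
      by_contra fun hne => hcon (extract K hKM hKu l hl hlu hlK x hx hne)
    by_contra hne
    have h0 : polar Q (((K⁻¹ : GL ι F) : Matrix ι ι F) *ᵥ ((k₂ : Matrix ι ι F) *ᵥ m)) u₁ = 0 := by
      rw [hKi, hii, hs, sieg_mulVec, hmu, zero_smul, add_zero, Matrix.mulVec_sub, polar_sub_left, hki, hmk, sub_zero]
    have h1 := hker ((k₂ : Matrix ι ι F) *ᵥ m - polar Q ((k₂ : Matrix ι ι F) *ᵥ m) u₁ • f)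
      (by rw [polar_sub_left, polar_smul_left', polar_eq f, hfu]; ring)
    rw [Matrix.mulVec_sub, Matrix.mulVec_smul, polar_sub_left, polar_smul_left', h0, zero_sub, neg_eq_zero,
      mul_eq_zero] at h1
    have h2 := h1.resolve_left hne
    apply hu₁0
    refine h.eq_zero fun y => ?_
    obtain ⟨z, rfl⟩ := mulVec_surj K⁻¹ y
    have h3 := hker (z - polar Q z u₁ • f) (by rw [polar_sub_left, polar_smul_left', polar_eq f, hfu]; ring)
    rw [Matrix.mulVec_sub, Matrix.mulVec_smul, polar_sub_left, polar_smul_left', h2, mul_zero, sub_zero] at h3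
    exact h3

/-- A map preserving the singular vectors is a similitude. -/
lemma Over.similitude (h : Over Q M) {g : GL ι F} (hsing : ∀ y, Q y = 0 → Q ((g : Matrix ι ι F) *ᵥ y) = 0) :
    g ∈ Cfsg.Geo.quadSimilarityGroup ⇑Q := by
  classical
  obtain ⟨e, -, he0, he⟩ := exists_singular_in (Q := Q) h.two ⊤ (by
    rw [finrank_top, Module.finrank_fintype_fun_eq_card, h.dim]; norm_num)
  obtain ⟨z, hz⟩ : ∃ z, polar Q e z ≠ 0 := by
    by_contra hcon; push Not at hcon; exact he0 (h.eq_zero fun y => by rw [polar_eq]; exact hcon y)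
  obtain ⟨f, hf, hef, -⟩ := h.exists_pair' he hz
  have hee : polar Q e e = 0 := by rw [polar_self', he, mul_zero]
  have hff : polar Q f f = 0 := by rw [polar_self', hf, mul_zero]
  set G : Matrix ι ι F := (g : Matrix ι ι F)
  set κ := polar Q (G *ᵥ e) (G *ᵥ f) with hκ
  let L₁ : (ι → F) → F := fun p => polar Q (G *ᵥ e) (G *ᵥ p)
  let L₂ : (ι → F) → F := fun p => polar Q (G *ᵥ f) (G *ᵥ p)
  have hGe : Q (G *ᵥ e) = 0 := hsing e he
  have hGf : Q (G *ᵥ f) = 0 := hsing f hf
  have hexp : ∀ (α β : F) (p : ι → F), Q (G *ᵥ (α • e + β • f + p)) =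
      α * β * κ + α * L₁ p + β * L₂ p + Q (G *ᵥ p) := by
    intro α β p
    simp only [Matrix.mulVec_add, Matrix.mulVec_smul, CfsgLib.Geometry.map_add', CfsgLib.Geometry.map_smul', hGe,
      hGf, polar_add_left, polar_smul_left', polar_smul_right', L₁, L₂, hκ]
    ring
  have hQexp : ∀ (α β : F) (p : ι → F), polar Q p e = 0 → polar Q p f = 0 →
      Q (α • e + β • f + p) = α * β + Q p := by
    intro α β p h1 h2
    simp only [CfsgLib.Geometry.map_add', CfsgLib.Geometry.map_smul', he, hf, polar_add_left, polar_smul_left',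
      polar_smul_right', hef, polar_eq e p, polar_eq f p, h1, h2]
    ring
  have hP : ∀ p, polar Q p e = 0 → polar Q p f = 0 → ∀ α β : F, α * β + Q p = 0 →
      α * L₁ p + β * L₂ p = 0 ∧ α * β * κ + Q (G *ᵥ p) = 0 := by
    intro p h1 h2 α β hab
    have e1 := hsing _ (show Q (α • e + β • f + p) = 0 by rw [hQexp α β p h1 h2, hab])
    have e2 := hsing _ (show Q (α • e + β • f + -p) = 0 by
      rw [hQexp α β (-p) (by rw [polar_neg_left, h1, neg_zero]) (by rw [polar_neg_left, h2, neg_zero]),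
        QuadraticMap.map_neg, hab])
    rw [hexp] at e1 e2
    simp only [L₁, L₂, Matrix.mulVec_neg, polar_neg_right, QuadraticMap.map_neg] at e2
    constructor
    · exact (mul_eq_zero.1 (show (2 : F) * (α * L₁ p + β * L₂ p) = 0 by linear_combination e1 - e2)).resolve_left h.two
    · exact (mul_eq_zero.1 (show (2 : F) * (α * β * κ + Q (G *ᵥ p)) = 0 by
        linear_combination e1 + e2)).resolve_left h.two
  have hQP : ∀ p, polar Q p e = 0 → polar Q p f = 0 → Q (G *ᵥ p) = κ * Q p := fun p h1 h2 => by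
    have := (hP p h1 h2 1 (-Q p) (by ring)).2
    linear_combination this
  have hL : ∀ p, polar Q p e = 0 → polar Q p f = 0 → L₁ p = Q p * L₂ p := fun p h1 h2 => by
    have := (hP p h1 h2 1 (-Q p) (by ring)).1
    linear_combination this
  have hL0 : ∀ p, polar Q p e = 0 → polar Q p f = 0 → Q p = 0 → L₂ p = 0 := fun p h1 h2 h3 => by
    simpa using (hP p h1 h2 0 1 (by rw [h3]; ring)).1
  have hL₂ : ∀ p, polar Q p e = 0 → polar Q p f = 0 → L₂ p = 0 := by
    by_contra hcon
    push Not at hcon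
    obtain ⟨p₀, hp₀e, hp₀f, hp₀⟩ := hcon
    obtain ⟨t, ht⟩ := pv_surj h.nd (pv Q (G *ᵥ f) ᵥ* G)
    have ht' : ∀ x, polar Q x t = L₂ x := fun x => by
      rw [← pv_dot, ht, ← Matrix.dotProduct_mulVec, pv_dot, polar_eq]
    obtain ⟨k, hk, hk0⟩ := exists_perp_notMem h.nd ![e, f, t] (![] : Fin 0 → ι → F) (by rw [h.dim]; norm_num)
    have hke : polar Q k e = 0 := hk 0
    have hkf : polar Q k f = 0 := hk 1
    have hk2 : L₂ k = 0 := by rw [← ht']; exact hk 2
    simp only [Matrix.range_empty, Submodule.span_empty, Submodule.mem_bot] at hk0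
    have hk1 : L₁ k = 0 := by rw [hL k hke hkf, hk2, mul_zero]
    have main : ∀ p, polar Q p e = 0 → polar Q p f = 0 → L₂ p ≠ 0 → Q k = 0 ∧ polar Q p k = 0 := by
      intro p h1 h2 h3
      have lin : ∀ r : F, Q (p + r • k) = Q p := by
        intro r
        have e1 := hL (p + r • k) (by rw [polar_add_left, polar_smul_left', h1, hke]; ring)
          (by rw [polar_add_left, polar_smul_left', h2, hkf]; ring)
        have e2 : L₁ (p + r • k) = L₁ p := by
          simp only [L₁, Matrix.mulVec_add, Matrix.mulVec_smul, polar_add_right, polar_smul_right']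
          rw [show polar Q (G *ᵥ e) (G *ᵥ k) = 0 from hk1]; ring
        have e3 : L₂ (p + r • k) = L₂ p := by
          simp only [L₂, Matrix.mulVec_add, Matrix.mulVec_smul, polar_add_right, polar_smul_right']
          rw [show polar Q (G *ᵥ f) (G *ᵥ k) = 0 from hk2]; ring
        rw [e2, e3, hL p h1 h2] at e1
        exact mul_right_cancel₀ h3 e1.symm
      have a1 := lin 1
      have a2 := lin (-1)
      simp only [CfsgLib.Geometry.map_add', CfsgLib.Geometry.map_smul', polar_smul_right'] at a1 a2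
      have hk' : Q k = 0 := (mul_eq_zero.1 (show (2 : F) * Q k = 0 by linear_combination a1 + a2)).resolve_left h.two
      exact ⟨hk', by linear_combination a1 - hk'⟩
    refine hk0 (h.eq_zero fun y => ?_)
    set y' := y - polar Q y f • e - polar Q y e • f with hy'
    have e1 : polar Q y' e = 0 := by
      simp only [hy', polar_sub_left, polar_smul_left', hee, polar_eq f e, hef]; ring
    have e2 : polar Q y' f = 0 := by
      simp only [hy', polar_sub_left, polar_smul_left', hff, hef]; ring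
    have e3 : polar Q y' k = 0 := by
      by_cases hy2 : L₂ (p₀ + y') = 0
      · refine (main y' e1 e2 fun e0 => hp₀ ?_).2
        simp only [L₂, Matrix.mulVec_add, polar_add_right] at hy2 e0 ⊢
        linear_combination hy2 - e0
      · have h5 := (main (p₀ + y') (by rw [polar_add_left, hp₀e, e1, add_zero])
          (by rw [polar_add_left, hp₀f, e2, add_zero]) hy2).2
        rw [polar_add_left, (main p₀ hp₀e hp₀f hp₀).2, zero_add] at h5
        exact h5
    have h4 : y = y' + polar Q y f • e + polar Q y e • f := by simp only [hy']; module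
    rw [h4, polar_add_left, polar_add_left, polar_smul_left', polar_smul_left', e3, polar_eq e k, polar_eq f k,
      hke, hkf]
    ring
  have hall : ∀ x, Q (G *ᵥ x) = κ * Q x := by
    intro x
    set p := x - polar Q x f • e - polar Q x e • f with hp
    have h1 : polar Q p e = 0 := by
      simp only [hp, polar_sub_left, polar_smul_left', hee, polar_eq f e, hef]; ring
    have h2 : polar Q p f = 0 := by
      simp only [hp, polar_sub_left, polar_smul_left', hff, hef]; ring
    have hx : x = polar Q x f • e + polar Q x e • f + p := by simp only [hp]; module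
    rw [hx, hexp, hQexp _ _ p h1 h2, hL p h1 h2, hL₂ p h1 h2, hQP p h1 h2]
    ring
  have hκ0 : κ ≠ 0 := fun h0 => by
    obtain ⟨w, -, -, hw⟩ := h.exists_nonsing he hf hef
    obtain ⟨x, hx⟩ := mulVec_surj g w
    exact hw (by rw [← hx, hall, h0, zero_mul])
  exact ⟨Units.mk0 κ hκ0, hall⟩

/-- The similitude group is maximal. -/
theorem quadSimilarity_maximal (hQ : (polarBilin Q).Nondegenerate) (h2 : (2 : F) ≠ 0)
    (hn : Fintype.card ι = 4) :
    Cfsg.Geo.IsMaximalIn (Cfsg.Geo.specialLinear ι F)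
      (Cfsg.Geo.quadSimilarityGroup ⇑Q ⊓ Cfsg.Geo.specialLinear ι F) := by
  classical
  constructor
  · refine lt_of_le_of_ne inf_le_right fun heq => ?_
    obtain ⟨e, -, he0, he⟩ := exists_singular_in (Q := Q) h2 ⊤ (by
      rw [finrank_top, Module.finrank_fintype_fun_eq_card]; omega)
    obtain ⟨f, hf, hef, -⟩ := exists_partner hQ ⊥ (by simpa using he0) he (fun h hh => by
      rw [(Submodule.mem_bot F).1 hh, polar_zero_right])
    have h0 : pv Q e ⬝ᵥ e = 0 := by rw [pv_dot, polar_self', he, mul_zero]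
    have hmem : tv e (pv Q e) h0 ∈ Cfsg.Geo.quadSimilarityGroup ⇑Q ⊓ Cfsg.Geo.specialLinear ι F := by
      rw [heq]; exact tv_mem_specialLinear _ _ _
    obtain ⟨k, hk⟩ := hmem.1
    have hfe : polar Q f e = 1 := by rw [polar_comm]; exact hef
    have h3 := hk f
    rw [tv_mulVec, pv_dot, hfe, one_smul, CfsgLib.Geometry.map_add', hf, he, hfe, mul_zero] at h3
    simp at h3
  intro M hHM hMS
  refine or_iff_not_imp_left.2 fun hne => le_antisymm hMS (specialLinear_le_of_tv M ?_)
  have h : Over Q M := ⟨hQ, h2, hn, hHM⟩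
  obtain ⟨g, hgM, hg⟩ : ∃ g ∈ M, g ∉ Cfsg.Geo.quadSimilarityGroup ⇑Q := by
    by_contra hcon
    push Not at hcon
    exact hne (le_antisymm (fun g hg => ⟨hcon g hg, hMS hg⟩) hHM)
  obtain ⟨y, hy, hgy⟩ : ∃ y, Q y = 0 ∧ Q ((g : Matrix ι ι F) *ᵥ y) ≠ 0 := by
    by_contra hcon
    push Not at hcon
    exact hg (h.similitude hcon)
  obtain ⟨c₀, d₀, hc₀, hd₀, hp₀⟩ := h.exists_pair_of_moved (g := g⁻¹) (inv_mem hgM) hgy (by
    rw [Matrix.mulVec_mulVec, ← Units.val_mul, inv_mul_cancel, Units.val_one, Matrix.one_mulVec, hy])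
  obtain ⟨c, d, hc, hd, hcd⟩ := h.exists_nonsing_pair hc₀ hd₀ hp₀
  have hC : TvCentre M c := h.centre_of_pair hc hd hcd
  -- centres are closed under the plane spanned by two of them
  have hpair : ∀ {x y}, TvCentre M x → TvCentre M y → y ∉ Submodule.span F {x} → ∀ t : F, TvCentre M (y + t • x) := by
    intro x y hx hy hyx t
    obtain ⟨φ, hφ, hφy⟩ := exists_ann _ y hyx
    have h0 : (t • φ) ⬝ᵥ x = 0 := by rw [smul_dotProduct, hφ x (Submodule.mem_span_singleton_self x), smul_zero]
    have h1 := hy.map (g := tv x (t • φ) h0) (hx _ h0)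
    rwa [tv_mulVec, smul_dotProduct, hφy, smul_eq_mul, mul_one] at h1
  let W : Submodule F (ι → F) :=
    { carrier := {x | TvCentre M x}
      zero_mem' := by simpa using hC.smul 0
      smul_mem' := fun a x hx => hx.smul a
      add_mem' := fun {x y} hx hy => by
        by_cases hyx : y ∈ Submodule.span F {x}
        · obtain ⟨r, rfl⟩ := Submodule.mem_span_singleton.1 hyx
          show TvCentre M (x + r • x)
          rw [show x + r • x = (1 + r) • x by module]
          exact TvCentre.smul hx _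
        · show TvCentre M (x + y)
          rw [show x + y = y + (1 : F) • x by module]
          exact hpair hx hy hyx 1 }
  have hnext : ∀ x ∈ W, ∀ v, Q v = 0 → polar Q v x ≠ 0 → v ∈ W := by
    intro x hx v hv hvx
    obtain ⟨f, hf, hvf, r, s, hrs⟩ := h.exists_pair' hv hvx
    obtain ⟨w, hwv, hwf, hw⟩ := h.exists_nonsing hv hf hvf
    have huw : polar Q v w = 0 := by rwa [polar_eq]
    have hw' : polar Q v (-w) = 0 := by rw [polar_neg_right, huw, neg_zero]
    have hxw : polar Q x w = 0 := by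
      rw [hrs, polar_add_left, polar_smul_left', polar_smul_left', huw, polar_eq f w, hwf]; ring
    have hmem : x + x - ((sieg v w hv huw : Matrix ι ι F) *ᵥ x + (sieg v (-w) hv hw' : Matrix ι ι F) *ᵥ x) ∈ W :=
      W.sub_mem (W.add_mem hx hx)
        (W.add_mem (TvCentre.map hx (h.sieg_mem hv huw)) (TvCentre.map hx (h.sieg_mem hv hw')))
    have h8 : x + x - ((sieg v w hv huw : Matrix ι ι F) *ᵥ x + (sieg v (-w) hv hw' : Matrix ι ι F) *ᵥ x) =
        (2 * (Q w * polar Q x v)) • v := by
      rw [sieg_mulVec, sieg_mulVec, polar_neg_right, QuadraticMap.map_neg, hxw]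
      module
    rw [h8] at hmem
    exact (W.smul_mem_iff (mul_ne_zero h2 (mul_ne_zero hw (by rwa [polar_eq])))).1 hmem
  obtain ⟨u₀, hu₀, hu₀c⟩ : ∃ u₀, Q u₀ = 0 ∧ polar Q u₀ c ≠ 0 := by
    by_contra hcon
    push Not at hcon
    obtain ⟨e, -, he0, he⟩ := exists_singular_in (Q := Q) h2 ⊤ (by
      rw [finrank_top, Module.finrank_fintype_fun_eq_card]; omega)
    obtain ⟨f, n, hfQ, hfc, hef, hnc, hne', hnf, hQn, -⟩ := h.frame3 hc he he0 (hcon e he)
    -- a singular vector with all three components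
    have hcc : polar Q c c ≠ 0 := by rw [polar_self']; exact mul_ne_zero h2 hc
    have := hcon (c + (-Q c) • e + f) (by
      simp only [CfsgLib.Geometry.map_add', CfsgLib.Geometry.map_smul', polar_add_left, polar_smul_left',
        polar_smul_right', he, hfQ, hef, polar_eq c e, hcon e he, polar_eq c f, hfc]
      ring)
    simp [polar_add_left, polar_smul_left', hcon e he, hfc, hcc] at this
    exact this.elim h2 hc
  have hu₀W : u₀ ∈ W := hnext c hC u₀ hu₀ hu₀c
  obtain ⟨f, hf, hef, -⟩ := h.exists_pair' hu₀ hu₀c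
  have hfW : f ∈ W := hnext u₀ hu₀W f hf (by rw [polar_eq, hef]; exact one_ne_zero)
  intro v
  show v ∈ W
  set p := v - polar Q v f • u₀ - polar Q v u₀ • f with hp
  have hee : polar Q u₀ u₀ = 0 := by rw [polar_self', hu₀, mul_zero]
  have hff : polar Q f f = 0 := by rw [polar_self', hf, mul_zero]
  have h1 : polar Q p u₀ = 0 := by
    simp only [hp, polar_sub_left, polar_smul_left', hee, polar_eq f u₀, hef]; ring
  have h2' : polar Q p f = 0 := by
    simp only [hp, polar_sub_left, polar_smul_left', hff, hef]; ring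
  have hq : (-Q p) • u₀ + f + p ∈ W := by
    refine hnext u₀ hu₀W _ ?_ ?_
    · simp only [CfsgLib.Geometry.map_add', CfsgLib.Geometry.map_smul', hu₀, hf, polar_add_left, polar_smul_left',
        hef, polar_eq u₀ p, h1, polar_eq f p, h2']
      ring
    · simp [polar_add_left, polar_smul_left', hee, polar_eq f u₀, hef, h1]
  have hpW : p ∈ W := by
    have := W.sub_mem hq (W.add_mem (W.smul_mem (-Q p) hu₀W) hfW)
    convert this using 1
    module
  rw [show v = p + polar Q v f • u₀ + polar Q v u₀ • f by simp only [hp]; module]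
  exact W.add_mem (W.add_mem hpW (W.smul_mem _ hu₀W)) (W.smul_mem _ hfW)

end CfsgLib.Maximal.OrthFour
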