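import Mathlib

/-!
Stabilisers of uniform partitions are maximal in the symmetric group.
-/

set_option autoImplicit false

namespace CfsgLib.Maximal

open scoped Pointwise

variable {Ω : Type*} [Fintype Ω] [DecidableEq Ω] {b : ℕ}

/-- The permutations respecting a labelling. -/
def partStab (f : Ω → Fin b) : Subgroup (Equiv.Perm Ω) where
  carrier := {g | ∀ x y : Ω, f x = f y ↔ f (g x) = f (g y)}
  mul_mem' {g h} hg hh x y := (hh x y).trans (hg _ _)
  one_mem' x y := Iff.rfl
  inv_mem' {g} hg x y := by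
    have := hg (g⁻¹ x) (g⁻¹ y)
    simp only [Equiv.Perm.inv_def, Equiv.apply_symm_apply] at this
    exact this.symm

lemma closure_partStab (f : Ω → Fin b) :
    Subgroup.closure {g : Equiv.Perm Ω | ∀ x y : Ω, f x = f y ↔ f (g x) = f (g y)} = partStab f :=
  le_antisymm ((Subgroup.closure_le _).2 fun _ h => h) fun _ h => Subgroup.subset_closure h

theorem partStab_isCoatom (a : ℕ) (ha : 2 ≤ a) (hb : 2 ≤ b) (f : Ω → Fin b)
    (hf : ∀ i : Fin b, Nat.card {x : Ω // f x = i} = a) : IsCoatom (partStab f) := by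
  classical
  let e : ∀ i, {x : Ω // f x = i} ≃ Fin a := fun i => Finite.equivFinOfCardEq (hf i)
  let E : Ω ≃ Fin b × Fin a :=
    ((Equiv.sigmaFiberEquiv f).symm.trans (Equiv.sigmaCongrRight e)).trans (Equiv.sigmaEquivProd _ _)
  have hE : ∀ x, (E x).1 = f x := fun x => rfl
  let mk : Equiv.Perm (Fin b) → Equiv.Perm (Fin a) → Equiv.Perm Ω :=
    fun π τ => E.symm.permCongr (π.prodCongr τ)
  have mkf : ∀ π τ x, f (mk π τ x) = π (f x) := fun π τ x => by
    rw [← hE, ← hE x]
    simp [mk, Equiv.permCongr_apply]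
  have mkmem : ∀ π τ, mk π τ ∈ partStab f := fun π τ x y => by
    rw [mkf, mkf]; exact π.injective.eq_iff.symm
  have swapmem : ∀ {x y : Ω}, f x = f y → Equiv.swap x y ∈ partStab f := by
    intro x y hxy
    have hs : ∀ z, f (Equiv.swap x y z) = f z := fun z => by
      rw [Equiv.swap_apply_def]; split_ifs with h1 h2
      · rw [h1, hxy]
      · rw [h2, hxy]
      · rfl
    intro u v; rw [hs, hs]
  have hne : ∀ x, ∃ y, y ≠ x ∧ f y = f x := by
    intro x
    have : Nontrivial {y : Ω // f y = f x} := Finite.one_lt_card_iff_nontrivial.1 (by rw [hf]; omega)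
    obtain ⟨⟨y, hy⟩, hyx⟩ := exists_ne (⟨x, rfl⟩ : {y : Ω // f y = f x})
    exact ⟨y, fun h => hyx (Subtype.ext h), hy⟩
  let i₀ : Fin b := ⟨0, by omega⟩
  let i₁ : Fin b := ⟨1, by omega⟩
  let j₀ : Fin a := ⟨0, by omega⟩
  constructor
  · intro htop
    let x := E.symm (i₀, j₀)
    let y := E.symm (i₁, j₀)
    obtain ⟨x', hx', hfx⟩ := hne x
    have hxy : f x ≠ f y := by
      rw [← hE, ← hE y]; simp [x, y, i₀, i₁, Fin.ext_iff]
    have hm : Equiv.swap x y ∈ partStab f := htop ▸ Subgroup.mem_top _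
    have := (hm x x').1 hfx.symm
    rw [Equiv.swap_apply_left, Equiv.swap_apply_of_ne_of_ne hx' (fun h => hxy (by rw [← h, hfx]))] at this
    exact hxy (hfx.symm.trans this.symm)
  intro H hH
  obtain ⟨g₀, hg₀H, hg₀⟩ := SetLike.exists_of_lt hH
  have hW : ∀ {g}, g ∈ partStab f → g ∈ H := fun hg => hH.le hg
  have htrans : MulAction.IsPretransitive H Ω := ⟨fun x y => by
    refine ⟨⟨mk (Equiv.swap (f x) (f y)) (Equiv.swap (E x).2 (E y).2), hW (mkmem _ _)⟩, ?_⟩
    show mk _ _ x = y
    apply E.injective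
    simp [mk, Equiv.permCongr_apply, Prod.ext_iff, hE]⟩
  have hprim : MulAction.IsPreprimitive H Ω := by
    refine ⟨fun {B} hB => ?_⟩
    by_contra hB'
    simp only [MulAction.IsTrivialBlock, not_or, Set.not_subsingleton_iff] at hB'
    obtain ⟨⟨x, hx, y, hy, hxy⟩, huniv⟩ := hB'
    have fixB : ∀ g : Equiv.Perm Ω, g ∈ H → ∀ {p}, p ∈ B → g p ∈ B → ∀ {q}, q ∈ B → g q ∈ B := by
      intro g hg p hp hgp q hq
      by_contra hgq
      have hne' : ((⟨g, hg⟩ : H) • B) ≠ (1 : H) • B := fun h => hgq (by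
        have : g q ∈ (⟨g, hg⟩ : H) • B := ⟨q, hq, rfl⟩
        rwa [h, one_smul] at this)
      exact Set.disjoint_left.1 (hB hne') ⟨p, hp, rfl⟩ (by rw [one_smul]; exact hgp)
    have partIn : ∀ {p q r}, p ∈ B → q ∈ B → f p ≠ f q → f r = f q → r ∈ B := by
      intro p q r hp hq hpq hr
      rcases eq_or_ne r q with rfl | hrq
      · exact hq
      have := fixB (Equiv.swap q r) (hW (swapmem hr.symm)) hp
        (by rwa [Equiv.swap_apply_of_ne_of_ne (fun h => hpq (by rw [h])) (fun h => hpq (by rw [h, hr]))]) hq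
      rwa [Equiv.swap_apply_left] at this
    by_cases hout : ∃ y ∈ B, f y ≠ f x
    · obtain ⟨y, hy, hfy⟩ := hout
      refine huniv (Set.eq_univ_of_forall fun z => ?_)
      by_cases hzx : f z = f x
      · exact partIn hy hx hfy hzx
      by_cases hzy : f z = f y
      · exact partIn hx hy hfy.symm hzy
      have hz' := fixB (mk (Equiv.swap (f y) (f z)) 1) (hW (mkmem _ _)) hx
        (by
          have e : mk (Equiv.swap (f y) (f z)) 1 x = x := E.injective (by
            simp [mk, Equiv.permCongr_apply, Prod.ext_iff, hE, Equiv.swap_apply_of_ne_of_ne hfy.symm (Ne.symm hzx)])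
          rwa [e]) (partIn hx hy hfy.symm (r := E.symm (f y, (E z).2)) (by rw [← hE]; simp))
      have e : mk (Equiv.swap (f y) (f z)) 1 (E.symm (f y, (E z).2)) = z := E.injective (by
        simp [mk, Equiv.permCongr_apply, Prod.ext_iff, hE])
      rwa [e] at hz'
    · push Not at hout
      have hpart : B = {z | f z = f x} := Set.ext fun z => ⟨hout z, fun hz => by
        rcases eq_or_ne z y with rfl | hzy
        · exact hy
        rcases eq_or_ne z x with rfl | hzx
        · exact hx
        have := fixB (Equiv.swap y z) (hW (swapmem (by rw [hout y hy, hz]))) hx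
          (by rwa [Equiv.swap_apply_of_ne_of_ne hxy (Ne.symm hzx)]) hy
        rwa [Equiv.swap_apply_left] at this⟩
      -- the parts are then blocks
      refine hg₀ fun p q => ?_
      suffices key : ∀ g ∈ H, ∀ p q, f p = f q → f (g p) = f (g q) from
        ⟨key g₀ hg₀H p q, fun h => by simpa using key g₀⁻¹ (H.inv_mem hg₀H) _ _ h⟩
      intro g hg p q hpq
      -- move the part of `p` onto `B`, and the image onto `B`
      set u := mk (Equiv.swap (f x) (f p)) 1
      set v := mk (Equiv.swap (f (g p)) (f x)) 1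
      have hu : ∀ z, f z = f p → u z ∈ B := fun z hz => by
        rw [hpart, Set.mem_setOf_eq, mkf, hz, Equiv.swap_apply_right]
      have hgu : v * g * u⁻¹ ∈ H :=
        H.mul_mem (H.mul_mem (hW (mkmem _ _)) hg) (H.inv_mem (hW (mkmem _ _)))
      have h2 := fixB _ hgu (hu p rfl) (by
        rw [hpart, Set.mem_setOf_eq]
        simp [mkf, v]) (hu q hpq.symm)
      rw [hpart, Set.mem_setOf_eq] at h2
      simp [mkf, v] at h2
      exact ((Equiv.swap (f (g p)) (f x)).injective (h2.trans (Equiv.swap_apply_left _ _).symm)).symm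
  obtain ⟨x', hx', hfx⟩ := hne (E.symm (i₀, j₀))
  exact Equiv.Perm.subgroup_eq_top_of_isPreprimitive_of_isSwap_mem hprim _ ⟨_, _, hx', rfl⟩ (hW (swapmem hfx))

end CfsgLib.Maximal
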