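import Mathlib

/-!
The stabiliser of a set and its complement.
-/

set_option autoImplicit false

namespace CfsgLib.Maximal

open MulAction Pointwise

variable {Ω : Type*}

/-- The stabiliser of the unordered partition `{O, Oᶜ}`. -/
def pairStab (O : Set Ω) : Subgroup (Equiv.Perm Ω) where
  carrier := {g | g • O = O ∨ g • O = Oᶜ}
  one_mem' := Or.inl (one_smul _ _)
  mul_mem' := by
    intro a b ha hb
    have hc : ∀ s : Set Ω, a • sᶜ = (a • s)ᶜ := fun s => Set.smul_set_compl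
    rcases ha with ha | ha <;> rcases hb with hb | hb
    · exact Or.inl (by rw [mul_smul, hb, ha])
    · exact Or.inr (by rw [mul_smul, hb, hc, ha])
    · exact Or.inr (by rw [mul_smul, hb, ha])
    · exact Or.inl (by rw [mul_smul, hb, hc, ha, compl_compl])
  inv_mem' := by
    intro a ha
    rcases ha with ha | ha
    · exact Or.inl (by rw [inv_smul_eq_iff, ha])
    · refine Or.inr ?_
      rw [inv_smul_eq_iff, Set.smul_set_compl, ha, compl_compl]

lemma stabilizer_le_pairStab (O : Set Ω) : stabilizer (Equiv.Perm Ω) O ≤ pairStab O :=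
  fun _ hg => Or.inl (mem_stabilizer_iff.1 hg)

theorem stabilizer_lt_pairStab [Finite Ω] (O : Set Ω) (hne : O.Nonempty) (hO : O.ncard = Oᶜ.ncard) :
    stabilizer (Equiv.Perm Ω) O < pairStab O := by
  classical
  refine lt_of_le_of_ne (stabilizer_le_pairStab O) fun h => ?_
  have hcard : Nat.card O = Nat.card ↥Oᶜ := by simpa [Nat.card_coe_set_eq] using hO
  obtain ⟨e⟩ := (Finite.card_eq.1 hcard : Nonempty (O ≃ ↥Oᶜ))
  let g : Equiv.Perm Ω := (Equiv.Set.sumCompl O).symm.trans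
    (((Equiv.sumComm _ _).trans (Equiv.sumCongr e.symm e)).trans (Equiv.Set.sumCompl O))
  have hg : g • O = Oᶜ := by
    apply Set.eq_of_subset_of_ncard_le
    · rintro _ ⟨x, hx, rfl⟩
      show g x ∈ Oᶜ
      simp [g, Equiv.Set.sumCompl_symm_apply_of_mem hx]
    · rw [Set.ncard_smul_set, hO]
    · exact Set.toFinite _
  have hm : g ∈ pairStab O := Or.inr hg
  rw [← h, mem_stabilizer_iff, hg] at hm
  obtain ⟨a, ha⟩ := hne
  exact (hm.symm ▸ ha : a ∈ Oᶜ) ha

theorem pairStab_ne_top (O : Set Ω) {a c b : Ω} (ha : a ∈ O) (hc : c ∈ O) (hac : a ≠ c) (hb : b ∉ O) :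
    pairStab O ≠ ⊤ := by
  classical
  intro h
  have hm : Equiv.swap a b ∈ pairStab O := h ▸ Subgroup.mem_top _
  have hcb : c ≠ b := fun h => hb (h ▸ hc)
  have hfix : c ∈ Equiv.swap a b • O := ⟨c, hc, Equiv.swap_apply_of_ne_of_ne hac.symm hcb⟩
  have hb' : b ∈ Equiv.swap a b • O := ⟨a, ha, Equiv.swap_apply_left a b⟩
  rcases hm with hm | hm
  · exact hb (hm ▸ hb')
  · exact (hm ▸ hfix : c ∈ Oᶜ) hc

theorem not_isCoatom_stabilizer_half [Fintype Ω] (hΩ : 2 < Fintype.card Ω) (O : Set Ω)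
    (hO : O.ncard = Oᶜ.ncard) : ¬ IsCoatom (stabilizer (Equiv.Perm Ω) O) := by
  intro hco
  have hsum := Set.ncard_add_ncard_compl O
  rw [Nat.card_eq_fintype_card] at hsum
  have h2 : 2 ≤ O.ncard := by omega
  obtain ⟨a, ha, c, hc, hac⟩ := (Set.one_lt_ncard_iff_nontrivial).1 h2
  obtain ⟨b, hb⟩ : Oᶜ.Nonempty := Set.nonempty_of_ncard_ne_zero (by omega)
  exact pairStab_ne_top O ha hc hac hb (hco.2 _ (stabilizer_lt_pairStab O ⟨a, ha⟩ hO))

end CfsgLib.Maximal
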