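import Mathlib

/-!
The Singer group: multiplications by non-zero elements of an extension field, inside GL_F(K).
-/

set_option autoImplicit false
set_option linter.style.haveILetI false

namespace CfsgLib.Maximal

variable (F K : Type*) [Field F] [Field K] [Algebra F K]

/-- Multiplication by a unit as a linear automorphism. -/
abbrev singerHom : Kˣ →* (Module.End F K)ˣ :=
  Units.map ((Algebra.lmul F K : K →ₐ[F] Module.End F K) : K →* Module.End F K)

variable {F K}

lemma singerHom_apply (a : Kˣ) (x : K) : ((singerHom F K a : (Module.End F K)ˣ) : Module.End F K) x = (a : K) * x := rfl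

lemma singerHom_injective : Function.Injective (singerHom F K) := by
  intro a b h
  apply Units.ext
  have := congrArg (fun u : (Module.End F K)ˣ => (u : Module.End F K) 1) h
  simpa [singerHom_apply] using this

lemma units_end_ext {f g : (Module.End F K)ˣ} (h : ∀ x, (f : Module.End F K) x = (g : Module.End F K) x) : f = g :=
  Units.ext (LinearMap.ext h)

lemma end_mul_apply (f g : (Module.End F K)ˣ) (x : K) :
    ((f * g : (Module.End F K)ˣ) : Module.End F K) x = (f : Module.End F K) ((g : Module.End F K) x) := rfl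

lemma apply_ne_zero (g : (Module.End F K)ˣ) {x : K} (hx : x ≠ 0) : (g : Module.End F K) x ≠ 0 := by
  intro h
  apply hx
  have h2 := congrArg ((g⁻¹ : (Module.End F K)ˣ) : Module.End F K) h
  rwa [← end_mul_apply, inv_mul_cancel, map_zero] at h2

theorem singer_centralizer :
    Subgroup.centralizer ((singerHom F K).range : Set (Module.End F K)ˣ) = (singerHom F K).range := by
  refine le_antisymm (fun f hf => ?_) ?_
  · refine ⟨Units.mk0 _ (apply_ne_zero f one_ne_zero), units_end_ext fun x => ?_⟩
    rw [singerHom_apply, Units.val_mk0]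
    rcases eq_or_ne x 0 with rfl | hx
    · simp
    have h := Subgroup.mem_centralizer_iff.1 hf _ (MonoidHom.mem_range.2 ⟨Units.mk0 x hx, rfl⟩)
    have h2 := congrArg (fun u : (Module.End F K)ˣ => (u : Module.End F K) 1) h
    simp only [end_mul_apply, singerHom_apply, Units.val_mk0, mul_one] at h2
    rw [← h2, mul_comm]
  · rintro _ ⟨a, rfl⟩
    refine Subgroup.mem_centralizer_iff.2 ?_
    rintro _ ⟨b, rfl⟩
    rw [← map_mul, mul_comm, map_mul]

/-- A semilinear map `x ↦ a σ(x)`. -/
def semiMap (σ : K ≃ₐ[F] K) (a : Kˣ) : (Module.End F K)ˣ :=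
  singerHom F K a * (LinearMap.GeneralLinearGroup.generalLinearEquiv F K).symm σ.toLinearEquiv

lemma semiMap_apply (σ : K ≃ₐ[F] K) (a : Kˣ) (x : K) :
    ((semiMap σ a : (Module.End F K)ˣ) : Module.End F K) x = (a : K) * σ x := rfl

lemma semiMap_mem_normalizer [Finite K] (σ : K ≃ₐ[F] K) (a : Kˣ) :
    semiMap σ a ∈ Subgroup.normalizer ((singerHom F K).range : Set (Module.End F K)ˣ) := by
  have key : ∀ b : Kˣ, semiMap σ a * singerHom F K b * (semiMap σ a)⁻¹ =
      singerHom F K (Units.map (σ : K →* K) b) := by
    intro b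
    rw [mul_inv_eq_iff_eq_mul]
    refine units_end_ext fun x => ?_
    show (a : K) * σ ((b : K) * x) = σ (b : K) * ((a : K) * σ x)
    rw [map_mul]
    ring
  haveI : Finite (Module.End F K) := Finite.of_injective _ DFunLike.coe_injective
  haveI : Finite (Module.End F K)ˣ := inferInstance
  refine Subgroup.mem_normalizer_iff.2 fun h => ⟨?_, fun hh => ?_⟩
  · rintro ⟨b, rfl⟩
    exact ⟨_, (key b).symm⟩
  · obtain ⟨c, hc⟩ := hh
    have := key (Units.map (σ.symm : K →* K) c)
    rw [show Units.map (σ : K →* K) (Units.map (σ.symm : K →* K) c) = c from Units.ext (by simp), hc,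
      mul_left_inj, mul_right_inj] at this
    exact ⟨_, this⟩

lemma exists_semiMap [Finite K] (g : (Module.End F K)ˣ)
    (hg : g ∈ Subgroup.normalizer ((singerHom F K).range : Set (Module.End F K)ˣ)) :
    ∃ (σ : K ≃ₐ[F] K) (a : Kˣ), semiMap σ a = g := by
  set a : Kˣ := Units.mk0 _ (apply_ne_zero g one_ne_zero) with ha
  set s : (Module.End F K)ˣ := (singerHom F K a)⁻¹ * g with hs
  have hsn : s ∈ Subgroup.normalizer ((singerHom F K).range : Set (Module.End F K)ˣ) :=
    mul_mem (inv_mem (Subgroup.le_normalizer ⟨a, rfl⟩)) hg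
  have hgs : singerHom F K a * s = g := by rw [hs, mul_inv_cancel_left]
  have hs1 : (s : Module.End F K) 1 = 1 := by
    have h := congrArg (fun u : (Module.End F K)ˣ => (u : Module.End F K) 1) hgs
    simp only [end_mul_apply, singerHom_apply] at h
    have hane : (a : K) ≠ 0 := a.ne_zero
    have h' : (a : K) * (s : Module.End F K) 1 = (a : K) * 1 := by rw [h, ha, Units.val_mk0, mul_one]
    exact mul_left_cancel₀ hane h'
  have hmul : ∀ x y : K, (s : Module.End F K) (x * y) = (s : Module.End F K) x * (s : Module.End F K) y := by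
    intro x y
    rcases eq_or_ne x 0 with rfl | hx
    · simp
    obtain ⟨c, hc⟩ := (Subgroup.mem_normalizer_iff.1 hsn _).1 ⟨Units.mk0 x hx, rfl⟩
    rw [eq_mul_inv_iff_mul_eq] at hc
    have h1 := fun z => congrArg (fun u : (Module.End F K)ˣ => (u : Module.End F K) z) hc
    simp only [end_mul_apply, singerHom_apply, Units.val_mk0] at h1
    have h2 := h1 1
    rw [mul_one, hs1, mul_one] at h2
    rw [← h1, ← h2]
  refine ⟨AlgEquiv.ofLinearEquiv (LinearMap.GeneralLinearGroup.generalLinearEquiv F K s) hs1 hmul, a,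
    units_end_ext fun x => ?_⟩
  rw [semiMap_apply, ← hgs, end_mul_apply, singerHom_apply]
  rfl

theorem singer_normalizer_card [Finite F] [Finite K] :
    Nat.card (Subgroup.normalizer ((singerHom F K).range : Set (Module.End F K)ˣ)) =
      Module.finrank F K * (Nat.card K - 1) := by
  haveI : FiniteDimensional F K := Module.Finite.of_finite
  let Φ : (K ≃ₐ[F] K) × Kˣ → Subgroup.normalizer ((singerHom F K).range : Set (Module.End F K)ˣ) :=
    fun p => ⟨semiMap p.1 p.2, semiMap_mem_normalizer p.1 p.2⟩
  have hb : Function.Bijective Φ := by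
    constructor
    · rintro ⟨σ, a⟩ ⟨τ, b⟩ h
      have h' : ∀ x, (a : K) * σ x = (b : K) * τ x := fun x => by
        have := congrArg (fun u => ((u : (Module.End F K)ˣ) : Module.End F K) x) (Subtype.ext_iff.1 h)
        simpa [Φ, semiMap_apply] using this
      have hab : a = b := Units.ext (by simpa using h' 1)
      subst hab
      exact Prod.ext (AlgEquiv.ext fun x => mul_left_cancel₀ a.ne_zero (h' x)) rfl
    · rintro ⟨g, hg⟩
      obtain ⟨σ, a, h⟩ := exists_semiMap g hg
      exact ⟨(σ, a), Subtype.ext h⟩
  rw [← Nat.card_eq_of_bijective Φ hb, Nat.card_prod, IsGalois.card_aut_eq_finrank, Nat.card_units]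

theorem singer_inter [Finite F] [Finite K] (g : (Module.End F K)ˣ)
    (hg : (singerHom F K).range.map (MulAut.conj g).toMonoidHom ≠ (singerHom F K).range) :
    ∃ r : ℕ, 1 ≤ r ∧ r ∣ Module.finrank F K ∧ r < Module.finrank F K ∧
      Nat.card ↥((singerHom F K).range.map (MulAut.conj g).toMonoidHom ⊓ (singerHom F K).range) ∣
        Nat.card F ^ r - 1 := by
  classical
  haveI : Finite (Module.End F K) := Finite.of_injective _ DFunLike.coe_injective
  haveI : FiniteDimensional F K := Module.Finite.of_finite
  let A : Subalgebra F (Module.End F K) := (Algebra.lmul F K).range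
  let c : K →ₐ[F] Module.End F K :=
    (MulSemiringAction.toAlgEquiv F (Module.End F K) (ConjAct.toConjAct g)).toAlgHom.comp (Algebra.lmul F K)
  let L : Subalgebra F K := A.comap c
  have hLinv : ∀ x ∈ L, x⁻¹ ∈ L := by
    intro x hx
    exact L.inv_mem_of_algebraic (x := ⟨x, hx⟩) (Algebra.IsAlgebraic.isAlgebraic (R := F) x)
  let L' : IntermediateField F K := L.toIntermediateField hLinv
  have hc : ∀ (k : Kˣ), c (k : K) = ((g * singerHom F K k * g⁻¹ : (Module.End F K)ˣ) : Module.End F K) := by
    intro k
    rfl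
  have hmemA : ∀ u : (Module.End F K)ˣ, u ∈ (singerHom F K).range ↔ (u : Module.End F K) ∈ A := by
    intro u
    constructor
    · rintro ⟨a, rfl⟩; exact ⟨a, rfl⟩
    · rintro ⟨a, ha⟩
      have ha0 : a ≠ 0 := by
        rintro rfl
        have := apply_ne_zero u one_ne_zero
        rw [← ha] at this
        simp at this
      exact ⟨Units.mk0 a ha0, Units.ext ha⟩
  -- the intersection is the image of L'ˣ
  let e : L'ˣ →* (Module.End F K)ˣ :=
    (MulAut.conj g).toMonoidHom.comp ((singerHom F K).comp (Units.map (L'.val : L' →* K)))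
  have hrange : e.range = (singerHom F K).range.map (MulAut.conj g).toMonoidHom ⊓ (singerHom F K).range := by
    ext u
    constructor
    · rintro ⟨x, rfl⟩
      refine ⟨⟨_, ⟨_, rfl⟩, rfl⟩, (hmemA _).2 ?_⟩
      have : ((x : L') : K) ∈ L := (x : L').2
      have h2 : c ((x : L') : K) ∈ A := this
      convert h2 using 1
      rfl
    · rintro ⟨⟨_, ⟨k, rfl⟩, rfl⟩, hu⟩
      have hkL : (k : K) ∈ L := by
        show c (k : K) ∈ A
        exact (hc k) ▸ (hmemA _).1 hu
      refine ⟨Units.mk0 (⟨(k : K), hkL⟩ : L') (by simp [Subtype.ext_iff]), ?_⟩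
      show MulAut.conj g (singerHom F K _) = MulAut.conj g (singerHom F K k)
      exact congrArg (fun z => MulAut.conj g (singerHom F K z)) (Units.ext rfl)
  have he : Function.Injective e := by
    refine (MulAut.conj g).injective.comp (singerHom_injective.comp ?_)
    exact Units.map_injective Subtype.val_injective
  refine ⟨Module.finrank F L', Module.finrank_pos, ⟨_, (Module.finrank_mul_finrank F L' K).symm⟩, ?_, ?_⟩
  · refine lt_of_le_of_ne (Submodule.finrank_le L'.toSubalgebra.toSubmodule) fun h => hg ?_
    have htop : L' = ⊤ :=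
      IntermediateField.eq_of_le_of_finrank_eq le_top (by rw [h, IntermediateField.finrank_top'])
    have hall : ∀ k : K, k ∈ L := fun k => show k ∈ L' from htop ▸ IntermediateField.mem_top
    apply Subgroup.eq_of_le_of_card_ge
    · rintro _ ⟨_, ⟨k, rfl⟩, rfl⟩
      refine (hmemA _).2 ?_
      have := hall (k : K)
      exact (hc k) ▸ (show c (k : K) ∈ A from this)
    · rw [Subgroup.card_map_of_injective (MulAut.conj g).injective]
  · rw [← hrange, ← Nat.card_congr (MonoidHom.ofInjective he).toEquiv, Nat.card_units,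
      Module.natCard_eq_pow_finrank (K := F)]

end CfsgLib.Maximal
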