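import Mathlib
import Cfsg.Agent.Lib.Maximal.Singer

/-!
Commutative groups of matrices of maximal order prime to the characteristic are Singer groups.
-/

set_option autoImplicit false
set_option linter.style.haveILetI false

namespace CfsgLib.Maximal

universe u

variable {F : Type*} [Field F] [Finite F]

lemma adjoin_pow_eq {V : Type*} [AddCommGroup V] [Module F V] [Nontrivial V] (p e : ℕ) [Fact p.Prime]
    [CharP F p] (hQF : ∀ c : F, c ^ p ^ e = c) (S : Set (Module.End F V))
    (hS : ∀ x ∈ S, ∀ y ∈ S, x * y = y * x) (hSQ : ∀ x ∈ S, x ^ p ^ e = x)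
    {x : Module.End F V} (hx : x ∈ Algebra.adjoin F S) : x ^ p ^ e = x := by
  haveI : CharP (Module.End F V) p :=
    charP_of_injective_algebraMap (algebraMap F (Module.End F V)).injective p
  induction hx using Algebra.adjoin_induction with
  | mem x hx => exact hSQ x hx
  | algebraMap c => rw [← map_pow, hQF]
  | add x y hx hy hxe hye =>
    rw [add_pow_char_pow_of_commute p e (Algebra.commute_of_mem_adjoin_of_forall_mem_commute hy
      (fun b hb => (Algebra.commute_of_mem_adjoin_of_forall_mem_commute hx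
        fun c hc => hS b hb c hc).symm)), hxe, hye]
  | mul x y hx hy hxe hye =>
    rw [Commute.mul_pow (Algebra.commute_of_mem_adjoin_of_forall_mem_commute hy
      (fun b hb => (Algebra.commute_of_mem_adjoin_of_forall_mem_commute hx
        fun c hc => hS b hb c hc).symm)), hxe, hye]

/-- The restriction of a set of commuting units to an invariant subspace. -/
noncomputable def unitsRestrict {V : Type*} [AddCommGroup V] [Module F V] (U : Subgroup (Module.End F V)ˣ)
    (W : Submodule F V) (hW : ∀ u ∈ U, ∀ w ∈ W, (u : Module.End F V) w ∈ W) : U →* (Module.End F W)ˣ :=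
  MonoidHom.toHomUnits
    { toFun := fun u => ((u.1 : (Module.End F V)ˣ) : Module.End F V).restrict (hW u.1 u.2)
      map_one' := by ext; simp
      map_mul' := fun a b => by ext; simp }

lemma unitsRestrict_apply {V : Type*} [AddCommGroup V] [Module F V] (U : Subgroup (Module.End F V)ˣ)
    (W : Submodule F V) (hW : ∀ u ∈ U, ∀ w ∈ W, (u : Module.End F V) w ∈ W) (u : U) (w : W) :
    (((unitsRestrict U W hW u : (Module.End F W)ˣ) : Module.End F W) w : V) =
      ((u.1 : (Module.End F V)ˣ) : Module.End F V) w := rfl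

theorem abelian_units_bound (p e : ℕ) [Fact p.Prime] [CharP F p] (he : 0 < e)
    (hQF : ∀ c : F, c ^ p ^ e = c) :
    ∀ (n : ℕ) (V : Type u) [AddCommGroup V] [Module F V] [Finite V] (U : Subgroup (Module.End F V)ˣ),
      Module.finrank F V = n → 0 < n → (∀ a ∈ U, ∀ b ∈ U, a * b = b * a) → (∀ a ∈ U, a ^ p ^ e = a) →
      Nat.card U ≤ Nat.card F ^ n - 1 ∧
        (Nat.card F ^ n - 1 ≤ Nat.card U → ∀ x ∈ Algebra.adjoin F ((fun a : (Module.End F V)ˣ => (a : Module.End F V)) '' U),
          x ≠ 0 → Function.Injective x) := by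
  intro n
  induction n using Nat.strong_induction_on with
  | _ n ih =>
  intro V _ _ _ U hn hn0 hcomm hpow
  haveI : Nontrivial V := Module.nontrivial_of_finrank_pos (R := F) (by omega)
  set S := (fun a : (Module.End F V)ˣ => (a : Module.End F V)) '' U
  have hS : ∀ x ∈ S, ∀ y ∈ S, x * y = y * x := by
    rintro _ ⟨a, ha, rfl⟩ _ ⟨b, hb, rfl⟩
    simpa using congrArg Units.val (hcomm a ha b hb)
  have hSQ : ∀ x ∈ S, x ^ p ^ e = x := by
    rintro _ ⟨a, ha, rfl⟩
    simpa using congrArg Units.val (hpow a ha)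
  set A := Algebra.adjoin F S
  by_cases hinj : ∀ x ∈ A, x ≠ 0 → Function.Injective x
  · refine ⟨?_, fun _ => hinj⟩
    obtain ⟨v, hv⟩ := exists_ne (0 : V)
    classical
    haveI := Fintype.ofFinite V
    let f : U → {w : V // w ≠ 0} := fun a => ⟨(a.1 : Module.End F V) v, fun h => hv (by
      have h2 := congrArg ((a.1⁻¹ : (Module.End F V)ˣ) : Module.End F V) h
      rwa [map_zero, ← Module.End.mul_apply, ← Units.val_mul, inv_mul_cancel] at h2)⟩
    have hf : Function.Injective f := fun a b h => by
      by_contra hab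
      have hd : (a.1 : Module.End F V) - (b.1 : Module.End F V) ∈ A :=
        sub_mem (Algebra.subset_adjoin ⟨_, a.2, rfl⟩) (Algebra.subset_adjoin ⟨_, b.2, rfl⟩)
      have hd0 : (a.1 : Module.End F V) - (b.1 : Module.End F V) ≠ 0 :=
        fun h0 => hab (Subtype.ext (Units.ext (sub_eq_zero.1 h0)))
      refine hv (hinj _ hd hd0 ?_)
      rw [map_zero, LinearMap.sub_apply, sub_eq_zero]
      exact congrArg Subtype.val h
    refine (Nat.card_le_card_of_injective f hf).trans ?_
    rw [Nat.card_eq_fintype_card, Fintype.card_subtype_compl, Fintype.card_subtype_eq,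
      ← Nat.card_eq_fintype_card, Module.natCard_eq_pow_finrank (K := F), hn]
  · push Not at hinj
    obtain ⟨x, hxA, hx0, hxi⟩ := hinj
    have hxQ := adjoin_pow_eq p e hQF S hS hSQ hxA
    have hQ2 : 2 ≤ p ^ e := (Fact.out : p.Prime).two_le.trans (Nat.le_self_pow he.ne' p)
    set ε := x ^ (p ^ e - 1) with hε
    have hεx : ε * x = x := by rw [hε, ← pow_succ, Nat.sub_add_cancel (by omega), hxQ]
    have hε0 : ε ≠ 0 := fun h => hx0 (by rw [← hεx, h, zero_mul])
    have hεε : ∀ v, ε (ε v) = ε v := fun v => by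
      rw [← Module.End.mul_apply]
      congr 1
      have h1 : p ^ e - 1 = 1 + (p ^ e - 2) := by omega
      calc ε * ε = ε * x ^ (1 + (p ^ e - 2)) := by rw [← h1]
        _ = ε := by rw [pow_add, pow_one, ← mul_assoc, hεx, ← pow_succ', hε]; congr 1; omega
    obtain ⟨w, hw, hw0⟩ : ∃ w, x w = 0 ∧ w ≠ 0 := by
      rw [← LinearMap.ker_eq_bot] at hxi
      obtain ⟨w, hw, hw0⟩ := Submodule.exists_mem_ne_zero_of_ne_bot hxi
      exact ⟨w, hw, hw0⟩
    have hεw : ε w = 0 := by
      rw [hε, show p ^ e - 1 = (p ^ e - 2) + 1 by omega, pow_succ, Module.End.mul_apply, hw, map_zero]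
    have hcom : ∀ u ∈ U, ∀ v, (u : Module.End F V) (ε v) = ε ((u : Module.End F V) v) := fun u hu v => by
      have h : Commute (u : Module.End F V) x := Algebra.commute_of_mem_adjoin_of_forall_mem_commute hxA
        fun b hb => hS _ ⟨u, hu, rfl⟩ b hb
      rw [← Module.End.mul_apply, ← Module.End.mul_apply]
      exact LinearMap.congr_fun (h.pow_right (p ^ e - 1)).eq v
    have hW₁ : ∀ u ∈ U, ∀ v ∈ LinearMap.range ε, (u : Module.End F V) v ∈ LinearMap.range ε := by
      rintro u hu _ ⟨v, rfl⟩
      exact ⟨_, (hcom u hu v).symm⟩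
    have hW₂ : ∀ u ∈ U, ∀ v ∈ LinearMap.ker ε, (u : Module.End F V) v ∈ LinearMap.ker ε := by
      intro u hu v hv
      rw [LinearMap.mem_ker] at hv ⊢
      rw [← hcom u hu v, hv, map_zero]
    have hsum := ε.finrank_range_add_finrank_ker
    have ha : 0 < Module.finrank F (LinearMap.range ε) := by
      rw [Nat.pos_iff_ne_zero, ne_eq, Submodule.finrank_eq_zero, LinearMap.range_eq_bot]
      exact hε0
    have hb : 0 < Module.finrank F (LinearMap.ker ε) := by
      rw [Nat.pos_iff_ne_zero, ne_eq, Submodule.finrank_eq_zero]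
      exact fun h => hw0 ((Submodule.mem_bot F).1 (h ▸ LinearMap.mem_ker.2 hεw))
    set r₁ := unitsRestrict U _ hW₁
    set r₂ := unitsRestrict U _ hW₂
    have hcard : ∀ (W : Submodule F V) (hW : ∀ u ∈ U, ∀ w ∈ W, (u : Module.End F V) w ∈ W),
        0 < Module.finrank F W → Module.finrank F W < n →
        Nat.card (unitsRestrict U W hW).range ≤ Nat.card F ^ Module.finrank F W - 1 := by
      intro W hW h0 hlt
      refine (ih _ hlt W _ rfl h0 ?_ ?_).1
      · rintro _ ⟨a, rfl⟩ _ ⟨b, rfl⟩
        rw [← map_mul, ← map_mul]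
        exact congrArg _ (Subtype.ext (hcomm _ a.2 _ b.2))
      · rintro _ ⟨a, rfl⟩
        rw [← map_pow]
        exact congrArg _ (Subtype.ext (hpow _ a.2))
    have hprod : Nat.card U ≤ Nat.card r₁.range * Nat.card r₂.range := by
      haveI : Finite (Module.End F (LinearMap.range ε)) := Finite.of_injective _ DFunLike.coe_injective
      haveI : Finite (Module.End F (LinearMap.ker ε)) := Finite.of_injective _ DFunLike.coe_injective
      rw [← Nat.card_prod]
      refine Nat.card_le_card_of_injective (fun a => (r₁.rangeRestrict a, r₂.rangeRestrict a)) fun a b h => ?_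
      simp only [Prod.mk.injEq] at h
      have h1 : r₁ a = r₁ b := congrArg Subtype.val h.1
      have h2 : r₂ a = r₂ b := congrArg Subtype.val h.2
      refine Subtype.ext (Units.ext (LinearMap.ext fun v => ?_))
      have e1 := congrArg (fun t : (Module.End F (LinearMap.range ε))ˣ =>
        ((t.val ⟨ε v, LinearMap.mem_range_self ε v⟩ : LinearMap.range ε) : V)) h1
      have e2 := congrArg (fun t : (Module.End F (LinearMap.ker ε))ˣ =>
        ((t.val ⟨v - ε v, by rw [LinearMap.mem_ker, map_sub, hεε, sub_self]⟩ : LinearMap.ker ε) : V)) h2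
      simp only [r₁, r₂, unitsRestrict_apply] at e1 e2
      calc (a.1 : Module.End F V) v = (a.1 : Module.End F V) (ε v) + (a.1 : Module.End F V) (v - ε v) := by
            rw [← map_add, add_sub_cancel]
        _ = (b.1 : Module.End F V) (ε v) + (b.1 : Module.End F V) (v - ε v) := by rw [e1, e2]
        _ = (b.1 : Module.End F V) v := by rw [← map_add, add_sub_cancel]
    have hlt : Nat.card U < Nat.card F ^ n - 1 := by
      refine lt_of_le_of_lt (hprod.trans (Nat.mul_le_mul (hcard _ hW₁ ha (by omega)) (hcard _ hW₂ hb (by omega)))) ?_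
      rw [← hn, ← hsum, pow_add]
      have hA := Nat.one_lt_pow ha.ne' (Finite.one_lt_card (α := F))
      have hB := Nat.one_lt_pow hb.ne' (Finite.one_lt_card (α := F))
      generalize Nat.card F ^ Module.finrank F (LinearMap.range ε) = X at hA ⊢
      generalize Nat.card F ^ Module.finrank F (LinearMap.ker ε) = Y at hB ⊢
      obtain ⟨X, rfl⟩ : ∃ k, X = k + 2 := ⟨X - 2, by omega⟩
      obtain ⟨Y, rfl⟩ : ∃ k, Y = k + 2 := ⟨Y - 2, by omega⟩
      simp only [show X + 2 - 1 = X + 1 by omega, show Y + 2 - 1 = Y + 1 by omega]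
      have : (X + 2) * (Y + 2) = (X + 1) * (Y + 1) + (X + Y + 3) := by ring
      omega
    exact ⟨hlt.le, fun h => absurd h (by omega)⟩

theorem singer_unique {K : Type u} [Field K] [Finite K] [Algebra F K] (U : Subgroup (Module.End F K)ˣ)
    (hU : ∀ a ∈ U, ∀ b ∈ U, a * b = b * a) (hcard : Nat.card U = Nat.card K - 1) :
    ∃ g : (Module.End F K)ˣ, U.map (MulAut.conj g).toMonoidHom = (singerHom F K).range := by
  classical
  obtain ⟨p, hp⟩ := CharP.exists F
  haveI := Fact.mk (CharP.char_is_prime F p)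
  haveI := Fintype.ofFinite F
  obtain ⟨f, -, hf⟩ := FiniteField.card F p
  set n := Module.finrank F K with hn
  have hn0 : 0 < n := Module.finrank_pos
  have hK : Nat.card K = Nat.card F ^ n := Module.natCard_eq_pow_finrank
  have hKp : Nat.card K = p ^ (f.val * n) := by rw [hK, Nat.card_eq_fintype_card, hf, pow_mul]
  have hQF : ∀ c : F, c ^ p ^ (f.val * n) = c := fun c => by
    rw [pow_mul, ← hf, FiniteField.pow_card_pow]
  have hpow : ∀ a ∈ U, a ^ p ^ (f.val * n) = a := fun a ha => by
    have h1 : (⟨a, ha⟩ : U) ^ Nat.card U = 1 := pow_card_eq_one'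
    have h2 : a ^ Nat.card U = 1 := congrArg Subtype.val h1
    rw [← hKp, show Nat.card K = Nat.card U + 1 by rw [hcard]; have := Nat.card_pos (α := K); omega,
      pow_succ, h2, one_mul]
  obtain ⟨-, hinj⟩ := abelian_units_bound p (f.val * n) (Nat.mul_pos f.pos hn0) hQF n K U rfl hn0 hU hpow
  replace hinj := hinj (by rw [hcard, hK])
  set A := Algebra.adjoin F ((fun a : (Module.End F K)ˣ => (a : Module.End F K)) '' U)
  have hAc : ∀ a b : A, a * b = b * a := fun a b => Subtype.ext <|
    (Algebra.commute_of_mem_adjoin_of_forall_mem_commute b.2 fun c hc =>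
      (Algebra.commute_of_mem_adjoin_of_forall_mem_commute a.2 (fun d hd => by
        obtain ⟨u, hu, rfl⟩ := hc
        obtain ⟨v, hv, rfl⟩ := hd
        simpa [Commute, SemiconjBy] using congrArg Units.val (hU u hu v hv))).symm).eq
  let ev : A →ₗ[F] K :=
    { toFun := fun a => (a.1 : Module.End F K) 1
      map_add' := fun a b => rfl
      map_smul' := fun c a => rfl }
  have hev0 : ∀ a : A, ev a = 0 → a = 0 := fun a h => by
    by_contra ha
    exact one_ne_zero (hinj a.1 a.2 (fun h0 => ha (Subtype.ext h0)) (h.trans (map_zero (a.1 : Module.End F K)).symm))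
  have hevi : Function.Injective ev := fun a b h => sub_eq_zero.1 (hev0 _ (by rw [map_sub, h, sub_self]))
  have hevs : Function.Surjective ev := by
    haveI := Fintype.ofFinite K
    let j : U → {w : K // w ≠ 0} := fun a => ⟨(a.1 : Module.End F K) 1, apply_ne_zero a.1 one_ne_zero⟩
    have hj : Function.Injective j := fun a b h => Subtype.ext (Units.ext (congrArg Subtype.val
      (hevi (a₁ := ⟨_, Algebra.subset_adjoin ⟨_, a.2, rfl⟩⟩) (a₂ := ⟨_, Algebra.subset_adjoin ⟨_, b.2, rfl⟩⟩)
        (congrArg Subtype.val h))))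
    have hjb : Function.Bijective j := hj.bijective_of_nat_card_le (by
      rw [hcard, Nat.card_eq_fintype_card, Nat.card_eq_fintype_card, Fintype.card_subtype_compl,
        Fintype.card_subtype_eq])
    intro w
    rcases eq_or_ne w 0 with rfl | hw
    · exact ⟨0, map_zero _⟩
    obtain ⟨a, ha⟩ := hjb.2 ⟨w, hw⟩
    exact ⟨⟨_, Algebra.subset_adjoin ⟨_, a.2, rfl⟩⟩, congrArg Subtype.val ha⟩
  haveI : Nontrivial A := ⟨⟨0, 1, fun h => zero_ne_one (α := K) (congrArg (fun a : A => (a.1 : Module.End F K) 1) h)⟩⟩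
  haveI : NoZeroDivisors A := ⟨fun {a b} h => by
    by_contra hc
    push Not at hc
    refine hc.2 (hev0 b (hinj a.1 a.2 (fun h0 => hc.1 (Subtype.ext h0)) ?_))
    rw [map_zero]
    exact congrArg ev h⟩
  haveI : Finite A := Finite.of_injective ev hevi
  haveI : Finite (Module.End F K) := Finite.of_injective _ DFunLike.coe_injective
  letI : CommRing A := { (inferInstance : Ring A) with mul_comm := hAc }
  haveI : IsDomain A := NoZeroDivisors.to_isDomain A
  letI : Field A := (Finite.isField_of_domain A).toField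
  let evE : A ≃ₗ[F] K := LinearEquiv.ofBijective ev ⟨hevi, hevs⟩
  have hAn : Module.finrank F A = n := evE.finrank_eq
  haveI : NeZero n := ⟨hn0.ne'⟩
  let θ : A ≃ₐ[F] K :=
    (FiniteField.algEquivExtension F p n A hAn).trans (FiniteField.algEquivExtension F p n K rfl).symm
  let g : (Module.End F K)ˣ :=
    (LinearMap.GeneralLinearGroup.generalLinearEquiv F K).symm (evE.symm.trans θ.toLinearEquiv)
  refine ⟨g, Subgroup.eq_of_le_of_card_ge ?_ ?_⟩
  · rintro _ ⟨u, hu, rfl⟩
    let a : A := ⟨(u : Module.End F K), Algebra.subset_adjoin ⟨u, hu, rfl⟩⟩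
    have ha : θ a ≠ 0 := (map_ne_zero_iff θ θ.injective).2 fun h => apply_ne_zero u one_ne_zero
      (congrArg (fun t : A => (t.1 : Module.End F K) 1) h)
    refine ⟨Units.mk0 _ ha, ?_⟩
    rw [MulEquiv.coe_toMonoidHom, MulAut.conj_apply, eq_mul_inv_iff_mul_eq]
    refine units_end_ext fun x => ?_
    rw [end_mul_apply, end_mul_apply, singerHom_apply, Units.val_mk0]
    obtain ⟨b, rfl⟩ := evE.surjective x
    have hgb : ∀ c : A, (g : Module.End F K) (evE c) = θ c := fun c => congrArg θ (evE.symm_apply_apply c)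
    rw [show (u : Module.End F K) (evE b) = evE (a * b) from rfl, hgb, hgb, map_mul]
  · rw [Subgroup.card_map_of_injective (MulAut.conj g).injective, hcard,
      ← Nat.card_congr (MonoidHom.ofInjective singerHom_injective).toEquiv, Nat.card_units]

end CfsgLib.Maximal
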