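import Mathlib
import Cfsg.Agent.Lib.Maximal.SpFull
import Cfsg.Agent.Lib.Maximal.RatBasic
import Cfsg.Agent.Lib.Geometry.Symplectic

/-!
Rational symplectic transvections and short root elements.
-/

set_option autoImplicit false
set_option linter.unusedSectionVars false
set_option linter.unusedSimpArgs false

namespace CfsgLib.Maximal

open scoped Matrix

variable {m : ℕ} {F : Type*} [Field F] {F₀ : Subfield F}

local notation "sf" => Cfsg.sympForm m F
local notation "VV" => (Fin m ⊕ Fin m → F)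

lemma RatV.add' {v w : VV} (hv : RatV F₀ v) (hw : RatV F₀ w) : RatV F₀ (v + w) :=
  fun i => F₀.add_mem (hv i) (hw i)

lemma rat_sf {u v : VV} (hu : RatV F₀ u) (hv : RatV F₀ v) : sf u v ∈ F₀ := by
  rw [CfsgLib.Geometry.sympForm_eq]
  exact sum_mem fun i _ => F₀.sub_mem (F₀.mul_mem (hu _) (hv _)) (F₀.mul_mem (hu _) (hv _))

/-- A vector over the subfield as a vector over the field. -/
def upV (v : Fin m ⊕ Fin m → F₀) : VV := fun i => (v i : F)

lemma ratV_upV (v : Fin m ⊕ Fin m → F₀) : RatV F₀ (upV v) := fun i => (v i).2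

lemma sf_upV (u v : Fin m ⊕ Fin m → F₀) : sf (upV u) (upV v) = ((Cfsg.sympForm m F₀ u v : F₀) : F) := by
  simp [CfsgLib.Geometry.sympForm_eq, upV]

lemma RatV.exists_upV {v : VV} (hv : RatV F₀ v) : ∃ v₀ : Fin m ⊕ Fin m → F₀, upV v₀ = v :=
  ⟨fun i => ⟨v i, hv i⟩, rfl⟩

lemma upV_eq_zero {v : Fin m ⊕ Fin m → F₀} : upV v = 0 ↔ v = 0 :=
  ⟨fun h => funext fun i => Subtype.ext (congrFun h i), fun h => funext fun i => by simp [h, upV]⟩

lemma exists_rat_one {v : VV} (hv : RatV F₀ v) (h0 : v ≠ 0) : ∃ y : VV, RatV F₀ y ∧ sf v y = 1 := by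
  obtain ⟨v₀, rfl⟩ := hv.exists_upV
  obtain ⟨y, hy⟩ := sf_exists v₀ (fun e => h0 (upV_eq_zero.2 e))
  exact ⟨upV y, ratV_upV y, by rw [sf_upV, hy]; rfl⟩

lemma exists_rat_both {v w : VV} (hv : RatV F₀ v) (hv0 : v ≠ 0) (hw : RatV F₀ w) (hw0 : w ≠ 0) :
    ∃ y : VV, RatV F₀ y ∧ sf v y ≠ 0 ∧ sf w y ≠ 0 := by
  obtain ⟨v₀, rfl⟩ := hv.exists_upV
  obtain ⟨w₀, rfl⟩ := hw.exists_upV
  obtain ⟨y, hy, hy'⟩ := sf_exists₂ v₀ w₀ (fun e => hv0 (upV_eq_zero.2 e)) (fun e => hw0 (upV_eq_zero.2 e))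
  exact ⟨upV y, ratV_upV y, by rw [sf_upV]; exact Subtype.coe_ne_coe.2 hy,
    by rw [sf_upV]; exact Subtype.coe_ne_coe.2 hy'⟩

/-- A hyperbolic pair orthogonal to three given rational vectors. -/
lemma exists_rat_pair (hm : 3 ≤ m) {p q s : VV} (hp : RatV F₀ p) (hq : RatV F₀ q) (hs : RatV F₀ s)
    (hpqs : 4 ≤ m ∨ q = s ∨ sf p q ≠ 0 ∨ sf p s ≠ 0 ∨ sf q s ≠ 0) :
    ∃ a c : VV, RatV F₀ a ∧ RatV F₀ c ∧ sf c a = 1 ∧ sf a p = 0 ∧ sf a q = 0 ∧ sf a s = 0 ∧
      sf c p = 0 ∧ sf c q = 0 ∧ sf c s = 0 := by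
  classical
  obtain ⟨p, rfl⟩ := hp.exists_upV
  obtain ⟨q, rfl⟩ := hq.exists_upV
  obtain ⟨s, rfl⟩ := hs.exists_upV
  let B₀ := CfsgLib.Geometry.sympBilin m F₀
  let φ : (Fin m ⊕ Fin m → F₀) →ₗ[F₀] Fin 3 → F₀ := LinearMap.pi fun i => B₀.flip (![p, q, s] i)
  by_contra hcon
  have hiso : LinearMap.ker φ ≤ B₀.orthogonal (LinearMap.ker φ) := by
    intro x hx y hy
    by_contra hne
    have e : ∀ z ∈ LinearMap.ker φ, Cfsg.sympForm m F₀ z p = 0 ∧ Cfsg.sympForm m F₀ z q = 0 ∧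
        Cfsg.sympForm m F₀ z s = 0 := fun z hz =>
      ⟨congrFun (LinearMap.mem_ker.1 hz) 0, congrFun (LinearMap.mem_ker.1 hz) 1,
        congrFun (LinearMap.mem_ker.1 hz) 2⟩
    obtain ⟨x1, x2, x3⟩ := e x hx
    obtain ⟨y1, y2, y3⟩ := e y hy
    have hne' : Cfsg.sympForm m F₀ y x ≠ 0 := hne
    refine hcon ⟨upV x, upV ((Cfsg.sympForm m F₀ y x)⁻¹ • y), ratV_upV _, ratV_upV _, ?_, ?_, ?_, ?_, ?_, ?_, ?_⟩
    all_goals simp only [sf_upV, sf_smul_left]
    all_goals simp [x1, x2, x3, y1, y2, y3, inv_mul_cancel₀ hne']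
  have h1 := LinearMap.finrank_range_add_finrank_ker φ
  have h2 : Module.finrank F₀ (B₀.orthogonal (LinearMap.ker φ)) = _ := LinearMap.BilinForm.finrank_orthogonal (CfsgLib.Geometry.sympBilin_nondegenerate m F₀)
    (LinearMap.ker φ)
  have h3 := Submodule.finrank_mono hiso
  have h4 := Submodule.finrank_le (LinearMap.range φ)
  simp only [Module.finrank_fintype_fun_eq_card, Fintype.card_sum, Fintype.card_fin] at h1 h2 h4
  change Module.finrank F₀ (LinearMap.ker φ) ≤ Module.finrank F₀ (B₀.orthogonal (LinearMap.ker φ)) at h3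
  rcases hpqs with h5 | h5 | h5
  · omega
  · have hqs : q = s := funext fun i => Subtype.ext (congrFun h5 i)
    have h6 : LinearMap.range φ ≤ LinearMap.ker ((LinearMap.proj 1 : (Fin 3 → F₀) →ₗ[F₀] F₀) - LinearMap.proj 2) := by
      rintro _ ⟨x, rfl⟩
      simp [φ, hqs]
    have h7 := Submodule.finrank_mono h6
    have h8 := LinearMap.finrank_range_add_finrank_ker ((LinearMap.proj 1 : (Fin 3 → F₀) →ₗ[F₀] F₀) - LinearMap.proj 2)
    have h9 : 1 ≤ Module.finrank F₀ (LinearMap.range ((LinearMap.proj 1 : (Fin 3 → F₀) →ₗ[F₀] F₀) - LinearMap.proj 2)) :=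
      Nat.pos_of_ne_zero fun h0 => by
        have h' := LinearMap.range_eq_bot.1 (Submodule.finrank_eq_zero.1 h0)
        simpa using LinearMap.congr_fun h' (Pi.single 1 1)
    simp only [Module.finrank_fintype_fun_eq_card, Fintype.card_fin] at h8
    omega
  · have heq : LinearMap.ker φ = B₀.orthogonal (LinearMap.ker φ) :=
      Submodule.eq_of_le_of_finrank_le hiso (by omega)
    have hmem : ∀ i, (![p, q, s] : Fin 3 → _) i ∈ LinearMap.ker φ := fun i => by
      rw [heq]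
      intro y hy
      exact congrFun (LinearMap.mem_ker.1 hy) i
    have e1 : Cfsg.sympForm m F₀ p q = 0 := congrFun (LinearMap.mem_ker.1 (hmem 0)) 1
    have e2 : Cfsg.sympForm m F₀ p s = 0 := congrFun (LinearMap.mem_ker.1 (hmem 0)) 2
    have e3 : Cfsg.sympForm m F₀ q s = 0 := congrFun (LinearMap.mem_ker.1 (hmem 1)) 2
    simp [sf_upV, e1, e2, e3] at h5

lemma exists_rat_eval {x y : VV} (hx : RatV F₀ x) (hy : RatV F₀ y) (hy0 : y ≠ 0)
    (hxy : ∀ t ∈ F₀, x ≠ t • y) : ∃ b : VV, RatV F₀ b ∧ sf y b = 0 ∧ sf x b = 1 := by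
  obtain ⟨x, rfl⟩ := hx.exists_upV
  obtain ⟨y, rfl⟩ := hy.exists_upV
  obtain ⟨b, hb, hb'⟩ := sf_eval (x := x) (y := y) (fun e => hy0 (upV_eq_zero.2 e)) (fun hmem => by
    obtain ⟨t, rfl⟩ := Submodule.mem_span_singleton.1 hmem
    exact hxy t t.2 (funext fun i => by simp [upV]))
  exact ⟨upV b, ratV_upV b, by rw [sf_upV, hb]; rfl, by rw [sf_upV, hb']; rfl⟩

/-- The short root element of an orthogonal pair. -/
def sYel (μ : F) (a b : VV) : Matrix.GeneralLinearGroup (Fin m ⊕ Fin m) F :=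
  stv μ (a + b) * (stv μ a)⁻¹ * (stv μ b)⁻¹

lemma stv_inv (k : F) (w : VV) : (stv k w)⁻¹ = stv (-k) w := by
  refine inv_eq_of_mul_eq_one_right (Units.ext (CfsgLib.Geometry.matrix_eq_of_mulVec fun x => ?_))
  simp only [Units.val_mul, ← Matrix.mulVec_mulVec, stv_mulVec, sf_add_left, sf_smul_left, sf_alt, Units.val_one,
    Matrix.one_mulVec]
  module

lemma sYel_mulVec (μ : F) {a b : VV} (h : sf a b = 0) (x : VV) :
    (sYel μ a b : Matrix _ _ F) *ᵥ x = x + μ • (sf x a • b + sf x b • a) := by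
  have h' : sf b a = 0 := by rw [sf_skew, h, neg_zero]
  simp only [sYel, stv_inv, Units.val_mul, ← Matrix.mulVec_mulVec, stv_mulVec, sf_add_left, sf_add_right,
    sf_smul_left, sf_alt, h, h', mul_zero, add_zero, smul_add]
  module

lemma sYel_mem_spGL (μ : F) (a b : VV) : sYel μ a b ∈ Cfsg.spGL m F :=
  mul_mem (mul_mem (stv_mem_spGL _ _) (inv_mem (stv_mem_spGL _ _))) (inv_mem (stv_mem_spGL _ _))

lemma stv_add_orth (k : F) {a b : VV} (h : sf a b = 0) : stv k (a + b) = stv k a * stv k b * sYel k a b := by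
  have h' : sf b a = 0 := by rw [sf_skew, h, neg_zero]
  refine Units.ext (CfsgLib.Geometry.matrix_eq_of_mulVec fun x => ?_)
  simp only [Units.val_mul, ← Matrix.mulVec_mulVec, stv_mulVec, sYel_mulVec _ h, sf_add_left, sf_add_right,
    sf_smul_left, sf_alt, h, h', mul_zero, add_zero, smul_add]
  module

lemma sYel_smul_right (μ t : F) {a b : VV} (h : sf a b = 0) : sYel μ a (t • b) = sYel (μ * t) a b := by
  refine Units.ext (CfsgLib.Geometry.matrix_eq_of_mulVec fun x => ?_)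
  rw [sYel_mulVec _ h, sYel_mulVec _ (by rw [sf_smul_right, h, mul_zero]), sf_smul_right]
  module

lemma sYel_smul_left (μ t : F) {a b : VV} (h : sf a b = 0) : sYel μ (t • a) b = sYel (μ * t) a b := by
  refine Units.ext (CfsgLib.Geometry.matrix_eq_of_mulVec fun x => ?_)
  rw [sYel_mulVec _ h, sYel_mulVec _ (by rw [sf_smul_left, h, mul_zero]), sf_smul_right]
  module

lemma sYel_add_left (μ : F) {a a' b : VV} (h : sf a b = 0) (h' : sf a' b = 0) (haa : sf a a' = 0) :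
    sYel μ (a + a') b = sYel μ a b * sYel μ a' b := by
  have k1 : sf b a = 0 := by rw [sf_skew, h, neg_zero]
  have k2 : sf b a' = 0 := by rw [sf_skew, h', neg_zero]
  have k3 : sf a' a = 0 := by rw [sf_skew, haa, neg_zero]
  refine Units.ext (CfsgLib.Geometry.matrix_eq_of_mulVec fun x => ?_)
  simp only [Units.val_mul, ← Matrix.mulVec_mulVec, sYel_mulVec _ h, sYel_mulVec _ h',
    sYel_mulVec _ (show sf (a + a') b = 0 by rw [sf_add_left, h, h', add_zero]), sf_add_left, sf_add_right,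
    sf_smul_left, sf_alt, h, h', haa, k1, k2, k3, mul_zero, add_zero, zero_smul, smul_add, smul_zero]
  module

lemma sYel_conj {g : Matrix.GeneralLinearGroup (Fin m ⊕ Fin m) F} (hg : g ∈ Cfsg.spGL m F) (μ : F) (a b : VV) :
    g * sYel μ a b * g⁻¹ = sYel μ ((g : Matrix _ _ F) *ᵥ a) ((g : Matrix _ _ F) *ᵥ b) := by
  simp only [sYel, ← Matrix.mulVec_add, ← stv_conj hg]
  group

lemma ratM_stv {k : F} (hk : k ∈ F₀) {w : VV} (hw : RatV F₀ w) :
    RatM F₀ (Units.val (stv k w)) := by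
  simp only [stv, tv_val]
  refine ratM_one.add (ratM_vecMulVec (hw.smul hk) fun i => ?_)
  exact rat_sf (ratV_single i F₀.one_mem) hw

/-- A vector with prescribed pairing functional. -/
def sfDual (ψ : VV) : VV := Sum.elim (fun i => ψ (Sum.inr i)) (fun i => -ψ (Sum.inl i))

lemma sf_sfDual (x ψ : VV) : sf x (sfDual ψ) = ψ ⬝ᵥ x := by
  simp [CfsgLib.Geometry.sympForm_eq, sfDual, dotProduct, Fintype.sum_sum_type, Finset.sum_sub_distrib, Finset.sum_add_distrib, mul_comm]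
  ring

lemma ratV_sfDual {ψ : VV} (h : RatV F₀ ψ) : RatV F₀ (sfDual ψ) := by
  rintro (i | i)
  exacts [h _, F₀.neg_mem (h _)]

lemma sfDual_ne_zero {ψ : VV} (h : ψ ≠ 0) : sfDual ψ ≠ 0 := fun e => h (dot_ext fun x => by
  rw [← sf_sfDual, e, sf_zero_right, zero_dotProduct])

/-- A vector whose pairings with rational vectors are rational is rational. -/
lemma ratV_of_sf {w : VV} (h : ∀ x : VV, RatV F₀ x → sf w x ∈ F₀) : RatV F₀ w := by
  classical
  intro i
  have := h (sfDual (Pi.single i 1)) (ratV_sfDual (ratV_single i F₀.one_mem))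
  rwa [sf_sfDual, single_dotProduct, one_mul] at this

end CfsgLib.Maximal
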