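import Mathlib
import Cfsg.Agent.Lib.Maximal.SpSubBasic

/-!
Overgroups of the rational symplectic group.
-/

set_option autoImplicit false
set_option linter.unusedSectionVars false
set_option linter.unusedSimpArgs false
set_option linter.style.haveILetI false

namespace CfsgLib.Maximal

open scoped Matrix

variable {m : ℕ} {F : Type*} [Field F] {F₀ : Subfield F}

local notation "sf" => Cfsg.sympForm m F
local notation "VV" => (Fin m ⊕ Fin m → F)

/-- A subgroup of the symplectic group containing all its elements that are rational up to a scalar. -/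
structure SpOver (F₀ : Subfield F) (H : Subgroup (Matrix.GeneralLinearGroup (Fin m ⊕ Fin m) F)) : Prop where
  le : H ≤ Cfsg.spGL m F
  mem : ∀ g, g ∈ Cfsg.spGL m F → RatUpToScalar F₀ g → g ∈ H
  dim : 3 ≤ m

/-- No rational centre has an irrational transvection. -/
def SpSmall (F₀ : Subfield F) (H : Subgroup (Matrix.GeneralLinearGroup (Fin m ⊕ Fin m) F)) : Prop :=
  ∀ (a : Fin m ⊕ Fin m → F) (k : F), RatV F₀ a → a ≠ 0 → stv k a ∈ H → k ∈ F₀

variable {H : Subgroup (Matrix.GeneralLinearGroup (Fin m ⊕ Fin m) F)}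

lemma SpOver.stv_mem (h : SpOver F₀ H) {k : F} (hk : k ∈ F₀) {w : VV} (hw : RatV F₀ w) : stv k w ∈ H :=
  h.mem _ (stv_mem_spGL _ _) ⟨1, one_ne_zero, by rw [one_smul]; exact ratM_stv hk hw⟩

lemma SpOver.sYel_mem (h : SpOver F₀ H) {k : F} (hk : k ∈ F₀) {a b : VV} (ha : RatV F₀ a) (hb : RatV F₀ b) :
    sYel k a b ∈ H :=
  mul_mem (mul_mem (h.stv_mem hk (ha.add' hb)) (inv_mem (h.stv_mem hk ha))) (inv_mem (h.stv_mem hk hb))

lemma SpOver.stv_map (h : SpOver F₀ H) {g : Matrix.GeneralLinearGroup (Fin m ⊕ Fin m) F} (hg : g ∈ H) {k : F}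
    {v : VV} (hv : stv k v ∈ H) : stv k ((g : Matrix _ _ F) *ᵥ v) ∈ H := by
  rw [← stv_conj (h.le hg)]; exact mul_mem (mul_mem hg hv) (inv_mem hg)

lemma SpOver.sYel_map (h : SpOver F₀ H) {g : Matrix.GeneralLinearGroup (Fin m ⊕ Fin m) F} (hg : g ∈ H) {k : F}
    {a b : VV} (hv : sYel k a b ∈ H) : sYel k ((g : Matrix _ _ F) *ᵥ a) ((g : Matrix _ _ F) *ᵥ b) ∈ H := by
  rw [← sYel_conj (h.le hg)]; exact mul_mem (mul_mem hg hv) (inv_mem hg)

/-- The parameters of a long root group do not depend on the rational centre. -/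
lemma SpOver.long_move (h : SpOver F₀ H) {a b : VV} {k : F} (ha : RatV F₀ a) (ha0 : a ≠ 0) (hb : RatV F₀ b)
    (hk : stv k a ∈ H) : stv k b ∈ H := by
  rcases eq_or_ne b 0 with rfl | hb0
  · rw [stv_zero]; exact one_mem H
  have step : ∀ {x y : VV}, RatV F₀ x → RatV F₀ y → sf x y ≠ 0 → stv k x ∈ H → stv k y ∈ H := by
    intro x y hx hy hxy hmem
    have h1 := h.stv_map (h.stv_mem (F₀.inv_mem (rat_sf hx hy)) (hy.sub hx)) hmem
    rwa [stv_mulVec, sf_sub_right, sf_alt, sub_zero, inv_mul_cancel₀ hxy, one_smul, add_sub_cancel] at h1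
  obtain ⟨y, hy, hay, hby⟩ := exists_rat_both ha ha0 hb hb0
  exact step hy hb (by rw [sf_skew]; exact neg_ne_zero.2 hby) (step ha hy hay hk)

section big

variable [Fintype F] {r : ℕ}

/-- A larger long root group forces the whole symplectic group. -/
lemma SpOver.eq_of_big (h : SpOver F₀ H) (hr : r.Prime) (hcard : Fintype.card F = Nat.card F₀ ^ r)
    (hbig : ¬ SpSmall F₀ H) : H = Cfsg.spGL m F := by
  classical
  have hm := h.dim
  unfold SpSmall at hbig
  push Not at hbig
  obtain ⟨a₀, k₀, ha₀, ha00, hk₀, hk₀F⟩ := hbig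
  -- the short root parameters
  let A : Subalgebra F₀ F :=
    { carrier := {x | ∀ a b : Fin m ⊕ Fin m → F, RatV F₀ a → RatV F₀ b → Cfsg.sympForm m F a b = 0 →
        sYel x a b ∈ H}
      one_mem' := fun a b ha hb _ => h.sYel_mem F₀.one_mem ha hb
      zero_mem' := fun a b ha hb _ => h.sYel_mem F₀.zero_mem ha hb
      add_mem' := fun {x y} hx hy a b ha hb hab => by
        have e : sYel (x + y) a b = sYel x a b * sYel y a b := by
          refine Units.ext (CfsgLib.Geometry.matrix_eq_of_mulVec fun z => ?_)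
          have hba : sf b a = 0 := by rw [sf_skew, hab, neg_zero]
          simp only [Units.val_mul, ← Matrix.mulVec_mulVec, sYel_mulVec _ hab, sf_add_left, sf_smul_left, sf_alt,
            hab, hba, mul_zero, add_zero, zero_smul, smul_add, smul_zero]
          module
        rw [e]; exact mul_mem (hx a b ha hb hab) (hy a b ha hb hab)
      mul_mem' := fun {x y} hx hy b d hb hd hbd => by
        obtain ⟨a, c, ha, hc, hca, hab, had, -, hcb, hcd, -⟩ := exists_rat_pair hm hb hd hd (Or.inr (Or.inl rfl))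
        have h1 := h.sYel_map (hx a b ha hb hab) (hy c d hc hd hcd)
        have hdb : sf d b = 0 := by rw [sf_skew, hbd, neg_zero]
        have hda : sf d a = 0 := by rw [sf_skew, had, neg_zero]
        rw [sYel_mulVec _ hab, sYel_mulVec _ hab, hca, hcb, hda, hdb] at h1
        simp only [zero_smul, add_zero, smul_zero, one_smul] at h1
        rw [sYel_add_left _ hcd (by rw [sf_smul_left, hbd, mul_zero]) (by rw [sf_smul_right, hcb, mul_zero]),
          sYel_smul_left _ _ hbd, mul_comm y x] at h1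
        exact (mul_mem_cancel_left (hy c d hc hd hcd)).1 h1
      algebraMap_mem' := fun x a b ha hb _ => h.sYel_mem x.2 ha hb }
  have hAmem : k₀ ∈ A := fun a b ha hb _ =>
    mul_mem (mul_mem (h.long_move ha₀ ha00 (ha.add' hb) hk₀) (inv_mem (h.long_move ha₀ ha00 ha hk₀)))
      (inv_mem (h.long_move ha₀ ha00 hb hk₀))
  have hfr : Module.finrank F₀ F = r := by
    have h1 := Module.card_eq_pow_finrank (K := F₀) (V := F)
    rw [hcard, Nat.card_eq_fintype_card] at h1
    exact (Nat.pow_right_injective Fintype.one_lt_card h1).symm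
  haveI := Subalgebra.isSimpleOrder_of_finrank_prime F₀ F (hfr ▸ hr)
  have hA : A = ⊤ := by
    rcases eq_bot_or_eq_top A with hA | hA
    · exfalso
      obtain ⟨x, hx⟩ := Algebra.mem_bot.1 (hA ▸ hAmem : k₀ ∈ (⊥ : Subalgebra F₀ F))
      exact hk₀F (hx ▸ x.2)
    · exact hA
  have short : ∀ (x : F) (a b : VV), RatV F₀ a → RatV F₀ b → sf a b = 0 → sYel x a b ∈ H :=
    fun x => (show x ∈ A from hA ▸ Algebra.mem_top)
  have sq : ∀ (x : F) (b : VV), RatV F₀ b → stv (x * x) b ∈ H := by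
    intro x b hb
    obtain ⟨a, c, ha, hc, hca, hab, -, -, hcb, -, -⟩ := exists_rat_pair hm hb hb hb (Or.inr (Or.inl rfl))
    have h1 := h.stv_map (short x a b ha hb hab) (h.stv_mem F₀.one_mem hc)
    rw [sYel_mulVec _ hab, hca, hcb, zero_smul, add_zero, one_smul, stv_add_orth _ (by
      rw [sf_smul_right, hcb, mul_zero]), stv_scale, sYel_smul_right _ _ hcb, one_mul] at h1
    exact (mul_mem_cancel_left (h.stv_mem F₀.one_mem hc)).1 ((mul_mem_cancel_right (short x c b hc hb hcb)).1 h1)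
  have long : ∀ b : VV, RatV F₀ b → SpFull H b := by
    intro b hb k
    by_cases h2 : (2 : F) = 0
    · haveI : CharP F 2 := CharTwo.of_one_ne_zero_of_two_eq_zero one_ne_zero h2
      obtain ⟨x, rfl⟩ := FiniteField.isSquare_of_char_two ((ringChar.eq_iff).2 ‹_›) k
      exact sq x b hb
    · have e : k = (k / 4 + 1) * (k / 4 + 1) + -((k / 4 - 1) * (k / 4 - 1)) := by
        have h4 : (4 : F) ≠ 0 := by rw [show (4 : F) = 2 * 2 by norm_num]; exact mul_ne_zero h2 h2
        field_simp; ring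
      have e2 : ∀ x y : F, stv (x + y) b = stv x b * stv y b := fun x y =>
        Units.ext (CfsgLib.Geometry.matrix_eq_of_mulVec fun z => by
          simp only [Units.val_mul, ← Matrix.mulVec_mulVec, stv_mulVec, sf_add_left, sf_smul_left, sf_alt]
          module)
      rw [e, e2, ← stv_inv]
      exact mul_mem (sq _ b hb) (inv_mem (sq _ b hb))
  refine spGL_eq_of_full h.le ?_
  suffices hs : ∀ (s : Finset (Fin m)) (v : VV),
      (∀ j, j ∉ s → v (Sum.inl j) ∈ F₀ ∧ v (Sum.inr j) ∈ F₀) → SpFull H v from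
    fun v => hs Finset.univ v (by simp)
  intro s
  induction s using Finset.induction_on with
  | empty => exact fun v hv => long v fun x => by rcases x with j | j <;> simp_all
  | insert i s hi ih =>
    intro v hv
    let e : VV := Pi.single (Sum.inl i) 1
    let e' : VV := Pi.single (Sum.inr i) 1
    have he : RatV F₀ e := ratV_single _ F₀.one_mem
    have he' : RatV F₀ e' := ratV_single _ F₀.one_mem
    have hee : sf e e' = -1 := by simp [e, e', CfsgLib.Geometry.sympForm_eq, Pi.single_apply]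
    let u : VV := v (Sum.inl i) • e + v (Sum.inr i) • e'
    by_cases hu : u = 0
    · refine ih v fun j hj => ?_
      rcases eq_or_ne j i with rfl | hji
      · have h1 := congrFun hu (Sum.inl j)
        have h2 := congrFun hu (Sum.inr j)
        simp [u, e, e'] at h1 h2
        simp [h1, h2, F₀.zero_mem]
      · exact hv j (by simp [hji, hj])
    let S : Submodule F (Fin m ⊕ Fin m → F) := Submodule.span F {e, e'}
    have hSmem : ∀ {w : VV}, w ∈ S ↔ ∃ x y : F, x • e + y • e' = w := fun {w} => Submodule.mem_span_pair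
    have hnd : Cfsg.Geo.IsNondegenerateOn sf S := by
      intro w hw hw0
      obtain ⟨x, y, rfl⟩ := hSmem.1 hw
      have hee' : sf e' e = 1 := by rw [sf_skew, hee, neg_neg]
      rcases eq_or_ne x 0 with rfl | hx
      · have hy : y ≠ 0 := fun h0 => hw0 (by simp [h0])
        exact ⟨⟨e, hSmem.2 ⟨1, 0, by simp⟩, by simp [sf_smul_right, hee, hy]⟩,
          ⟨e, hSmem.2 ⟨1, 0, by simp⟩, by simp [sf_smul_left, hee', hy]⟩⟩
      · exact ⟨⟨e', hSmem.2 ⟨0, 1, by simp⟩, by simp [sf_add_right, sf_smul_right, hee', sf_alt, hx]⟩,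
          ⟨e', hSmem.2 ⟨0, 1, by simp⟩, by simp [sf_add_left, sf_smul_left, hee, sf_alt, hx]⟩⟩
    have hfull : ∀ w ∈ S, SpFull H w := by
      intro w hw
      obtain ⟨x, y, rfl⟩ := hSmem.1 hw
      rcases eq_or_ne x 0 with rfl | hx
      · simpa using (long e' he').smul y
      · refine SpFull.move h.le (long e' he') ((long e he).smul x) ?_ y
        rw [sf_smul_left, hee]; simp [hx]
    let p : VV := v - u
    have hp : ∀ w ∈ S, sf p w = 0 := by
      intro w hw
      obtain ⟨x, y, rfl⟩ := hSmem.1 hw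
      have h1 : p (Sum.inl i) = 0 := by simp [p, u, e, e']
      have h2 : p (Sum.inr i) = 0 := by simp [p, u, e, e']
      rw [sf_add_right, sf_smul_right, sf_smul_right]
      simp [e, e', CfsgLib.Geometry.sympForm_eq, Pi.single_apply, h1, h2]
    have h1 : SpFull H (e + p) := by
      refine ih _ fun j hj => ?_
      rcases eq_or_ne j i with rfl | hji
      · simp [p, u, e, e', F₀.one_mem, F₀.zero_mem]
      · simpa [p, u, e, e', hji, hji.symm] using hv j (by simp [hji, hj])
    have h2 := SpFull.change h.le S hnd hfull (hSmem.2 ⟨1, 0, by simp⟩) (by simp [e]) (hSmem.2 ⟨_, _, rfl⟩) hu hp h1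
    rwa [show u + p = v by simp [p]] at h2

end big

section small

lemma mem_of_sq_mem_two [Finite F] (h2 : (2 : F) = 0) {μ : F} (hμ : μ * μ ∈ F₀) : μ ∈ F₀ := by
  haveI : CharP F 2 := CharTwo.of_one_ne_zero_of_two_eq_zero one_ne_zero h2
  haveI : CharP F₀ 2 := CharTwo.of_one_ne_zero_of_two_eq_zero one_ne_zero (Subtype.ext (by push_cast; exact h2))
  haveI := Fintype.ofFinite F₀
  obtain ⟨y, hy⟩ := FiniteField.isSquare_of_char_two ((ringChar.eq_iff).2 ‹CharP F₀ 2›) ⟨μ * μ, hμ⟩
  have hy' : μ * μ = (y : F) * y := congrArg Subtype.val hy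
  rw [(mul_self_eq_mul_self_iff.1 hy').elim id (fun e => e.trans (CharTwo.neg_eq _))]
  exact y.2

/-- A transvection along a rational isotropic line with irrational parameter is impossible. -/
lemma SpOver.pair_param [Finite F] (h : SpOver F₀ H) (hs : SpSmall F₀ H) {c b : VV} (hc : RatV F₀ c)
    (hb : RatV F₀ b) (hb0 : b ≠ 0) (hcb : sf c b = 0) (hind : ∀ t ∈ F₀, c ≠ t • b) {μ : F}
    (hmem : stv 1 (c + μ • b) ∈ H) : μ ∈ F₀ := by
  have hm := h.dim
  obtain ⟨d, hd, hbd, hcd⟩ := exists_rat_eval hc hb hb0 hind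
  obtain ⟨a, c'', ha, hc'', hca, hab, hac, had, hc''b, hc''c, hc''d⟩ := exists_rat_pair hm hb hc hd
    (Or.inr (Or.inr (Or.inr (Or.inr (by rw [hcd]; exact one_ne_zero)))))
  have hbc : sf b c = 0 := by rw [sf_skew, hcb, neg_zero]
  have hbc'' : sf b c'' = 0 := by rw [sf_skew, hc''b, neg_zero]
  have hba : sf b a = 0 := by rw [sf_skew, hab, neg_zero]
  have hcc'' : sf c c'' = 0 := by rw [sf_skew, hc''c, neg_zero]
  have hca' : sf c a = 0 := by rw [sf_skew, hac, neg_zero]
  have h1 := h.stv_map (h.sYel_mem F₀.one_mem hc'' hd) hmem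
  rw [sYel_mulVec _ hc''d] at h1
  simp only [sf_add_left, sf_smul_left, hcc'', hcd, hbc'', hbd, mul_zero, add_zero, zero_smul, one_smul,
    zero_add] at h1
  rw [add_right_comm, stv_add_orth _ (show sf (c + c'') (μ • b) = 0 by
    rw [sf_smul_right, sf_add_left, hcb, hc''b, add_zero, mul_zero]), stv_scale,
    sYel_smul_right _ _ (by rw [sf_add_left, hcb, hc''b, add_zero]), one_mul,
    sYel_add_left _ hcb hc''b hcc'', mul_assoc] at h1
  rw [stv_add_orth _ (show sf c (μ • b) = 0 by rw [sf_smul_right, hcb, mul_zero]), stv_scale,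
    sYel_smul_right _ _ hcb, one_mul, mul_assoc] at hmem
  have hTY := (mul_mem_cancel_left (h.stv_mem F₀.one_mem hc)).1 hmem
  have h2 := (mul_mem_cancel_left (h.stv_mem F₀.one_mem (hc.add' hc''))).1 h1
  rw [← mul_assoc] at h2
  have hY'' := (mul_mem_cancel_left hTY).1 h2
  have h3 := h.sYel_map (h.sYel_mem F₀.one_mem hc ha) hY''
  rw [sYel_mulVec _ hca', sYel_mulVec _ hca'] at h3
  simp only [hc''c, hca, hbc, hba, add_zero, zero_smul, one_smul, zero_add, smul_zero] at h3
  rw [sYel_add_left _ hc''b hcb hc''c] at h3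
  have hYc := (mul_mem_cancel_left hY'').1 h3
  have hT := (mul_mem_cancel_right hYc).1 hTY
  have hsq : μ * μ ∈ F₀ := hs b _ hb hb0 hT
  by_cases h2' : (2 : F) = 0
  · exact mem_of_sq_mem_two h2' hsq
  · have h4 := h.sYel_map hY'' (h.sYel_mem F₀.one_mem hb ha)
    rw [sYel_mulVec _ hc''b, sYel_mulVec _ hc''b] at h4
    have hac'' : sf a c'' = -1 := by rw [sf_skew, hca]
    simp only [hbc'', sf_alt, hab, hac'', zero_smul, add_zero, zero_add, smul_zero, smul_smul] at h4
    have e : sYel (1 : F) b (a + (μ * -1) • b) = sYel 1 b a * stv (2 * (μ * -1)) b := by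
      refine Units.ext (CfsgLib.Geometry.matrix_eq_of_mulVec fun z => ?_)
      simp only [Units.val_mul, ← Matrix.mulVec_mulVec, stv_mulVec, sYel_mulVec _ hba,
        sYel_mulVec _ (show sf b (a + (μ * -1) • b) = 0 by rw [sf_add_right, sf_smul_right, hba, sf_alt]; simp),
        sf_add_left, sf_add_right, sf_smul_left, sf_smul_right, sf_alt, hba, hab]
      module
    rw [e] at h4
    have h5 := hs b _ hb hb0 ((mul_mem_cancel_left (h.sYel_mem F₀.one_mem hb ha)).1 h4)
    have h6 := F₀.mul_mem (F₀.inv_mem (natCast_mem F₀ 2)) h5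
    rw [Nat.cast_ofNat, ← mul_assoc, inv_mul_cancel₀ h2', one_mul] at h6
    simpa using F₀.neg_mem h6

/-- A transvection centre orthogonal to a rational vector lies on a rational line. -/
lemma SpOver.dep [Finite F] (h : SpOver F₀ H) (hs : SpSmall F₀ H) {v b : VV} {k : F} (hk : k ≠ 0)
    (hv : stv k v ∈ H) (hb : RatV F₀ b) (hb0 : b ≠ 0) (hvb : sf v b = 0) : RatLine F₀ v := by
  classical
  have hm := h.dim
  have key : ∀ {b : VV}, RatV F₀ b → b ≠ 0 → sf v b = 0 → ∀ {x y : VV}, RatV F₀ x → RatV F₀ y →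
      sf x b = 0 → sf y b = 0 → k * sf v x * sf y v ∈ F₀ := by
    intro b hb hb0 hvb x y hx hy hxb hyb
    by_cases hind : ∀ t ∈ F₀, y ≠ t • b
    · have hbx : sf b x = 0 := by rw [sf_skew, hxb, neg_zero]
      have hvb' : sf b v = 0 := by rw [sf_skew, hvb, neg_zero]
      have h1 := h.stv_map (h.sYel_mem F₀.one_mem hb hx) hv
      rw [sYel_mulVec _ hbx, hvb, zero_smul, zero_add, one_smul] at h1
      have h2 := h.stv_map (mul_mem h1 (inv_mem hv)) (h.stv_mem F₀.one_mem hy)
      have e : ((stv k (v + sf v x • b) * (stv k v)⁻¹ : Matrix.GeneralLinearGroup (Fin m ⊕ Fin m) F) :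
          Matrix _ _ F) *ᵥ y = y + (k * sf v x * sf y v) • b := by
        simp only [stv_inv, Units.val_mul, ← Matrix.mulVec_mulVec, stv_mulVec, sf_add_left, sf_add_right,
          sf_smul_left, sf_smul_right, sf_alt, hyb, hvb, mul_zero, add_zero, smul_add]
        module
      rw [e] at h2
      exact h.pair_param hs hy hb hb0 hyb hind h2
    · push Not at hind
      obtain ⟨t, -, rfl⟩ := hind
      rw [sf_smul_left, show sf b v = 0 by rw [sf_skew, hvb, neg_zero], mul_zero, mul_zero]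
      exact F₀.zero_mem
  by_cases hc0 : ∃ c : VV, RatV F₀ c ∧ sf c b = 0 ∧ sf v c ≠ 0
  swap
  · push Not at hc0
    obtain ⟨d, hd, hbd⟩ := exists_rat_one hb hb0
    rcases eq_or_ne v 0 with rfl | hv0
    · exact ⟨1, one_ne_zero, fun i => by simp [F₀.zero_mem]⟩
    have e : v = sf v d • b := by
      refine sub_eq_zero.1 (dot_ext (φ := v - sf v d • b) (ψ := 0) fun x => ?_)
      rw [zero_dotProduct, ← sf_sfDual]
      rw [sf_skew]
      have hz : ∀ i, sf (v - sf v d • b) (Pi.single i 1) = 0 := fun i => by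
        have hx : RatV F₀ (Pi.single i 1 : VV) := ratV_single i F₀.one_mem
        have := hc0 _ (hx.sub (hd.smul (rat_sf hb hx)))
          (by rw [sf_skew, sf_sub_right, sf_smul_right, hbd, mul_one, sub_self, neg_zero])
        rw [sf_sub_right, sf_smul_right] at this
        rw [sub_eq_add_neg, ← neg_smul, sf_add_left, sf_smul_left]
        linear_combination this
      have hall : ∀ w : VV, sf (v - sf v d • b) w = 0 := fun w => by
        have hL : ∀ w, sf (v - sf v d • b) w =
            CfsgLib.Geometry.sympBilin m F (v - sf v d • b) w := fun w => rfl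
        rw [hL, pi_eq_sum_univ' w, map_sum]
        refine Finset.sum_eq_zero fun i _ => ?_
        rw [map_smul, CfsgLib.Geometry.sympBilin_apply, hz, smul_zero]
      have hzero : v - sf v d • b = 0 :=
        (CfsgLib.Geometry.sympBilin_nondegenerate m F).1 _ hall
      rw [hzero]
      simp [sfDual, CfsgLib.Geometry.sympForm_eq]
    have hne : sf v d ≠ 0 := fun h0 => hv0 (by rw [e, h0, zero_smul])
    refine ⟨(sf v d)⁻¹, inv_ne_zero hne, ?_⟩
    rw [show (sf v d)⁻¹ • v = b from (congrArg (fun w => (sf v d)⁻¹ • w) e).trans (inv_smul_smul₀ hne b)]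
    exact hb
  obtain ⟨c₀, hc₀, hc₀b, hρ⟩ := hc0
  set ρ := sf v c₀ with hρdef
  have hkρ : k * ρ * ρ ∈ F₀ := by
    have := key hb hb0 hvb hc₀ hc₀ hc₀b hc₀b
    rw [sf_skew c₀, mul_neg, ← hρdef] at this
    simpa using F₀.neg_mem this
  have hkρ0 : k * ρ * ρ ≠ 0 := mul_ne_zero (mul_ne_zero hk hρ) hρ
  set v' := ρ⁻¹ • v with hv'
  have hv'c₀ : sf v' c₀ = 1 := by rw [hv', sf_smul_left, ← hρdef, inv_mul_cancel₀ hρ]
  have ratio : ∀ {x : VV}, RatV F₀ x → sf x b = 0 → sf v' x ∈ F₀ := by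
    intro x hx hxb
    have h1 := key hb hb0 hvb hx hc₀ hxb hc₀b
    rw [sf_skew c₀, mul_neg, ← hρdef] at h1
    have h2 := F₀.mul_mem (F₀.inv_mem hkρ) (F₀.neg_mem h1)
    rw [hv', sf_smul_left]
    convert h2 using 1
    field_simp
  obtain ⟨d, hd, hbd⟩ := exists_rat_one hb hb0
  set τ := sf v' d with hτ
  set w := v' - τ • b with hw
  have hwv : ∀ x, sf w x = sf v' x - τ * sf b x := fun x => by
    rw [hw, sub_eq_add_neg (G := VV) v' (τ • b), ← neg_smul τ b, sf_add_left]
    rw [sf_smul_left (-τ) b x]; ring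
  have hwd : sf w d = 0 := by rw [hwv, hbd, mul_one, hτ, sub_self]
  have hwr : RatV F₀ w := ratV_of_sf fun x hx => by
    have e : sf w x = sf v' (x - sf b x • d) := by
      rw [sf_sub_right, sf_smul_right, hwv, hτ]; ring
    rw [e]
    exact ratio (hx.sub (hd.smul (rat_sf hb hx)))
      (by rw [sf_skew, sf_sub_right, sf_smul_right, hbd, mul_one, sub_self, neg_zero])
  obtain ⟨a, c, ha, hc, hca, hab, haw, had, hcb, hcw, -⟩ := exists_rat_pair hm hb hwr hd
    (Or.inr (Or.inr (Or.inr (Or.inl (by rw [hbd]; exact one_ne_zero)))))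
  have hac : sf a c = -1 := by rw [sf_skew, hca]
  have ha0 : a ≠ 0 := fun h0 => by rw [h0, sf_zero_right] at hca; exact zero_ne_one hca
  have hva : sf v a = 0 := by
    have h1 : sf v' a = 0 := by
      have := hwv a
      rw [sf_skew w a, haw, sf_skew b a, hab] at this
      simpa using this.symm
    rw [hv', sf_smul_left] at h1
    exact (mul_eq_zero.1 h1).resolve_left (inv_ne_zero hρ)
  set y := c₀ + sf a c₀ • c with hy
  have hyr : RatV F₀ y := hc₀.add' (hc.smul (rat_sf ha hc₀))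
  have hya : sf y a = 0 := by
    rw [hy, sf_add_left, sf_smul_left, hca, mul_one, sf_skew c₀ a]; simp
  have hvy : sf v' y = 1 := by
    rw [hy, sf_add_right, sf_smul_right, hv'c₀]
    have h1 : sf v' c = 0 := by
      have := hwv c
      rw [sf_skew w c, hcw, sf_skew b c, hcb] at this
      simpa using this.symm
    rw [h1, mul_zero, add_zero]
  have hda : sf d a = 0 := by rw [sf_skew, had, neg_zero]
  have h1 := key ha ha0 hva hd hyr hda hya
  have e : k * sf v d * sf y v = -(k * ρ * ρ * τ) := by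
    have ev : ∀ x, sf v x = ρ * sf v' x := fun x => by rw [hv', sf_smul_left, ← mul_assoc, mul_inv_cancel₀ hρ, one_mul]
    rw [sf_skew y v, ev y, ev d, hvy, hτ]; ring
  rw [e] at h1
  have hτF : τ ∈ F₀ := by
    have h2 := F₀.mul_mem (F₀.inv_mem hkρ) (F₀.neg_mem h1)
    rwa [neg_neg, ← mul_assoc, inv_mul_cancel₀ hkρ0, one_mul] at h2
  refine ⟨ρ⁻¹, inv_ne_zero hρ, ?_⟩
  rw [← hv', show v' = w + τ • b by rw [hw, sub_add_cancel]]
  exact hwr.add' (hb.smul hτF)

/-- One rational line is enough. -/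
lemma SpOver.rigid [Finite F] (h : SpOver F₀ H) (hs : SpSmall F₀ H)
    {g : Matrix.GeneralLinearGroup (Fin m ⊕ Fin m) F} (hg : g ∈ H) {e : VV} (he : RatV F₀ e) (he0 : e ≠ 0)
    (hline : RatLine F₀ (Units.val g *ᵥ e)) : RatUpToScalar F₀ g := by
  classical
  have hm := h.dim
  have hiso : ∀ x y, sf (Units.val g *ᵥ x) (Units.val g *ᵥ y) = sf x y := (mem_spGL_iff g).1 (h.le hg)
  have hg0 : ∀ {x : VV}, x ≠ 0 → Units.val g *ᵥ x ≠ 0 := fun {x} hx h0 =>
    hx (mulVec_inj g (show Units.val g *ᵥ x = Units.val g *ᵥ 0 by rw [Matrix.mulVec_zero]; exact h0))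
  have prop : ∀ {e a : VV}, RatV F₀ e → e ≠ 0 → RatV F₀ a → sf a e = 0 →
      RatLine F₀ (Units.val g *ᵥ e) → RatLine F₀ (Units.val g *ᵥ a) := by
    intro e a he he0 ha hae ⟨c, hc, hce⟩
    refine h.dep hs one_ne_zero (h.stv_map hg (h.stv_mem F₀.one_mem ha)) hce (smul_ne_zero hc (hg0 he0)) ?_
    rw [sf_smul_right, hiso, hae, mul_zero]
  have all : ∀ a : VV, RatV F₀ a → RatLine F₀ (Units.val g *ᵥ a) := by
    intro a ha
    obtain ⟨e2, c, he2, hc, hce, h2a, h2e, -, -, -, -⟩ := exists_rat_pair hm ha he he (Or.inr (Or.inl rfl))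
    have he20 : e2 ≠ 0 := fun h0 => by rw [h0, sf_zero_right] at hce; exact zero_ne_one hce
    exact prop he2 he20 ha (by rw [sf_skew, h2a, neg_zero]) (prop he he0 he2 h2e hline)
  choose C hC hCr using all
  have pairing : ∀ {a z : VV} (ha : RatV F₀ a) (hz : RatV F₀ z), sf a z ≠ 0 → C a ha * C z hz ∈ F₀ := by
    intro a z ha hz hne
    have h1 := rat_sf (hCr a ha) (hCr z hz)
    rw [sf_smul_left, sf_smul_right, hiso] at h1
    have h2 := F₀.mul_mem h1 (F₀.inv_mem (rat_sf ha hz))
    convert h2 using 1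
    field_simp
  have hi₀ : ∃ i₀ : Fin m ⊕ Fin m, True := ⟨Sum.inl ⟨0, by omega⟩, trivial⟩
  obtain ⟨i₀, -⟩ := hi₀
  have hsgl : ∀ i : Fin m ⊕ Fin m, RatV F₀ (Pi.single i 1 : VV) := fun i => ratV_single i F₀.one_mem
  refine ⟨C _ (hsgl i₀), hC _ _, fun l i => ?_⟩
  obtain ⟨z, hz, h1, h2⟩ := exists_rat_both (hsgl i₀) (by simp) (hsgl i) (by simp)
  have hr : C _ (hsgl i₀) * (C _ (hsgl i))⁻¹ ∈ F₀ := by
    have h3 := F₀.mul_mem (pairing (hsgl i₀) hz h1) (F₀.inv_mem (pairing (hsgl i) hz h2))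
    convert h3 using 1
    have := hC _ hz
    field_simp
  have h4 := F₀.mul_mem hr (hCr _ (hsgl i) l)
  rw [Matrix.smul_apply, smul_eq_mul]
  convert h4 using 1
  rw [Matrix.mulVec_single_one, Pi.smul_apply, smul_eq_mul, ← mul_assoc, mul_assoc (C _ (hsgl i₀)),
    inv_mul_cancel₀ (hC _ (hsgl i)), mul_one]
  rfl

end small

end CfsgLib.Maximal
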