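import Mathlib
import Cfsg.Agent.Lib.Maximal.SpSubCore
import Cfsg.Agent.Lib.Maximal.SubfieldMain
import Cfsg.Agent.Lib.PSL2.DicksonGen

/-!
In odd characteristic a transvection of an overgroup of the rational symplectic group has a rational centre.
-/

set_option autoImplicit false
set_option linter.unusedSectionVars false
set_option linter.unusedSimpArgs false
set_option linter.style.haveILetI false

namespace CfsgLib.Maximal

open scoped Matrix

variable {m : ℕ} {F : Type*} [Field F]

local notation "sf" => Cfsg.sympForm m F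
local notation "VV" => (Fin m ⊕ Fin m → F)

/-- The action of a two by two matrix on a hyperbolic plane. -/
def planeLin (b b' : VV) (s : Matrix (Fin 2) (Fin 2) F) : VV →ₗ[F] VV :=
  LinearMap.id +
    ((s 0 0 - 1) • (CfsgLib.Geometry.sympBilin m F).flip b' + s 0 1 • CfsgLib.Geometry.sympBilin m F b).smulRight b +
    (s 1 0 • (CfsgLib.Geometry.sympBilin m F).flip b' + (s 1 1 - 1) • CfsgLib.Geometry.sympBilin m F b).smulRight b'

lemma planeLin_apply (b b' : VV) (s : Matrix (Fin 2) (Fin 2) F) (x : VV) : planeLin b b' s x =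
    x + ((s 0 0 - 1) * sf x b' + s 0 1 * sf b x) • b + (s 1 0 * sf x b' + (s 1 1 - 1) * sf b x) • b' := by
  simp [planeLin]

lemma planeLin_mul {b b' : VV} (hb : sf b b' = 1) (s t : Matrix (Fin 2) (Fin 2) F) (x : VV) :
    planeLin b b' (s * t) x = planeLin b b' s (planeLin b b' t x) := by
  simp only [planeLin_apply, sf_add_left, sf_add_right, sf_smul_left, sf_smul_right, sf_alt, hb, sf_skew b' b,
    Matrix.mul_apply, Fin.sum_univ_two]
  module

/-- The hyperbolic plane copy of the special linear group. -/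
def planeHom {b b' : VV} (hb : sf b b' = 1) :
    Matrix.SpecialLinearGroup (Fin 2) F →* Matrix.GeneralLinearGroup (Fin m ⊕ Fin m) F :=
  MonoidHom.toHomUnits
    { toFun := fun s => LinearMap.toMatrix' (planeLin b b' s.1)
      map_one' := by
        rw [← LinearMap.toMatrix'_id]
        congr 1
        exact LinearMap.ext fun x => by simp [planeLin_apply]
      map_mul' := fun s t => by
        rw [← LinearMap.toMatrix'_comp]
        congr 1
        exact LinearMap.ext fun x => by
          rw [Matrix.SpecialLinearGroup.coe_mul, LinearMap.comp_apply, planeLin_mul hb] }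

lemma planeHom_mulVec {b b' : VV} (hb : sf b b' = 1) (s : Matrix.SpecialLinearGroup (Fin 2) F) (x : VV) :
    (planeHom hb s : Matrix _ _ F) *ᵥ x = planeLin b b' s.1 x := by
  simp [planeHom, LinearMap.toMatrix'_mulVec]

variable [Fintype F] {F₀ : Subfield F} {H : Subgroup (Matrix.GeneralLinearGroup (Fin m ⊕ Fin m) F)} {r : ℕ}

/-- The product of a parameter and the square of a rational pairing is rational. -/
lemma SpOver.param_mem (h : SpOver F₀ H) (hs : SpSmall F₀ H) (hr : r.Prime) (hr2 : r ≠ 2)
    (hcard : Fintype.card F = Nat.card F₀ ^ r) (h2 : (2 : F) ≠ 0) {k : F} {v b : VV} (hv : stv k v ∈ H)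
    (hb : RatV F₀ b) : k * (sf v b * sf v b) ∈ F₀ := by
  classical
  rcases eq_or_ne (k * (sf v b * sf v b)) 0 with h0 | h0
  · rw [h0]; exact F₀.zero_mem
  have hc : sf v b ≠ 0 := fun e => h0 (by rw [e]; ring)
  set c := sf v b with hcdef
  set a := c⁻¹ • v
  have hab : sf a b = 1 := by rw [sf_smul_left, inv_mul_cancel₀ hc]
  obtain ⟨lam, hlam⟩ : ∃ l, l = -(k * (c * c)) := ⟨_, rfl⟩
  suffices hl : lam ∈ F₀ by simpa [hlam] using F₀.neg_mem hl
  set K := Subfield.closure ({lam} : Set F) with hK
  let lam' : K := ⟨lam, Subfield.subset_closure rfl⟩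
  have hgen : Subfield.closure ({lam'} : Set K) = ⊤ := by
    refine eq_top_iff.2 fun x _ => ?_
    have h1 : (x : F) ∈ (Subfield.closure ({lam'} : Set K)).map K.subtype := by
      rw [RingHom.map_field_closure, Set.image_singleton]
      exact x.2
    obtain ⟨y, hy, hxy⟩ := Subfield.mem_map.1 h1
    rwa [← show y = x from Subtype.ext hxy]
  obtain ⟨p, hp⟩ := CharP.exists K
  haveI : Fact p.Prime := ⟨CharP.char_is_prime K p⟩
  have h2K : (2 : K) ≠ 0 := fun e => h2 (by
    have h' := congrArg K.subtype e
    rwa [map_ofNat, map_zero] at h')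
  have hlam0 : lam' ≠ 0 := fun e => h0 (by
    have : lam = 0 := congrArg Subtype.val e
    simpa [hlam] using this)
  haveI := Fintype.ofFinite K
  rcases CfsgLib.PSL2.Gen.main p h2K lam' hlam0 hgen with htop | ⟨-, h9⟩
  swap
  · refine mem_of_mul_self_mem hr hr2 hcard ?_
    have h9' : lam ^ 2 = -1 := by simpa [lam'] using congrArg Subtype.val h9
    rw [← sq, h9']
    exact F₀.neg_mem F₀.one_mem
  set φ := (planeHom hab).comp (Matrix.SpecialLinearGroup.map K.subtype) with hφ
  have hval : ∀ (g : Matrix.SpecialLinearGroup (Fin 2) K) (i j : Fin 2),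
      (Matrix.SpecialLinearGroup.map K.subtype g).1 i j = ((g.1 i j : K) : F) := fun _ _ _ => rfl
  have hle : Subgroup.closure (CfsgLib.PSL2.Gen.gens lam') ≤ H.comap φ := by
    rw [Subgroup.closure_le]
    rintro g (hg | hg)
    · have e : φ g = stv 1 b := Units.ext (CfsgLib.Geometry.matrix_eq_of_mulVec fun x => by
        rw [hφ, MonoidHom.comp_apply, planeHom_mulVec, planeLin_apply, stv_mulVec]
        simp only [hval, hg]
        simp)
      show φ g ∈ H
      rw [e]; exact h.stv_mem F₀.one_mem hb
    · have e : φ g = stv k v := Units.ext (CfsgLib.Geometry.matrix_eq_of_mulVec fun x => by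
        rw [hφ, MonoidHom.comp_apply, planeHom_mulVec, planeLin_apply, stv_mulVec]
        simp only [hval, hg]
        simp [lam', hlam, a, sf_smul_left, sf_skew v x, smul_smul]
        congr 1
        field_simp)
      show φ g ∈ H
      rw [e]; exact hv
  let g : Matrix.SpecialLinearGroup (Fin 2) K := ⟨!![1, 0; lam', 1], by simp [Matrix.det_fin_two]⟩
  have hg : φ g ∈ H := hle (htop ▸ Subgroup.mem_top g)
  have e : φ g = stv lam b := Units.ext (CfsgLib.Geometry.matrix_eq_of_mulVec fun x => by
    rw [hφ, MonoidHom.comp_apply, planeHom_mulVec, planeLin_apply, stv_mulVec]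
    simp only [hval]
    simp [g, lam'])
  rw [e] at hg
  exact hs b lam hb (fun e => hc (by rw [hcdef, e, sf_zero_right])) hg

/-- In odd characteristic and odd degree every transvection centre lies on a rational line. -/
lemma SpOver.line_of_odd (h : SpOver F₀ H) (hs : SpSmall F₀ H) (hr : r.Prime) (hr2 : r ≠ 2)
    (hcard : Fintype.card F = Nat.card F₀ ^ r) (h2 : (2 : F) ≠ 0) {k : F} {v : VV} (hk : k ≠ 0)
    (hv : stv k v ∈ H) : RatLine F₀ v := by
  rcases eq_or_ne v 0 with rfl | hv0
  · exact ⟨1, one_ne_zero, fun i => by simp [F₀.zero_mem]⟩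
  obtain ⟨b₀, hb₀, hc⟩ : ∃ b, RatV F₀ b ∧ sf v b ≠ 0 := by
    by_contra hcon
    push Not at hcon
    exact hv0 (funext fun i => by
      have := hcon (sfDual (Pi.single i 1)) (ratV_sfDual (ratV_single i F₀.one_mem))
      rwa [sf_sfDual, single_dotProduct, one_mul] at this)
  refine ⟨(sf v b₀)⁻¹, inv_ne_zero hc, ratV_of_sf fun x hx => mem_of_mul_self_mem hr hr2 hcard ?_⟩
  have h1 := h.param_mem hs hr hr2 hcard h2 hv hx
  have h3 := F₀.mul_mem h1 (F₀.inv_mem (h.param_mem hs hr hr2 hcard h2 hv hb₀))
  rw [sf_smul_left]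
  convert h3 using 1
  field_simp

end CfsgLib.Maximal
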