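import Mathlib
import Cfsg.Agent.Lib.Maximal.SpSubPair
import Cfsg.Agent.Lib.Maximal.SubfieldMain
import Cfsg.Agent.Lib.Maximal.SubfieldFinal
import Cfsg.Agent.Lib.Geometry.SymplecticBasis

/-!
Subfield subgroups are maximal in the symplectic group.
-/

set_option autoImplicit false
set_option linter.unusedSectionVars false
set_option linter.unusedSimpArgs false
set_option linter.style.haveILetI false

namespace CfsgLib.Maximal

open scoped Matrix

variable {m : ℕ} {F : Type*} [Field F] {F₀ : Subfield F}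

local notation "sf" => Cfsg.sympForm m F
local notation "VV" => (Fin m ⊕ Fin m → F)

/-- A permutation acting in the same way on both halves of a symplectic basis. -/
def spPerm (σ : Equiv.Perm (Fin m)) : Equiv.Perm (Fin m ⊕ Fin m) := Equiv.sumCongr σ σ

lemma monoGL_spPerm_mem (σ : Equiv.Perm (Fin m)) :
    monoGL (spPerm σ) (fun _ => (1 : Fˣ)) ∈ Cfsg.spGL m F := by
  rw [mem_spGL_iff]
  intro u v
  rw [CfsgLib.Geometry.sympForm_eq, CfsgLib.Geometry.sympForm_eq]
  refine Fintype.sum_equiv σ.symm _ _ fun i => ?_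
  simp [monoGL_val, monoMat_mulVec', spPerm]

lemma spPerm_mul (σ τ : Equiv.Perm (Fin m)) : spPerm σ * spPerm τ = spPerm (σ * τ) :=
  Equiv.ext fun x => by rcases x with x | x <;> simp [spPerm]

lemma spPerm_swap (a b : Fin m) : spPerm (Equiv.swap a b) =
    Equiv.swap (Sum.inl a) (Sum.inl b) * Equiv.swap (Sum.inr a) (Sum.inr b) :=
  Equiv.ext fun x => by
    rcases x with x | x <;> simp [spPerm, Equiv.swap_apply_def] <;> split_ifs <;> simp_all

variable [Fintype F] {H : Subgroup (Matrix.GeneralLinearGroup (Fin m ⊕ Fin m) F)}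

lemma SpOver.transvection_line (h : SpOver F₀ H) (hs : SpSmall F₀ H) {r : ℕ} (hr : r.Prime)
    (hcard : Fintype.card F = Nat.card F₀ ^ r) {k : F} {v : VV} (hk : k ≠ 0) (hX : stv k v ∈ H) :
    RatLine F₀ v := by
  classical
  have hm := h.dim
  have ofψ : ∀ {ψ : VV}, RatV F₀ ψ → ψ ≠ 0 → ψ ⬝ᵥ v = 0 → RatLine F₀ v := fun {ψ} hψ hψ0 hψv =>
    h.dep hs hk hX (ratV_sfDual hψ) (sfDual_ne_zero hψ0) (by rw [sf_sfDual, hψv])
  by_cases hrn : r < Fintype.card (Fin m ⊕ Fin m)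
  · obtain ⟨ψ, hψ, hψ0, hψv⟩ := exists_rat_dot_eq_zero F₀ hcard hrn v
    exact ofψ hψ hψ0 hψv
  have hcardι : Fintype.card (Fin m ⊕ Fin m) = m + m := by simp
  have hr2 : r ≠ 2 := by omega
  by_cases htwo : (2 : F) = 0
  swap
  · exact h.line_of_odd hs hr hr2 hcard htwo hk hX
  haveI : CharP F 2 := CharTwo.of_one_ne_zero_of_two_eq_zero one_ne_zero htwo
  have hneg1 : (-1 : F) = 1 := by linear_combination -htwo
  obtain ⟨e⟩ : Nonempty (Fin 3 ↪ Fin m) := Function.Embedding.nonempty_of_card_le (by simpa using hm)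
  have ne : ∀ {i j : Fin 3}, i ≠ j → e i ≠ e j := fun h => e.injective.ne h
  set sj : Equiv.Perm (Fin m) := Equiv.swap (e 0) (e 1) with hsj
  have sj_apply : ∀ i : Fin 3, sj (e i) = e (Equiv.swap 0 1 i) :=
    fun i => by simp only [hsj, Function.Embedding.swap_apply]
  have sj_sq : sj * sj = 1 := Equiv.swap_mul_self _ _
  set J : Matrix.GeneralLinearGroup (Fin m ⊕ Fin m) F := monoGL (spPerm sj) (fun _ => 1) with hJ
  set b : VV := Pi.single (Sum.inl (e 2)) 1 with hb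
  have hbrat : RatV F₀ b := ratV_single _ F₀.one_mem
  set T : Matrix.GeneralLinearGroup (Fin m ⊕ Fin m) F := stv 1 b with hT
  have hmem : ∀ σ : Equiv.Perm (Fin m), monoGL (spPerm σ) (fun _ => (1 : Fˣ)) ∈ H := fun σ =>
    h.mem _ (monoGL_spPerm_mem σ) ⟨1, one_ne_zero, by
      rw [one_smul, monoGL_val]; exact ratM_monoMat _ fun _ => F₀.one_mem⟩
  have hTH : T ∈ H := h.stv_mem F₀.one_mem hbrat
  have hone : spPerm (1 : Equiv.Perm (Fin m)) = 1 := Equiv.ext fun x => by rcases x with x | x <;> simp [spPerm]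
  have hJJ : J * J = 1 := by
    rw [hJ, monoGL_mul, spPerm_mul, sj_sq, hone]
    exact Units.ext (by rw [monoGL_val, Units.val_one, ← monoMat_one]; congr 1; funext; simp)
  have hTT : T * T = 1 := by
    have h1 : (stv 1 b)⁻¹ = stv (-1) b := stv_inv 1 b
    rw [hneg1] at h1
    exact inv_eq_iff_mul_eq_one.1 h1
  have rkT : (Units.val T - 1).rank ≤ 1 := by
    have e1 : Units.val T - 1 = Matrix.vecMulVec ((1 : F) • b) (fvec sf b) := by
      simp [hT, stv, tv_val]
    rw [e1]; exact Matrix.rank_vecMulVec_le _ _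
  have rkJ : 2 ≤ (Units.val J - 1).rank := by
    by_contra hle
    have h2 : ((Units.val J - 1).submatrix ![Sum.inl (e 0), Sum.inr (e 0)] ![Sum.inl (e 1), Sum.inr (e 1)]) = 1 := by
      refine Matrix.ext fun i l => ?_
      simp only [Matrix.submatrix_apply, Matrix.sub_apply, hJ, monoGL_val, monoMat, Units.val_one, Matrix.one_apply]
      fin_cases i <;> fin_cases l <;> simp (decide := true) [spPerm, sj_apply, e.injective.eq_iff]
    have h3 := Matrix.rank_submatrix_le (Units.val J - 1) ![Sum.inl (e 0), Sum.inr (e 0)] ![Sum.inl (e 1), Sum.inr (e 1)]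
    rw [h2, Matrix.rank_one, Fintype.card_fin] at h3
    omega
  have centr : ∀ {σ : Equiv.Perm (Fin m)} {u : Matrix.GeneralLinearGroup (Fin m ⊕ Fin m) F} {i p : Fin m},
      σ p = p → σ i ≠ i → u ∈ H → u * monoGL (spPerm σ) (fun _ => 1) = monoGL (spPerm σ) (fun _ => 1) * u →
      RatUpToScalar F₀ u := by
    intro σ u i p hp hi hu hc
    set P : Matrix (Fin m ⊕ Fin m) (Fin m ⊕ Fin m) F := monoMat (spPerm σ) (fun _ => 1) with hP
    set ep : VV := Pi.single (Sum.inl p) 1 with hep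
    have hper : RatV F₀ ep := ratV_single _ F₀.one_mem
    have hPep : P *ᵥ ep = ep := funext fun l => by
      rw [hP, monoMat_mulVec', one_mul, hep]
      have hiff : (spPerm σ).symm l = Sum.inl p ↔ l = Sum.inl p := by
        rw [Equiv.symm_apply_eq]; simp [spPerm, hp]
      simp [Pi.single_apply, hiff]
    have hPu : P * Units.val u = Units.val u * P := by
      have := congrArg Units.val hc
      simp only [Units.val_mul, monoGL_val, Units.val_one] at this
      exact this.symm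
    have hfix : P *ᵥ (Units.val u *ᵥ ep) = Units.val u *ᵥ ep := by
      rw [Matrix.mulVec_mulVec, hPu, ← Matrix.mulVec_mulVec, hPep]
    refine h.rigid hs hu hper (by simp [hep]) (h.dep hs one_ne_zero (h.stv_map hu (h.stv_mem F₀.one_mem hper))
      (ratV_sfDual (ψ := (P - 1) (Sum.inl i)) fun x => (RatM.sub (ratM_monoMat _ fun _ => F₀.one_mem) ratM_one) _ x)
      (sfDual_ne_zero fun h0 => ?_) ?_)
    · have h1 := congrFun h0 (Sum.inl i)
      simp [hP, monoMat, Matrix.one_apply, spPerm, Ne.symm hi] at h1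
    · rw [sf_sfDual]
      show ((P - 1) *ᵥ (Units.val u *ᵥ ep)) (Sum.inl i) = 0
      rw [Matrix.sub_mulVec, hfix, Matrix.one_mulVec, sub_self, Pi.zero_apply]
  set X := stv k v with hXdef
  set x := X * J * X⁻¹ with hx
  have hxx : x * x = 1 := by rw [hx, conj_mul, hJJ, mul_one, mul_inv_cancel]
  have rank_conj : ∀ (w : Matrix.GeneralLinearGroup (Fin m ⊕ Fin m) F) (A : Matrix (Fin m ⊕ Fin m) (Fin m ⊕ Fin m) F),
      (Units.val w * A * Units.val w⁻¹).rank = A.rank := fun w A => by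
    rw [Matrix.rank_mul_eq_left_of_isUnit_det _ _ ((Matrix.isUnit_iff_isUnit_det _).1 ⟨w⁻¹, rfl⟩),
      Matrix.rank_mul_eq_right_of_isUnit_det _ _ ((Matrix.isUnit_iff_isUnit_det _).1 ⟨w, rfl⟩)]
  have hxrk : ∀ w : Matrix.GeneralLinearGroup (Fin m ⊕ Fin m) F, Units.val (w * x * w⁻¹) - 1 =
      Units.val (w * X) * (Units.val J - 1) * Units.val (w * X)⁻¹ := by
    intro w
    rw [mul_sub, sub_mul, mul_one, ← Units.val_mul, ← Units.val_mul, ← Units.val_mul, mul_inv_cancel,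
      Units.val_one, hx]
    congr 2
    group
  rcases exists_central_or_conj hxx hTT with ⟨w, hw⟩ | ⟨z, w, n, hz2, hz1, hxz, htz, hwdef, hzw, -⟩
  · have h3 := hxrk w
    rw [congrArg Units.val hw] at h3
    have h4 := congrArg Matrix.rank h3
    rw [rank_conj] at h4
    omega
  have hzneg : ¬ Units.val z = -1 := fun h0 => hz1 (Units.ext (by
    rw [h0, Units.val_one]
    refine Matrix.ext fun i j => ?_
    rw [Matrix.neg_apply]
    linear_combination -((1 : Matrix (Fin m ⊕ Fin m) (Fin m ⊕ Fin m) F) i j) * htwo))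
  have hzH : z ∈ H := by
    rw [hzw, hwdef]
    exact pow_mem (mul_mem (mul_mem (mul_mem hX (hmem sj)) (inv_mem hX)) hTH) n
  set z' := X⁻¹ * z * X with hz'
  have hz'J : z' * J = J * z' := by
    calc z' * J = X⁻¹ * (z * x) * X := by rw [hz', hx]; group
      _ = X⁻¹ * (x * z) * X := by rw [hxz]
      _ = J * z' := by rw [hz', hx]; group
  have hb0 : b ≠ 0 := by simp [hb]
  have ratz : RatUpToScalar F₀ z := by
    have h1 : stv 1 (Units.val z *ᵥ b) = stv 1 b := by
      rw [← stv_conj (h.le hzH), ← hT, mul_inv_eq_iff_eq_mul]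
      exact htz.symm
    have hb1 : Units.val z *ᵥ b ≠ 0 := fun h0 => hb0 (mulVec_inj z (h0.trans (Matrix.mulVec_zero _).symm))
    obtain ⟨y, hy⟩ := sf_exists _ hb1
    have h2 := congrArg (fun g : Matrix.GeneralLinearGroup (Fin m ⊕ Fin m) F => (Units.val g) *ᵥ y) h1
    simp only [stv_mulVec, one_mul, add_right_inj, sf_skew y (Units.val z *ᵥ b), hy, neg_smul, one_smul] at h2
    refine h.rigid hs hzH hbrat hb0 ?_
    rw [neg_eq_iff_eq_neg.1 h2, ← neg_smul]
    have hs0 : sf y b ≠ 0 := fun h0 => hb1 (by rw [neg_eq_iff_eq_neg.1 h2, h0, zero_smul, neg_zero])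
    refine ⟨(-sf y b)⁻¹, inv_ne_zero (neg_ne_zero.2 hs0), ?_⟩
    rw [inv_smul_smul₀ (neg_ne_zero.2 hs0)]
    exact hbrat
  have ratz' : RatUpToScalar F₀ z' := centr (σ := sj) (i := e 0) (p := e 2)
    (by rw [sj_apply]; rfl) (by rw [sj_apply]; exact ne (by decide))
    (mul_mem (mul_mem (inv_mem hX) hzH) hX) (by rw [← hJ]; exact hz'J)
  have i₀ : Fin m ⊕ Fin m := Sum.inl (e 0)
  have clear : ∀ {u : Matrix.GeneralLinearGroup (Fin m ⊕ Fin m) F}, u * u = 1 → RatUpToScalar F₀ u →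
      RatM F₀ (Units.val u) := by
    intro u huu ⟨c, hc0, hc⟩
    have hcc : c * c ∈ F₀ := by
      have h4 := hc.mul hc i₀ i₀
      rw [smul_mul_smul_comm, ← Units.val_mul, huu] at h4
      simpa using h4
    have h5 := mem_of_mul_self_mem hr hr2 hcard hcc
    have h6 := hc.smul (F₀.inv_mem h5)
    rwa [smul_smul, inv_mul_cancel₀ hc0, one_smul] at h6
  have hz'2 : z' * z' = 1 := by
    rw [hz', show X⁻¹ * z * X * (X⁻¹ * z * X) = X⁻¹ * (z * z) * X by group, hz2, mul_one, inv_mul_cancel]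
  have hZ := clear hz2 ratz
  have hZ' := clear hz'2 ratz'
  set Z : Matrix (Fin m ⊕ Fin m) (Fin m ⊕ Fin m) F := Units.val z with hZdef
  set Z' : Matrix (Fin m ⊕ Fin m) (Fin m ⊕ Fin m) F := Units.val z' with hZ'def
  have hZZ : Z * Z = 1 := by rw [hZdef, ← Units.val_mul, hz2, Units.val_one]
  have hZ'Z' : Z' * Z' = 1 := by rw [hZ'def, ← Units.val_mul, hz'2, Units.val_one]
  have hZne1 : Z ≠ 1 := fun h0 => hz1 (Units.ext h0)
  have hz'e : z = X * z' * X⁻¹ := by rw [hz']; group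
  have hZ'ne1 : Z' ≠ 1 := fun h0 => hz1 (by rw [hz'e, show z' = 1 from Units.ext h0, mul_one, mul_inv_cancel])
  have hZ'ne2 : Z' ≠ -1 := fun h0 => hzneg (by
    show Units.val z = -1
    rw [hz'e, Units.val_mul, Units.val_mul, show Units.val z' = -1 from h0, mul_neg, mul_one, neg_mul,
      ← Units.val_mul, mul_inv_cancel, Units.val_one])
  rcases eq_or_ne v 0 with rfl | hv0
  · exact ⟨1, one_ne_zero, fun i => by simp [F₀.zero_mem]⟩
  set a : VV := k • v with ha
  set φ : VV := fvec sf v with hφ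
  have ha0 : a ≠ 0 := smul_ne_zero hk hv0
  have hφ0 : φ ≠ 0 := fun h0 => by
    obtain ⟨y, hy⟩ := sf_exists v hv0
    rw [sf_skew, ← sf_dot, ← hφ, h0, zero_dotProduct, neg_zero] at hy
    exact zero_ne_one hy
  by_cases heig : ∃ κ : F, Z *ᵥ a = κ • a
  · obtain ⟨κ, hκ⟩ := heig
    obtain ⟨ψ, hψ, hψ0, hψa⟩ := dep_of_eigen hZ hZZ hZne1 hzneg ha0 hκ
    refine ofψ hψ hψ0 ?_
    rw [ha, dotProduct_smul, smul_eq_mul] at hψa
    exact (mul_eq_zero.1 hψa).resolve_left hk
  by_cases heig' : φ ᵥ* Z' ∈ Submodule.span F {φ}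
  · obtain ⟨κ, hκ⟩ := Submodule.mem_span_singleton.1 heig'
    obtain ⟨c, hc, hc0, hcφ⟩ := dep_of_eigen hZ'.transpose
      (by rw [← Matrix.transpose_mul, hZ'Z', Matrix.transpose_one])
      (fun h0 => hZ'ne1 (Matrix.transpose_injective (h0.trans Matrix.transpose_one.symm)))
      (fun h0 => hZ'ne2 (Matrix.transpose_injective (by rw [h0, Matrix.transpose_neg, Matrix.transpose_one])))
      hφ0 (κ := κ) (by rw [Matrix.mulVec_transpose, hκ])
    refine h.dep hs hk hX hc hc0 ?_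
    rw [sf_skew, ← sf_dot, ← hφ, dotProduct_comm, hcφ, neg_zero]
  have hΔ : Z - Z' = Matrix.vecMulVec a (φ ᵥ* Z') - Matrix.vecMulVec (Z *ᵥ a) φ := by
    have h7 : z * X = X * z' := by rw [hz']; group
    have h8 := congrArg Units.val h7
    simp only [Units.val_mul, hXdef, stv, tv_val, mul_add, add_mul, mul_one, one_mul, Matrix.mul_vecMulVec,
      Matrix.vecMulVec_mul] at h8
    rw [sub_eq_sub_iff_add_eq_add, h8, add_comm]
  have hdetΔ : (Z - Z').det = 0 := by
    by_contra hne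
    have h9 : (Z - Z').rank = Fintype.card (Fin m ⊕ Fin m) :=
      Matrix.rank_of_isUnit _ ((Matrix.isUnit_iff_isUnit_det _).2 (isUnit_iff_ne_zero.2 hne))
    have h10 : (Z - Z').rank ≤ 2 := by
      rw [hΔ, sub_eq_add_neg, ← Matrix.neg_vecMulVec]
      exact le_trans (rank_add_le' _ _)
        (Nat.add_le_add (Matrix.rank_vecMulVec_le _ _) (Matrix.rank_vecMulVec_le _ _))
    omega
  obtain ⟨ψ, hψ, hψ0, hψΔ⟩ := (hZ.sub hZ').exists_left_null hdetΔ
  obtain ⟨u, hu, hu1⟩ := exists_ann _ _ heig'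
  refine ofψ hψ hψ0 ?_
  have h11 : (Z - Z') *ᵥ u = a := by
    rw [hΔ, Matrix.sub_mulVec, Matrix.vecMulVec_mulVec, Matrix.vecMulVec_mulVec,
      dotProduct_comm (φ ᵥ* Z'), hu1, dotProduct_comm φ, hu φ (Submodule.mem_span_singleton_self φ)]
    simp
  have h12 : ψ ⬝ᵥ a = 0 := by rw [← h11, Matrix.dotProduct_mulVec, hψΔ, zero_dotProduct]
  rw [ha, dotProduct_smul, smul_eq_mul] at h12
  exact (mul_eq_zero.1 h12).resolve_left hk

lemma spSub_dichotomy (h : SpOver F₀ H) {r : ℕ} (hr : r.Prime) (hcard : Fintype.card F = Nat.card F₀ ^ r) :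
    (∀ g ∈ H, RatUpToScalar F₀ g) ∨ H = Cfsg.spGL m F := by
  classical
  by_cases hs : SpSmall F₀ H
  · left
    intro g hg
    have hm := h.dim
    have he : RatV F₀ (Pi.single (Sum.inl ⟨0, by omega⟩) 1 : VV) := ratV_single _ F₀.one_mem
    exact h.rigid hs hg he (by simp)
      (h.transvection_line hs hr hcard one_ne_zero (h.stv_map hg (h.stv_mem F₀.one_mem he)))
  · exact Or.inr (h.eq_of_big hr hcard hs)

/-- A rational alternating Gram matrix of full rank has a rational symplectic basis. -/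
lemma exists_rat_sympBasis (G : Matrix (Fin m ⊕ Fin m) (Fin m ⊕ Fin m) F₀)
    (halt : ∀ u, u ⬝ᵥ (G *ᵥ u) = 0) (hdet : G.det ≠ 0) :
    ∃ Q : Matrix.GeneralLinearGroup (Fin m ⊕ Fin m) F₀, ∀ u v,
      (Units.val Q *ᵥ u) ⬝ᵥ (G *ᵥ (Units.val Q *ᵥ v)) = Cfsg.sympForm m F₀ u v := by
  classical
  let B := Matrix.toBilin' G
  have hB : ∀ u v, B u v = u ⬝ᵥ (G *ᵥ v) := fun u v => Matrix.toBilin'_apply' G u v
  have hBalt : B.IsAlt := fun u => by rw [hB]; exact halt u
  have hnd : B.Nondegenerate := Matrix.nondegenerate_toBilin'_iff.2 (Matrix.nondegenerate_of_det_ne_zero hdet)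
  obtain ⟨m', k, b, h1, h2, h3, h4⟩ := CfsgLib.Geometry.exists_sympBasis_aux (F := F₀) (m + m)
    (by simp) B hBalt
  have hk : k = 0 := by
    rcases Nat.eq_zero_or_pos k with hk | hk
    · exact hk
    exact absurd (hnd.1 _ (h4 ⟨0, hk⟩)) (b.ne_zero _)
  subst hk
  have hm' : m' = m := by
    have := Module.finrank_eq_card_basis b
    simp at this
    omega
  subst hm'
  let M : Matrix (Fin m' ⊕ Fin m') (Fin m' ⊕ Fin m') F₀ := Matrix.of fun x i =>
    b (Sum.inl (Sum.elim (fun j => Sum.inr j) (fun j => Sum.inl j) i)) x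
  have h21 : ∀ i j : Fin m', B (b (Sum.inl (Sum.inr i))) (b (Sum.inl (Sum.inl j))) = -(if j = i then 1 else 0) :=
    fun i j => by rw [← h1, hBalt.neg_eq]
  have hgram : Mᵀ * G * M = Matrix.J (Fin m') F₀ := by
    refine Matrix.ext fun i j => ?_
    have e : (Mᵀ * G * M) i j = B (b (Sum.inl (Sum.elim (fun j => Sum.inr j) (fun j => Sum.inl j) i)))
        (b (Sum.inl (Sum.elim (fun j => Sum.inr j) (fun j => Sum.inl j) j))) := by
      rw [hB, Matrix.mul_assoc]
      simp [M, Matrix.mul_apply, dotProduct, Matrix.mulVec]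
    rw [e]
    rcases i with i | i <;> rcases j with j | j <;> simp only [Sum.elim_inl, Sum.elim_inr]
    · rw [h3]; simp [Matrix.J]
    · rw [h21]; simp [Matrix.J, Matrix.one_apply, eq_comm]
    · rw [h1]; simp [Matrix.J, Matrix.one_apply]
    · rw [h2]; simp [Matrix.J]
  have key : ∀ u v, (M *ᵥ u) ⬝ᵥ (G *ᵥ (M *ᵥ v)) = Cfsg.sympForm m' F₀ u v := fun u v => by
    rw [Cfsg.sympForm, ← hgram, ← Matrix.vecMul_transpose, ← Matrix.dotProduct_mulVec, Matrix.mulVec_mulVec,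
      Matrix.mulVec_mulVec, Matrix.mul_assoc]
  refine ⟨Matrix.GeneralLinearGroup.mkOfDetNeZero M fun h0 => ?_, key⟩
  obtain ⟨u, hu0, hu⟩ := Matrix.exists_mulVec_eq_zero_iff.2 h0
  refine hu0 ((CfsgLib.Geometry.sympBilin_nondegenerate m' F₀).1 u fun v => ?_)
  rw [CfsgLib.Geometry.sympBilin_apply, ← key, hu, zero_dotProduct]

lemma subfieldSubgroup_mul_rat (P : Matrix.GeneralLinearGroup (Fin m ⊕ Fin m) F)
    (Q : Matrix.GeneralLinearGroup (Fin m ⊕ Fin m) F₀) :
    Cfsg.Geo.subfieldSubgroup F₀ (P * Matrix.GeneralLinearGroup.map F₀.subtype Q) =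
      Cfsg.Geo.subfieldSubgroup F₀ P := by
  have hQ : RatM F₀ (Units.val (Matrix.GeneralLinearGroup.map F₀.subtype Q)) := fun i j => (Units.val Q i j).2
  ext g
  rw [mem_subfieldSubgroup_iff, mem_subfieldSubgroup_iff]
  generalize hq : Matrix.GeneralLinearGroup.map F₀.subtype Q = q at hQ ⊢
  constructor <;> rintro ⟨c, hc, h⟩ <;> refine ⟨c, hc, ?_⟩
  · have := (hQ.mul h).mul (RatM.inv hQ)
    rwa [Matrix.mul_smul, Matrix.smul_mul, ← Units.val_mul, ← Units.val_mul,
      show q * ((P * q)⁻¹ * g * (P * q)) * q⁻¹ = P⁻¹ * g * P by group] at this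
  · have := ((RatM.inv hQ).mul h).mul hQ
    rwa [Matrix.mul_smul, Matrix.smul_mul, ← Units.val_mul, ← Units.val_mul,
      show q⁻¹ * (P⁻¹ * g * P) * q = (P * q)⁻¹ * g * (P * q) by group] at this

lemma spSub_maximal_aux {r : ℕ} (hr : r.Prime) (hcard : Fintype.card F = Nat.card F₀ ^ r) (hm : 3 ≤ m)
    (P : Matrix.GeneralLinearGroup (Fin m ⊕ Fin m) F) {η : F} (hη : η ≠ 0)
    (hP : ∀ u v, sf (Units.val P *ᵥ u) (Units.val P *ᵥ v) = η * sf u v) :
    Cfsg.Geo.IsMaximalIn (Cfsg.spGL m F) (Cfsg.Geo.subfieldSubgroup F₀ P ⊓ Cfsg.spGL m F) := by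
  classical
  have hPi : ∀ u v, sf (Units.val P⁻¹ *ᵥ u) (Units.val P⁻¹ *ᵥ v) = η⁻¹ * sf u v := fun u v => by
    have := hP (Units.val P⁻¹ *ᵥ u) (Units.val P⁻¹ *ᵥ v)
    simp only [Matrix.mulVec_mulVec, ← Units.val_mul, mul_inv_cancel, Units.val_one, Matrix.one_mulVec] at this
    rw [this, inv_mul_cancel_left₀ hη]
  have hconj : ∀ {g}, g ∈ Cfsg.spGL m F → P * g * P⁻¹ ∈ Cfsg.spGL m F := fun {g} hg => by
    rw [mem_spGL_iff] at hg ⊢
    intro u v
    simp only [Units.val_mul, ← Matrix.mulVec_mulVec, hP, hg, hPi, mul_inv_cancel_left₀ hη]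
  have hconj' : ∀ {g}, g ∈ Cfsg.spGL m F → P⁻¹ * g * P ∈ Cfsg.spGL m F := fun {g} hg => by
    rw [mem_spGL_iff] at hg ⊢
    intro u v
    simp only [Units.val_mul, ← Matrix.mulVec_mulVec, hP, hg, hPi, inv_mul_cancel_left₀ hη]
  refine ⟨lt_of_le_of_ne inf_le_right fun heq => ?_, fun M hSM hMK => ?_⟩
  · obtain ⟨μ, hμ⟩ := exists_notMem_subfield hr hcard
    let i : Fin m := ⟨0, by omega⟩
    let e : VV := Pi.single (Sum.inl i) 1
    have h1 := ((SetLike.ext_iff.1 heq _).2 (hconj (stv_mem_spGL μ e))).1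
    have h1' := (mem_subfieldSubgroup_iff P _).1 h1
    clear h1
    rename' h1' => h1
    rw [show P⁻¹ * (P * stv μ e * P⁻¹) * P = stv μ e by group] at h1
    obtain ⟨c, hc, hrat⟩ := h1
    have hee : sf (Pi.single (Sum.inr i) 1 : VV) e = 1 := by
      simp [e, CfsgLib.Geometry.sympForm_eq, Pi.single_apply]
    have hii := hrat (Sum.inr i) (Sum.inr i)
    have hij := hrat (Sum.inl i) (Sum.inr i)
    simp only [Matrix.smul_apply, stv, tv_val, Matrix.add_apply, Matrix.vecMulVec_apply, fvec, hee] at hii hij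
    simp [e, Pi.smul_apply] at hii hij
    have h2 := F₀.mul_mem (F₀.inv_mem hii) hij
    rw [← mul_assoc, inv_mul_cancel₀ hc, one_mul] at h2
    exact hμ h2
  · let H : Subgroup (Matrix.GeneralLinearGroup (Fin m ⊕ Fin m) F) := M.map (MulAut.conj P⁻¹).toMonoidHom
    have memH : ∀ g, g ∈ H ↔ P * g * P⁻¹ ∈ M := fun g => by
      constructor
      · rintro ⟨x, hx, rfl⟩
        simpa [MulAut.conj_apply, mul_assoc] using hx
      · intro hg; exact ⟨_, hg, by simp [MulAut.conj_apply, mul_assoc]⟩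
    have hle : H ≤ Cfsg.spGL m F := fun g hg => by
      have := hconj' (hMK ((memH g).1 hg))
      rwa [show P⁻¹ * (P * g * P⁻¹) * P = g by group] at this
    have hmem : ∀ g, g ∈ Cfsg.spGL m F → RatUpToScalar F₀ g → g ∈ H := fun g hg hrat =>
      (memH g).2 (hSM ⟨(mem_subfieldSubgroup_iff P _).2 (by
        rwa [show P⁻¹ * (P * g * P⁻¹) * P = g by group]), hconj hg⟩)
    rcases spSub_dichotomy ⟨hle, hmem, hm⟩ hr hcard with hall | htop
    · refine Or.inl (le_antisymm (fun g hg => ⟨(mem_subfieldSubgroup_iff P g).2 (hall _ ?_), hMK hg⟩) hSM)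
      rw [memH, show P * (P⁻¹ * g * P) * P⁻¹ = g by group]; exact hg
    · refine Or.inr (le_antisymm hMK fun g hg => ?_)
      have := (memH (P⁻¹ * g * P)).1 (htop ▸ hconj' hg)
      rwa [show P * (P⁻¹ * g * P) * P⁻¹ = g by group] at this

theorem subfieldSubgroup_sp_maximal {r : ℕ} (hr : r.Prime) (hcard : Fintype.card F = Nat.card F₀ ^ r) (hm : 3 ≤ m)
    (P : Matrix.GeneralLinearGroup (Fin m ⊕ Fin m) F) {ζ : F} (hζ : ζ ≠ 0)
    (hP : Cfsg.Geo.IsFormRationalStructure (Cfsg.sympForm m F) F₀ ζ P) :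
    Cfsg.Geo.IsMaximalIn (Cfsg.spGL m F) (Cfsg.Geo.subfieldSubgroup F₀ P ⊓ Cfsg.spGL m F) := by
  classical
  let A : Matrix (Fin m ⊕ Fin m) (Fin m ⊕ Fin m) F := ζ • ((Units.val P)ᵀ * Matrix.J (Fin m) F * Units.val P)
  have hA : ∀ u v, u ⬝ᵥ (A *ᵥ v) = ζ * sf (Units.val P *ᵥ u) (Units.val P *ᵥ v) := fun u v => by
    simp only [A, Matrix.smul_mulVec, dotProduct_smul, smul_eq_mul, Cfsg.sympForm, ← Matrix.mulVec_mulVec,
      Matrix.dotProduct_mulVec u (Units.val P)ᵀ, Matrix.vecMul_transpose]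
  have hrat : RatM F₀ A := fun i j => by
    have := hP (Pi.single i 1) (Pi.single j 1) (ratV_single i F₀.one_mem) (ratV_single j F₀.one_mem)
    rw [← hA] at this
    simpa using this
  obtain ⟨G, hG⟩ := hrat.lift
  have hup : ∀ u v : Fin m ⊕ Fin m → F₀, ((u ⬝ᵥ (G *ᵥ v) : F₀) : F) = upV u ⬝ᵥ (A *ᵥ upV v) := fun u v => by
    rw [← hG]
    simp [dotProduct, Matrix.mulVec, upV]
  have halt : ∀ u, u ⬝ᵥ (G *ᵥ u) = 0 := fun u => Subtype.ext (by
    rw [hup, hA, sf_alt, mul_zero]; rfl)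
  have hdet : G.det ≠ 0 := fun h0 => by
    have h2 := RingHom.map_det F₀.subtype G
    rw [h0, map_zero, show F₀.subtype.mapMatrix G = G.map F₀.subtype from rfl, hG] at h2
    obtain ⟨v, hv0, hv⟩ := Matrix.exists_mulVec_eq_zero_iff.2 h2.symm
    refine hv0 (mulVec_inj P ?_)
    show Units.val P *ᵥ v = Units.val P *ᵥ 0
    rw [Matrix.mulVec_zero]
    refine (CfsgLib.Geometry.sympBilin_nondegenerate m F).1 _ fun y => ?_
    obtain ⟨y, rfl⟩ := mulVec_surj P y
    have h3 := hA y v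
    rw [hv, dotProduct_zero] at h3
    rw [CfsgLib.Geometry.sympBilin_apply, sf_skew, (mul_eq_zero.1 h3.symm).resolve_left hζ, neg_zero]
  obtain ⟨Q, hQ⟩ := exists_rat_sympBasis G halt hdet
  rw [← subfieldSubgroup_mul_rat P Q]
  refine spSub_maximal_aux hr hcard hm _ (inv_ne_zero hζ) fun u v => ?_
  have key : ∀ u v, u ⬝ᵥ (((Units.val Q)ᵀ * G * Units.val Q) *ᵥ v) = u ⬝ᵥ (Matrix.J (Fin m) F₀ *ᵥ v) := fun u v => by
    rw [← Matrix.mulVec_mulVec, ← Matrix.mulVec_mulVec, Matrix.dotProduct_mulVec u (Units.val Q)ᵀ,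
      Matrix.vecMul_transpose]
    exact hQ u v
  have hQM : (Units.val Q)ᵀ * G * Units.val Q = Matrix.J (Fin m) F₀ := Matrix.ext fun i j => by
    simpa using key (Pi.single i 1) (Pi.single j 1)
  have h5 := congrArg (fun M : Matrix (Fin m ⊕ Fin m) (Fin m ⊕ Fin m) F₀ => M.map F₀.subtype) hQM
  simp only [Matrix.map_mul, Matrix.transpose_map, hG] at h5
  have hJ : (Matrix.J (Fin m) F₀).map F₀.subtype = Matrix.J (Fin m) F := by
    simp [Matrix.J, Matrix.fromBlocks_map]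
    exact Matrix.ext fun i j => by rcases eq_or_ne i j with rfl | hij <;> simp [*]
  rw [hJ] at h5
  rw [Units.val_mul, show Units.val (Matrix.GeneralLinearGroup.map F₀.subtype Q) = (Units.val Q).map F₀.subtype
    from rfl, ← Matrix.mulVec_mulVec, ← Matrix.mulVec_mulVec, eq_inv_mul_iff_mul_eq₀ hζ, ← hA,
    ← Matrix.vecMul_transpose, ← Matrix.dotProduct_mulVec, Matrix.mulVec_mulVec, Matrix.mulVec_mulVec, h5]
  rfl

end CfsgLib.Maximal
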