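import Mathlib

/-!
Two Sylow 2-subgroups of S₈ always meet non-trivially.
-/

set_option autoImplicit false
set_option linter.style.haveILetI false

namespace CfsgLib.Maximal.SylowEight

/-- Partner in the pairing {01},{23},{45},{67}. -/
def x1 : Fin 8 → Fin 8 := ![1, 0, 3, 2, 5, 4, 7, 6]

/-- The corresponding point in the other pair of the same quad. -/
def x2 : Fin 8 → Fin 8 := ![2, 3, 0, 1, 6, 7, 4, 5]

/-- The quad of a point. -/
def qd : Fin 8 → Fin 2 := ![0, 0, 0, 0, 1, 1, 1, 1]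

/-- Preserving the tree of pairs and quads. -/
abbrev TreePres (g : Fin 8 → Fin 8) : Prop := ∀ i, g (x1 i) = x1 (g i) ∧ qd (g (x2 i)) = qd (g i)

lemma qd_cases : ∀ a b : Fin 8, qd a = qd b → b = a ∨ b = x1 a ∨ b = x2 a ∨ b = x1 (x2 a) := by decide

lemma qd_x1 : ∀ a : Fin 8, qd (x1 a) = qd a := by decide

lemma qd_x2 : ∀ a : Fin 8, qd (x2 a) = qd a := by decide

lemma TreePres.qd_eq {g : Fin 8 → Fin 8} (h : TreePres g) {a b : Fin 8} (hab : qd a = qd b) :
    qd (g a) = qd (g b) := by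
  rcases qd_cases a b hab with rfl | rfl | rfl | rfl
  · rfl
  · rw [(h a).1, qd_x1]
  · rw [(h a).2]
  · rw [(h (x2 a)).1, qd_x1, (h a).2]

lemma TreePres.comp {g h : Fin 8 → Fin 8} (hg : TreePres g) (hh : TreePres h) : TreePres (g ∘ h) := by
  intro i
  exact ⟨by simp only [Function.comp_apply, (hh i).1, (hg (h i)).1], hg.qd_eq (hh i).2⟩

lemma tree_pow_eight : ∀ a b c e : Fin 8, qd a = qd b → qd c = qd e →
    let g : Fin 8 → Fin 8 := ![a, x1 a, b, x1 b, c, x1 c, e, x1 e]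
    (b ≠ a ∧ b ≠ x1 a ∧ qd c ≠ qd a ∧ e ≠ c ∧ e ≠ x1 c) →
      ∀ i, g (g (g (g (g (g (g (g i))))))) = i := by
  decide

/-- The tree group. -/
def treeGroup : Subgroup (Equiv.Perm (Fin 8)) where
  carrier := {g | TreePres g}
  one_mem' := fun i => ⟨rfl, qd_x2 i⟩
  mul_mem' := fun {g h} hg hh => hg.comp hh
  inv_mem' := by
    intro g hg
    have hpow : ∀ n : ℕ, TreePres ((g ^ n : Equiv.Perm (Fin 8)) : Fin 8 → Fin 8) := by
      intro n
      induction n with
      | zero => intro i; exact ⟨rfl, qd_x2 i⟩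
      | succ n ih => rw [pow_succ]; exact ih.comp hg
    have : g⁻¹ = g ^ (orderOf g - 1) := inv_eq_of_mul_eq_one_right (by
      rw [← pow_succ', Nat.sub_add_cancel (orderOf_pos g), pow_orderOf_eq_one])
    show TreePres _
    rw [this]; exact hpow _

lemma mem_treeGroup {g : Equiv.Perm (Fin 8)} : g ∈ treeGroup ↔ TreePres g := Iff.rfl

theorem treeGroup_isPGroup : IsPGroup 2 treeGroup := by
  intro g
  refine ⟨3, Subtype.ext (Equiv.ext fun i => ?_)⟩
  have h : TreePres g.1 := g.2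
  have hinj := g.1.injective
  have hval : ∀ j : Fin 8, g.1 j =
      ![g.1 0, x1 (g.1 0), g.1 2, x1 (g.1 2), g.1 4, x1 (g.1 4), g.1 6, x1 (g.1 6)] j := by
    intro j
    fin_cases j
    · rfl
    · exact (h 0).1
    · rfl
    · exact (h 2).1
    · rfl
    · exact (h 4).1
    · rfl
    · exact (h 6).1
  have key := tree_pow_eight (g.1 0) (g.1 2) (g.1 4) (g.1 6) (h 0).2.symm (h 4).2.symm
    ⟨hinj.ne (by decide), by rw [← (h 0).1]; exact hinj.ne (by decide), ?_, hinj.ne (by decide),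
      by rw [← (h 4).1]; exact hinj.ne (by decide)⟩ i
  · show ((g.1) ^ (2 ^ 3 : ℕ)) i = i
    simp only [← hval] at key
    exact key
  · intro hq
    rcases qd_cases _ _ hq.symm with h4 | h4 | h4 | h4
    · exact absurd (hinj h4) (by decide)
    · rw [← (h 0).1] at h4; exact absurd (hinj h4) (by decide)
    all_goals
      have hsame : ∀ j : Fin 8, qd (g.1 j) = qd (g.1 0) := by
        intro j
        have e0 := fun j => h.qd_eq (a := j) (b := 0)
        have e4 := fun j => h.qd_eq (a := j) (b := 4)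
        by_cases hj : qd j = qd 0
        · exact e0 j hj
        · have : qd j = qd 4 := by revert hj; revert j; decide
          rw [e4 j this]; exact hq
      have hall : ∀ x : Fin 8, qd x = qd (g.1 0) := fun x => by simpa using hsame (g.1.symm x)
      have h01 : qd (0 : Fin 8) = qd 4 := (hall 0).trans (hall 4).symm
      exact absurd h01 (by decide)

/-- Witness involutions. -/
def cand : Fin 15 → Fin 8 → Fin 8 :=
  ![![1, 0, 3, 2, 5, 4, 7, 6],
    ![1, 0, 3, 2, 6, 7, 4, 5],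
    ![1, 0, 3, 2, 7, 6, 5, 4],
    ![0, 1, 2, 3, 4, 5, 7, 6],
    ![0, 1, 2, 3, 5, 4, 6, 7],
    ![0, 1, 3, 2, 4, 5, 6, 7],
    ![1, 0, 2, 3, 4, 5, 6, 7],
    ![4, 5, 6, 7, 0, 1, 2, 3],
    ![4, 5, 7, 6, 0, 1, 3, 2],
    ![5, 4, 6, 7, 1, 0, 2, 3],
    ![5, 4, 7, 6, 1, 0, 3, 2],
    ![6, 7, 4, 5, 2, 3, 0, 1],
    ![6, 7, 5, 4, 3, 2, 0, 1],
    ![7, 6, 4, 5, 2, 3, 1, 0],
    ![7, 6, 5, 4, 3, 2, 1, 0]]

lemma cand_spec : ∀ k, TreePres (cand k) ∧ (∀ i, cand k (cand k i) = i) ∧ ∃ i, cand k i ≠ i := by decide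

/-- Position of a point in a listing. -/
def pos (b c d e f g h : Fin 8) (x : Fin 8) : Fin 8 :=
  if x = b then 1 else if x = c then 2 else if x = d then 3 else if x = e then 4
  else if x = f then 5 else if x = g then 6 else if x = h then 7 else 0

set_option maxHeartbeats 0 in
set_option synthInstance.maxSize 5000 in
set_option synthInstance.maxHeartbeats 0 in
set_option maxRecDepth 100000 in
lemma exists_witness : ∀ b : Fin 8, b ≠ 0 → ∀ c : Fin 8, c ≠ 0 → c ≠ b → ∀ d : Fin 8, d ≠ 0 → d ≠ b → c < d →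
    ∀ e : Fin 8, e ≠ 0 → e ≠ b → e ≠ c → e ≠ d → ∀ f : Fin 8, f ≠ 0 → f ≠ b → f ≠ c → f ≠ d → e < f →
    ∀ g : Fin 8, g ≠ 0 → g ≠ b → g ≠ c → g ≠ d → g ≠ f → e < g →
    ∀ h : Fin 8, h ≠ 0 → h ≠ b → h ≠ c → h ≠ d → h ≠ e → h ≠ f → g < h →
    ∃ k : Fin 15, TreePres (fun i => pos b c d e f g h (cand k (![0, b, c, d, e, f, g, h] i))) := by
  decide +kernel

end CfsgLib.Maximal.SylowEight

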