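import Mathlib
import Cfsg.Agent.Lib.Maximal.UnSubMain

/-!
Orthogonal and symplectic subfield subgroups of special unitary groups.
-/

set_option autoImplicit false
set_option linter.unusedSectionVars false
set_option linter.unusedSimpArgs false
set_option linter.style.haveILetI false

namespace CfsgLib.Maximal

open scoped Matrix

variable {F : Type*} [Field F] [Fintype F] {n q : ℕ}

theorem unSub_symplectic_maximal (hF : Fintype.card F = q ^ 2) (hn : 10 ≤ n) (F₀ : Subfield F)
    (hcard : Fintype.card F = Nat.card F₀ ^ 2) (ζ : F) (hζ : ζ ≠ 0)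
    (P : Matrix.GeneralLinearGroup (Fin n) F)
    (hP : Cfsg.Geo.IsFormRationalStructure (Cfsg.hermForm n F q) F₀ ζ P)
    (halt : ∀ u : Fin n → F, (∀ i, u i ∈ F₀) →
      Cfsg.hermForm n F q (Units.val P *ᵥ u) (Units.val P *ᵥ u) = 0) :
    Cfsg.Geo.IsMaximalIn (suGL n F q) (Cfsg.Geo.subfieldSubgroup F₀ P ⊓ suGL n F q) := by
  obtain ⟨τ, hτ, hf⟩ := exists_hermSigma hF n
  refine unSub_maximal_quadratic hF hcard P hf ⟨pullForm_unitary hf P, hζ, hP,
    fun x hx => by rw [hτ]; exact F₀.pow_mem hx q, fun p x y hp hx hy _ hyp hyx => ⟨y, hy, halt _ hy, hyp, hyx⟩,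
    fun p hp _ => ?_, by simpa using hn⟩
  obtain ⟨x, hx, hxp, hxs⟩ := exists_perp_outside (pullForm_unitary hf P) hζ hP (by simp; omega) p hp
  exact ⟨x, hx, halt _ hx, hxp, hxs⟩

theorem unSub_orthogonal_maximal (hF : Fintype.card F = q ^ 2) (hn : 10 ≤ n) (hodd : Odd q) (F₀ : Subfield F)
    (hcard : Fintype.card F = Nat.card F₀ ^ 2) (P : Matrix.GeneralLinearGroup (Fin n) F)
    (hP : Cfsg.Geo.IsFormRationalStructure (Cfsg.hermForm n F q) F₀ 1 P) :
    Cfsg.Geo.IsMaximalIn (suGL n F q) (Cfsg.Geo.subfieldSubgroup F₀ P ⊓ suGL n F q) := by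
  classical
  obtain ⟨τ, hτ, hf⟩ := exists_hermSigma hF n
  have hq : Fintype.card F₀ = q := by
    rw [hF, Nat.card_eq_fintype_card] at hcard
    exact (Nat.pow_left_injective two_ne_zero hcard).symm
  have hh := pullForm_unitary hf P
  have hfix : ∀ x ∈ F₀, τ x = x := fun x hx => by
    rw [hτ, ← hq]
    exact congrArg Subtype.val (FiniteField.pow_card (⟨x, hx⟩ : F₀))
  let up : (Fin n → F₀) → Fin n → F := fun u i => (u i : F)
  have hup : ∀ u, RatV F₀ (up u) := fun u i => (u i).2
  have hmem : ∀ u w, pullForm q P (up u) (up w) ∈ F₀ := fun u w => by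
    have := hP (up u) (up w) (hup u) (hup w)
    rwa [one_mul] at this
  have upadd : ∀ u w, up (u + w) = up u + up w := fun u w => rfl
  have upsmul : ∀ (c : F₀) u, up (c • u) = (c : F) • up u := fun c u => rfl
  let B : LinearMap.BilinForm F₀ (Fin n → F₀) := LinearMap.mk₂ F₀ (fun u w => ⟨_, hmem u w⟩)
    (fun u u' w => Subtype.ext (by push_cast; rw [upadd, hh.add_left]))
    (fun c u w => Subtype.ext (by
      push_cast [smul_eq_mul]
      rw [upsmul, hh.smul_left]))
    (fun u w w' => Subtype.ext (by push_cast; rw [upadd, un_add_right hh]))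
    (fun c u w => Subtype.ext (by
      push_cast [smul_eq_mul]
      rw [upsmul, un_smul_right hh, hfix _ c.2]))
  have hB : ∀ u w, (B u w : F) = pullForm q P (up u) (up w) := fun u w => rfl
  have hsymm : ∀ u w, B u w = B w u := fun u w => Subtype.ext (by
    rw [hB, hB, hh.herm, hfix _ (hmem w u)])
  have hrefl : B.IsRefl := fun u w h0 => by rw [hsymm]; exact h0
  have hnd : B.Nondegenerate := hrefl.nondegenerate_iff_separatingLeft.2 fun u hu => by
    by_contra hne
    have hup0 : up u ≠ 0 := fun e => hne (funext fun i => Subtype.ext (congrFun e i))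
    have h0 : fvec (pullForm q P) (up u) = 0 := funext fun i => by
      have h1 := congrArg Subtype.val ((hsymm _ _).trans (hu (Pi.single i 1)))
      rw [hB] at h1
      show pullForm q P (Pi.single i 1) (up u) = 0
      have e : up (Pi.single i 1) = (Pi.single i 1 : Fin n → F) := funext fun l => by
        rcases eq_or_ne l i with rfl | hl <;> simp [up, *]
      rw [e] at h1
      simpa using h1
    exact hup0 (un_fvec_injective hh (h0.trans (un_fvec_zero hh).symm))
  have h2 : (2 : F₀) ≠ 0 := fun h0 => by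
    haveI : CharP F₀ 2 := CharTwo.of_one_ne_zero_of_two_eq_zero one_ne_zero h0
    have := FiniteField.even_card_of_char_two ((ringChar.eq_iff).2 ‹CharP F₀ 2›)
    rw [hq] at this
    exact absurd (Nat.odd_iff.1 hodd) (by omega)
  have polar : ∀ (W : Submodule F₀ (Fin n → F₀)), (∀ k ∈ W, B k k = 0) → ∀ a ∈ W, ∀ b ∈ W, B a b = 0 := by
    intro W hW a ha b hb
    have h1 := hW _ (W.add_mem ha hb)
    simp only [map_add, LinearMap.add_apply] at h1
    rw [hW a ha, hW b hb, hsymm b a] at h1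
    exact (mul_eq_zero.1 (show (2 : F₀) * B a b = 0 by linear_combination h1)).resolve_left h2
  -- two orthogonal anisotropic vectors in the perp of a small subspace
  have plane : ∀ S : Submodule F₀ (Fin n → F₀), Module.finrank F₀ S ≤ 4 → ∃ k₁ ∈ B.orthogonal S,
      ∃ k₂ ∈ B.orthogonal S, B k₁ k₁ ≠ 0 ∧ B k₂ k₂ ≠ 0 ∧ B k₁ k₂ = 0 := by
    intro S hSdim
    set K := B.orthogonal S with hK
    have hKdim : Module.finrank F₀ K = n - Module.finrank F₀ S := by
      rw [hK, LinearMap.BilinForm.finrank_orthogonal hnd S, Module.finrank_fintype_fun_eq_card, Fintype.card_fin]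
    have hoo : B.orthogonal K = S := LinearMap.BilinForm.orthogonal_orthogonal hnd hrefl S
    have key : ∀ W : Submodule F₀ (Fin n → F₀), (∀ a ∈ W, ∀ b ∈ K, B b a = 0) →
        Module.finrank F₀ W ≤ Module.finrank F₀ S := fun W hW =>
      Submodule.finrank_mono fun a ha => hoo ▸ fun b hb => hW a ha b hb
    obtain ⟨k₁, hk₁, hk₁'⟩ : ∃ k ∈ K, B k k ≠ 0 := by
      by_contra! hcon
      have := key K fun a ha b hb => polar K hcon b hb a ha
      omega
    set T := K ⊓ LinearMap.ker (B k₁) with hT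
    obtain ⟨k₂, hk₂, hk₂'⟩ : ∃ k ∈ T, B k k ≠ 0 := by
      by_contra! hcon
      have hlt := key T fun a ha b hb => by
        have hb' : b - (B k₁ b / B k₁ k₁) • k₁ ∈ T := by
          refine ⟨K.sub_mem hb (K.smul_mem _ hk₁), ?_⟩
          show B k₁ _ = 0
          rw [map_sub, map_smul, smul_eq_mul, div_mul_cancel₀ _ hk₁', sub_self]
        have h1 := polar T hcon _ hb' a ha
        rw [map_sub, map_smul, LinearMap.sub_apply, LinearMap.smul_apply, show B k₁ a = 0 from ha.2, smul_zero,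
          sub_zero] at h1
        exact h1
      have h1 := Submodule.finrank_sup_add_finrank_inf_eq K (LinearMap.ker (B k₁))
      have h3 := Submodule.finrank_le (K ⊔ LinearMap.ker (B k₁))
      have h4 := LinearMap.finrank_range_add_finrank_ker (B k₁)
      have h5 := Submodule.finrank_le (LinearMap.range (B k₁))
      rw [← hT] at h1
      simp only [Module.finrank_fintype_fun_eq_card, Fintype.card_fin, Module.finrank_self] at h1 h3 h4 h5
      omega
    exact ⟨k₁, hk₁, k₂, hk₂.1, hk₁', hk₂', hk₂.2⟩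
  have solve : ∀ A C b₁ b₂ c : F₀, A ≠ 0 → C ≠ 0 →
      ∃ α β : F₀, A * α ^ 2 + 2 * b₁ * α + (C * β ^ 2 + 2 * b₂ * β + c) = 0 := by
    intro A C b₁ b₂ c hA hC
    obtain ⟨α, β, hab⟩ := FiniteField.exists_root_sum_quadratic (R := F₀)
      (f := Polynomial.C A * Polynomial.X ^ 2 + Polynomial.C (2 * b₁) * Polynomial.X + Polynomial.C 0)
      (g := Polynomial.C C * Polynomial.X ^ 2 + Polynomial.C (2 * b₂) * Polynomial.X + Polynomial.C c)
      (Polynomial.degree_quadratic hA) (Polynomial.degree_quadratic hC) (by rw [hq]; exact Nat.odd_iff.1 hodd)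
    refine ⟨α, β, ?_⟩
    simpa using hab
  have hperp : ∀ (v : Fin n → F₀) {κ : Type} [Fintype κ] (w : κ → Fin n → F₀),
      v ∈ B.orthogonal (Submodule.span F₀ (Set.range w)) → ∀ i, pullForm q P (up v) (up (w i)) = 0 := by
    intro v κ _ w hv i
    rw [← hB, hsymm]
    exact congrArg Subtype.val (hv _ (Submodule.subset_span ⟨i, rfl⟩))
  refine unSub_maximal_quadratic (ζ := 1) hF hcard P hf ⟨hh, one_ne_zero, hP,
    fun x hx => by rw [hfix x hx]; exact hx, fun p x y hp hx hy hxs hyp hyx => ?_, fun p hp hc => ?_,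
    by simpa using hn⟩
  · obtain ⟨p₀, rfl⟩ : ∃ p₀ : Fin 3 → Fin n → F₀, (fun i => up (p₀ i)) = p := ⟨fun i j => ⟨p i j, hp i j⟩, rfl⟩
    obtain ⟨x₀, rfl⟩ : ∃ x₀, up x₀ = x := ⟨fun j => ⟨x j, hx j⟩, rfl⟩
    obtain ⟨y₀, rfl⟩ : ∃ y₀, up y₀ = y := ⟨fun j => ⟨y j, hy j⟩, rfl⟩
    set w : Fin 4 → Fin n → F₀ := ![p₀ 0, p₀ 1, p₀ 2, x₀] with hw
    obtain ⟨k₁, hk₁, k₂, hk₂, hA, hC, h12⟩ := plane (Submodule.span F₀ (Set.range w))
      ((finrank_range_le_card w).trans (by simp))
    obtain ⟨α, β, hαβ⟩ := solve _ _ (B y₀ k₁) (B y₀ k₂) (B y₀ y₀) hA hC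
    set K := B.orthogonal (Submodule.span F₀ (Set.range w))
    have hz : α • k₁ + β • k₂ ∈ K := K.add_mem (K.smul_mem α hk₁) (K.smul_mem β hk₂)
    refine ⟨up (y₀ + (α • k₁ + β • k₂)), hup _, ?_, fun i => ?_, ?_⟩
    · rw [← hB, show B (y₀ + (α • k₁ + β • k₂)) (y₀ + (α • k₁ + β • k₂)) = 0 by
        simp only [map_add, map_smul, LinearMap.add_apply, LinearMap.smul_apply, smul_eq_mul, h12,
          hsymm k₂ k₁, hsymm k₁ y₀, hsymm k₂ y₀]
        linear_combination hαβ]
      rfl
    · rw [upadd, hh.add_left, hyp i]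
      have := hperp _ w hz i.castSucc
      fin_cases i <;> simpa [w] using this
    · have e3 : pullForm q P (up (α • k₁ + β • k₂)) (up x₀) = 0 := hperp _ w hz 3
      rw [upadd, hh.add_left, e3, add_zero]
      exact hyx
  · obtain ⟨p₀, rfl⟩ : ∃ p₀ : Fin 4 → Fin n → F₀, (fun i => up (p₀ i)) = p := ⟨fun i j => ⟨p i j, hp i j⟩, rfl⟩
    set S := Submodule.span F₀ (Set.range p₀) with hS
    set K := B.orthogonal S with hK
    have hS4 : Module.finrank F₀ S ≤ 4 := (finrank_range_le_card p₀).trans (by simp)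
    have hR : Module.finrank F₀ (S ⊓ K : Submodule F₀ (Fin n → F₀)) ≤ 3 := by
      rcases hc with ⟨i, j, hij⟩ | ⟨i, hi⟩
      · have hlt : S ⊓ K < S := lt_of_le_of_ne inf_le_left fun e => hij (by
          have hmem : p₀ i ∈ S ⊓ K := by rw [e]; exact Submodule.subset_span ⟨i, rfl⟩
          exact hperp _ p₀ hmem.2 j)
        have := Submodule.finrank_lt_finrank_of_lt hlt
        omega
      · have hi0 : p₀ i ∈ Submodule.span F₀ (p₀ '' {i}ᶜ) := by
          by_contra hni
          obtain ⟨φ, hφ, hφi⟩ := exists_ann _ _ hni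
          have cast : ∀ v : Fin n → F₀, up φ ⬝ᵥ up v = ((φ ⬝ᵥ v : F₀) : F) := fun v => by simp [up, dotProduct]
          have h0 : ∀ w ∈ Submodule.span F ((fun i => up (p₀ i)) '' {i}ᶜ), up φ ⬝ᵥ w = 0 := fun w hw => by
            induction hw using Submodule.span_induction with
            | mem w hw =>
              obtain ⟨l, hl, rfl⟩ := hw
              rw [cast, hφ _ (Submodule.subset_span ⟨l, hl, rfl⟩)]; rfl
            | zero => exact dotProduct_zero _
            | add a b _ _ ha hb => rw [dotProduct_add, ha, hb, add_zero]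
            | smul c a _ ha => rw [dotProduct_smul, ha, smul_zero]
          have := h0 _ hi
          rw [cast, hφi] at this
          exact one_ne_zero this
        have hle : S ≤ Submodule.span F₀ (p₀ '' {i}ᶜ) := Submodule.span_le.2 (by
          rintro _ ⟨l, rfl⟩
          rcases eq_or_ne l i with rfl | hl
          · exact hi0
          · exact Submodule.subset_span ⟨l, hl, rfl⟩)
        have h3 : Module.finrank F₀ (Submodule.span F₀ (p₀ '' {i}ᶜ)) ≤ 3 := by
          classical
          rw [show ({i}ᶜ : Set (Fin 4)) = ↑(Finset.univ.erase i) by ext; simp, ← Finset.coe_image]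
          refine (finrank_span_finset_le_card _).trans (Finset.card_image_le.trans ?_)
          simp
        exact (Submodule.finrank_mono (inf_le_left.trans hle)).trans h3
    obtain ⟨k₁, hk₁, k₂, hk₂, hA, hC, h12⟩ := plane S hS4
    rw [← hK] at hk₁ hk₂
    set L : (Fin n → F₀) →ₗ[F₀] F₀ × F₀ := (B k₁).prod (B k₂) with hL
    obtain ⟨k₃, hk₃, hk₃S⟩ : ∃ k, k ∈ K ⊓ LinearMap.ker L ∧ k ∉ S ⊓ K := by
      by_contra! hcon
      have h1 := Submodule.finrank_mono (fun k hk => hcon k hk : K ⊓ LinearMap.ker L ≤ S ⊓ K)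
      have h2' := Submodule.finrank_sup_add_finrank_inf_eq K (LinearMap.ker L)
      have h3 := Submodule.finrank_le (K ⊔ LinearMap.ker L)
      have h4 := LinearMap.finrank_range_add_finrank_ker L
      have h5 := Submodule.finrank_le (LinearMap.range L)
      have hKdim : Module.finrank F₀ K = n - Module.finrank F₀ S := by
        rw [hK, LinearMap.BilinForm.finrank_orthogonal hnd S, Module.finrank_fintype_fun_eq_card, Fintype.card_fin]
      simp only [Module.finrank_fintype_fun_eq_card, Fintype.card_fin, Module.finrank_prod, Module.finrank_self]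
        at h3 h4 h5
      omega
    have e13 : B k₁ k₃ = 0 := congrArg Prod.fst (LinearMap.mem_ker.1 hk₃.2)
    have e23 : B k₂ k₃ = 0 := congrArg Prod.snd (LinearMap.mem_ker.1 hk₃.2)
    have fin : ∀ d ∈ K, B d d = 0 → ∀ z ∈ K, B d z ≠ 0 → ∃ v, RatV F₀ v ∧ pullForm q P v v = 0 ∧
        (∀ i, pullForm q P v (up (p₀ i)) = 0) ∧ v ∉ Submodule.span F (Set.range fun i => up (p₀ i)) := by
      intro d hd hdd z hz hdz
      refine ⟨up d, hup d, by rw [← hB, hdd]; rfl, hperp _ p₀ hd,
        notMem_span_of_pair hh _ (hperp _ p₀ hz) fun e => hdz (Subtype.ext (by rw [hB, e]; rfl))⟩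
    by_cases h33 : B k₃ k₃ = 0
    · obtain ⟨z, hz, hzk⟩ : ∃ z ∈ K, B k₃ z ≠ 0 := by
        by_contra! hcon
        exact hk₃S ⟨(LinearMap.BilinForm.orthogonal_orthogonal hnd hrefl S) ▸
          (fun z hz => by show B z k₃ = 0; rw [hsymm]; exact hcon z hz : k₃ ∈ B.orthogonal K), hk₃.1⟩
      exact fin k₃ hk₃.1 h33 z hz hzk
    · obtain ⟨α, β, hαβ⟩ := solve _ _ 0 0 (B k₃ k₃) hA hC
      refine fin (α • k₁ + β • k₂ + k₃) (K.add_mem (K.add_mem (K.smul_mem α hk₁) (K.smul_mem β hk₂)) hk₃.1) ?_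
        k₃ hk₃.1 ?_
      · simp only [map_add, map_smul, LinearMap.add_apply, LinearMap.smul_apply, smul_eq_mul, h12, e13, e23,
          hsymm k₂ k₁, hsymm k₃ k₁, hsymm k₃ k₂]
        linear_combination hαβ
      · simp only [map_add, map_smul, LinearMap.add_apply, LinearMap.smul_apply, smul_eq_mul, e13, e23]
        simpa using h33

end CfsgLib.Maximal
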